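import Mathlib
import Cfsg.Agent.Lib.Classical.SemisimpleClasses

/-!
Dimensions of invariant subspaces of semisimple endomorphisms, read off the characteristic polynomial.
-/

set_option autoImplicit false
set_option linter.style.haveILetI false

namespace CfsgLib.Derange

open Module Polynomial UniqueFactorizationMonoid CfsgLib.Classical.SemisimpleClasses

universe u v

variable {F : Type u} [Field F]

theorem charpoly_of_isCompl {V : Type v} [AddCommGroup V] [Module F V] [FiniteDimensional F V] (T : End F V)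
    {W W' : Submodule F V} (hW : ∀ x ∈ W, T x ∈ W) (hW' : ∀ x ∈ W', T x ∈ W') (h : IsCompl W W') :
    T.charpoly = (T.restrict hW : End F W).charpoly * (T.restrict hW' : End F W').charpoly := by
  rw [← LinearMap.charpoly_prodMap, ← LinearEquiv.charpoly_conj (Submodule.prodEquivOfIsCompl W W' h)]
  congr 1
  refine LinearMap.ext fun x => ?_
  obtain ⟨z, rfl⟩ := (Submodule.prodEquivOfIsCompl W W' h).surjective x
  simp [LinearEquiv.conj_apply]

theorem exists_invariant_of_dvd_aux (n : ℕ) : ∀ (V : Type v) [AddCommGroup V] [Module F V] [FiniteDimensional F V]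
    (T : End F V), finrank F V = n → T.IsSemisimple → ∀ d : F[X], d.Monic → d ∣ T.charpoly →
      ∃ (W : Submodule F V) (hW : ∀ x ∈ W, T x ∈ W), (T.restrict hW : End F W).charpoly = d := by
  induction n using Nat.strong_induction_on with
  | _ n ih =>
  intro V _ _ _ T hn hT d hd hdvd
  rcases Nat.eq_zero_or_pos d.natDegree with h0 | hpos
  · refine ⟨⊥, fun x hx => by rw [Submodule.mem_bot] at hx ⊢; rw [hx, map_zero], ?_⟩
    rw [Polynomial.eq_one_of_monic_natDegree_zero hd h0]
    refine Polynomial.eq_one_of_monic_natDegree_zero (LinearMap.charpoly_monic _) ?_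
    rw [LinearMap.charpoly_natDegree, finrank_bot]
  obtain ⟨f, hfm, hf, hfd⟩ := exists_monic_irreducible_factor d (fun h => by
    rw [natDegree_eq_zero_of_isUnit h] at hpos; exact lt_irrefl _ hpos)
  haveI := Fact.mk hf
  obtain ⟨U, hU, e, hs, he⟩ := exists_split T hT (hfd.trans hdvd)
  obtain ⟨d', rfl⟩ := hfd
  have hd' : d'.Monic := hfm.of_mul_monic_left hd
  haveI : Module.Finite F (AdjoinRoot f) := (AdjoinRoot.powerBasis hf.ne_zero).finite
  have hlt : finrank F U < n := by
    rw [← hn, ← e.finrank_eq, Module.finrank_prod]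
    exact Nat.lt_add_of_pos_left finrank_pos_of_irreducible
  have hcp := charpoly_eq_of_split T e he
  have hfK : (Algebra.lmul F (AdjoinRoot f) (AdjoinRoot.root f)).charpoly = f := by
    set pb := AdjoinRoot.powerBasis hf.ne_zero
    rw [← LinearMap.charpoly_toMatrix _ pb.basis]
    have hg : pb.gen = AdjoinRoot.root f := AdjoinRoot.powerBasis_gen hf.ne_zero
    refine ((congrArg (fun a => (Algebra.leftMulMatrix pb.basis a).charpoly) hg.symm).trans
      (charpoly_leftMulMatrix pb)).trans ?_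
    rw [hg, AdjoinRoot.minpoly_root hf.ne_zero, hfm.leadingCoeff, inv_one, map_one, mul_one]
  rw [hcp, hfK] at hdvd
  obtain ⟨W, hWi, hW⟩ := ih _ hlt U (T.restrict hU) rfl hs d' hd' ((mul_dvd_mul_iff_left hf.ne_zero).mp hdvd)
  let φ : (AdjoinRoot f × W) →ₗ[F] V := e.toLinearMap ∘ₗ (LinearMap.id.prodMap W.subtype)
  have hφ : Function.Injective φ := e.injective.comp
    (Function.Injective.prodMap Function.injective_id W.injective_subtype)
  have hinv : ∀ x ∈ LinearMap.range φ, T x ∈ LinearMap.range φ := by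
    rintro _ ⟨z, rfl⟩
    exact ⟨(AdjoinRoot.root f * z.1, ⟨_, hWi _ z.2.2⟩), he (z.1, (z.2 : U))⟩
  refine ⟨LinearMap.range φ, hinv, ?_⟩
  let E := LinearEquiv.ofInjective φ hφ
  have hconj : (T.restrict hinv : End F (LinearMap.range φ)) = E.conj
      ((Algebra.lmul F (AdjoinRoot f) (AdjoinRoot.root f)).prodMap ((T.restrict hU).restrict hWi)) := by
    refine LinearMap.ext fun x => ?_
    obtain ⟨z, rfl⟩ := E.surjective x
    refine Subtype.ext ?_
    simp only [LinearEquiv.conj_apply, LinearMap.comp_apply, LinearEquiv.coe_coe,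
      LinearEquiv.symm_apply_apply, LinearMap.coe_restrict_apply]
    exact (he (z.1, (z.2 : U))).symm
  rw [hconj, LinearEquiv.charpoly_conj, LinearMap.charpoly_prodMap, hfK, hW]

variable {V : Type v} [AddCommGroup V] [Module F V] [FiniteDimensional F V]

/-- A semisimple endomorphism has an invariant subspace of dimension `m` iff its characteristic
polynomial has a monic divisor of degree `m`. -/
theorem exists_invariant_iff (T : End F V) (hT : T.IsSemisimple) (m : ℕ) :
    (∃ W : Submodule F V, finrank F W = m ∧ ∀ x ∈ W, T x ∈ W) ↔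
      ∃ d : F[X], d.Monic ∧ d ∣ T.charpoly ∧ d.natDegree = m := by
  constructor
  · rintro ⟨W, hWm, hW⟩
    obtain ⟨W', hW', hc⟩ := End.isSemisimple_iff.1 hT W (fun x hx => hW x hx)
    refine ⟨(T.restrict hW : End F W).charpoly, LinearMap.charpoly_monic _, ?_, ?_⟩
    · rw [charpoly_of_isCompl T hW hW' hc]
      exact dvd_mul_right _ _
    · rw [LinearMap.charpoly_natDegree, hWm]
  · rintro ⟨d, hd, hdvd, rfl⟩
    obtain ⟨W, hW, hc⟩ := exists_invariant_of_dvd_aux _ V T rfl hT d hd hdvd
    exact ⟨W, by rw [← hc, LinearMap.charpoly_natDegree], hW⟩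

omit [FiniteDimensional F V] in
theorem exists_complement_pair (T : End F V) (hT : T.IsSemisimple) (m : ℕ)
    (h : ∃ W : Submodule F V, finrank F W = m ∧ ∀ x ∈ W, T x ∈ W) :
    ∃ U W : Submodule F V, IsCompl U W ∧ finrank F U = m ∧ (∀ x ∈ U, T x ∈ U) ∧ ∀ x ∈ W, T x ∈ W := by
  obtain ⟨W, hWm, hW⟩ := h
  obtain ⟨W', hW', hc⟩ := End.isSemisimple_iff.1 hT W (fun x hx => hW x hx)
  exact ⟨W, W', hc, hWm, hW, fun x hx => hW' hx⟩

/-- Flags: a divisor inside a divisor. -/
theorem exists_flag_iff (T : End F V) (hT : T.IsSemisimple) (a b : ℕ) :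
    (∃ U W : Submodule F V, U ≤ W ∧ finrank F U = a ∧ finrank F W = b ∧ (∀ x ∈ U, T x ∈ U) ∧ ∀ x ∈ W, T x ∈ W) ↔
      ∃ d d' : F[X], d.Monic ∧ d'.Monic ∧ d ∣ d' ∧ d' ∣ T.charpoly ∧ d.natDegree = a ∧ d'.natDegree = b := by
  constructor
  · rintro ⟨U, W, hUW, hUa, hWb, hU, hW⟩
    obtain ⟨W', hW', hc⟩ := End.isSemisimple_iff.1 hT W (fun x hx => hW x hx)
    obtain ⟨d, hd, hdvd, hdeg⟩ := (exists_invariant_iff (T.restrict hW : End F W) (End.IsSemisimple.restrict hW hT) a).mp
      ⟨U.comap W.subtype, by rw [(Submodule.comapSubtypeEquivOfLe hUW).finrank_eq, hUa],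
        fun x hx => hU _ hx⟩
    refine ⟨d, (T.restrict hW : End F W).charpoly, hd, LinearMap.charpoly_monic _, hdvd, ?_, hdeg, ?_⟩
    · rw [charpoly_of_isCompl T hW hW' hc]
      exact dvd_mul_right _ _
    · rw [LinearMap.charpoly_natDegree, hWb]
  · rintro ⟨d, d', hd, hd', hdd, hdvd, rfl, rfl⟩
    obtain ⟨W, hW, hc⟩ := exists_invariant_of_dvd_aux _ V T rfl hT d' hd' hdvd
    obtain ⟨U, hU, hcU⟩ := exists_invariant_of_dvd_aux _ W (T.restrict hW) rfl
      (End.IsSemisimple.restrict hW hT) d hd (hc ▸ hdd)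
    refine ⟨U.map W.subtype, W, Submodule.map_subtype_le _ _, ?_, by rw [← hc, LinearMap.charpoly_natDegree], ?_, hW⟩
    · rw [Submodule.finrank_map_subtype_eq, ← hcU, LinearMap.charpoly_natDegree]
    · rintro _ ⟨x, hx, rfl⟩
      exact ⟨_, hU x hx, rfl⟩

end CfsgLib.Derange
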