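import Mathlib
import Cfsg.Agent.Lib.Derange.Invariant

/-!
Invariant dimensions when the irreducible factors have degree `1` or a given degree.
-/

set_option autoImplicit false
set_option linter.style.haveILetI false

namespace CfsgLib.Derange

open Module Polynomial UniqueFactorizationMonoid

variable {F : Type*} [Field F] {V : Type*} [AddCommGroup V] [Module F V] [FiniteDimensional F V]

theorem exists_le_card_eq {α : Type*} (s : Multiset α) {b : ℕ} (hb : b ≤ Multiset.card s) :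
    ∃ t ≤ s, Multiset.card t = b := by
  induction s using Quot.inductionOn with
  | h L => exact ⟨↑(L.take b), (List.take_sublist b L).subperm, by simpa using hb⟩

/-- The characteristic polynomial has `l` linear factors and `e` further factors of degree `i`. -/
structure HasShape (T : End F V) (i l e : ℕ) : Prop where
  semisimple : T.IsSemisimple
  factors : ∃ S₁ S₂ : Multiset F[X], Multiset.card S₁ = l ∧ Multiset.card S₂ = e ∧
    (∀ P ∈ S₁ + S₂, Irreducible P ∧ P.Monic) ∧ (∀ P ∈ S₁, P.natDegree = 1) ∧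
    (∀ P ∈ S₂, P.natDegree = i) ∧ T.charpoly = (S₁ + S₂).prod

theorem monic_prod (S : Multiset F[X]) (hm : ∀ P ∈ S, P.Monic) : S.prod.Monic := by
  simpa using monic_multiset_prod_of_monic S (fun P : F[X] => P) hm

theorem natDegree_prod_const (S : Multiset F[X]) (k : ℕ) (hm : ∀ P ∈ S, P.Monic)
    (hk : ∀ P ∈ S, P.natDegree = k) : S.prod.natDegree = Multiset.card S * k := by
  rw [natDegree_multiset_prod_of_monic _ hm, Multiset.map_congr rfl hk, Multiset.map_const',
    Multiset.sum_replicate, smul_eq_mul]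

theorem HasShape.dim {T : End F V} {i l e : ℕ} (h : HasShape T i l e) : finrank F V = l + e * i := by
  obtain ⟨S₁, S₂, rfl, rfl, hP, h1, h2, hc⟩ := h.factors
  rw [← T.charpoly_natDegree, hc, Multiset.prod_add,
    (monic_prod _ fun P hP' => (hP P (Multiset.mem_add.mpr (Or.inl hP'))).2).natDegree_mul
      (monic_prod _ fun P hP' => (hP P (Multiset.mem_add.mpr (Or.inr hP'))).2),
    natDegree_prod_const S₁ 1 (fun P hP' => (hP P (Multiset.mem_add.mpr (Or.inl hP'))).2) h1,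
    natDegree_prod_const S₂ i (fun P hP' => (hP P (Multiset.mem_add.mpr (Or.inr hP'))).2) h2, mul_one]

/-- A monic divisor, seen inside the multiset of factors. -/
theorem divisor_multiset {S : Multiset F[X]} (hS : ∀ P ∈ S, Irreducible P ∧ P.Monic) {d : F[X]}
    (hd : d.Monic) (hdvd : d ∣ S.prod) : ∃ t ≤ S, d = t.prod := by
  classical
  have hne : S.prod ≠ 0 := (monic_prod _ fun P hP => (hS P hP).2).ne_zero
  have hn : normalizedFactors S.prod = S := by
    rw [normalizedFactors_prod_eq _ fun P hP => (hS P hP).1]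
    exact (Multiset.map_congr rfl fun P hP => (hS P hP).2.normalize_eq_self).trans (Multiset.map_id' _)
  refine ⟨normalizedFactors d, hn ▸ (dvd_iff_normalizedFactors_le_normalizedFactors hd.ne_zero hne).mp hdvd, ?_⟩
  conv_lhs => rw [← hd.normalize_eq_self, ← prod_normalizedFactors_eq hd.ne_zero]

theorem natDegree_sub_inter [DecidableEq F] {S₁ S₂ t : Multiset F[X]} {i : ℕ} (ht : t ≤ S₁ + S₂)
    (hP : ∀ P ∈ S₁ + S₂, Irreducible P ∧ P.Monic) (h1 : ∀ P ∈ S₁, P.natDegree = 1)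
    (h2 : ∀ P ∈ S₂, P.natDegree = i) :
    t.prod.natDegree = Multiset.card (t - S₂) + Multiset.card (t ∩ S₂) * i ∧
      Multiset.card (t - S₂) ≤ Multiset.card S₁ ∧ Multiset.card (t ∩ S₂) ≤ Multiset.card S₂ := by
  have hs : t - S₂ ≤ S₁ := Multiset.sub_le_iff_le_add.mpr ht
  have hi : t ∩ S₂ ≤ S₂ := Multiset.inter_le_right
  refine ⟨?_, Multiset.card_le_card hs, Multiset.card_le_card hi⟩
  have hm1 : ∀ P ∈ t - S₂, P.Monic := fun P h =>
    (hP P (Multiset.mem_add.mpr (Or.inl (Multiset.mem_of_le hs h)))).2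
  have hm2 : ∀ P ∈ t ∩ S₂, P.Monic := fun P h =>
    (hP P (Multiset.mem_add.mpr (Or.inr (Multiset.mem_of_le hi h)))).2
  conv_lhs => rw [← Multiset.sub_add_inter t S₂, Multiset.prod_add]
  rw [(monic_prod _ hm1).natDegree_mul (monic_prod _ hm2),
    natDegree_prod_const _ 1 hm1 (fun P h => h1 P (Multiset.mem_of_le hs h)),
    natDegree_prod_const _ i hm2 (fun P h => h2 P (Multiset.mem_of_le hi h)), mul_one]

theorem prod_two [DecidableEq F] {S₁ S₂ u w : Multiset F[X]} {i : ℕ} (hu : u ≤ S₁) (hw : w ≤ S₂)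
    (hP : ∀ P ∈ S₁ + S₂, Irreducible P ∧ P.Monic) (h1 : ∀ P ∈ S₁, P.natDegree = 1)
    (h2 : ∀ P ∈ S₂, P.natDegree = i) :
    (u + w).prod.Monic ∧ (u + w).prod.natDegree = Multiset.card u + Multiset.card w * i := by
  have hm1 : ∀ P ∈ u, P.Monic := fun P h => (hP P (Multiset.mem_add.mpr (Or.inl (Multiset.mem_of_le hu h)))).2
  have hm2 : ∀ P ∈ w, P.Monic := fun P h => (hP P (Multiset.mem_add.mpr (Or.inr (Multiset.mem_of_le hw h)))).2
  rw [Multiset.prod_add]
  refine ⟨(monic_prod _ hm1).mul (monic_prod _ hm2), ?_⟩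
  rw [(monic_prod _ hm1).natDegree_mul (monic_prod _ hm2),
    natDegree_prod_const _ 1 hm1 (fun P h => h1 P (Multiset.mem_of_le hu h)),
    natDegree_prod_const _ i hm2 (fun P h => h2 P (Multiset.mem_of_le hw h)), mul_one]

theorem HasShape.exists_invariant_iff {T : End F V} {i l e : ℕ} (h : HasShape T i l e) (m : ℕ) :
    (∃ W : Submodule F V, finrank F W = m ∧ ∀ x ∈ W, T x ∈ W) ↔ ∃ a b, a ≤ l ∧ b ≤ e ∧ a + b * i = m := by
  classical
  obtain ⟨S₁, S₂, rfl, rfl, hP, h1, h2, hc⟩ := h.factors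
  rw [CfsgLib.Derange.exists_invariant_iff T h.semisimple, hc]
  constructor
  · rintro ⟨d, hd, hdvd, rfl⟩
    obtain ⟨t, ht, rfl⟩ := divisor_multiset hP hd hdvd
    obtain ⟨e1, e2, e3⟩ := natDegree_sub_inter ht hP h1 h2
    exact ⟨_, _, e2, e3, e1.symm⟩
  · rintro ⟨a, b, ha, hb, rfl⟩
    obtain ⟨u, hu, rfl⟩ := exists_le_card_eq S₁ ha
    obtain ⟨w, hw, rfl⟩ := exists_le_card_eq S₂ hb
    obtain ⟨hm, hd⟩ := prod_two hu hw hP h1 h2
    exact ⟨_, hm, Multiset.prod_dvd_prod_of_le (add_le_add hu hw), hd⟩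

theorem HasShape.exists_flag_iff {T : End F V} {i l e : ℕ} (h : HasShape T i l e) (m k : ℕ) :
    (∃ U W : Submodule F V, U ≤ W ∧ finrank F U = m ∧ finrank F W = k ∧ (∀ x ∈ U, T x ∈ U) ∧ ∀ x ∈ W, T x ∈ W) ↔
      ∃ a b a' b', a ≤ a' ∧ a' ≤ l ∧ b ≤ b' ∧ b' ≤ e ∧ a + b * i = m ∧ a' + b' * i = k := by
  classical
  obtain ⟨S₁, S₂, rfl, rfl, hP, h1, h2, hc⟩ := h.factors
  rw [CfsgLib.Derange.exists_flag_iff T h.semisimple, hc]
  constructor
  · rintro ⟨d, d', hd, hd', hdd, hdvd, rfl, rfl⟩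
    obtain ⟨t', ht', rfl⟩ := divisor_multiset hP hd' hdvd
    obtain ⟨t, ht, rfl⟩ := divisor_multiset (fun P h => hP P (Multiset.mem_of_le ht' h)) hd hdd
    obtain ⟨e1, e2, e3⟩ := natDegree_sub_inter ht' hP h1 h2
    obtain ⟨f1, -, -⟩ := natDegree_sub_inter (ht.trans ht') hP h1 h2
    exact ⟨_, _, _, _, Multiset.card_le_card (tsub_le_tsub_right ht S₂), e2,
      Multiset.card_le_card (Multiset.le_inter (Multiset.inter_le_left.trans ht) Multiset.inter_le_right), e3,
      f1.symm, e1.symm⟩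
  · rintro ⟨a, b, a', b', haa, ha, hbb, hb, rfl, rfl⟩
    obtain ⟨u', hu', rfl⟩ := exists_le_card_eq S₁ ha
    obtain ⟨w', hw', rfl⟩ := exists_le_card_eq S₂ hb
    obtain ⟨u, hu, rfl⟩ := exists_le_card_eq u' haa
    obtain ⟨w, hw, rfl⟩ := exists_le_card_eq w' hbb
    obtain ⟨hm', hd'⟩ := prod_two hu' hw' hP h1 h2
    obtain ⟨hm, hd⟩ := prod_two (hu.trans hu') (hw.trans hw') hP h1 h2
    exact ⟨_, _, hm, hm', Multiset.prod_dvd_prod_of_le (add_le_add hu hw),
      Multiset.prod_dvd_prod_of_le (add_le_add hu' hw'), hd, hd'⟩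

end CfsgLib.Derange
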