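import Mathlib
import Cfsg.Agent.Lib.Derange.Shape

/-!
The shape of an endomorphism whose prime power `r`-th power is scalar, and examples in `SL`.
-/

set_option autoImplicit false
set_option linter.style.haveILetI false

namespace CfsgLib.Derange

open Module Polynomial UniqueFactorizationMonoid CfsgLib.Classical.SemisimpleClasses

theorem orderOf_mod {F : Type*} [Field F] [Fintype F] {p : ℕ} [hp : Fact p.Prime] [CharP F p] {q r : ℕ}
    (hq : Fintype.card F = q) (hr : r.Prime) (hrp : r ≠ p) :
    0 < orderOf (q : ZMod r) ∧ orderOf (q : ZMod r) ∣ r - 1 ∧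
      (orderOf (q : ZMod r) = 1 ↔ r ∣ q - 1) := by
  haveI := Fact.mk hr
  obtain ⟨k, -, hk⟩ := FiniteField.card F p
  have h0 : (q : ZMod r) ≠ 0 := by
    rw [Ne, ZMod.natCast_eq_zero_iff, ← hq, hk]
    exact fun h => hrp ((Nat.prime_dvd_prime_iff_eq hr hp.out).mp (hr.dvd_of_dvd_pow h))
  have h1 : (q : ZMod r) ^ (r - 1) = 1 := ZMod.pow_card_sub_one_eq_one h0
  refine ⟨IsOfFinOrder.orderOf_pos (isOfFinOrder_iff_pow_eq_one.mpr ⟨r - 1, by have := hr.two_le; omega, h1⟩),
    orderOf_dvd_of_pow_eq_one h1, ?_⟩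
  rw [orderOf_eq_one_iff, ← ZMod.natCast_eq_zero_iff, Nat.cast_sub (hq ▸ Fintype.card_pos : 1 ≤ q), sub_eq_zero,
    Nat.cast_one]

theorem semisimple_of_pow_smul {F : Type*} [Field F] [Fintype F] {p : ℕ} [hp : Fact p.Prime] [CharP F p]
    {V : Type*} [AddCommGroup V] [Module F V] [FiniteDimensional F V] (T : End F V) {r : ℕ} (hr : r.Prime)
    (hrp : r ≠ p) {c : F} (hc : c ≠ 0) (hT : T ^ r = c • 1) : T.IsSemisimple := by
  have hF : c ^ (Fintype.card F - 1) = 1 := FiniteField.pow_card_sub_one_eq_one c hc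
  refine CfsgLib.Classical.SemisimpleDet.isSemisimple_of_pow p T (k := r * (Fintype.card F - 1)) ?_ ?_
  · intro h
    rcases hp.out.dvd_mul.mp h with h | h
    · exact hrp ((Nat.prime_dvd_prime_iff_eq hp.out hr).mp h).symm
    · obtain ⟨k, -, hk⟩ := FiniteField.card F p
      rw [hk] at h
      have h2 := Nat.dvd_sub (dvd_pow_self p k.ne_zero) h
      rw [Nat.sub_sub_self (Nat.one_le_pow _ _ hp.out.pos)] at h2
      exact hp.out.not_dvd_one h2
  · rw [pow_mul, hT, _root_.smul_pow, one_pow, hF, one_smul]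

theorem factor_dvd_pow {F : Type*} [Field F] {V : Type*} [AddCommGroup V] [Module F V] [FiniteDimensional F V]
    (T : End F V) {r : ℕ} {c : F} (hT : T ^ r = c • 1) {P : F[X]} (hP : Irreducible P) (hd : P ∣ T.charpoly) :
    P ∣ X ^ r - C c := by
  haveI := Fact.mk hP
  let b := Module.finBasis F V
  refine dvd_of_dvd_charpoly (LinearMap.toMatrix b b T) (by rwa [LinearMap.charpoly_toMatrix]) ?_
  have h := aeval_algHom_apply (LinearMap.toMatrixAlgEquiv b).toAlgHom T (X ^ r - C c)
  refine h.trans ?_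
  rw [map_sub, map_pow, aeval_X, aeval_C, hT, Algebra.algebraMap_eq_smul_one, sub_self, map_zero]

variable {F : Type*} [Field F] [Fintype F] {p : ℕ} [hp : Fact p.Prime] [CharP F p]
  {V : Type*} [AddCommGroup V] [Module F V] [FiniteDimensional F V]

theorem natDegree_factor {q r : ℕ} (hq : Fintype.card F = q) (hr : r.Prime) (hrp : r ≠ p) {P : F[X]}
    (hP : Irreducible P) (hm : P.Monic) (hd : P ∣ X ^ r - 1) :
    P = X - 1 ∨ P.natDegree = orderOf (q : ZMod r) := by
  classical
  haveI := Fact.mk hr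
  have hnr : p.Coprime r := (Nat.coprime_primes hp.out hr).mpr (Ne.symm hrp)
  obtain ⟨k, -, hk⟩ := FiniteField.card F p
  rw [← cyclotomic_prime_mul_X_sub_one F r] at hd
  rcases hP.prime.dvd_or_dvd hd with h | h
  · right
    have hmem : P ∈ normalizedFactors (cyclotomic r F) :=
      (mem_normalizedFactors_iff' (cyclotomic_ne_zero r F)).mpr ⟨hP, hm.normalize_eq_self, h⟩
    rw [natDegree_of_mem_normalizedFactors_cyclotomic hk hnr hmem, ← orderOf_units,
      ZMod.coe_unitOfCoprime, ← hq, hk]
  · exact Or.inl (eq_of_monic_of_associated hm (by simpa using monic_X_sub_C (1 : F))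
      (hP.associated_of_dvd (by simpa using irreducible_X_sub_C (1 : F)) h))

/-- `T ^ r = 1`: factors of degree one and of degree the order of `q` modulo `r`. -/
theorem shape_of_pow_one {q r : ℕ} (hq : Fintype.card F = q) (hr : r.Prime) (hrp : r ≠ p) (T : End F V)
    (hT : T ^ r = 1) : ∃ l e, HasShape T (orderOf (q : ZMod r)) l e ∧
      l + e * orderOf (q : ZMod r) = finrank F V := by
  classical
  set f := T.charpoly
  set S := normalizedFactors f
  have hne : f ≠ 0 := (LinearMap.charpoly_monic T).ne_zero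
  have hP : ∀ P ∈ S, Irreducible P ∧ P.Monic := fun P h =>
    ⟨irreducible_of_normalized_factor P h, (normalize_normalized_factor P h) ▸
      monic_normalize (irreducible_of_normalized_factor P h).ne_zero⟩
  have hT' : T ^ r = (1 : F) • 1 := by rw [one_smul, hT]
  have hdeg : ∀ P ∈ S, P = X - 1 ∨ P.natDegree = orderOf (q : ZMod r) := fun P h => by
    refine natDegree_factor (p := p) hq hr hrp (hP P h).1 (hP P h).2 ?_
    have := factor_dvd_pow T hT' (hP P h).1 (dvd_of_mem_normalizedFactors h)
    rwa [map_one] at this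
  have hshape : HasShape T (orderOf (q : ZMod r)) (Multiset.card (S.filter (· = X - 1)))
      (Multiset.card (S.filter fun P => ¬ P = X - 1)) := by
    refine ⟨semisimple_of_pow_smul (p := p) T hr hrp one_ne_zero hT', _, _, rfl, rfl, ?_, ?_, ?_, ?_⟩
    · rw [Multiset.filter_add_not]; exact hP
    · intro P h
      rw [(Multiset.mem_filter.mp h).2]
      simpa using natDegree_X_sub_C (1 : F)
    · intro P h
      exact (hdeg P (Multiset.mem_filter.mp h).1).resolve_left (Multiset.mem_filter.mp h).2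
    · rw [Multiset.filter_add_not, prod_normalizedFactors_eq hne, (LinearMap.charpoly_monic T).normalize_eq_self]
  exact ⟨_, _, hshape, hshape.dim.symm⟩

/-- `T ^ r` a scalar which is not an `r`-th power: all factors have degree `r`. -/
theorem shape_of_not_power {r : ℕ} (hr : r.Prime) (hrp : r ≠ p) (T : End F V) {c : F} (hT : T ^ r = c • 1)
    (hc : ∀ b : F, b ^ r ≠ c) : ∃ e, HasShape T r 0 e ∧ e * r = finrank F V := by
  classical
  set f := T.charpoly
  set S := normalizedFactors f
  have hne : f ≠ 0 := (LinearMap.charpoly_monic T).ne_zero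
  have hP : ∀ P ∈ S, Irreducible P ∧ P.Monic := fun P h =>
    ⟨irreducible_of_normalized_factor P h, (normalize_normalized_factor P h) ▸
      monic_normalize (irreducible_of_normalized_factor P h).ne_zero⟩
  have hc0 : c ≠ 0 := fun h => hc 0 (by rw [h, zero_pow hr.ne_zero])
  have hshape : HasShape T r 0 (Multiset.card S) := by
    refine ⟨semisimple_of_pow_smul (p := p) T hr hrp hc0 hT, 0, S, rfl, rfl, ?_, ?_, ?_, ?_⟩
    · rwa [zero_add]
    · intro P h; exact absurd h (Multiset.notMem_zero P)
    · intro P h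
      have hd := factor_dvd_pow T hT (hP P h).1 (dvd_of_mem_normalizedFactors h)
      rw [natDegree_eq_of_degree_eq (degree_eq_degree_of_associated
        ((hP P h).1.associated_of_dvd (X_pow_sub_C_irreducible_of_prime hr hc) hd)), natDegree_X_pow_sub_C]
    · rw [zero_add, prod_normalizedFactors_eq hne, (LinearMap.charpoly_monic T).normalize_eq_self]
  exact ⟨_, hshape, by rw [hshape.dim, zero_add]⟩

section Examples

variable {n : ℕ}

/-- An element of `SL` of order `r` with prescribed shape. -/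
theorem exists_sl_pow_one {q r : ℕ} (hq : Fintype.card F = q) (hr : r.Prime) (hrp : r ≠ p)
    (hi : 2 ≤ orderOf (q : ZMod r)) {l e : ℕ} (he : 1 ≤ e) (hn : l + e * orderOf (q : ZMod r) = n) :
    ∃ x : Matrix.SpecialLinearGroup (Fin n) F, x ^ r = 1 ∧
      HasShape (Matrix.toLin' (x : Matrix (Fin n) (Fin n) F)) (orderOf (q : ZMod r)) l e ∧
      ∀ c : F, (x : Matrix (Fin n) (Fin n) F) ≠ c • 1 := by
  classical
  haveI := Fact.mk hr
  set i := orderOf (q : ZMod r)
  have hcd : (cyclotomic r F).degree ≠ 0 := by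
    rw [degree_cyclotomic, Nat.totient_prime hr]
    exact_mod_cast (show r - 1 ≠ 0 by have := hr.two_le; omega)
  obtain ⟨P, hPm, hP, hPd⟩ := exists_monic_irreducible_factor (cyclotomic r F) (fun h => hcd (degree_eq_zero_of_isUnit h))
  have hPr : P ∣ X ^ r - 1 := cyclotomic_prime_mul_X_sub_one F r ▸ hPd.mul_right _
  have hne : P ≠ X - 1 := by
    intro h
    have hsep : (X ^ r - C (1 : F)).Separable := separable_X_pow_sub_C 1 (fun h => by
      rw [CharP.cast_eq_zero_iff F p] at h
      exact hrp ((Nat.prime_dvd_prime_iff_eq hp.out hr).mp h).symm) one_ne_zero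
    rw [map_one, ← cyclotomic_prime_mul_X_sub_one F r] at hsep
    exact (irreducible_X_sub_C (1 : F)).not_isUnit (hsep.squarefree _ (by
      rw [map_one]; exact mul_dvd_mul_right (h ▸ hPd) _))
  have hPi : P.natDegree = i := (natDegree_factor (p := p) hq hr hrp hP hPm hPr).resolve_left hne
  have hX1m : (X - 1 : F[X]).Monic := by simpa using monic_X_sub_C (1 : F)
  have hX1d : (X - 1 : F[X]).natDegree = 1 := by simpa using natDegree_X_sub_C (1 : F)
  have hX1i : Irreducible (X - 1 : F[X]) := by simpa using irreducible_X_sub_C (1 : F)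
  set f := (X - 1) ^ l * P ^ e with hf
  have hfm : f.Monic := (hX1m.pow l).mul (hPm.pow e)
  have hfd : f.natDegree = n := by
    rw [hf, (hX1m.pow l).natDegree_mul (hPm.pow e), hX1m.natDegree_pow, hPm.natDegree_pow, hX1d, hPi, mul_one, hn]
  have hfac : ∀ Q : F[X], Irreducible Q → Q ∣ f → Q ∣ X ^ r - C (1 : F) := by
    intro Q hQ hd
    rw [map_one]
    rcases hQ.prime.dvd_or_dvd hd with h | h
    · exact (hQ.prime.dvd_of_dvd_pow h).trans (cyclotomic_prime_mul_X_sub_one F r ▸ dvd_mul_left _ _)
    · exact (hQ.prime.dvd_of_dvd_pow h).trans hPr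
  have hf0 : f.coeff 0 ≠ 0 := by
    intro h
    have hX := hfac X irreducible_X (X_dvd_iff.mpr h)
    rw [X_dvd_iff] at hX
    simp [coeff_X_pow, hr.ne_zero.symm] at hX
  obtain ⟨g, hg, hgc⟩ := exists_semisimple (p := p) f hfm hfd hf0
  have hgr : (g : Matrix (Fin n) (Fin n) F) ^ r = 1 := by
    have hsq := (isSemisimple_toLin' g hg).minpoly_squarefree
    rw [Matrix.minpoly_toLin'] at hsq
    have hne' : minpoly F (g : Matrix (Fin n) (Fin n) F) ≠ 0 := minpoly.ne_zero (IsIntegral.of_finite F _)
    have hR : (X ^ r - C (1 : F)) ≠ 0 := X_pow_sub_C_ne_zero hr.pos 1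
    have hdvd : minpoly F (g : Matrix (Fin n) (Fin n) F) ∣ X ^ r - C (1 : F) := by
      rw [dvd_iff_normalizedFactors_le_normalizedFactors hne' hR,
        Multiset.le_iff_subset ((squarefree_iff_nodup_normalizedFactors hne').mp hsq)]
      intro Q hQ
      have hQi := irreducible_of_normalized_factor Q hQ
      exact (mem_normalizedFactors_iff' hR).mpr ⟨hQi, normalize_normalized_factor Q hQ,
        hfac Q hQi (hgc ▸ (dvd_of_mem_normalizedFactors hQ).trans (Matrix.minpoly_dvd_charpoly _))⟩
    obtain ⟨w, hw⟩ := hdvd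
    have h0 := congrArg (aeval (g : Matrix (Fin n) (Fin n) F)) hw
    rwa [map_mul, minpoly.aeval, zero_mul, map_sub, map_pow, aeval_X, map_one C, map_one, sub_eq_zero] at h0
  have hdet : (g : Matrix (Fin n) (Fin n) F).det = 1 := by
    have h1 : (g : Matrix (Fin n) (Fin n) F).det ^ r = 1 := by rw [← Matrix.det_pow, hgr, Matrix.det_one]
    have h2 := orderOf_dvd_of_pow_eq_one h1
    have h3 := orderOf_dvd_of_pow_eq_one (FiniteField.pow_card_sub_one_eq_one _ g.det_ne_zero)
    rw [hq] at h3
    rcases hr.eq_one_or_self_of_dvd _ h2 with h | h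
    · exact orderOf_eq_one_iff.mp h
    · exfalso
      have := (orderOf_mod (p := p) hq hr hrp).2.2.mpr (h ▸ h3)
      omega
  refine ⟨⟨g, hdet⟩, Subtype.ext ((Matrix.SpecialLinearGroup.coe_pow _ _).trans hgr), ?_, ?_⟩
  · refine ⟨isSemisimple_toLin' g hg, Multiset.replicate l (X - 1), Multiset.replicate e P,
      Multiset.card_replicate _ _, Multiset.card_replicate _ _, ?_, ?_, ?_, ?_⟩
    · intro Q hQ
      rcases Multiset.mem_add.mp hQ with h | h <;> rw [Multiset.eq_of_mem_replicate h]
      · exact ⟨hX1i, hX1m⟩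
      · exact ⟨hP, hPm⟩
    · intro Q hQ; rw [Multiset.eq_of_mem_replicate hQ, hX1d]
    · intro Q hQ; rw [Multiset.eq_of_mem_replicate hQ, hPi]
    · rw [Matrix.charpoly_toLin', Multiset.prod_add, Multiset.prod_replicate, Multiset.prod_replicate]
      exact hgc
  · intro c hc
    change (g : Matrix (Fin n) (Fin n) F) = c • 1 at hc
    have hPf : P ∣ f := (dvd_pow_self P (by omega)).mul_left _
    rw [← hgc, hc, Matrix.smul_one_eq_diagonal, Matrix.charpoly_diagonal, Finset.prod_const] at hPf
    have h := natDegree_eq_of_degree_eq (degree_eq_degree_of_associated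
      (hP.associated_of_dvd (irreducible_X_sub_C c) (hP.prime.dvd_of_dvd_pow hPf)))
    rw [hPi, natDegree_X_sub_C] at h
    omega

end Examples

end CfsgLib.Derange
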