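import Mathlib
import Cfsg.Agent.Lib.Derange.Cases

/-!
Elements of `SL` whose prime `r`-th power is a scalar that is not an `r`-th power.
-/

set_option autoImplicit false
set_option linter.style.haveILetI false

namespace CfsgLib.Derange

open Module Polynomial UniqueFactorizationMonoid CfsgLib.Classical.SemisimpleClasses

variable {F : Type*} [Field F] [Fintype F] {p : ℕ} [hp : Fact p.Prime] [CharP F p]
  {V : Type*} [AddCommGroup V] [Module F V] [FiniteDimensional F V]

/-- The numerical condition under which no twisted element of `SL` exists. -/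
def NoTwist (r n q : ℕ) : Prop :=
  padicValNat r n ≤ padicValNat r (q - 1) ∧ (r = 2 → Even n → q % 4 = 1)

theorem charpoly_of_not_power {r : ℕ} (hr : r.Prime) (T : End F V) {c : F} (hT : T ^ r = c • 1)
    (hc : ∀ b : F, b ^ r ≠ c) : ∃ s, T.charpoly = (X ^ r - C c) ^ s ∧ finrank F V = r * s := by
  classical
  set S := normalizedFactors T.charpoly
  have hne : T.charpoly ≠ 0 := (LinearMap.charpoly_monic T).ne_zero
  have hS : ∀ P ∈ S, P = X ^ r - C c := by
    intro P h
    have hP := irreducible_of_normalized_factor P h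
    exact eq_of_monic_of_associated ((normalize_normalized_factor P h) ▸ monic_normalize hP.ne_zero)
      (monic_X_pow_sub_C c hr.ne_zero) (hP.associated_of_dvd (X_pow_sub_C_irreducible_of_prime hr hc)
        (factor_dvd_pow T hT hP (dvd_of_mem_normalizedFactors h)))
  have he : T.charpoly = (X ^ r - C c) ^ Multiset.card S := by
    conv_lhs => rw [← (LinearMap.charpoly_monic T).normalize_eq_self, ← prod_normalizedFactors_eq hne]
    exact (congrArg Multiset.prod (Multiset.eq_replicate.mpr ⟨rfl, hS⟩)).trans (Multiset.prod_replicate _ _)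
  refine ⟨_, he, ?_⟩
  rw [← T.charpoly_natDegree, he, natDegree_pow, natDegree_X_pow_sub_C, mul_comm]

omit hp [CharP F p] in
/-- A non `r`-th power does not have too small an order. -/
theorem core {q r s : ℕ} (hq : Fintype.card F = q) (hr : r.Prime) (hrq : r ∣ q - 1) {z : F}
    (hz : ∀ b : F, b ^ r ≠ z) (hzs : z ^ s = 1) (hs : 1 ≤ s)
    (hv : padicValNat r (r * s) ≤ padicValNat r (q - 1)) : False := by
  classical
  haveI := Fact.mk hr
  have hz0 : z ≠ 0 := fun h => hz 0 (by rw [zero_pow hr.ne_zero, h])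
  have hN : Nat.card Fˣ = q - 1 := by rw [Nat.card_eq_fintype_card, Fintype.card_units, hq]
  obtain ⟨u, hu⟩ := IsCyclic.exists_generator (α := Fˣ)
  obtain ⟨k, hk⟩ := (Submonoid.mem_powers_iff _ _).mp
    (mem_powers_iff_mem_zpowers.mpr (hu (Units.mk0 z hz0)))
  have hord : orderOf u = q - 1 := by rw [orderOf_eq_card_of_forall_mem_zpowers hu, hN]
  have hrk : ¬ r ∣ k := by
    rintro ⟨w, rfl⟩
    refine hz ((u : F) ^ w) ?_
    have := congrArg Units.val hk
    rw [Units.val_pow_eq_pow_val, Units.val_mk0] at this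
    rw [← pow_mul, mul_comm, this]
  have hd : q - 1 ∣ k * s := by
    rw [← hord]
    refine orderOf_dvd_of_pow_eq_one ?_
    rw [pow_mul, hk]
    exact Units.ext (by rw [Units.val_pow_eq_pow_val, Units.val_mk0, hzs, Units.val_one])
  have h1 : r ^ padicValNat r (q - 1) ∣ s :=
    ((hr.coprime_iff_not_dvd.mpr hrk).pow_left _).dvd_of_dvd_mul_left (pow_padicValNat_dvd.trans hd)
  rw [padicValNat_dvd_iff_le (by omega : s ≠ 0)] at h1
  rw [padicValNat.mul hr.ne_zero (by omega), padicValNat.self hr.one_lt] at hv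
  omega

/-- Under `NoTwist` the scalar is always an `r`-th power. -/
theorem is_power_of_noTwist {q r n : ℕ} (hq : Fintype.card F = q) (hr : r.Prime) (hrp : r ≠ p)
    (hrq : r ∣ q - 1) (hV : finrank F V = n) (hn : 1 ≤ n) (T : End F V) (hdet : LinearMap.det T = 1)
    {c : F} (hT : T ^ r = c • 1) (h : NoTwist r n q) : ∃ b : F, b ^ r = c := by
  by_contra hc
  push Not at hc
  obtain ⟨s, hs, hns⟩ := charpoly_of_not_power hr T hT hc
  rw [hV] at hns
  have hs1 : 1 ≤ s := Nat.one_le_iff_ne_zero.mpr (by rintro rfl; omega)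
  have hd : (-1 : F) ^ n * (-c) ^ s = 1 := by
    have h0 := LinearMap.det_eq_sign_charpoly_coeff T
    rw [hdet, hV, hs, Polynomial.coeff_zero_eq_eval_zero, eval_pow, eval_sub, eval_pow, eval_X, eval_C,
      zero_pow hr.ne_zero, zero_sub] at h0
    exact h0.symm
  rw [hns] at hd
  have hv : padicValNat r (r * s) ≤ padicValNat r (q - 1) := hns ▸ h.1
  rcases hr.eq_two_or_odd' with h2 | hodd
  · subst h2
    rw [pow_mul, neg_one_sq, one_pow, one_mul] at hd
    have h4 : q % 4 = 1 := h.2 rfl ⟨s, by omega⟩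
    obtain ⟨w, hw⟩ := FiniteField.isSquare_neg_one_iff.mpr (by rw [hq]; omega : Fintype.card F % 4 ≠ 3)
    refine core hq hr hrq (z := -c) (fun b hb => hc (w * b) ?_) hd hs1 hv
    rw [mul_pow, hb, sq, ← hw]
    ring
  · refine core hq hr hrq hc ?_ hs1 hv
    rw [pow_mul, hodd.neg_one_pow, ← mul_pow, neg_one_mul, neg_neg] at hd
    exact hd

/-- Without `NoTwist` there is an element of `SL` with `x ^ r` a scalar non `r`-th power. -/
theorem exists_sl_not_power {q r n : ℕ} (hq : Fintype.card F = q) (hr : r.Prime) (hrp : r ≠ p)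
    (hrq : r ∣ q - 1) (hn : 1 ≤ n) (h : ¬ NoTwist r n q) :
    ∃ (x : Matrix.SpecialLinearGroup (Fin n) F) (z : F), (∀ b : F, b ^ r ≠ z) ∧
      (x : Matrix (Fin n) (Fin n) F) ^ r = z • 1 := by
  classical
  haveI := Fact.mk hr
  have hq1 : 2 ≤ q := hq ▸ Fintype.one_lt_card
  -- choice of the scalar
  obtain ⟨s, z, hns, hz, hzd⟩ : ∃ (s : ℕ) (z : F), n = r * s ∧ (∀ b : F, b ^ r ≠ z) ∧
      (-1 : F) ^ n * (-z) ^ s = 1 := by
    by_cases h2 : r = 2 ∧ Even n ∧ q % 4 ≠ 1
    · obtain ⟨rfl, he, h4⟩ := h2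
      obtain ⟨s, hs⟩ := he
      refine ⟨s, -1, by omega, fun b hb => ?_, ?_⟩
      · have h4' : Fintype.card F % 4 ≠ 3 := FiniteField.isSquare_neg_one_iff.mp ⟨b, by rw [← sq, hb]⟩
        rw [hq] at h4'
        omega
      · rw [show n = 2 * s by omega, pow_mul, neg_one_sq, one_pow, one_mul, neg_neg, one_pow]
    · have hv : padicValNat r (q - 1) < padicValNat r n := by
        by_contra hv
        exact h ⟨not_lt.mp hv, fun a b => by by_contra hh; exact h2 ⟨a, b, hh⟩⟩
      have h1 : 1 ≤ padicValNat r (q - 1) := one_le_padicValNat_of_dvd (by omega) hrq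
      obtain ⟨s, hs⟩ : r ∣ n := dvd_of_one_le_padicValNat (by omega)
      have hs0 : s ≠ 0 := by rintro rfl; omega
      rw [hs, padicValNat.mul hr.ne_zero hs0, padicValNat.self hr.one_lt] at hv
      have hds : r ^ padicValNat r (q - 1) ∣ s := (padicValNat_dvd_iff_le hs0).mpr (by omega)
      obtain ⟨u, hu⟩ := IsCyclic.exists_generator (α := Fˣ)
      have hord : orderOf u = q - 1 := by
        rw [orderOf_eq_card_of_forall_mem_zpowers hu, Nat.card_eq_fintype_card, Fintype.card_units, hq]
      obtain ⟨k, hk⟩ : r ^ padicValNat r (q - 1) ∣ q - 1 := pow_padicValNat_dvd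
      have hrk : ¬ r ∣ k := by
        rintro ⟨w, rfl⟩
        refine pow_succ_padicValNat_not_dvd (p := r) (n := q - 1) (by omega) ⟨w, ?_⟩
        rw [pow_succ, mul_assoc, ← hk]
      refine ⟨s, (u : F) ^ k, hs, fun b hb => ?_, ?_⟩
      · have hb0 : b ≠ 0 := by
          rintro rfl
          rw [zero_pow hr.ne_zero] at hb
          exact pow_ne_zero k u.ne_zero hb.symm
        obtain ⟨a, ha⟩ := (Submonoid.mem_powers_iff _ _).mp
          (mem_powers_iff_mem_zpowers.mpr (hu (Units.mk0 b hb0)))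
        have he : u ^ (a * r) = u ^ k := by
          rw [pow_mul, ha]
          exact Units.ext (by rw [Units.val_pow_eq_pow_val, Units.val_mk0, Units.val_pow_eq_pow_val, hb])
        rw [pow_eq_pow_iff_modEq, hord] at he
        exact hrk (((he.of_dvd hrq).dvd_iff dvd_rfl).mp (dvd_mul_left r a))
      · have hus : ((u : F) ^ k) ^ s = 1 := by
          obtain ⟨w, rfl⟩ := hds
          rw [← pow_mul, show k * (r ^ padicValNat r (q - 1) * w) = (r ^ padicValNat r (q - 1) * k) * w by ring,
            ← hk, pow_mul, ← hord]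
          rw [← Units.val_pow_eq_pow_val, pow_orderOf_eq_one, Units.val_one, one_pow]
        rw [hs, pow_mul, ← mul_pow, mul_neg, ← neg_mul, mul_pow, hus, mul_one, ← neg_one_mul,
          ← pow_succ', ← pow_mul]
        rcases hr.eq_two_or_odd' with h2' | hodd
        · subst h2'
          have : Even s := even_iff_two_dvd.mpr ((dvd_pow_self 2 (by omega)).trans hds)
          exact (this.mul_left _).neg_one_pow
        · exact ((hodd.add_one).mul_right _).neg_one_pow
  set f := (X ^ r - C z) ^ s with hf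
  have hfm : f.Monic := (monic_X_pow_sub_C z hr.ne_zero).pow s
  have hfd : f.natDegree = n := by rw [hf, natDegree_pow, natDegree_X_pow_sub_C, hns, mul_comm]
  have hs0 : s ≠ 0 := by rintro rfl; omega
  have hz0 : z ≠ 0 := fun h => hz 0 (by rw [zero_pow hr.ne_zero, h])
  have hc0 : f.coeff 0 = (-z) ^ s := by
    rw [Polynomial.coeff_zero_eq_eval_zero, hf, eval_pow, eval_sub, eval_pow, eval_X, eval_C,
      zero_pow hr.ne_zero, zero_sub]
  obtain ⟨g, hg, hgc⟩ := exists_semisimple (p := p) f hfm hfd (by rw [hc0]; exact pow_ne_zero _ (neg_ne_zero.mpr hz0))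
  have hdet : (g : Matrix (Fin n) (Fin n) F).det = 1 := by
    rw [Matrix.det_eq_sign_charpoly_coeff, Fintype.card_fin, hgc, hc0, hzd]
  refine ⟨⟨g, hdet⟩, z, hz, ?_⟩
  change (g : Matrix (Fin n) (Fin n) F) ^ r = _
  haveI : Nonempty (Fin n) := ⟨⟨0, hn⟩⟩
  have hsq := (isSemisimple_toLin' g hg).minpoly_squarefree
  rw [Matrix.minpoly_toLin'] at hsq
  have hirr := X_pow_sub_C_irreducible_of_prime hr hz
  have hdvd : minpoly F (g : Matrix (Fin n) (Fin n) F) ∣ X ^ r - C z := by
    have := hgc ▸ Matrix.minpoly_dvd_charpoly (g : Matrix (Fin n) (Fin n) F)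
    exact (hsq.dvd_pow_iff_dvd hs0).mp this
  obtain ⟨w, hw⟩ := hdvd
  have h0 := congrArg (aeval (g : Matrix (Fin n) (Fin n) F)) hw
  rwa [map_mul, minpoly.aeval, zero_mul, map_sub, map_pow, aeval_X, aeval_C, sub_eq_zero,
    Algebra.algebraMap_eq_smul_one] at h0

end CfsgLib.Derange
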