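import Mathlib
import Cfsg.Agent.Lib.Derange.Twist

/-!
The general criterion for a property of endomorphisms to hold for all elements of `SL` of prime
order modulo scalars.
-/

set_option autoImplicit false
set_option linter.style.haveILetI false

namespace CfsgLib.Derange

open Module

variable {F : Type*} [Field F] {n : ℕ}

theorem map_le_iff (T : End F (Fin n → F)) (W : Submodule F (Fin n → F)) :
    W.map T ≤ W ↔ ∀ x ∈ W, T x ∈ W := Submodule.map_le_iff_le_comap

theorem toLin'_pow (M : Matrix (Fin n) (Fin n) F) (r : ℕ) :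
    Matrix.toLin' (M ^ r) = Matrix.toLin' M ^ r := map_pow (Matrix.toLinAlgEquiv' (R := F) (n := Fin n)) M r

theorem toLin'_smul_one (c : F) :
    Matrix.toLin' (c • (1 : Matrix (Fin n) (Fin n) F)) = c • 1 := by
  rw [map_smul, Matrix.toLin'_one]
  rfl

variable [Fintype F] {p : ℕ} [hp : Fact p.Prime] [CharP F p]

/-- The criterion. -/
theorem elusive_iff {q r : ℕ} (hq : Fintype.card F = q) (hr : r.Prime) (hrp : r ≠ p) (hn : 2 ≤ n)
    (P : End F (Fin n → F) → Prop) (hP : ∀ (b : F) (T : End F (Fin n → F)), b ≠ 0 → (P (b • T) ↔ P T))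
    (Q : ℕ → ℕ → ℕ → Prop) (hPQ : ∀ T i l e, HasShape T i l e → (P T ↔ Q i l e))
    (hQ1 : ∀ l e, l + e = n → Q 1 l e) (hQ0 : ∀ i, Q i n 0) :
    (∀ x : Matrix.SpecialLinearGroup (Fin n) F,
      (∃ c : F, ((x ^ r : Matrix.SpecialLinearGroup (Fin n) F) : Matrix (Fin n) (Fin n) F) =
        c • (1 : Matrix (Fin n) (Fin n) F)) →
      (∀ c : F, (x : Matrix (Fin n) (Fin n) F) ≠ c • (1 : Matrix (Fin n) (Fin n) F)) →
      P (Matrix.toLin' (x : Matrix (Fin n) (Fin n) F))) ↔
    ((orderOf (q : ZMod r) = 1 ∧ ((r ∣ n → Q r 0 (n / r)) ∨ NoTwist r n q)) ∨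
      (2 ≤ orderOf (q : ZMod r) ∧
        ∀ l e, 1 ≤ e → l + e * orderOf (q : ZMod r) = n → Q (orderOf (q : ZMod r)) l e)) := by
  classical
  haveI := Fact.mk hr
  obtain ⟨hi0, hid, hi1⟩ := orderOf_mod (p := p) hq hr hrp
  set i := orderOf (q : ZMod r)
  have hfin : finrank F (Fin n → F) = n := Module.finrank_fin_fun F
  constructor
  · intro h
    rcases (show i = 1 ∨ 2 ≤ i by omega) with h1 | h2
    · refine Or.inl ⟨h1, or_iff_not_imp_right.mpr fun hnt hrn => ?_⟩
      obtain ⟨x, z, hz, hx⟩ := exists_sl_not_power (p := p) hq hr hrp (hi1.mp h1) (by omega) hnt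
      have hns : ∀ c : F, (x : Matrix (Fin n) (Fin n) F) ≠ c • 1 := by
        intro c hc
        rw [hc, smul_pow, one_pow] at hx
        haveI : Nonempty (Fin n) := ⟨⟨0, by omega⟩⟩
        exact hz c (smul_left_injective F (one_ne_zero : (1 : Matrix (Fin n) (Fin n) F) ≠ 0) hx)
      have hP' := h x ⟨z, by rw [Matrix.SpecialLinearGroup.coe_pow, hx]⟩ hns
      obtain ⟨e, hs, he⟩ := shape_of_not_power (p := p) hr hrp
        (Matrix.toLin' (x : Matrix (Fin n) (Fin n) F)) (c := z) (by rw [← toLin'_pow, hx, toLin'_smul_one]) hz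
      rw [hfin] at he
      rw [hPQ _ _ _ _ hs] at hP'
      rwa [← he, Nat.mul_div_cancel _ hr.pos]
    · refine Or.inr ⟨h2, fun l e he hle => ?_⟩
      obtain ⟨x, hx, hs, hns⟩ := exists_sl_pow_one (p := p) hq hr hrp h2 he hle
      exact (hPQ _ _ _ _ hs).mp (h x ⟨1, by rw [hx, one_smul, Matrix.SpecialLinearGroup.coe_one]⟩ hns)
  · intro h x hx _hns
    obtain ⟨c, hc⟩ := hx
    rw [Matrix.SpecialLinearGroup.coe_pow] at hc
    set T := Matrix.toLin' (x : Matrix (Fin n) (Fin n) F)
    have hT : T ^ r = c • 1 := by rw [← toLin'_pow, hc, toLin'_smul_one]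
    have hdet : LinearMap.det T = 1 := by rw [LinearMap.det_toLin', x.det_coe]
    have hc0 : c ≠ 0 := by
      rintro rfl
      rw [zero_smul] at hT
      have := congrArg LinearMap.det hT
      rw [map_pow, hdet, one_pow, LinearMap.det_zero, hfin, zero_pow (by omega)] at this
      exact one_ne_zero this
    by_cases hb : ∃ b : F, b ^ r = c
    · obtain ⟨b, rfl⟩ := hb
      have hb0 : b ≠ 0 := fun h0 => hc0 (by rw [h0, zero_pow hr.ne_zero])
      have hy : (b⁻¹ • T) ^ r = 1 := by
        rw [_root_.smul_pow, hT, smul_smul, ← mul_pow, inv_mul_cancel₀ hb0, one_pow, one_smul]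
      rw [← hP b⁻¹ T (inv_ne_zero hb0)]
      obtain ⟨l, e, hs, hle⟩ := shape_of_pow_one (p := p) hq hr hrp (b⁻¹ • T) hy
      rw [hfin] at hle
      rw [hPQ _ _ _ _ hs]
      rcases h with ⟨h1, -⟩ | ⟨-, h2⟩
      · rw [show orderOf (q : ZMod r) = 1 from h1] at hle ⊢
        rw [mul_one] at hle
        exact hQ1 l e hle
      · rcases Nat.eq_zero_or_pos e with rfl | he
        · rw [zero_mul, add_zero] at hle
          subst hle
          exact hQ0 _
        · exact h2 l e he hle
    · have hb' : ∀ b : F, b ^ r ≠ c := fun b hb' => hb ⟨b, hb'⟩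
      obtain ⟨e, hs, he⟩ := shape_of_not_power (p := p) hr hrp T hT hb'
      rw [hfin] at he
      have hrq : r ∣ q - 1 := by
        by_contra hrq
        refine hb ?_
        have hcop : Nat.Coprime (Fintype.card Fˣ) r := by
          rw [Fintype.card_units, hq]
          exact (hr.coprime_iff_not_dvd.mpr hrq).symm
        rw [← Nat.card_eq_fintype_card] at hcop
        obtain ⟨b, hb⟩ := (powCoprime hcop).surjective (Units.mk0 c hc0)
        exact ⟨b, by rw [← Units.val_pow_eq_pow_val]; exact congrArg Units.val hb⟩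
      rcases h with ⟨-, h1⟩ | ⟨h2, -⟩
      · rcases h1 with h1 | h1
        · have hrn : r ∣ n := Dvd.intro_left e he
          rw [hPQ _ _ _ _ hs]
          have := h1 hrn
          rwa [← he, Nat.mul_div_cancel _ hr.pos] at this
        · exact absurd (is_power_of_noTwist (p := p) hq hr hrp hrq hfin (by omega) T hdet hT h1) hb
      · exact absurd (hi1.mpr hrq) (by omega)

end CfsgLib.Derange
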