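import Mathlib

/-!
An endomorphism with scalar square is monomial in some basis; involutive permutations preserve a
block system with blocks of any size dividing the degree.
-/

set_option autoImplicit false
set_option linter.style.haveILetI false

namespace CfsgLib.Derange

open Module

variable {F : Type*} [Field F]

universe v

theorem exists_monomial_basis_aux (d : ℕ) : ∀ (V : Type v) [AddCommGroup V] [Module F V] [FiniteDimensional F V],
    finrank F V = d → ∀ (T : End F V) (z : F), z ≠ 0 → T ^ 2 = z • 1 →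
    ∃ (j k : ℕ) (b : Basis ((Fin j ⊕ Fin j) ⊕ Fin k) F V),
      ∀ i, ∃ c : F, c ≠ 0 ∧ T (b i) = c • b (Sum.map Sum.swap id i) := by
  induction d using Nat.strong_induction_on with
  | _ d ih =>
  intro V _ _ _ hd T z hz hT
  have hTT : ∀ w, T (T w) = z • w := fun w => by
    rw [← End.mul_apply, ← sq, hT, LinearMap.smul_apply, End.one_apply]
  by_cases hv : ∃ v : V, LinearIndependent F ![v, T v]
  · obtain ⟨v, hv⟩ := hv
    obtain ⟨hv0, hTv⟩ := (LinearIndependent.pair_iff' (by simpa using hv.ne_zero (0 : Fin 2))).mp hv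
      |> fun h => And.intro (show v ≠ 0 by simpa using hv.ne_zero (0 : Fin 2)) h
    have hmem : T v ∉ Submodule.span F {v} := by
      rw [Submodule.mem_span_singleton]
      rintro ⟨a, ha⟩
      exact hTv a ha
    obtain ⟨φ, hφ1, hφ0⟩ := Submodule.exists_dual_map_eq_bot_of_notMem hmem inferInstance
    have hφv : φ v = 0 := by
      have := Submodule.mem_map_of_mem (f := φ) (Submodule.mem_span_singleton_self (R := F) v)
      rw [hφ0] at this
      simpa using this
    let Φ : V →ₗ[F] F × F := φ.prod (φ ∘ₗ T)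
    have hW : ∀ x ∈ LinearMap.ker Φ, T x ∈ LinearMap.ker Φ := by
      intro x hx
      rw [LinearMap.mem_ker] at hx ⊢
      have h1 : φ x = 0 := congrArg Prod.fst hx
      have h2 : φ (T x) = 0 := congrArg Prod.snd hx
      exact Prod.ext h2 (by
        show φ (T (T x)) = 0
        rw [hTT, map_smul, h1, smul_zero])
    set W := LinearMap.ker Φ
    have hTW : (T.restrict hW : End F W) ^ 2 = z • 1 := by
      refine LinearMap.ext fun x => Subtype.ext ?_
      rw [sq, End.mul_apply]
      exact (hTT x).trans rfl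
    -- the plane and the kernel
    let e : (F × F) × W →ₗ[F] V :=
      ((LinearMap.toSpanSingleton F V v).coprod (LinearMap.toSpanSingleton F V (T v))).coprod W.subtype
    have he : Function.Bijective e := by
      have happ : ∀ a b (w : W), Φ (e ((a, b), w)) = (b * φ (T v), a * φ (T v)) := by
        intro a b w
        have h1 : φ (w : V) = 0 := congrArg Prod.fst (LinearMap.mem_ker.mp w.2)
        have h2 : φ (T (w : V)) = 0 := congrArg Prod.snd (LinearMap.mem_ker.mp w.2)
        simp [Φ, e, hφv, h1, h2, hTT]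
      constructor
      · rw [← LinearMap.ker_eq_bot, eq_bot_iff]
        rintro ⟨⟨a, b⟩, w⟩ hx
        rw [LinearMap.mem_ker] at hx
        have h := happ a b w
        rw [hx, map_zero] at h
        obtain rfl : b = 0 := by simpa [hφ1] using (congrArg Prod.fst h).symm
        obtain rfl : a = 0 := by simpa [hφ1] using (congrArg Prod.snd h).symm
        have : (w : V) = 0 := by simpa [e] using hx
        simp [Subtype.ext_iff, this]
      · intro x
        have hx : x - e ((φ (T x) / φ (T v), φ x / φ (T v)), 0) ∈ W := by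
          rw [LinearMap.mem_ker, map_sub, happ]
          ext <;> simp [Φ, hφ1]
        refine ⟨((φ (T x) / φ (T v), φ x / φ (T v)), ⟨_, hx⟩), ?_⟩
        simp [e]
    let E := LinearEquiv.ofBijective e he
    have hlt : finrank F W < d := by
      have := E.finrank_eq
      rw [Module.finrank_prod, Module.finrank_prod, Module.finrank_self] at this
      omega
    obtain ⟨j, k, b, hb⟩ := ih _ hlt W rfl (T.restrict hW) z hz hTW
    let ι : ((Fin 1 ⊕ Fin 1) ⊕ ((Fin j ⊕ Fin j) ⊕ Fin k)) ≃ ((Fin (1 + j) ⊕ Fin (1 + j)) ⊕ Fin k) :=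
      (Equiv.sumAssoc _ _ _).symm.trans (Equiv.sumCongr ((Equiv.sumSumSumComm _ _ _ _).trans
        (Equiv.sumCongr finSumFinEquiv finSumFinEquiv)) (Equiv.refl _))
    let bb := ((((Basis.singleton (Fin 1) F).prod (Basis.singleton (Fin 1) F)).prod b).map E).reindex ι
    refine ⟨1 + j, k, bb, fun i => ?_⟩
    obtain ⟨i, rfl⟩ := ι.surjective i
    have hswap : Sum.map Sum.swap id (ι i) = ι (Sum.map Sum.swap (Sum.map Sum.swap id) i) := by
      rcases i with (i | i) | (i | i) | i <;> rfl
    rw [hswap]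
    simp only [bb, Basis.reindex_apply, Equiv.symm_apply_apply, Basis.map_apply, E, LinearEquiv.ofBijective_apply]
    rcases i with (i | i) | i
    · exact ⟨1, one_ne_zero, by simp [e, Basis.prod_apply]⟩
    · exact ⟨z, hz, by simp [e, Basis.prod_apply, hTT]⟩
    · obtain ⟨c, hc, hci⟩ := hb i
      refine ⟨c, hc, ?_⟩
      have := congrArg Subtype.val hci
      simpa [e, Basis.prod_apply] using this
  · push Not at hv
    refine ⟨0, d, ((Module.finBasisOfFinrankEq F V hd).reindex (Equiv.emptySum (Fin 0 ⊕ Fin 0) (Fin d)).symm),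
      fun i => ?_⟩
    rcases i with (i | i) | i
    · exact i.elim0
    · exact i.elim0
    · simp only [Basis.reindex_apply, Sum.map_inr, id, Equiv.symm_symm, Equiv.emptySum_apply_inr]
      set w := Module.finBasisOfFinrankEq F V hd i with hw
      have hw0 : w ≠ 0 := Basis.ne_zero _ i
      have := hv w
      rw [LinearIndependent.pair_iff' hw0] at this
      push Not at this
      obtain ⟨a, ha⟩ := this
      refine ⟨a, ?_, ha.symm⟩
      rintro rfl
      have h2 := hTT w
      rw [← ha, zero_smul, map_zero] at h2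
      exact hw0 ((smul_eq_zero.mp h2.symm).resolve_left hz)

/-- An involution: in some basis it is a signed permutation. -/
theorem exists_signed_basis_aux (d : ℕ) (V : Type v) [AddCommGroup V] [Module F V] [FiniteDimensional F V]
    (hd : finrank F V = d) (T : End F V) (hT : T ^ 2 = (1 : F) • 1) :
    ∃ (j k : ℕ) (b : Basis ((Fin j ⊕ Fin j) ⊕ Fin k) F V),
      ∀ i, ∃ c : F, (c = 1 ∨ c = -1) ∧ T (b i) = c • b (Sum.map Sum.swap id i) := by
  obtain ⟨j, k, b, hb⟩ := exists_monomial_basis_aux d V hd T 1 one_ne_zero hT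
  choose c hc0 hc using hb
  have hTT : ∀ w, T (T w) = w := fun w => by rw [← End.mul_apply, ← sq, hT, one_smul, End.one_apply]
  have hcc : ∀ i, c i * c (Sum.map Sum.swap id i) = 1 := by
    intro i
    have h := hTT (b i)
    rw [hc, map_smul, hc, smul_smul, show Sum.map Sum.swap id (Sum.map Sum.swap id i) = i by
      rcases i with (i | i) | i <;> rfl] at h
    exact smul_left_injective F (b.ne_zero i) (h.trans (one_smul F _).symm)
  let u : ((Fin j ⊕ Fin j) ⊕ Fin k) → Fˣ :=
    Sum.elim (Sum.elim 1 fun i => Units.mk0 _ (hc0 (.inl (.inl i)))) 1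
  refine ⟨j, k, b.unitsSMul u, fun i => ?_⟩
  rcases i with (i | i) | i
  · refine ⟨1, Or.inl rfl, ?_⟩
    simp [Basis.unitsSMul_apply, u, hc, Units.smul_def]
  · refine ⟨1, Or.inl rfl, ?_⟩
    simpa [Basis.unitsSMul_apply, u, hc, Units.smul_def, smul_smul] using
      (congrArg (fun a => a • b (.inl (.inl i))) (hcc (.inl (.inl i))))
  · refine ⟨c (.inr i), mul_self_eq_one_iff.mp (hcc (.inr i)), ?_⟩
    simp [Basis.unitsSMul_apply, u, hc, Units.smul_def]

/-- An involution on `a * t` points preserves some system of `t` blocks of size `a`. -/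
theorem exists_blocks (a t j k : ℕ) (h : (j + j) + k = a * t) :
    ∃ (E : (Fin j ⊕ Fin j) ⊕ Fin k ≃ Fin t × Fin a) (σ : Equiv.Perm (Fin t)),
      ∀ i, (E (Sum.map Sum.swap id i)).1 = σ (E i).1 := by
  classical
  set s := j - t * (a / 2) with hs
  have ha2 : a = 2 * (a / 2) + a % 2 := (Nat.div_add_mod a 2).symm
  have hts : 2 * s ≤ t := by
    have : a * t = 2 * (t * (a / 2)) + (a % 2) * t := by
      conv_lhs => rw [ha2]
      ring
    rcases Nat.mod_two_eq_zero_or_one a with h0 | h0 <;> rw [h0] at this <;> omega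
  obtain ⟨τ⟩ : Nonempty ((Fin s ⊕ Fin s) ⊕ Fin (t - 2 * s) ≃ Fin t) :=
    ⟨(Equiv.sumCongr finSumFinEquiv (Equiv.refl _)).trans (finSumFinEquiv.trans (finCongr (by omega)))⟩
  let Q₀ := (Fin s × Fin a) ⊕ (Fin (t - 2 * s) × Fin (a / 2))
  have hcard : j ≤ Fintype.card Q₀ ∧ (0 < s → Fintype.card Q₀ = j) := by
    simp only [Q₀, Fintype.card_sum, Fintype.card_prod, Fintype.card_fin]
    rcases Nat.eq_zero_or_pos s with h0 | h0
    · constructor
      · rw [h0, zero_mul, mul_zero, Nat.sub_zero, zero_add]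
        omega
      · omega
    · have key : s * a + (t - 2 * s) * (a / 2) = j := by
        rcases Nat.mod_two_eq_zero_or_one a with h1 | h1
        · exfalso
          rw [h1, add_zero] at ha2
          have : a * t = 2 * (t * (a / 2)) := by (conv_lhs => rw [ha2]); ring
          omega
        · rw [h1] at ha2
          have e1 : s * a = s * (2 * (a / 2)) + s := by (conv_lhs => rw [ha2]); ring
          have e2 : (t - 2 * s) * (a / 2) + s * (2 * (a / 2)) = t * (a / 2) := by
            rw [show s * (2 * (a / 2)) = (2 * s) * (a / 2) by ring, ← add_mul, Nat.sub_add_cancel hts]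
          omega
      exact ⟨key.ge, fun _ => key⟩
  obtain ⟨g⟩ := Function.Embedding.nonempty_of_card_le (α := Fin j) (β := Q₀) (by simpa using hcard.1)
  let u₀ : Fin (a / 2) → Fin a := fun y => ⟨2 * y.1, by omega⟩
  let u₁ : Fin (a / 2) → Fin a := fun y => ⟨2 * y.1 + 1, by omega⟩
  let L : Q₀ → Fin t × Fin a :=
    Sum.elim (fun u => (τ (.inl (.inl u.1)), u.2)) fun w => (τ (.inr w.1), u₀ w.2)
  let R : Q₀ → Fin t × Fin a :=
    Sum.elim (fun u => (τ (.inl (.inr u.1)), u.2)) fun w => (τ (.inr w.1), u₁ w.2)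
  let f : Fin j ⊕ Fin j → Fin t × Fin a := Sum.elim (L ∘ g) (R ∘ g)
  have hL : Function.Injective L := by
    rintro (⟨u, x⟩ | ⟨u, x⟩) (⟨v, y⟩ | ⟨v, y⟩) hxy <;> simp [L, u₀] at hxy ⊢ <;>
      first
        | exact congrArg Sum.inl (Prod.ext hxy.1 hxy.2)
        | exact congrArg Sum.inr (Prod.ext hxy.1 (Fin.ext hxy.2))
  have hR : Function.Injective R := by
    rintro (⟨u, x⟩ | ⟨u, x⟩) (⟨v, y⟩ | ⟨v, y⟩) hxy <;> simp [R, u₁] at hxy ⊢ <;>
      first
        | exact congrArg Sum.inl (Prod.ext hxy.1 hxy.2)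
        | exact congrArg Sum.inr (Prod.ext hxy.1 (Fin.ext hxy.2))
  have hf : Function.Injective f := by
    refine Function.Injective.sumElim (hL.comp g.injective) (hR.comp g.injective) fun x y => ?_
    simp only [Function.comp_apply]
    rcases g x with ⟨u, x⟩ | ⟨u, x⟩ <;> rcases g y with ⟨v, y⟩ | ⟨v, y⟩ <;>
      simp [L, R, u₀, u₁, Fin.ext_iff] <;> omega
  obtain ⟨e'⟩ : Nonempty (Fin k ≃ ((Set.range f)ᶜ : Set (Fin t × Fin a))) := by
    refine ⟨Fintype.equivOfCardEq ?_⟩
    rw [Fintype.card_fin, Fintype.card_compl_set, Set.card_range_of_injective hf, Fintype.card_prod,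
      Fintype.card_sum, Fintype.card_fin, Fintype.card_fin, Fintype.card_fin]
    rw [mul_comm t a]
    omega
  let E : (Fin j ⊕ Fin j) ⊕ Fin k ≃ Fin t × Fin a :=
    (Equiv.sumCongr (Equiv.ofInjective f hf) e').trans (Equiv.Set.sumCompl (Set.range f))
  let σ : Equiv.Perm (Fin t) := τ.permCongr (Equiv.sumCongr (Equiv.sumComm _ _) (Equiv.refl _))
  refine ⟨E, σ, fun i => ?_⟩
  have hσL : ∀ z, σ (L z).1 = (R z).1 ∧ σ (R z).1 = (L z).1 := by
    rintro (⟨u, x⟩ | ⟨u, x⟩) <;> simp [σ, L, R]
  rcases i with (i | i) | i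
  · simp [E, f, (hσL (g i)).1]
  · simp [E, f, (hσL (g i)).2]
  · have hni : (e' i : Fin t × Fin a) ∉ Set.range f := (e' i).2
    simp only [E, Sum.map_inr, id, Equiv.trans_apply, Equiv.sumCongr_apply, Equiv.Set.sumCompl_apply_inr]
    obtain ⟨⟨b, x⟩, hbx⟩ : ∃ z, (e' i : Fin t × Fin a) = z := ⟨_, rfl⟩
    rw [hbx] at hni ⊢
    obtain ⟨w, rfl⟩ := τ.surjective b
    rcases w with (w | w) | w
    · exfalso
      have hs0 : 0 < s := w.pos
      have hbij : Function.Bijective g :=
        (Fintype.bijective_iff_injective_and_card g).mpr ⟨g.injective, by rw [Fintype.card_fin, hcard.2 hs0]⟩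
      obtain ⟨y, hy⟩ := hbij.2 (.inl (w, x))
      exact hni ⟨.inl y, by simp [f, L, hy]⟩
    · exfalso
      have hs0 : 0 < s := w.pos
      have hbij : Function.Bijective g :=
        (Fintype.bijective_iff_injective_and_card g).mpr ⟨g.injective, by rw [Fintype.card_fin, hcard.2 hs0]⟩
      obtain ⟨y, hy⟩ := hbij.2 (.inl (w, x))
      exact hni ⟨.inr y, by simp [f, R, hy]⟩
    · simp [σ]

/-- An endomorphism with scalar square preserves a decomposition into `t` parts of dimension `a`. -/
theorem exists_decomposition {n a t : ℕ} (hat : n = a * t) (T : End F (Fin n → F)) {z : F} (hz : z ≠ 0)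
    (hT : T ^ 2 = z • 1) :
    ∃ (D : Fin t → Submodule F (Fin n → F)), iSupIndep D ∧ iSup D = ⊤ ∧ (∀ i, finrank F (D i) = a) ∧
      ∃ σ : Equiv.Perm (Fin t), ∀ i, (D i).map T = D (σ i) := by
  classical
  obtain ⟨j, k, b, hb⟩ := exists_monomial_basis_aux _ (Fin n → F) (Module.finrank_fin_fun F) T z hz hT
  have hjk : (j + j) + k = a * t := by
    have := Module.finrank_eq_card_basis b
    rw [Module.finrank_fin_fun, Fintype.card_sum, Fintype.card_sum, Fintype.card_fin, Fintype.card_fin] at this
    omega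
  obtain ⟨E, σ, hE⟩ := exists_blocks a t j k hjk
  let bb := b.reindex E
  let D : Fin t → Submodule F (Fin n → F) := fun i => Submodule.span F (Set.range fun x => bb (i, x))
  refine ⟨D, ?_, ?_, fun i => ?_, σ, fun i => ?_⟩
  · intro i
    refine (bb.linearIndependent.disjoint_span_image (s := Prod.fst ⁻¹' {i}) (t := Prod.fst ⁻¹' {i}ᶜ)
      (Set.disjoint_left.mpr fun x hx hx' => hx' hx)).mono ?_ ?_
    · refine Submodule.span_mono ?_
      rintro _ ⟨x, rfl⟩
      exact ⟨(i, x), rfl, rfl⟩
    · refine iSup₂_le fun i' hi' => Submodule.span_mono ?_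
      rintro _ ⟨x, rfl⟩
      exact ⟨(i', x), hi', rfl⟩
  · rw [eq_top_iff, ← bb.span_eq, Submodule.span_le]
    rintro _ ⟨⟨i, x⟩, rfl⟩
    exact Submodule.mem_iSup_of_mem i (Submodule.subset_span ⟨x, rfl⟩)
  · rw [finrank_span_eq_card (b := fun x => bb (i, x)) (bb.linearIndependent.comp _ fun x y h => (Prod.ext_iff.mp h).2),
      Fintype.card_fin]
  · have key : ∀ i, (D i).map T ≤ D (σ i) := by
      intro i
      rw [Submodule.map_span, Submodule.span_le]
      rintro _ ⟨_, ⟨x, rfl⟩, rfl⟩
      obtain ⟨c, -, hc⟩ := hb (E.symm (i, x))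
      simp only [bb, Basis.reindex_apply]
      rw [hc]
      refine Submodule.smul_mem _ _ (Submodule.subset_span ⟨(E (Sum.map Sum.swap id (E.symm (i, x)))).2, ?_⟩)
      have h1 := hE (E.symm (i, x))
      rw [Equiv.apply_symm_apply] at h1
      simp only [Basis.reindex_apply, bb]
      rw [← h1, Prod.mk.eta, Equiv.symm_apply_apply]
    have hinj : Function.Injective T := by
      intro v w hvw
      have := congrArg T hvw
      rw [← End.mul_apply, ← End.mul_apply, ← sq, hT] at this
      exact smul_right_injective _ hz this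
    have hdim : ∀ i, finrank F (D i) = a := fun i => by
      rw [finrank_span_eq_card (b := fun x => bb (i, x)) (bb.linearIndependent.comp _ fun x y h => (Prod.ext_iff.mp h).2),
        Fintype.card_fin]
    refine Submodule.eq_of_le_of_finrank_eq (key i) ?_
    rw [← (Submodule.equivMapOfInjective T hinj (D i)).finrank_eq, hdim, hdim]

end CfsgLib.Derange
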