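import Mathlib
import Cfsg.Agent.Lib.Derange.Monomial
import Cfsg.Agent.Lib.Derange.Elusive
import Cfsg.Agent.Lib.Classical.SemisimpleDet

/-!
Elements with scalar square: determinants in the centralizer and matrices in monomial bases.
-/

set_option autoImplicit false
set_option linter.style.haveILetI false

namespace CfsgLib.Derange

open Module
open scoped MatrixGroups

variable {F : Type*} [Field F] [Fintype F] {p : ℕ} [hp : Fact p.Prime] [CharP F p] {n : ℕ}

theorem sq_scalar_ne_zero (hn : 1 ≤ n) {M : Matrix (Fin n) (Fin n) F} (hM : M.det ≠ 0) {z : F}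
    (hz : M ^ 2 = z • 1) : z ≠ 0 := by
  rintro rfl
  haveI : Nonempty (Fin n) := ⟨⟨0, hn⟩⟩
  apply pow_ne_zero 2 hM
  rw [← Matrix.det_pow, hz, zero_smul, Matrix.det_zero]

include hp in
theorem exists_commute_det_sq (hn : 1 ≤ n) {M : Matrix (Fin n) (Fin n) F} {z : F} (hz0 : z ≠ 0)
    (hz : M ^ 2 = z • 1) {c : F} (hc : c ≠ 0) :
    ∃ C : GL (Fin n) F, (C : Matrix (Fin n) (Fin n) F) * M = M * C ∧ (C : Matrix (Fin n) (Fin n) F).det = c := by
  classical
  haveI : Nonempty (Fin n) := ⟨⟨0, hn⟩⟩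
  set T : End F (Fin n → F) := Matrix.toLin' M with hT
  have hT2 : T ^ 2 = z • 1 := by rw [hT, ← toLin'_pow, hz, toLin'_smul_one]
  obtain ⟨Z, hZ, hdet⟩ : ∃ Z : End F (Fin n → F), Commute Z T ∧ LinearMap.det Z = c := by
    by_cases hp2 : p = 2
    · obtain ⟨j, k, b, hb⟩ := exists_monomial_basis_aux _ (Fin n → F) (Module.finrank_fin_fun F) T z hz0 hT2
      obtain ⟨d, hd, hdp⟩ : ∃ d : (Fin j ⊕ Fin j) ⊕ Fin k → F,
          (∀ i, d (Sum.map Sum.swap id i) = d i) ∧ ∏ i, d i = c := by
        rcases Nat.eq_zero_or_pos k with hk | hk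
        · have hj : 0 < j := by
            have := Module.finrank_eq_card_basis b
            simp only [Module.finrank_fin_fun, Fintype.card_sum, Fintype.card_fin] at this
            omega
          haveI : CharP F 2 := hp2 ▸ inferInstance
          obtain ⟨s, hs⟩ := surjective_frobenius F 2 c
          rw [frobenius_def] at hs
          let f : Fin j → F := fun i => if i = ⟨0, hj⟩ then s else 1
          have hf : ∏ i, f i = s := by simp [f]
          refine ⟨Sum.elim (Sum.elim f f) 1, fun i => ?_, ?_⟩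
          · rcases i with (i | i) | i <;> rfl
          · simp only [Fintype.prod_sum_type, Sum.elim_inl, Sum.elim_inr, hf, Pi.one_apply, Finset.prod_const_one,
              mul_one]
            rw [← sq, hs]
        · refine ⟨Sum.elim 1 (fun i => if i = ⟨0, hk⟩ then c else 1), fun i => ?_, ?_⟩
          · rcases i with (i | i) | i <;> rfl
          · simp [Fintype.prod_sum_type]
      refine ⟨b.constr F fun i => d i • b i, b.ext fun i => ?_, ?_⟩
      · obtain ⟨a, -, ha⟩ := hb i
        rw [End.mul_apply, End.mul_apply, ha, map_smul, b.constr_basis, b.constr_basis, map_smul, ha, hd,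
          smul_comm]
      · rw [← LinearMap.det_toMatrix b, show LinearMap.toMatrix b b (b.constr F fun i => d i • b i) = Matrix.diagonal d from ?_,
          Matrix.det_diagonal, hdp]
        ext i l
        rw [LinearMap.toMatrix_apply, b.constr_basis, map_smul, Finsupp.smul_apply, b.repr_self, Finsupp.single_apply,
          Matrix.diagonal_apply]
        rw [smul_eq_mul]
        rcases eq_or_ne i l with rfl | h1
        · rw [if_pos rfl, if_pos rfl, mul_one]
        · rw [if_neg h1.symm, if_neg h1, mul_zero]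
    · exact CfsgLib.Classical.SemisimpleDet.exists_commute_det T
        (semisimple_of_pow_smul (p := p) T Nat.prime_two (Ne.symm hp2) hz0 hT2) c
  have hdetM : (LinearMap.toMatrix' Z).det = c := by
    rw [LinearMap.det_toMatrix', hdet]
  refine ⟨Matrix.GeneralLinearGroup.mkOfDetNeZero (LinearMap.toMatrix' Z) (hdetM ▸ hc), ?_, hdetM⟩
  apply Matrix.toLin'.injective
  show Matrix.toLin' (LinearMap.toMatrix' Z * M) = Matrix.toLin' (M * LinearMap.toMatrix' Z)
  rw [Matrix.toLin'_mul, Matrix.toLin'_mul, Matrix.toLin'_toMatrix']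
  exact hZ.eq

include hp in
/-- A conjugation in `GL` can be replaced by one in `SL`. -/
theorem exists_sl_conj (hn : 1 ≤ n) (H : Subgroup (GL (Fin n) F)) (x : Matrix.SpecialLinearGroup (Fin n) F)
    {z : F} (hz : (x : Matrix (Fin n) (Fin n) F) ^ 2 = z • 1) (B : GL (Fin n) F)
    (hB : B⁻¹ * Matrix.SpecialLinearGroup.toGL x * B ∈ H) :
    ∃ P : Matrix.SpecialLinearGroup (Fin n) F, P⁻¹ * x * P ∈ H.comap Matrix.SpecialLinearGroup.toGL := by
  have hz0 := sq_scalar_ne_zero hn (by rw [x.det_coe]; exact one_ne_zero) hz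
  have hB0 : (B : Matrix (Fin n) (Fin n) F).det ≠ 0 := (Matrix.GeneralLinearGroup.det B).ne_zero
  obtain ⟨C, hC, hCd⟩ := exists_commute_det_sq (p := p) hn hz0 hz (inv_ne_zero hB0)
  have hCx : Commute C (Matrix.SpecialLinearGroup.toGL x) := Units.ext hC
  have hdet : ((C * B : GL (Fin n) F) : Matrix (Fin n) (Fin n) F).det = 1 := by
    rw [Units.val_mul, Matrix.det_mul, hCd, inv_mul_cancel₀ hB0]
  obtain ⟨P, hP⟩ : ∃ P : Matrix.SpecialLinearGroup (Fin n) F, Matrix.SpecialLinearGroup.toGL P = C * B :=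
    ⟨⟨_, hdet⟩, Units.ext rfl⟩
  refine ⟨P, ?_⟩
  rw [Subgroup.mem_comap, map_mul, map_mul, map_inv]
  rw [hP, mul_inv_rev]
  convert hB using 1
  calc B⁻¹ * C⁻¹ * Matrix.SpecialLinearGroup.toGL x * (C * B)
      = B⁻¹ * (C⁻¹ * (Matrix.SpecialLinearGroup.toGL x * C)) * B := by group
    _ = B⁻¹ * Matrix.SpecialLinearGroup.toGL x * B := by
        rw [← hCx.eq, inv_mul_cancel_left]

omit [Fintype F] hp [CharP F p] in
/-- The matrix of `x` in a basis. -/
theorem exists_conj_toMatrix (g : GL (Fin n) F) (b : Basis (Fin n) F (Fin n → F)) :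
    ∃ B : GL (Fin n) F, ((B⁻¹ * g * B : GL (Fin n) F) : Matrix (Fin n) (Fin n) F) =
      LinearMap.toMatrix b b (Matrix.toLin' (g : Matrix (Fin n) (Fin n) F)) := by
  let e := Pi.basisFun F (Fin n)
  refine ⟨⟨e.toMatrix b, b.toMatrix e, e.toMatrix_mul_toMatrix_flip b, b.toMatrix_mul_toMatrix_flip e⟩, ?_⟩
  rw [Units.val_mul, Units.val_mul, ← basis_toMatrix_mul_linearMap_toMatrix_mul_basis_toMatrix b e b e,
    show LinearMap.toMatrix e e (Matrix.toLin' (g : Matrix (Fin n) (Fin n) F)) = g from ?_]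
  · rfl
  · rw [LinearMap.toMatrix_eq_toMatrix']
    exact LinearMap.toMatrix'_toLin' _

end CfsgLib.Derange
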