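import Mathlib
import Cfsg.Agent.Lib.Derange.InvolutionConj

/-!
Standard forms of matrices with scalar square, and arithmetic of `a ^ n = -1`.
-/

set_option autoImplicit false
set_option linter.style.haveILetI false

namespace CfsgLib.Derange

open Module
open scoped MatrixGroups

variable {F : Type*} [Field F] {n : ℕ}

theorem odd_part {w m o : ℕ} (hm : 1 ≤ m) (h : m = 2 ^ w * o) (hw : w = padicValNat 2 m) : Odd o := by
  rw [← Nat.not_even_iff_odd, even_iff_two_dvd]
  rintro ⟨v, rfl⟩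
  subst hw
  exact pow_succ_padicValNat_not_dvd (p := 2) (n := m) (by omega) ⟨v, by rw [pow_succ, mul_assoc]; exact h⟩

/-- If `(n)_2 < (q - 1)_2` then `-1` is an `n`-th power. -/
theorem exists_pow_eq_neg_one [Fintype F] {q : ℕ} (hq : Fintype.card F = q) (hn : 1 ≤ n)
    (hv : padicValNat 2 n < padicValNat 2 (q - 1)) : ∃ a : F, a ^ n = -1 ∧ (2 : F) ≠ 0 := by
  classical
  obtain ⟨o, ho⟩ : 2 ^ (padicValNat 2 n + 1) ∣ q - 1 :=
    (padicValNat_dvd_iff_le (by
      intro h0; rw [h0, padicValNat_zero_right] at hv; exact Nat.not_lt_zero _ hv)).mpr hv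
  obtain ⟨o', ho'⟩ : 2 ^ padicValNat 2 n ∣ n := pow_padicValNat_dvd
  have hodd' := odd_part hn ho' rfl
  have hq2 : 2 ∣ q - 1 := ho ▸ (dvd_pow_self 2 (Nat.succ_ne_zero _)).mul_right o
  have hq1 : 2 ≤ q := hq ▸ Fintype.one_lt_card
  have h2 : (2 : F) ≠ 0 := by
    refine Ring.two_ne_zero fun h => ?_
    have h1 := FiniteField.even_card_iff_char_two.mp h
    rw [hq] at h1
    omega
  obtain ⟨u, hu⟩ := IsCyclic.exists_generator (α := Fˣ)
  have hord : orderOf u = q - 1 := by
    rw [orderOf_eq_card_of_forall_mem_zpowers hu, Nat.card_eq_fintype_card, Fintype.card_units, hq]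
  have hneg : ((u : F) ^ ((q - 1) / 2)) = -1 := by
    have h1 : ((u : F) ^ ((q - 1) / 2)) * ((u : F) ^ ((q - 1) / 2)) = 1 := by
      rw [← pow_add, show (q - 1) / 2 + (q - 1) / 2 = q - 1 by omega, ← hord, ← Units.val_pow_eq_pow_val,
        pow_orderOf_eq_one, Units.val_one]
    refine (mul_self_eq_one_iff.mp h1).resolve_left fun h1 => ?_
    have h3 := orderOf_dvd_of_pow_eq_one (x := u) (n := (q - 1) / 2) (Units.ext (by
      rw [Units.val_pow_eq_pow_val, h1, Units.val_one]))
    rw [hord] at h3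
    have := Nat.le_of_dvd (by omega) h3
    omega
  refine ⟨(u : F) ^ o, ?_, h2⟩
  rw [← pow_mul, ho', show o * (2 ^ padicValNat 2 n * o') = (q - 1) / 2 * o' by
    rw [ho, pow_succ, show 2 ^ padicValNat 2 n * 2 * o = 2 * (2 ^ padicValNat 2 n * o) by ring,
      Nat.mul_div_cancel_left _ two_pos]
    ring, pow_mul, hneg, hodd'.neg_one_pow]

/-- If `(q - 1)_2 ≤ (n)_2` then `-1` is not an `n`-th power. -/
theorem pow_ne_neg_one [Fintype F] {q : ℕ} (hq : Fintype.card F = q) (h2 : (2 : F) ≠ 0) (hn : 1 ≤ n)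
    (hv : padicValNat 2 (q - 1) ≤ padicValNat 2 n) (a : F) : a ^ n ≠ -1 := by
  intro ha
  have ha0 : a ≠ 0 := by
    rintro rfl
    rw [zero_pow (by omega)] at ha
    exact neg_ne_zero.mpr one_ne_zero ha.symm
  have hq1 : 2 ≤ q := hq ▸ Fintype.one_lt_card
  obtain ⟨o, ho⟩ : 2 ^ padicValNat 2 (q - 1) ∣ q - 1 := pow_padicValNat_dvd
  have hodd := odd_part (by omega) ho rfl
  have hdvd : q - 1 ∣ n * o := by
    rw [ho]
    exact Nat.mul_dvd_mul_right ((pow_dvd_pow 2 hv).trans pow_padicValNat_dvd) o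
  obtain ⟨w, hw⟩ := hdvd
  have h3 : (a ^ n) ^ o = 1 := by
    rw [← pow_mul, hw, pow_mul, ← hq, FiniteField.pow_card_sub_one_eq_one a ha0, one_pow]
  rw [ha, hodd.neg_one_pow] at h3
  exact h2 (by linear_combination -h3)

/-- A non-square: pairs. -/
theorem exists_pair_basis (T : End F (Fin n → F)) {z : F} (hT : T ^ 2 = z • 1) (hz : ¬ IsSquare z) :
    ∃ (j : ℕ) (b : Basis (Fin j ⊕ Fin j) F (Fin n → F)),
      (∀ i, T (b (.inl i)) = b (.inr i)) ∧ ∀ i, T (b (.inr i)) = z • b (.inl i) := by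
  have hz0 : z ≠ 0 := fun h => hz (h ▸ IsSquare.zero)
  have hTT : ∀ w, T (T w) = z • w := fun w => by
    rw [← End.mul_apply, ← sq, hT, LinearMap.smul_apply, End.one_apply]
  obtain ⟨j, k, b, hb⟩ := exists_monomial_basis_aux _ (Fin n → F) (Module.finrank_fin_fun F) T z hz0 hT
  rcases Nat.eq_zero_or_pos k with rfl | hk
  · choose c hc0 hc using hb
    let u : Fin j ⊕ Fin j → Fˣ := Sum.elim 1 fun i => Units.mk0 _ (hc0 (.inl (.inl i)))
    let b' := (b.reindex (Equiv.sumEmpty _ _)).unitsSMul u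
    have h1 : ∀ i, T (b' (.inl i)) = b' (.inr i) := fun i => by
      simp [b', u, Basis.unitsSMul_apply, hc, Units.smul_def]
    exact ⟨j, b', h1, fun i => by rw [← h1, hTT]⟩
  · exfalso
    obtain ⟨c, -, hc⟩ := hb (.inr ⟨0, hk⟩)
    have h := hTT (b (.inr ⟨0, hk⟩))
    simp only [Sum.map_inr, id] at hc
    rw [hc, map_smul, hc, smul_smul] at h
    exact hz ⟨c, (smul_left_injective F (b.ne_zero _) h).symm⟩

/-- A square, odd characteristic: eigenvectors. -/
theorem exists_eigen_basis (h2 : (2 : F) ≠ 0) (T : End F (Fin n → F)) {a : F} (ha0 : a ≠ 0)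
    (hT : T ^ 2 = (a * a) • 1) :
    ∃ (l r : ℕ) (b : Basis (Fin l ⊕ Fin r) F (Fin n → F)), l + r = n ∧
      (∀ i, T (b (.inl i)) = a • b (.inl i)) ∧ (∀ i, T (b (.inr i)) = (-a) • b (.inr i)) ∧
      LinearMap.det T = a ^ l * (-a) ^ r := by
  classical
  have hTT : ∀ w, T (T w) = (a * a) • w := fun w => by
    rw [← End.mul_apply, ← sq, hT, LinearMap.smul_apply, End.one_apply]
  let Ep := LinearMap.ker (T - a • 1)
  let Em := LinearMap.ker (T + a • 1)
  have hp' : ∀ w ∈ Ep, T w = a • w := fun w hw => by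
    simpa [Ep, sub_eq_zero] using hw
  have hm' : ∀ w ∈ Em, T w = -a • w := fun w hw => by
    simpa [Em, add_eq_zero_iff_eq_neg] using hw
  have hcompl : IsCompl Ep Em := by
    constructor
    · rw [Submodule.disjoint_def]
      intro w h1 h3
      have : ((2 : F) * a) • w = 0 := by
        rw [two_mul, add_smul]
        nth_rw 1 [← hp' w h1]
        rw [hm' w h3, neg_smul, neg_add_cancel]
      exact (smul_eq_zero.mp this).resolve_left (mul_ne_zero h2 ha0)
    · rw [codisjoint_iff, eq_top_iff]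
      intro w _
      refine Submodule.mem_sup.mpr ⟨(2 * a)⁻¹ • (T w + a • w), ?_, (2 * a)⁻¹ • (a • w - T w), ?_, ?_⟩
      · simp [Ep, hTT, smul_add, smul_smul]
        module
      · simp [Em, hTT, smul_sub, smul_smul]
        module
      · rw [← smul_add, show T w + a • w + (a • w - T w) = (2 * a) • w by module, smul_smul,
          inv_mul_cancel₀ (mul_ne_zero h2 ha0), one_smul]
  obtain ⟨b, hbl, hbr⟩ : ∃ b : Basis (Fin (finrank F Ep) ⊕ Fin (finrank F Em)) F (Fin n → F),
      (∀ i, b (.inl i) ∈ Ep) ∧ ∀ i, b (.inr i) ∈ Em :=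
    ⟨((Module.finBasis F Ep).prod (Module.finBasis F Em)).map (Submodule.prodEquivOfIsCompl Ep Em hcompl),
      fun i => by simp [Basis.prod_apply], fun i => by simp [Basis.prod_apply]⟩
  refine ⟨_, _, b, by rw [Submodule.finrank_add_eq_of_isCompl hcompl, Module.finrank_fin_fun],
    fun i => hp' _ (hbl i), fun i => hm' _ (hbr i), ?_⟩
  let d : Fin (finrank F Ep) ⊕ Fin (finrank F Em) → F := Sum.elim (fun _ => a) (fun _ => -a)
  have hbd : ∀ i, T (b i) = d i • b i := by
    rintro (i | i)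
    · exact hp' _ (hbl i)
    · exact hm' _ (hbr i)
  rw [← LinearMap.det_toMatrix b, show LinearMap.toMatrix b b T = Matrix.diagonal d from ?_,
    Matrix.det_diagonal, Fintype.prod_sum_type]
  · simp [d]
  · ext i j
    rw [LinearMap.toMatrix_apply, hbd, map_smul, Finsupp.smul_apply, b.repr_self, Finsupp.single_apply,
      Matrix.diagonal_apply, smul_eq_mul]
    rcases eq_or_ne i j with rfl | hij
    · rw [if_pos rfl, if_pos rfl, mul_one]
    · rw [if_neg hij.symm, if_neg hij, mul_zero]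

/-- Matrices acting in the same way on two bases are conjugate. -/
theorem exists_conj_of_bases (g h : GL (Fin n) F) {ι : Type*} [Fintype ι] (c e : Basis ι F (Fin n → F))
    (π : ι → ι) (d : ι → F) (hg : ∀ i, Matrix.toLin' (g : Matrix (Fin n) (Fin n) F) (c i) = d i • c (π i))
    (hh : ∀ i, Matrix.toLin' (h : Matrix (Fin n) (Fin n) F) (e i) = d i • e (π i)) :
    ∃ B : GL (Fin n) F, B⁻¹ * g * B = h := by
  let L : (Fin n → F) ≃ₗ[F] (Fin n → F) := e.equiv c (Equiv.refl ι)
  let B : GL (Fin n) F := ⟨LinearMap.toMatrix' L.toLinearMap, LinearMap.toMatrix' L.symm.toLinearMap,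
    by rw [← LinearMap.toMatrix'_comp, LinearEquiv.comp_symm, LinearMap.toMatrix'_id],
    by rw [← LinearMap.toMatrix'_comp, LinearEquiv.symm_comp, LinearMap.toMatrix'_id]⟩
  refine ⟨B, Units.ext (Matrix.toLin'.injective (e.ext fun i => ?_))⟩
  rw [hh, Units.val_mul, Units.val_mul, Matrix.toLin'_mul, Matrix.toLin'_mul]
  show Matrix.toLin' (LinearMap.toMatrix' L.symm.toLinearMap) (Matrix.toLin' (g : Matrix (Fin n) (Fin n) F)
    (Matrix.toLin' (LinearMap.toMatrix' L.toLinearMap) (e i))) = _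
  rw [Matrix.toLin'_toMatrix', Matrix.toLin'_toMatrix', LinearEquiv.coe_coe, LinearEquiv.coe_coe,
    show L (e i) = c i by simp [L], hg, map_smul, show L.symm (c (π i)) = e (π i) by
      rw [LinearEquiv.symm_apply_eq]; simp [L]]

/-- Non-scalar `2 × 2` matrices with the same scalar square are conjugate. -/
theorem exists_conj_two (hn : n = 2) (g h : GL (Fin n) F) {z : F}
    (hg : (g : Matrix (Fin n) (Fin n) F) ^ 2 = z • 1) (hh : (h : Matrix (Fin n) (Fin n) F) ^ 2 = z • 1)
    (hg' : ∀ c : F, (g : Matrix (Fin n) (Fin n) F) ≠ c • 1) (hh' : ∀ c : F, (h : Matrix (Fin n) (Fin n) F) ≠ c • 1) :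
    ∃ B : GL (Fin n) F, B⁻¹ * g * B = h := by
  classical
  have key : ∀ M : Matrix (Fin n) (Fin n) F, M ^ 2 = z • 1 → (∀ c : F, M ≠ c • 1) →
      ∃ b : Basis (Fin 1 ⊕ Fin 1) F (Fin n → F), ∀ i, Matrix.toLin' M (b i) =
        Sum.elim (fun _ => (1 : F)) (fun _ => z) i • b i.swap := by
    intro M hM hM'
    set T : End F (Fin n → F) := Matrix.toLin' M
    obtain ⟨v, hv⟩ : ∃ v, LinearIndependent F ![v, T v] := by
      by_contra h
      push Not at h
      obtain ⟨a, ha⟩ := (T.exists_eq_smul_id_of_forall_notLinearIndependent h)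
      exact hM' a (Matrix.toLin'.injective (by rw [toLin'_smul_one]; exact ha))
    refine ⟨(basisOfLinearIndependentOfCardEqFinrank hv (by simp [hn])).reindex (finSumFinEquiv (m := 1) (n := 1)).symm,
      fun i => ?_⟩
    have hTT : T (T v) = z • v := by
      rw [← End.mul_apply, ← sq, ← toLin'_pow, hM, toLin'_smul_one, LinearMap.smul_apply, End.one_apply]
    rcases i with i | i
    · simp [Subsingleton.elim i 0, finSumFinEquiv]
    · simp [Subsingleton.elim i 0, finSumFinEquiv]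
      exact hTT
  obtain ⟨c, hc⟩ := key _ hg hg'
  obtain ⟨e, he⟩ := key _ hh hh'
  exact exists_conj_of_bases g h c e Sum.swap _ hc he

end CfsgLib.Derange
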