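import Mathlib
import Cfsg.Agent.Lib.Derange.InvolutionTools
import Cfsg.Prelude.Def_GeometricClasses

/-!
Quadratic field subalgebras of matrix algebras and their normalizers.
-/

set_option autoImplicit false
set_option linter.style.haveILetI false

namespace CfsgLib.Derange

open Module
open scoped Matrix

variable {F : Type*} [Field F] {n : ℕ} {K : Subalgebra F (Matrix (Fin n) (Fin n) F)}

theorem rank_add_le' (A B : Matrix (Fin n) (Fin n) F) : (A + B).rank ≤ A.rank + B.rank := by
  unfold Matrix.rank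
  rw [Matrix.mulVecLin_add]
  refine (Submodule.finrank_mono (LinearMap.range_add_le A.mulVecLin B.mulVecLin)).trans ?_
  exact Submodule.finrank_add_le_finrank_add_finrank _ _

theorem field_mul_ne_zero (hK : Cfsg.Geo.IsFieldSubalgebra 2 K) {a : Matrix (Fin n) (Fin n) F} (ha : a ∈ K)
    (ha0 : a ≠ 0) : IsUnit a := by
  obtain ⟨b, hb, hab⟩ := hK.inv a ha ha0
  exact ⟨⟨a, b, hab, (hK.comm b hb a ha).trans hab⟩, rfl⟩

theorem exists_span (hn : 1 ≤ n) (hK : Cfsg.Geo.IsFieldSubalgebra 2 K) {J : Matrix (Fin n) (Fin n) F} (hJ : J ∈ K)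
    (hJs : ∀ c : F, J ≠ c • 1) {k : Matrix (Fin n) (Fin n) F} (hk : k ∈ K) : ∃ u w : F, k = u • 1 + w • J := by
  haveI : Nonempty (Fin n) := ⟨⟨0, hn⟩⟩
  haveI : FiniteDimensional F (K.toSubmodule : Submodule F (Matrix (Fin n) (Fin n) F)) := inferInstance
  have hli : LinearIndependent F ![(1 : Matrix (Fin n) (Fin n) F), J] :=
    (LinearIndependent.pair_iff' one_ne_zero).mpr fun a ha => hJs a ha.symm
  have heq : Submodule.span F (Set.range ![(1 : Matrix (Fin n) (Fin n) F), J]) = K.toSubmodule := by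
    refine Submodule.eq_of_le_of_finrank_eq (Submodule.span_le.mpr ?_) ?_
    · rintro _ ⟨i, rfl⟩
      fin_cases i
      · exact K.one_mem
      · exact hJ
    · rw [finrank_span_eq_card hli, Fintype.card_fin]
      exact hK.finrank_eq.symm
  have hk' : k ∈ Submodule.span F (Set.range ![(1 : Matrix (Fin n) (Fin n) F), J]) := heq ▸ hk
  rw [Submodule.mem_span_range_iff_exists_fun] at hk'
  obtain ⟨c, hc⟩ := hk'
  exact ⟨c 0, c 1, by rw [← hc, Fin.sum_univ_two]; rfl⟩

/-- Commuting with a generator gives the normalizer. -/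
theorem mem_normalizer_of_commute (hn : 1 ≤ n) (hK : Cfsg.Geo.IsFieldSubalgebra 2 K)
    {J : Matrix (Fin n) (Fin n) F} (hJ : J ∈ K) (hJs : ∀ c : F, J ≠ c • 1) (h : GL (Fin n) F)
    (hc : Commute (h : Matrix (Fin n) (Fin n) F) J) : h ∈ Cfsg.Geo.subalgebraNormalizer K := by
  have key : ∀ g : GL (Fin n) F, Commute (g : Matrix (Fin n) (Fin n) F) J → ∀ k ∈ K,
      (g : Matrix (Fin n) (Fin n) F) * k * ((g⁻¹ : GL (Fin n) F) : Matrix (Fin n) (Fin n) F) = k := by
    intro g hg k hk
    obtain ⟨u, w, rfl⟩ := exists_span hn hK hJ hJs hk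
    have : Commute (g : Matrix (Fin n) (Fin n) F) (u • 1 + w • J) :=
      ((Commute.one_right _).smul_right u).add_right (hg.smul_right w)
    rw [this.eq, mul_assoc, Units.mul_inv, mul_one]
  intro k
  constructor
  · intro hk
    rw [key h hc k hk]
    exact hk
  · intro hk
    have h2 := key h⁻¹ (hc.units_inv_left) _ hk
    rw [inv_inv, ← mul_assoc, ← mul_assoc, Units.inv_mul, one_mul, mul_assoc k, Units.inv_mul, mul_one] at h2
    exact h2 ▸ hk

/-- A conjugate into the normalizer of a scalar multiple of `1 + N`, `N` of rank one: impossible. -/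
theorem not_normalize (hn : 3 ≤ n) (hK : Cfsg.Geo.IsFieldSubalgebra 2 K) (h : GL (Fin n) F) {c : F} (hc : c ≠ 0)
    {N : Matrix (Fin n) (Fin n) F} (hN : N.rank = 1) (hh : (h : Matrix (Fin n) (Fin n) F) = c • (1 + N)) :
    h ∉ Cfsg.Geo.subalgebraNormalizer K := by
  intro hmem
  haveI : Nonempty (Fin n) := ⟨⟨0, by omega⟩⟩
  obtain ⟨θ, hθ, hθs⟩ : ∃ θ ∈ K, ∀ a : F, θ ≠ a • 1 := by
    by_contra hcon
    push Not at hcon
    have hle : K.toSubmodule ≤ Submodule.span F {(1 : Matrix (Fin n) (Fin n) F)} := by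
      intro k hk
      obtain ⟨a, rfl⟩ := hcon k hk
      exact Submodule.smul_mem _ a (Submodule.mem_span_singleton_self _)
    have h1 := Submodule.finrank_mono hle
    rw [finrank_span_singleton one_ne_zero] at h1
    have h2 : Module.finrank F K.toSubmodule = 2 := hK.finrank_eq
    omega
  set θ' := (h : Matrix (Fin n) (Fin n) F) * θ * ((h⁻¹ : GL (Fin n) F) : Matrix (Fin n) (Fin n) F)
  have hθ' : θ' ∈ K := (hmem θ).mp hθ
  have e1 : (h : Matrix (Fin n) (Fin n) F) * θ = θ' * h := by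
    simp [θ', mul_assoc]
  rw [hh, Matrix.smul_mul, Matrix.mul_smul, add_mul, one_mul, mul_add, mul_one] at e1
  have e2 : θ - θ' = θ' * N - N * θ := by
    have := smul_right_injective _ hc e1
    linear_combination (norm := abel) this
  have hr : (θ' * N - N * θ).rank ≤ 2 := by
    rw [sub_eq_add_neg]
    refine (rank_add_le' _ _).trans ?_
    have r1 : (θ' * N).rank ≤ 1 := (Matrix.rank_mul_le_right _ _).trans hN.le
    have r2 : (-(N * θ)).rank ≤ 1 := by
      rw [← neg_mul]
      refine (Matrix.rank_mul_le_left _ _).trans ?_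
      rw [show -N = (-1 : Matrix (Fin n) (Fin n) F) * N by rw [neg_one_mul]]
      exact (Matrix.rank_mul_le_right _ _).trans hN.le
    omega
  by_cases he : θ - θ' = 0
  · -- `θ` commutes with `N`
    rw [he] at e2
    have hcomm : θ * N = N * θ := by
      have : θ' = θ := (sub_eq_zero.mp he).symm
      rw [this] at e2
      exact sub_eq_zero.mp e2.symm
    obtain ⟨v, hv, hv1⟩ := finrank_eq_one_iff'.mp (show finrank F (LinearMap.range N.mulVecLin) = 1 from hN)
    have hmemr : θ.mulVecLin (v : Fin n → F) ∈ LinearMap.range N.mulVecLin := by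
      obtain ⟨y, hy⟩ := v.2
      refine ⟨θ.mulVecLin y, ?_⟩
      rw [← hy]
      simp only [Matrix.mulVecLin_apply, Matrix.mulVec_mulVec, hcomm]
    obtain ⟨a, ha⟩ := hv1 ⟨_, hmemr⟩
    have ha' : θ *ᵥ (v : Fin n → F) = a • (v : Fin n → F) := (congrArg Subtype.val ha).symm
    have hd : θ - a • 1 ∈ K := K.sub_mem hθ (K.smul_mem K.one_mem a)
    have hu := field_mul_ne_zero hK hd (sub_ne_zero.mpr (hθs a))
    have : (θ - a • 1) *ᵥ (v : Fin n → F) = 0 := by
      rw [Matrix.sub_mulVec, Matrix.smul_mulVec, Matrix.one_mulVec, ha', sub_self]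
    exact hv (Subtype.ext (Matrix.mulVec_injective_iff_isUnit.mpr hu (by rw [this]; simp)))
  · have hu := field_mul_ne_zero hK (K.sub_mem hθ hθ') he
    have := Matrix.rank_of_isUnit _ hu
    rw [Fintype.card_fin, e2] at this
    omega

/-- Every element of `F` is a square in `K`. -/
theorem exists_sq [Fintype F] (hn : 1 ≤ n) (hK : Cfsg.Geo.IsFieldSubalgebra 2 K) (z : F) :
    ∃ J ∈ K, J ^ 2 = z • (1 : Matrix (Fin n) (Fin n) F) := by
  classical
  haveI : Nonempty (Fin n) := ⟨⟨0, hn⟩⟩
  have hF : IsField K := by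
    refine ⟨exists_pair_ne _, fun a b => Subtype.ext (hK.comm a a.2 b b.2), fun {a} ha => ?_⟩
    obtain ⟨b, hb, hab⟩ := hK.inv a a.2 fun h => ha (Subtype.ext h)
    exact ⟨⟨b, hb⟩, Subtype.ext hab⟩
  letI := hF.toField
  haveI : Finite K := Finite.of_injective Subtype.val Subtype.val_injective
  haveI := Fintype.ofFinite K
  suffices h : IsSquare (algebraMap F K z) by
    obtain ⟨J, hJ⟩ := h
    refine ⟨J, J.2, ?_⟩
    rw [sq]
    exact (congrArg Subtype.val hJ).symm.trans (Algebra.algebraMap_eq_smul_one z)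
  rcases eq_or_ne z 0 with rfl | hz
  · rw [map_zero]; exact IsSquare.zero
  have hcard : Fintype.card K = Fintype.card F ^ 2 := by
    rw [← Nat.card_eq_fintype_card, ← Nat.card_eq_fintype_card, Module.natCard_eq_pow_finrank (K := F), hK.finrank_eq]
  by_cases h2 : ringChar K = 2
  · exact FiniteField.isSquare_of_char_two h2 _
  rw [FiniteField.isSquare_iff h2 ((map_ne_zero_iff _ (FaithfulSMul.algebraMap_injective F K)).mpr hz), hcard]
  have hodd : Fintype.card F % 2 = 1 := by
    have := FiniteField.odd_card_of_char_ne_two h2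
    rw [hcard, Nat.pow_mod] at this
    rcases Nat.mod_two_eq_zero_or_one (Fintype.card F) with h | h
    · simp [h] at this
    · exact h
  obtain ⟨t, ht⟩ : ∃ t, Fintype.card F = 2 * t + 1 := ⟨Fintype.card F / 2, by omega⟩
  rw [ht, show (2 * t + 1) ^ 2 / 2 = (2 * t) * (t + 1) by
    rw [show (2 * t + 1) ^ 2 = 2 * ((2 * t) * (t + 1)) + 1 by ring]; omega, pow_mul, ← map_pow,
    show 2 * t = Fintype.card F - 1 by omega, FiniteField.pow_card_sub_one_eq_one z hz, map_one, one_pow]

/-- Dimension two: a semilinear map of square `a ^ 2`. -/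
theorem exists_semilinear_two [Fintype F] (hn2 : n = 2) (hK : Cfsg.Geo.IsFieldSubalgebra 2 K) {a : F} (ha0 : a ≠ 0) :
    ∃ g : GL (Fin n) F, (g : Matrix (Fin n) (Fin n) F) ^ 2 = (a * a) • 1 ∧
      (∀ c : F, (g : Matrix (Fin n) (Fin n) F) ≠ c • 1) ∧ g ∈ Cfsg.Geo.subalgebraNormalizer K := by
  classical
  have hn1 : 1 ≤ n := by omega
  haveI : Nonempty (Fin n) := ⟨⟨0, hn1⟩⟩
  have hz0 : a * a ≠ 0 := mul_ne_zero ha0 ha0
  obtain ⟨θ, hθ, hθs⟩ : ∃ θ ∈ K, ∀ b : F, θ ≠ b • 1 := by
    by_contra hcon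
    push Not at hcon
    have hle : K.toSubmodule ≤ Submodule.span F {(1 : Matrix (Fin n) (Fin n) F)} := by
      intro k hk
      obtain ⟨b, rfl⟩ := hcon k hk
      exact Submodule.smul_mem _ b (Submodule.mem_span_singleton_self _)
    have h1 := Submodule.finrank_mono hle
    rw [finrank_span_singleton one_ne_zero] at h1
    have h2 : Module.finrank F K.toSubmodule = 2 := hK.finrank_eq
    omega
  obtain ⟨β, α, hθ2⟩ := exists_span hn1 hK hθ hθs (K.mul_mem hθ hθ)
  set T := Matrix.toLin' θ with hTdef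
  have hTT : ∀ w, T (T w) = β • w + α • T w := fun w => by
    rw [hTdef, ← LinearMap.comp_apply, ← Matrix.toLin'_mul, hθ2, map_add, map_smul, map_smul, Matrix.toLin'_one]
    rfl
  obtain ⟨v, hv⟩ : ∃ v, LinearIndependent F ![v, T v] := by
    by_contra h
    push Not at h
    obtain ⟨b, hb⟩ := T.exists_eq_smul_id_of_forall_notLinearIndependent h
    exact hθs b (Matrix.toLin'.injective (by rw [toLin'_smul_one]; exact hb))
  obtain ⟨e, he⟩ : ∃ e : Module.Basis (Fin 2) F (Fin n → F), e 0 = v ∧ e 1 = T v :=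
    ⟨basisOfLinearIndependentOfCardEqFinrank hv (by simp [hn2]), by simp, by simp⟩
  set Y : Module.End F (Fin n → F) := e.constr F ![a • v, a • (α • v - T v)]
  have hY0 : Y v = a • v := by
    have := e.constr_basis F ![a • v, a • (α • v - T v)] 0
    rwa [he.1] at this
  have hY1 : Y (T v) = a • (α • v - T v) := by
    have := e.constr_basis F ![a • v, a • (α • v - T v)] 1
    rwa [he.2] at this
  have hY2 : Y ^ 2 = (a * a) • 1 := by
    refine e.ext fun i => ?_
    rw [sq, Module.End.mul_apply, LinearMap.smul_apply, Module.End.one_apply]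
    fin_cases i
    · show Y (Y (e 0)) = (a * a) • e 0
      rw [he.1, hY0, map_smul, hY0, smul_smul]
    · show Y (Y (e 1)) = (a * a) • e 1
      rw [he.2, hY1, map_smul, map_sub, map_smul, hY0, hY1, smul_smul]
      module
  set M := LinearMap.toMatrix' Y
  have hM2 : M ^ 2 = (a * a) • 1 := Matrix.toLin'.injective (by
    rw [toLin'_pow, Matrix.toLin'_toMatrix', hY2, toLin'_smul_one])
  have hMs : ∀ c : F, M ≠ c • 1 := by
    intro c hc
    have h1 : Y = c • 1 := by
      rw [← toLin'_smul_one, ← hc, Matrix.toLin'_toMatrix']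
    have e0 : a • v = c • v := by rw [← hY0, h1]; rfl
    have e1 : a • (α • v - T v) = c • T v := by rw [← hY1, h1]; rfl
    have h3 : (a * α) • v + (-a - c) • T v = 0 := by
      have := sub_eq_zero.mpr e1
      rw [← this]
      module
    have h4 := LinearIndependent.pair_iff.mp hv _ _ h3
    have h5 : (a - c) • v = 0 := by rw [sub_smul, e0, sub_self]
    have h6 : a = c := sub_eq_zero.mp ((smul_eq_zero.mp h5).resolve_right (hv.ne_zero (0 : Fin 2)))
    -- `θ + θ' = α = 0` and characteristic two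
    have h7 : (2 : F) = 0 := by
      have h8 := h4.2
      rw [← h6] at h8
      have : (2 : F) * a = 0 := by linear_combination -h8
      exact (mul_eq_zero.mp this).resolve_right ha0
    have h9 : α = 0 := (mul_eq_zero.mp h4.1).resolve_left ha0
    haveI : CharP F 2 := CharTwo.of_one_ne_zero_of_two_eq_zero one_ne_zero h7
    obtain ⟨b, hb⟩ := FiniteField.isSquare_of_char_two (ringChar.eq F 2) β
    have hd : θ - b • 1 ∈ K := K.sub_mem hθ (K.smul_mem K.one_mem b)
    have hu := field_mul_ne_zero hK hd (sub_ne_zero.mpr (hθs b))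
    have hz : (θ - b • 1) * (θ - b • 1) = 0 := by
      have hbb : (b : F) + b = 0 := CharTwo.add_self_eq_zero b
      simp only [sub_mul, mul_sub, Matrix.smul_mul, Matrix.mul_smul, one_mul, mul_one, hθ2, h9, zero_smul,
        add_zero, smul_smul, hb]
      rw [show (b * b) • (1 : Matrix (Fin n) (Fin n) F) - b • θ - (b • θ - (b * b) • 1) =
        (b * b + b * b) • 1 - (b + b) • θ by module, hbb, CharTwo.add_self_eq_zero, zero_smul, zero_smul, sub_zero]
    exact (hu.mul hu).ne_zero hz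
  obtain ⟨g, hg⟩ : ∃ g : GL (Fin n) F, (g : Matrix (Fin n) (Fin n) F) = M :=
    ⟨⟨M, (a * a)⁻¹ • M, by rw [Matrix.mul_smul, ← pow_two M, hM2, smul_smul, inv_mul_cancel₀ hz0, one_smul],
      by rw [Matrix.smul_mul, ← pow_two M, hM2, smul_smul, inv_mul_cancel₀ hz0, one_smul]⟩, rfl⟩
  refine ⟨g, by rw [hg]; exact hM2, fun c => by rw [hg]; exact hMs c, ?_⟩
  have hginv : ((g⁻¹ : GL (Fin n) F) : Matrix (Fin n) (Fin n) F) = (a * a)⁻¹ • M := by
    refine Units.inv_eq_of_mul_eq_one_right ?_
    rw [hg, Matrix.mul_smul, ← pow_two M, hM2, smul_smul, inv_mul_cancel₀ hz0, one_smul]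
  have hconjθ : (g : Matrix (Fin n) (Fin n) F) * θ * ((g⁻¹ : GL (Fin n) F) : Matrix (Fin n) (Fin n) F) =
      α • 1 - θ := by
    rw [hg, hginv]
    refine Matrix.toLin'.injective (e.ext fun i => ?_)
    rw [Matrix.mul_smul, map_smul, Matrix.toLin'_mul, Matrix.toLin'_mul, map_sub,
      toLin'_smul_one, Matrix.toLin'_toMatrix']
    fin_cases i
    · show (a * a)⁻¹ • Y (T (Y (e 0))) = α • e 0 - T (e 0)
      rw [he.1, hY0, map_smul, map_smul, hY1, smul_smul, smul_smul,
        mul_assoc, inv_mul_cancel₀ hz0, one_smul]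
    · show (a * a)⁻¹ • Y (T (Y (e 1))) = α • e 1 - T (e 1)
      rw [he.2, hY1, map_smul, map_sub, map_smul, hTT, map_smul, map_sub, map_smul, hY1, map_add, map_smul,
        map_smul, hY0, hY1]
      simp only [smul_sub, smul_add, smul_smul]
      match_scalars <;> field_simp <;> ring
  intro k
  constructor
  · intro hk
    obtain ⟨u, w, rfl⟩ := exists_span hn1 hK hθ hθs hk
    rw [mul_add, add_mul, Matrix.mul_smul, Matrix.mul_smul, Matrix.smul_mul, Matrix.smul_mul, mul_one,
      Units.mul_inv, hconjθ]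
    exact K.add_mem (K.smul_mem K.one_mem u)
      (K.smul_mem (K.sub_mem (K.smul_mem K.one_mem α) hθ) w)
  · intro hk
    obtain ⟨u, w, he'⟩ := exists_span hn1 hK hθ hθs hk
    have h1 : k = ((g⁻¹ : GL (Fin n) F) : Matrix (Fin n) (Fin n) F) * (u • 1 + w • θ) * g := by
      rw [← he', ← mul_assoc, ← mul_assoc, Units.inv_mul, one_mul, mul_assoc, Units.inv_mul, mul_one]
    have h2 : ((g⁻¹ : GL (Fin n) F) : Matrix (Fin n) (Fin n) F) * θ * g = α • 1 - θ := by
      rw [← hconjθ, hginv, hg, Matrix.smul_mul, Matrix.smul_mul, Matrix.mul_smul]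
    rw [h1, mul_add, add_mul, Matrix.mul_smul, Matrix.mul_smul, Matrix.smul_mul, Matrix.smul_mul, mul_one,
      Units.inv_mul, h2]
    exact K.add_mem (K.smul_mem K.one_mem u)
      (K.smul_mem (K.sub_mem (K.smul_mem K.one_mem α) hθ) w)

end CfsgLib.Derange
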