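import Cfsg.Agent.Lib.Classical.UnitaryPair
import Cfsg.Agent.Lib.Classical.UnitaryOrder
import Cfsg.Agent.Lib.Classical.IsoProd
import Cfsg.Agent.Lib.SUParabolic.Frames

/-!
Dual systems of totally singular vectors in Hermitian spaces, and the unitary elements stabilising a
pair of complementary totally singular subspaces.
-/

set_option autoImplicit false
set_option linter.unusedSectionVars false
set_option linter.style.haveILetI false

namespace CfsgLib.Derange.UPair

open Matrix Cfsg Module
open CfsgLib.Classical.Herm CfsgLib.Classical.HermPair CfsgLib.SUParabolic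
open CfsgLib.ClassicalAut (Unitary.Conj Unitary.det1 Unitary.normOne Unitary.mem_normOne Unitary.herm_apply)

variable {F : Type*} [Field F] [Finite F] {q : ℕ} (K : Unitary.Conj F q) {n m : ℕ}

local notation "H" => hermForm n F q
local notation "V" => (Fin n → F)

/-- The linear map of an invertible matrix. -/
abbrev lmap (g : GL (Fin n) F) : End F V := Matrix.toLin' (g : Matrix (Fin n) (Fin n) F)

theorem lmap_mul (g h : GL (Fin n) F) (v : V) : lmap (g * h) v = lmap g (lmap h v) := by
  simp [lmap, Matrix.toLin'_mul]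

theorem lmap_inv (g : GL (Fin n) F) (v : V) : lmap g⁻¹ (lmap g v) = v := by
  rw [← lmap_mul, inv_mul_cancel]
  simp [lmap]

theorem lmap_inv' (g : GL (Fin n) F) (v : V) : lmap g (lmap g⁻¹ v) = v := by
  rw [← lmap_mul, mul_inv_cancel]
  simp [lmap]

theorem lmap_injective (g : GL (Fin n) F) : Function.Injective (lmap g) :=
  Function.LeftInverse.injective (lmap_inv g)

theorem lmap_h {g : GL (Fin n) F} (hg : g ∈ GU n F q) (u v : V) : H (lmap g u) (lmap g v) = H u v := by
  have := hg u v
  simpa [lmap, Matrix.toLin'_apply] using this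

theorem bar_mul_self_ne {a : F} (ha : a * K.bar a = 1) : a ≠ 0 := fun h => by simp [h] at ha

include K in
theorem h_sum_left {ι : Type*} (s : Finset ι) (f : ι → V) (y : V) : H (∑ i ∈ s, f i) y = ∑ i ∈ s, H (f i) y :=
  map_sum (AddMonoidHom.mk' (fun v => H v y) fun a b => h_add_left K a b y) f s

/-! ### Dual systems -/

/-- A dual system of totally singular vectors. -/
structure Dual (q : ℕ) (e f : Fin m → (Fin n → F)) : Prop where
  ee : ∀ i j, hermForm n F q (e i) (e j) = 0
  ff : ∀ i j, hermForm n F q (f i) (f j) = 0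
  ef : ∀ i j, hermForm n F q (e i) (f j) = if i = j then 1 else 0

variable {e f e' f' : Fin m → (Fin n → F)}

include K in
theorem Dual.fe (D : Dual q e f) (i j : Fin m) : H (f i) (e j) = if i = j then 1 else 0 := by
  rw [h_swap K (e j) (f i), D.ef]
  by_cases h : i = j
  · simp [h]
  · simp [h, Ne.symm h]

include K in
theorem Dual.linearIndependent (D : Dual q e f) : LinearIndependent F (Sum.elim e f) := by
  rw [Fintype.linearIndependent_iff]
  intro c hc
  rw [Fintype.sum_sum_type] at hc
  simp only [Sum.elim_inl, Sum.elim_inr] at hc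
  rintro (j | j)
  · have := congrArg (fun v => H v (f j)) hc
    simpa [h_add_left K, h_sum_left K, h_smul_left K, D.ef, D.ff, h_zero_left K] using this
  · have := congrArg (fun v => H v (e j)) hc
    simpa [h_add_left K, h_sum_left K, h_smul_left K, D.fe K, D.ee, h_zero_left K] using this

/-- The basis of a dual system. -/
noncomputable def Dual.basis (D : Dual q e f) (hn : 0 < m) (hnm : m + m = n) : Basis (Fin m ⊕ Fin m) F V :=
  haveI : Nonempty (Fin m ⊕ Fin m) := ⟨Sum.inl ⟨0, hn⟩⟩
  basisOfLinearIndependentOfCardEqFinrank (D.linearIndependent K) (by simp [hnm])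

theorem Dual.basis_apply (D : Dual q e f) (hn : 0 < m) (hnm : m + m = n) (i : Fin m ⊕ Fin m) :
    D.basis K hn hnm i = Sum.elim e f i := by
  simp [Dual.basis]

include K in
/-- A linear map preserving the Gram matrix of a basis is an isometry. -/
theorem iso_of_basis {ι : Type*} (b : Basis ι F V) (T : End F V)
    (h : ∀ i j, H (T (b i)) (T (b j)) = H (b i) (b j)) (u v : V) : H (T u) (T v) = H u v := by
  have key : ∀ j, ∀ u, H (T u) (T (b j)) = H u (b j) := fun j u => by
    have e1 : (CfsgLib.Classical.IsoProd.hermSesq K n (T (b j))).comp T = CfsgLib.Classical.IsoProd.hermSesq K n (b j) :=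
      b.ext fun i => h i j
    exact LinearMap.congr_fun e1 u
  have e2 : (CfsgLib.Classical.IsoProd.hermSesq K n (T v)).comp T = CfsgLib.Classical.IsoProd.hermSesq K n v :=
    b.ext fun i => show H (T (b i)) (T v) = H (b i) v by
      rw [h_swap K (T v) (T (b i)), key, ← h_swap K v (b i)]
  exact LinearMap.congr_fun e2 u

include K in
/-- Two dual systems are related by a unitary map. -/
theorem exists_move (hn : 0 < m) (hnm : m + m = n) (D : Dual q e f) (D' : Dual q e' f') :
    ∃ g : GU n F q, ∀ i, lmap (g : GL (Fin n) F) (e i) = e' i ∧ lmap (g : GL (Fin n) F) (f i) = f' i := by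
  let T : End F V := (D.basis K hn hnm).constr ℕ (Sum.elim e' f')
  have hT : ∀ i, T (Sum.elim e f i) = Sum.elim e' f' i := fun i => by
    rw [← D.basis_apply K hn hnm]; exact Basis.constr_basis _ _ _ i
  have hiso := iso_of_basis K (D.basis K hn hnm) T fun i j => by
    rw [D.basis_apply, D.basis_apply, hT, hT]
    rcases i with i | i <;> rcases j with j | j <;>
      simp [D.ee, D.ff, D.ef, D.fe K, D'.ee, D'.ff, D'.ef, D'.fe K]
  have hinj : Function.Injective T := by
    refine (injective_iff_map_eq_zero T).2 fun x hx => h_nondeg K fun y => ?_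
    rw [← hiso, hx, h_zero_left K]
  obtain ⟨g, hg⟩ := exists_GU T hiso hinj
  have hg' : ∀ v, lmap (g : GL (Fin n) F) v = T v := fun v => by
    rw [← hg, gap, lmap, Matrix.toLin'_apply]
  exact ⟨g, fun i => ⟨(hg' _).trans (hT (Sum.inl i)), (hg' _).trans (hT (Sum.inr i))⟩⟩

/-- The determinant of a map with an eigenbasis. -/
theorem det_of_eigenbasis {ι : Type*} [Fintype ι] {W : Type*} [AddCommGroup W] [Module F W] (b : Basis ι F W)
    (T : End F W) (c : ι → F) (h : ∀ i, T (b i) = c i • b i) : LinearMap.det T = ∏ i, c i := by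
  classical
  have : LinearMap.toMatrix b b T = Matrix.diagonal c := by
    ext i j
    rw [LinearMap.toMatrix_apply, h, map_smul, Basis.repr_self]
    by_cases hij : i = j
    · simp [hij]
    · simp [hij]
  rw [← LinearMap.det_toMatrix b, this, Matrix.det_diagonal]

include K in
theorem exists_ratio {d : F} (hd : d * K.bar d = 1) : ∃ a : F, a ≠ 0 ∧ a * (K.bar a)⁻¹ * d = 1 := by
  obtain ⟨c, hc⟩ : ∃ c : F, c + K.bar d * K.bar c ≠ 0 := by
    by_contra hall
    push Not at hall
    have h1 := hall 1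
    rw [map_one, mul_one] at h1
    obtain ⟨y, hy⟩ := K.exists_moved
    exact hy (by linear_combination K.bar y * h1 - hall y)
  refine ⟨c + K.bar d * K.bar c, hc, ?_⟩
  have e : K.bar (c + K.bar d * K.bar c) = d * (c + K.bar d * K.bar c) := by
    rw [map_add, map_mul, K.bar_bar, K.bar_bar]
    linear_combination (-(K.bar c)) * hd
  have hd0 := bar_mul_self_ne K hd
  rw [e]
  field_simp

include K in
/-- Two dual systems are related, up to scalars, by a special unitary map. -/
theorem exists_move_special (hn : 0 < m) (hnm : m + m = n) (D : Dual q e f) (D' : Dual q e' f') :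
    ∃ g ∈ GU n F q ⊓ Cfsg.Geo.specialLinear (Fin n) F, ∀ i,
      (∃ c : F, c ≠ 0 ∧ lmap g (e i) = c • e' i) ∧ ∃ c : F, c ≠ 0 ∧ lmap g (f i) = c • f' i := by
  classical
  obtain ⟨g, hg⟩ := exists_move K hn hnm D D'
  set d : F := ((g : GL (Fin n) F) : Matrix (Fin n) (Fin n) F).det with hd
  have hdn : d * K.bar d = 1 := (Unitary.mem_normOne K).1 (Unitary.det1 n K g).2
  obtain ⟨a, ha0, ha⟩ := exists_ratio K hdn
  have hba : K.bar a ≠ 0 := (map_ne_zero K.bar).2 ha0
  set i₀ : Fin m := ⟨0, hn⟩
  set s : Fin m → F := fun i => if i = i₀ then a else 1 with hs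
  have hs0 : ∀ i, s i ≠ 0 := fun i => by rw [hs]; dsimp only; split <;> simp [ha0]
  have D'' : Dual q (fun i => s i • e' i) (fun i => (K.bar (s i))⁻¹ • f' i) :=
    { ee := fun i j => by rw [h_smul_left K, h_smul_right K, D'.ee, mul_zero, mul_zero]
      ff := fun i j => by rw [h_smul_left K, h_smul_right K, D'.ff, mul_zero, mul_zero]
      ef := fun i j => by
        rw [h_smul_left K, h_smul_right K, D'.ef, map_inv₀, K.bar_bar]
        split
        · subst j; rw [mul_one, mul_inv_cancel₀ (hs0 i)]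
        · rw [mul_zero, mul_zero] }
  obtain ⟨h, hh⟩ := exists_move K hn hnm D' D''
  have hdh : ((h : GL (Fin n) F) : Matrix (Fin n) (Fin n) F).det = a * (K.bar a)⁻¹ := by
    rw [← LinearMap.det_toLin', det_of_eigenbasis (D'.basis K hn hnm) _ (Sum.elim s fun i => (K.bar (s i))⁻¹)
      (by rintro (i | i) <;> rw [D'.basis_apply] <;> simp [hh i]), Fintype.prod_sum_type]
    simp only [Sum.elim_inl, Sum.elim_inr]
    rw [Finset.prod_eq_single i₀ (fun i _ hi => by simp [hs, hi]) (by simp),
      Finset.prod_eq_single i₀ (fun i _ hi => by simp [hs, hi]) (by simp)]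
    simp [hs]
  refine ⟨(h : GL (Fin n) F) * (g : GL (Fin n) F), ⟨mul_mem h.2 g.2, MonoidHom.mem_ker.2 (Units.ext ?_)⟩, fun i => ?_⟩
  · rw [GeneralLinearGroup.val_det_apply, Units.val_mul, det_mul, hdh, ← hd, Units.val_one]
    exact ha
  · refine ⟨⟨s i, hs0 i, ?_⟩, ⟨(K.bar (s i))⁻¹, inv_ne_zero ((map_ne_zero K.bar).2 (hs0 i)), ?_⟩⟩
    · rw [lmap_mul, (hg i).1, (hh i).1]
    · rw [lmap_mul, (hg i).2, (hh i).2]

include K in
/-- A polarisation carries a dual system. -/
theorem exists_dual {U W : Submodule F V} (P : Pol q m U W) :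
    ∃ e f : Fin m → V, Dual q e f ∧ (∀ i, e i ∈ U) ∧ ∀ i, f i ∈ W := by
  let b := Module.finBasisOfFinrankEq F U P.dimU
  have hsep : ∀ i, ∃ f ∈ W, (∀ j, j ≠ i → H (b j : V) f = 0) ∧ H (b i : V) f = 1 := by
    intro i
    have hnot : (b i : V) ∉ Submodule.span F ((fun j => (b j : V)) '' {j | j ≠ i}) :=
      (b.linearIndependent.map' U.subtype (Submodule.ker_subtype U)).notMem_span_image (by simp)
    obtain ⟨f, hf, hfQ, hf1⟩ := exists_sep K P
      (Submodule.span_le.2 (by rintro _ ⟨j, -, rfl⟩; exact (b j).2)) (b i).2 hnot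
    exact ⟨f, hf, fun j hj => hfQ _ (Submodule.subset_span ⟨j, hj, rfl⟩), hf1⟩
  choose f hfW hf0 hf1 using hsep
  refine ⟨fun i => (b i : V), f, ⟨fun i j => P.u0 _ (b i).2 _ (b j).2, fun i j => P.w0 _ (hfW i) _ (hfW j),
    fun i j => ?_⟩, fun i => (b i).2, hfW⟩
  split
  · subst j; exact hf1 i
  · exact hf0 j i ‹_›

include K in
/-- A matrix with eigenvectors forming a dual system in `(D 0, D 1)` stabilises `D`. -/
theorem mem_stab_of_eigen {D : Fin 2 → Submodule F V} (hD : Cfsg.Geo.IsMDecomposition m D) (E : Dual q e f)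
    (he : ∀ i, e i ∈ D 0) (hf : ∀ i, f i ∈ D 1) (y : GL (Fin n) F)
    (hye : ∀ i, ∃ c : F, lmap y (e i) = c • e i) (hyf : ∀ i, ∃ c : F, lmap y (f i) = c • f i) :
    y ∈ Cfsg.Geo.decompositionStabilizer D := by
  have hli := E.linearIndependent K
  have span_eq : ∀ (U : Submodule F V) (u : Fin m → V), (∀ i, u i ∈ U) → LinearIndependent F u →
      finrank F U = m → Submodule.span F (Set.range u) = U := fun U u hu hl hd =>
    Submodule.eq_of_le_of_finrank_le (Submodule.span_le.2 (Set.range_subset_iff.2 hu))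
      (by rw [finrank_span_eq_card hl, hd, Fintype.card_fin])
  have key : ∀ (U : Submodule F V) (u : Fin m → V), (∀ i, u i ∈ U) → LinearIndependent F u →
      finrank F U = m → (∀ i, ∃ c : F, lmap y (u i) = c • u i) → U.map (lmap y) = U := by
    intro U u hu hl hd hy
    refine Submodule.eq_of_le_of_finrank_le ?_ (le_of_eq ?_)
    · rw [← span_eq U u hu hl hd, Submodule.map_span, Submodule.span_le]
      rintro _ ⟨_, ⟨i, rfl⟩, rfl⟩
      obtain ⟨c, hc⟩ := hy i
      rw [SetLike.mem_coe, hc]
      exact Submodule.smul_mem _ _ (Submodule.subset_span ⟨i, rfl⟩)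
    · exact LinearEquiv.finrank_eq (Submodule.equivMapOfInjective _ (lmap_injective y) U)
  refine ⟨1, fun i => ?_⟩
  fin_cases i
  · exact key _ e he (by simpa using hli.comp _ Sum.inl_injective) (hD.finrank_eq 0) hye
  · exact key _ f hf (by simpa using hli.comp _ Sum.inr_injective) (hD.finrank_eq 1) hyf

include K in
/-- An element with an eigen dual system has a special unitary conjugate stabilising `D`. -/
theorem exists_conj_stab {D : Fin 2 → Submodule F V} (hnm : m + m = n) (hD : Cfsg.Geo.IsMDecomposition m D)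
    (hts : ∀ i, Cfsg.Geo.IsTotallySingularFor (H) (D i)) (x : GL (Fin n) F) (E : Dual q e f)
    (hxe : ∀ i, ∃ c : F, lmap x (e i) = c • e i) (hxf : ∀ i, ∃ c : F, lmap x (f i) = c • f i) :
    ∃ g ∈ GU n F q ⊓ Cfsg.Geo.specialLinear (Fin n) F, g⁻¹ * x * g ∈ Cfsg.Geo.decompositionStabilizer D := by
  obtain ⟨e₀, f₀, E₀, he₀, hf₀⟩ := exists_dual K (pol_of hD hts)
  obtain ⟨g, hg, hge⟩ := exists_move_special K hD.pos hnm E₀ E
  have key : ∀ u u' : V, (∃ c : F, lmap x u' = c • u') → (∃ c : F, c ≠ 0 ∧ lmap g u = c • u') →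
      ∃ c : F, lmap (g⁻¹ * x * g) u = c • u := by
    rintro u u' ⟨c, hc⟩ ⟨s, hs, hgu⟩
    refine ⟨c, ?_⟩
    rw [lmap_mul, lmap_mul, hgu, map_smul, hc, smul_comm, map_smul, ← hgu, lmap_inv]
  exact ⟨g, hg, mem_stab_of_eigen K hD E₀ he₀ hf₀ _ (fun i => key _ _ (hxe i) (hge i).1)
    fun i => key _ _ (hxf i) (hge i).2⟩

/-! ### Elements with scalar square -/

include K in
/-- A nondegenerate subspace has an orthonormal basis. -/
theorem exists_onb {U : Submodule F V} (hU : Nondeg (q := q) U) :
    ∃ w : Fin (finrank F U) → V, (∀ i, w i ∈ U) ∧ ∀ i j, H (w i) (w j) = if i = j then 1 else 0 := by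
  let B : U →ₛₗ[K.bar.toRingHom] U →ₗ[F] F :=
    LinearMap.mk₂'ₛₗ K.bar.toRingHom (RingHom.id F) (fun v u : U => H (u : V) (v : V))
      (fun a b u => by simp [h_add_right K]) (fun c a u => by simp [h_smul_right K])
      (fun v a b => by simp [h_add_left K]) (fun c v a => by simp [h_smul_left K])
  obtain ⟨b, hb⟩ := CfsgLib.Forms.exists_orthonormal_basis K.bar.toRingHom
    (fun h => by
      obtain ⟨y, hy⟩ := K.exists_moved
      exact hy (RingHom.congr_fun h y))
    K.bar_bar B (fun x y => (h_swap K (y : V) (x : V)).symm) (fun v hv => by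
      by_contra h0
      obtain ⟨y, hy, hvy⟩ := hU v v.2 (fun h => h0 (Subtype.ext h))
      exact h_ne_zero_symm K hvy (hv ⟨y, hy⟩))
  refine ⟨fun i => (b i : V), fun i => (b i).2, fun i j => ?_⟩
  have : H (b i : V) (b j : V) = if j = i then 1 else 0 := hb j i
  rw [this]
  exact if_congr eq_comm rfl rfl

include K in
/-- An orthonormal family of eigenvectors, paired by equal eigenvalues, gives an eigen dual system. -/
theorem exists_dual_of_pairs (h2 : (2 : F) ≠ 0) {ι : Type*} [Fintype ι] [DecidableEq ι] (hι : Fintype.card ι = m)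
    (w : ι × Fin 2 → V) (hw : ∀ s t, H (w s) (w t) = if s = t then 1 else 0) (x : End F V) (c : ι → F)
    (hx : ∀ s, x (w s) = c s.1 • w s) :
    ∃ e f : Fin m → V, Dual q e f ∧ (∀ i, ∃ a : F, x (e i) = a • e i) ∧ ∀ i, ∃ a : F, x (f i) = a • f i := by
  obtain ⟨α, hα⟩ := K.exists_norm (-1) (by rw [map_neg, map_one])
  let σ := (Fintype.equivFinOfCardEq hι).symm
  have hb2 : K.bar (2⁻¹ : F) = 2⁻¹ := by rw [map_inv₀, map_ofNat]
  refine ⟨fun i => w (σ i, 0) + α • w (σ i, 1), fun i => (2⁻¹ : F) • (w (σ i, 0) - α • w (σ i, 1)),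
    ⟨fun i j => ?_, fun i j => ?_, fun i j => ?_⟩, fun i => ⟨c (σ i), ?_⟩, fun i => ⟨c (σ i), ?_⟩⟩
  · simp only [h_add_left K, h_add_right K, h_smul_left K, h_smul_right K, hw, Prod.ext_iff]
    by_cases h : i = j
    · simp [h]; linear_combination hα
    · simp [σ.injective.ne h]
  · simp only [h_sub_left K, h_sub_right K, h_smul_left K, h_smul_right K, hw, Prod.ext_iff, hb2]
    by_cases h : i = j
    · simp [h]; exact Or.inr (by linear_combination (2⁻¹ : F) * hα)
    · simp [σ.injective.ne h]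
  · simp only [h_add_left K, h_sub_right K, h_smul_left K, h_smul_right K, hw, Prod.ext_iff, hb2]
    by_cases h : i = j
    · simp [h]
      field_simp
      linear_combination (-1 : F) * hα
    · simp [σ.injective.ne h, h]
  · rw [map_add, map_smul, hx, hx, smul_comm, smul_add]
  · rw [map_smul, map_sub, map_smul, hx, hx, smul_comm α, ← smul_sub, smul_comm]

/-- The eigenspace of a matrix. -/
abbrev eig (x : GL (Fin n) F) (μ : F) : Submodule F V := Module.End.eigenspace (lmap x) μ

theorem mem_eig {x : GL (Fin n) F} {μ : F} {v : V} : v ∈ eig x μ ↔ lmap x v = μ • v :=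
  Module.End.mem_eigenspace_iff

theorem isCompl_eig (h2 : (2 : F) ≠ 0) {x : GL (Fin n) F} {μ : F} (hμ : μ ≠ 0)
    (hx : ∀ v, lmap x (lmap x v) = (μ * μ) • v) : IsCompl (eig x μ) (eig x (-μ)) := by
  refine IsCompl.of_eq ((Submodule.eq_bot_iff _).2 fun v hv => ?_) (eq_top_iff.2 fun v _ => ?_)
  · have h1 := (mem_eig.1 hv.1).symm.trans (mem_eig.1 hv.2)
    rw [← sub_eq_zero, ← sub_smul, smul_eq_zero] at h1
    exact h1.resolve_left fun h => mul_ne_zero h2 hμ (by linear_combination h)
  · refine Submodule.mem_sup.2 ⟨(2 * μ)⁻¹ • (lmap x v + μ • v), ?_, -(2 * μ)⁻¹ • (lmap x v - μ • v), ?_, ?_⟩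
    · rw [mem_eig, map_smul, map_add, map_smul, hx]; module
    · rw [mem_eig, map_smul, map_sub, map_smul, hx]; module
    · match_scalars <;> field_simp <;> ring

include K in
theorem h_eig {x : GL (Fin n) F} (hx : x ∈ GU n F q) {a b : F} {u v : V} (hu : u ∈ eig x a) (hv : v ∈ eig x b)
    (hab : a * K.bar b ≠ 1) : H u v = 0 := by
  have h := lmap_h hx u v
  rw [mem_eig.1 hu, mem_eig.1 hv, h_smul_left K, h_smul_right K, ← mul_assoc] at h
  by_contra h0
  exact hab (mul_right_cancel₀ h0 (h.trans (one_mul _).symm))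

include K in
/-- An element with scalar square has an eigen dual system, under the parity condition. -/
theorem exists_dual_of_sq (h2 : (2 : F) ≠ 0) (hnm : m + m = n) {x : GL (Fin n) F}
    (hx : x ∈ GU n F q ⊓ Cfsg.Geo.specialLinear (Fin n) F) {μ : F} (hμ : μ ≠ 0)
    (hx2 : ∀ v, lmap x (lmap x v) = (μ * μ) • v) (hμ2 : μ * K.bar μ = 1 ∨ μ * K.bar μ = -1)
    (hμn : μ * K.bar μ = 1 → μ ^ n = 1) :
    ∃ e f : Fin m → V, Dual q e f ∧ (∀ i, ∃ a : F, lmap x (e i) = a • e i) ∧ ∀ i, ∃ a : F, lmap x (f i) = a • f i := by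
  classical
  obtain ⟨hxG, hxS⟩ := hx
  set P := eig x μ
  set N := eig x (-μ)
  have hc : IsCompl P N := isCompl_eig h2 hμ hx2
  have hdim : finrank F P + finrank F N = n := by
    rw [Submodule.finrank_add_eq_of_isCompl hc, Module.finrank_fin_fun]
  have hne : (1 : F) ≠ -1 := fun h => h2 (by linear_combination h)
  rcases hμ2 with hm1 | hm1
  · have hPN : ∀ u ∈ P, ∀ v ∈ N, H u v = 0 := fun u hu v hv => h_eig K hxG hu hv (by
      rw [map_neg, mul_neg, hm1]; exact hne.symm)
    have hnd : ∀ U W : Submodule F V, IsCompl U W → (∀ u ∈ U, ∀ v ∈ W, H u v = 0) → Nondeg (q := q) U := by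
      intro U W hUW horth u hu hu0
      by_contra hc'
      push Not at hc'
      refine hu0 (h_nondeg K fun y => ?_)
      obtain ⟨y1, hy1, y2, hy2, rfl⟩ := Submodule.mem_sup.1
        (show y ∈ U ⊔ W by rw [hUW.sup_eq_top]; exact Submodule.mem_top)
      rw [h_add_right K, hc' y1 hy1, horth u hu y2 hy2, add_zero]
    have hNd : Nondeg (q := q) N := hnd N P hc.symm fun u hu v hv => h_eq_zero_symm K (hPN v hv u hu)
    obtain ⟨wP, hwP, hwP'⟩ := exists_onb K (hnd P N hc hPN)
    obtain ⟨wN, hwN, hwN'⟩ := exists_onb K hNd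
    -- parity
    have hev : Even (finrank F N) := by
      let b := ((finBasis F P).prod (finBasis F N)).map (Submodule.prodEquivOfIsCompl P N hc)
      have hdet := det_of_eigenbasis b (lmap x) (Sum.elim (fun _ => μ) fun _ => -μ) (by
        rintro (i | i) <;> simp only [b, Basis.map_apply, Sum.elim_inl, Sum.elim_inr]
        · simpa [Basis.prod_apply] using mem_eig.1 (finBasis F P i).2
        · simpa [Basis.prod_apply] using mem_eig.1 (finBasis F N i).2)
      rw [LinearMap.det_toLin', show ((x : Matrix (Fin n) (Fin n) F)).det = 1 from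
        congrArg Units.val (MonoidHom.mem_ker.1 hxS), Fintype.prod_sum_type] at hdet
      simp only [Sum.elim_inl, Sum.elim_inr, Finset.prod_const, Finset.card_univ, Fintype.card_fin] at hdet
      rw [neg_pow, mul_left_comm, ← pow_add, hdim, hμn hm1, mul_one] at hdet
      exact (neg_one_pow_eq_one_iff_even hne.symm).1 hdet.symm
    obtain ⟨b, hb⟩ := hev
    obtain ⟨a, ha⟩ : ∃ a, finrank F P = a * 2 := ⟨m - b, by omega⟩
    let eP : Fin a × Fin 2 → Fin (finrank F P) := fun s => finCongr ha.symm (finProdFinEquiv s)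
    let eN : Fin b × Fin 2 → Fin (finrank F N) := fun s => finCongr (show b * 2 = finrank F N by omega) (finProdFinEquiv s)
    refine exists_dual_of_pairs K h2 (ι := Fin a ⊕ Fin b) (by simp; omega)
      (fun s => Sum.elim (fun i => wP (eP (i, s.2))) (fun i => wN (eN (i, s.2))) s.1) ?_ _
      (Sum.elim (fun _ => μ) fun _ => -μ) ?_
    · rintro ⟨i | i, s⟩ ⟨j | j, t⟩
      · simp [hwP', eP]
      · simp [hPN _ (hwP _) _ (hwN _)]
      · simp [h_eq_zero_symm K (hPN _ (hwP _) _ (hwN _))]
      · simp [hwN', eN]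
    · rintro ⟨i | i, s⟩
      · exact mem_eig.1 (hwP _)
      · exact mem_eig.1 (hwN _)
  · have hP : ∀ u ∈ P, ∀ v ∈ P, H u v = 0 := fun u hu v hv => h_eig K hxG hu hv (by rw [hm1]; exact hne.symm)
    have hN : ∀ u ∈ N, ∀ v ∈ N, H u v = 0 := fun u hu v hv => h_eig K hxG hu hv (by
      rw [map_neg, mul_neg, neg_mul, neg_neg, hm1]; exact hne.symm)
    have hle : ∀ U W : Submodule F V, IsCompl U W → (∀ u ∈ U, ∀ v ∈ U, H u v = 0) →
        finrank F U ≤ finrank F W := by
      intro U W hUW hU
      let b := finBasis F W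
      have h0 : U ⊓ orth K (Submodule.span F (Set.range fun i => (b i : V))) = ⊥ := by
        refine (Submodule.eq_bot_iff _).2 fun u hu => h_nondeg K fun y => ?_
        obtain ⟨y1, hy1, y2, hy2, rfl⟩ := Submodule.mem_sup.1
          (show y ∈ U ⊔ W by rw [hUW.sup_eq_top]; exact Submodule.mem_top)
        have hspan : y2 ∈ Submodule.span F (Set.range fun i => (b i : V)) := by
          have := Submodule.mem_map_of_mem (f := W.subtype) (b.mem_span ⟨y2, hy2⟩)
          rwa [Submodule.map_span, ← Set.range_comp] at this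
        rw [h_add_right K, hU u hu.1 y1 hy1, h_eq_zero_symm K (hu.2 y2 hspan), add_zero]
      have := finrank_inf_orth_le K U _ fun i => (b i : V)
      rw [h0, finrank_bot] at this
      omega
    have h1 := hle P N hc hP
    have h3 := hle N P hc.symm hN
    obtain ⟨e, f, E, he, hf⟩ := exists_dual (m := m) K (U := P) (W := N) ⟨hc, hP, hN, by omega, by omega⟩
    exact ⟨e, f, E, fun i => ⟨μ, mem_eig.1 (he i)⟩, fun i => ⟨-μ, mem_eig.1 (hf i)⟩⟩

end CfsgLib.Derange.UPair
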