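import Mathlib
import Cfsg.Agent.Lib.Classical.SemisimpleDet
import Cfsg.Agent.Lib.Classical.SemisimpleClasses
import Cfsg.Prelude.Def_GeometricClasses

/-!
Field subalgebras of full degree: semilinear elements and the normalizer.
-/

set_option autoImplicit false
set_option linter.style.haveILetI false

namespace CfsgLib.Derange

open Module Polynomial
open scoped Matrix

universe u

variable {F : Type u} [Field F] [Fintype F] {n : ℕ} {K : Subalgebra F (Matrix (Fin n) (Fin n) F)}

theorem isField_sub (hn : 1 ≤ n) (hK : Cfsg.Geo.IsFieldSubalgebra n K) : IsField K := by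
  haveI : Nonempty (Fin n) := ⟨⟨0, hn⟩⟩
  refine ⟨exists_pair_ne _, fun a b => Subtype.ext (hK.comm a a.2 b b.2), fun {a} ha => ?_⟩
  obtain ⟨b, hb, hab⟩ := hK.inv a a.2 fun h => ha (Subtype.ext h)
  exact ⟨⟨b, hb⟩, Subtype.ext hab⟩

omit [Fintype F] in
/-- The field acts regularly on the vectors. -/
theorem exists_regular (hn : 1 ≤ n) (hK : Cfsg.Geo.IsFieldSubalgebra n K) {e : Fin n → F} (he : e ≠ 0) :
    ∃ Φ : K ≃ₗ[F] (Fin n → F), ∀ k : K, Φ k = k.1 *ᵥ e := by
  let f : K →ₗ[F] (Fin n → F) :=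
    { toFun := fun k => k.1 *ᵥ e
      map_add' := fun a b => Matrix.add_mulVec _ _ _
      map_smul' := fun c a => Matrix.smul_mulVec c _ _ }
  have hinj : Function.Injective f := by
    rw [← LinearMap.ker_eq_bot, Submodule.eq_bot_iff]
    intro k hk
    by_contra h0
    obtain ⟨b, hb, hab⟩ := hK.inv k.1 k.2 fun h => h0 (Subtype.ext h)
    refine he ?_
    have h1 : (b * k.1) *ᵥ e = 0 := by rw [← Matrix.mulVec_mulVec, show k.1 *ᵥ e = 0 from hk, Matrix.mulVec_zero]
    rwa [hK.comm b hb k.1 k.2, hab, Matrix.one_mulVec] at h1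
  haveI : FiniteDimensional F K := Module.finite_of_finrank_pos (by rw [hK.finrank_eq]; omega)
  exact ⟨LinearEquiv.ofBijective f ⟨hinj, (LinearMap.injective_iff_surjective_of_finrank_eq_finrank
    (by rw [hK.finrank_eq, Module.finrank_fin_fun])).mp hinj⟩, fun k => rfl⟩

/-- An element of the normalizer acting as the Frobenius automorphism. -/
theorem exists_semilinear (hn : 1 ≤ n) (hK : Cfsg.Geo.IsFieldSubalgebra n K) :
    ∃ g : GL (Fin n) F, g ∈ Cfsg.Geo.subalgebraNormalizer K ∧ (g : Matrix (Fin n) (Fin n) F) ^ n = 1 ∧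
      (g : Matrix (Fin n) (Fin n) F).charpoly = X ^ n - 1 := by
  classical
  haveI : Nonempty (Fin n) := ⟨⟨0, hn⟩⟩
  letI := (isField_sub hn hK).toField
  haveI : Finite K := Finite.of_injective Subtype.val Subtype.val_injective
  obtain ⟨Φ, hΦ⟩ := exists_regular hn hK (e := Pi.single ⟨0, hn⟩ 1) (by simp)
  let φ : K →ₐ[F] K := FiniteField.frobeniusAlgHom F K
  have hfb : Function.Bijective φ := by
    refine Finite.injective_iff_bijective.mp ?_
    exact φ.toRingHom.injective
  let φe : K ≃ₐ[F] K := AlgEquiv.ofBijective φ hfb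
  let G : Module.End F (Fin n → F) := Φ.conj φ.toLinearMap
  have hmin : minpoly F G = X ^ n - 1 := by
    rw [show G = Φ.conjAlgEquiv F φ.toLinearMap from rfl, minpoly.algEquiv_eq,
      FiniteField.minpoly_frobeniusAlgHom, hK.finrank_eq]
  have hchar : G.charpoly = X ^ n - 1 := by
    refine (Polynomial.eq_of_monic_of_dvd_of_natDegree_le (monic_X_pow_sub_C (1 : F) (show n ≠ 0 by omega)) G.charpoly_monic ?_ ?_).trans (by rw [map_one])
    · rw [map_one, ← hmin]; exact LinearMap.minpoly_dvd_charpoly G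
    · rw [natDegree_X_pow_sub_C, LinearMap.charpoly_natDegree, Module.finrank_fin_fun]
  have hGn : G ^ n = 1 := by
    have h := minpoly.aeval F G
    rwa [hmin, map_sub, map_pow, aeval_X, map_one, sub_eq_zero] at h
  set M := LinearMap.toMatrix' G
  have hMn : M ^ n = 1 := by
    rw [show M = LinearMap.toMatrixAlgEquiv' G from rfl, ← map_pow, hGn, map_one]
  obtain ⟨g, hg⟩ : ∃ g : GL (Fin n) F, (g : Matrix (Fin n) (Fin n) F) = M :=
    ⟨(IsUnit.of_pow_eq_one hMn (by omega)).unit, rfl⟩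
  refine ⟨g, ?_, by rw [hg, hMn], ?_⟩
  · have key : ∀ k : K, (g : Matrix (Fin n) (Fin n) F) * k.1 = (φ k).1 * g := by
      intro k
      rw [hg]
      refine Matrix.toLin'.injective (LinearMap.ext fun v => ?_)
      obtain ⟨a, rfl⟩ := Φ.surjective v
      rw [Matrix.toLin'_mul, Matrix.toLin'_mul, LinearMap.comp_apply, LinearMap.comp_apply,
        Matrix.toLin'_toMatrix', Matrix.toLin'_apply, Matrix.toLin'_apply]
      have h1 : ∀ a : K, G (Φ a) = Φ (φ a) := fun a => by simp [G, LinearEquiv.conj_apply]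
      have h2 : ∀ a b : K, a.1 *ᵥ Φ b = Φ (a * b) := fun a b => by
        rw [hΦ, hΦ, Matrix.mulVec_mulVec]; rfl
      rw [h2, h1, h1, h2, map_mul]
    intro k
    have hconj : ∀ k : K, (g : Matrix (Fin n) (Fin n) F) * k.1 * ((g⁻¹ : GL (Fin n) F) : Matrix (Fin n) (Fin n) F) = (φ k).1 := by
      intro k
      rw [key, mul_assoc, Units.mul_inv, mul_one]
    constructor
    · intro hk
      rw [hconj ⟨k, hk⟩]
      exact (φ ⟨k, hk⟩).2
    · intro hk
      obtain ⟨a, ha⟩ := hfb.2 ⟨_, hk⟩
      have h1 := (hconj a).trans (congrArg Subtype.val ha)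
      have h2 := congrArg (fun x => ((g⁻¹ : GL (Fin n) F) : Matrix (Fin n) (Fin n) F) * x * (g : Matrix (Fin n) (Fin n) F)) h1
      simp only [mul_assoc, Units.inv_mul, mul_one, ← mul_assoc _ (g : Matrix (Fin n) (Fin n) F), one_mul] at h2
      exact h2 ▸ a.2
  · rw [hg, ← LinearMap.charpoly_toMatrix G (Pi.basisFun F (Fin n))] at *
    rw [← hchar]
    rfl

/-- Non-scalar elements of the normalizer have eigenspaces of dimension at most one. -/
theorem finrank_ker_le_one (hp : n.Prime) (hK : Cfsg.Geo.IsFieldSubalgebra n K) (h : GL (Fin n) F)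
    (hh : h ∈ Cfsg.Geo.subalgebraNormalizer K) (hs : ∀ c : F, (h : Matrix (Fin n) (Fin n) F) ≠ c • 1) (c : F) :
    finrank F (LinearMap.ker (Matrix.toLin' ((h : Matrix (Fin n) (Fin n) F) - c • 1))) ≤ 1 := by
  classical
  have hn : 1 ≤ n := hp.one_lt.le
  haveI : Nonempty (Fin n) := ⟨⟨0, hn⟩⟩
  set H : Matrix (Fin n) (Fin n) F := (h : Matrix (Fin n) (Fin n) F)
  set S := LinearMap.ker (Matrix.toLin' (H - c • 1))
  by_cases hS : S = ⊥
  · rw [hS, finrank_bot]; omega
  obtain ⟨w, hw, hw0⟩ := (Submodule.ne_bot_iff S).mp hS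
  have heig : ∀ v, v ∈ S ↔ H *ᵥ v = c • v := fun v => by
    rw [LinearMap.mem_ker, Matrix.toLin'_apply, Matrix.sub_mulVec, Matrix.smul_mulVec, Matrix.one_mulVec, sub_eq_zero]
  obtain ⟨Φ, hΦ⟩ := exists_regular hn hK hw0
  have hle : S ≤ Submodule.span F {w} := by
    intro v hv
    obtain ⟨k, rfl⟩ := Φ.surjective v
    rw [hΦ] at hv ⊢
    by_cases hks : ∃ a : F, k.1 = a • (1 : Matrix (Fin n) (Fin n) F)
    · obtain ⟨a, ha⟩ := hks
      rw [ha, Matrix.smul_mulVec, Matrix.one_mulVec]
      exact Submodule.smul_mem _ a (Submodule.mem_span_singleton_self w)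
    exfalso
    push Not at hks
    rw [heig] at hv
    have hw' := (heig w).mp hw
    have hc : c ≠ 0 := by
      rintro rfl
      rw [zero_smul] at hw'
      exact hw0 (Matrix.mulVec_injective_iff_isUnit.mpr h.isUnit (by rw [hw', Matrix.mulVec_zero]))
    let hinvM : Matrix (Fin n) (Fin n) F := ((h⁻¹ : GL (Fin n) F) : Matrix (Fin n) (Fin n) F)
    -- `h k h⁻¹ = k`
    have hfix : H * k.1 = k.1 * H := by
      have hk' := (hh k.1).mp k.2
      obtain ⟨Ψ, hΨ⟩ := exists_regular hn hK hw0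
      have h1 : Ψ ⟨_, hk'⟩ = Ψ k := by
        rw [hΨ, hΨ]
        show (H * k.1 * hinvM) *ᵥ w = _
        have h2 : hinvM *ᵥ w = c⁻¹ • w := by
          have h3 : hinvM *ᵥ (H *ᵥ w) = w := by rw [Matrix.mulVec_mulVec]; simp [hinvM, H]
          rw [hw', Matrix.mulVec_smul] at h3
          calc hinvM *ᵥ w = c⁻¹ • (c • (hinvM *ᵥ w)) := by rw [smul_smul, inv_mul_cancel₀ hc, one_smul]
            _ = c⁻¹ • w := by rw [h3]
        rw [← Matrix.mulVec_mulVec, h2, Matrix.mulVec_smul, ← Matrix.mulVec_mulVec, hv, smul_smul,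
          inv_mul_cancel₀ hc, one_smul]
      have h2 : H * k.1 * hinvM = k.1 := congrArg Subtype.val (Ψ.injective h1)
      calc H * k.1 = H * k.1 * (hinvM * H) := by simp [hinvM, H]
        _ = k.1 * H := by rw [← mul_assoc, h2]
    -- `K = F[k]`
    letI := (isField_sub hn hK).toField
    haveI : FiniteDimensional F K := Module.finite_of_finrank_pos (by rw [hK.finrank_eq]; omega)
    have hint : IsIntegral F k := IsIntegral.of_finite F k
    have hdeg : (minpoly F k).natDegree = n := by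
      have h1 : (minpoly F k).natDegree ∣ n := (minpoly.degree_dvd hint).trans (dvd_of_eq hK.finrank_eq)
      rcases hp.eq_one_or_self_of_dvd _ h1 with h2 | h2
      · exfalso
        obtain ⟨a, ha⟩ := minpoly.natDegree_eq_one_iff.mp h2
        exact hks a (by rw [← ha]; exact (Algebra.algebraMap_eq_smul_one a))
      · exact h2
    have hspan : Submodule.span F (Set.range fun i : Fin (minpoly F k).natDegree => k ^ (i : ℕ)) = ⊤ :=
      (linearIndependent_pow k).span_eq_top_of_card_eq_finrank' (by rw [Fintype.card_fin, hdeg, hK.finrank_eq])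
    have hcomm : ∀ a : K, H * a.1 = a.1 * H := by
      intro a
      have ha : a ∈ Submodule.span F (Set.range fun i : Fin (minpoly F k).natDegree => k ^ (i : ℕ)) :=
        hspan ▸ Submodule.mem_top
      induction ha using Submodule.span_induction with
      | mem x hx =>
        obtain ⟨i, rfl⟩ := hx
        show H * (k ^ (i : ℕ)).1 = _
        rw [show ((k ^ (i : ℕ) : K) : Matrix (Fin n) (Fin n) F) = k.1 ^ (i : ℕ) from rfl]
        exact ((show Commute H k.1 from hfix).pow_right _).eq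
      | zero => show H * 0 = 0 * H; rw [mul_zero, zero_mul]
      | add x y _ _ hx hy => show H * (x.1 + y.1) = (x.1 + y.1) * H; rw [mul_add, add_mul, hx, hy]
      | smul r x _ hx => show H * (r • x.1) = (r • x.1) * H; rw [Matrix.mul_smul, Matrix.smul_mul, hx]
    -- then `H` is the scalar `c`
    refine hs c (Matrix.toLin'.injective (LinearMap.ext fun v => ?_))
    obtain ⟨a, rfl⟩ := Φ.surjective v
    rw [hΦ, Matrix.toLin'_apply, Matrix.toLin'_apply, Matrix.mulVec_mulVec, hcomm, ← Matrix.mulVec_mulVec, hw',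
      Matrix.mulVec_smul, Matrix.smul_mulVec, Matrix.one_mulVec]
  exact (Submodule.finrank_mono hle).trans (finrank_span_singleton hw0).le

/-- Scalars are `n`-th powers in the field when `q ≡ 1 (mod n)`. -/
theorem exists_root (hn : 1 ≤ n) (hK : Cfsg.Geo.IsFieldSubalgebra n K) {q : ℕ} (hq : Fintype.card F = q)
    (hnq : n ∣ q - 1) (z : F) : ∃ J ∈ K, J ^ n = z • (1 : Matrix (Fin n) (Fin n) F) := by
  classical
  haveI : Nonempty (Fin n) := ⟨⟨0, hn⟩⟩
  letI := (isField_sub hn hK).toField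
  haveI : Finite K := Finite.of_injective Subtype.val Subtype.val_injective
  haveI := Fintype.ofFinite K
  rcases eq_or_ne z 0 with rfl | hz
  · exact ⟨0, K.zero_mem, by rw [zero_pow (by omega), zero_smul]⟩
  suffices h : ∃ J : K, J ^ n = algebraMap F K z by
    obtain ⟨J, hJ⟩ := h
    exact ⟨J, J.2, (congrArg Subtype.val hJ).trans (Algebra.algebraMap_eq_smul_one z)⟩
  have hq2 : 2 ≤ q := hq ▸ Fintype.one_lt_card
  have hcard : Fintype.card K = q ^ n := by
    rw [← Nat.card_eq_fintype_card, Module.natCard_eq_pow_finrank (K := F), hK.finrank_eq,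
      Nat.card_eq_fintype_card, hq]
  obtain ⟨w, hw⟩ : n ∣ ∑ i ∈ Finset.range n, q ^ i := by
    have hq1 : (q : ZMod n) = 1 := by
      rw [← ZMod.natCast_eq_zero_iff, Nat.cast_sub (by omega), sub_eq_zero, Nat.cast_one] at hnq
      exact hnq
    rw [← ZMod.natCast_eq_zero_iff, Nat.cast_sum]
    simp [hq1]
  obtain ⟨g, hg⟩ := IsCyclic.exists_generator (α := Kˣ)
  have hne : algebraMap F K z ≠ 0 := (map_ne_zero_iff _ (FaithfulSMul.algebraMap_injective F K)).mpr hz
  obtain ⟨j, hj⟩ := (Submonoid.mem_powers_iff _ _).mp (mem_powers_iff_mem_zpowers.mpr (hg (Units.mk0 _ hne)))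
  have hgeom : (q - 1) * (n * w) = q ^ n - 1 := by
    rw [← hw, mul_comm]; exact geom_sum_mul_of_one_le (by omega) n
  have hd : q ^ n - 1 ∣ j * (q - 1) := by
    have hord : orderOf g = q ^ n - 1 := by
      rw [orderOf_eq_card_of_forall_mem_zpowers hg, Nat.card_eq_fintype_card, Fintype.card_units, hcard]
    rw [← hord]
    refine orderOf_dvd_of_pow_eq_one ?_
    rw [pow_mul, hj]
    refine Units.ext ?_
    rw [Units.val_pow_eq_pow_val, Units.val_mk0, ← map_pow, ← hq, FiniteField.pow_card_sub_one_eq_one z hz,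
      map_one, Units.val_one]
  rw [← hgeom, mul_comm j] at hd
  obtain ⟨l, rfl⟩ := (dvd_mul_right n w).trans (Nat.dvd_of_mul_dvd_mul_left (by omega) hd)
  refine ⟨(g : K) ^ l, ?_⟩
  have h5 := congrArg Units.val hj
  rw [Units.val_pow_eq_pow_val, Units.val_mk0] at h5
  rw [← pow_mul, mul_comm, h5]

end CfsgLib.Derange
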