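import Mathlib
import Cfsg.Agent.Lib.MinNormal.SimpleConjugates
import Cfsg.Agent.Lib.FourOrbit.Basic
import Cfsg.Agent.Lib.Perm.Derangement

/-!
Derangement classes in primitive groups that are not almost simple: at least three, unless there
is a regular abelian normal subgroup.
-/

set_option autoImplicit false
set_option linter.style.haveILetI false

namespace CfsgLib.DerangeCount

open MulAction CfsgLib.MinNormal

variable {G : Type*} [Group G]

/-- The conjugates of a proper subgroup do not cover a finite group. -/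
theorem exists_not_mem_conjugates [Finite G] {Q : Subgroup G} (hQ : Q ≠ ⊤) :
    ∃ n : G, ∀ m : G, m⁻¹ * n * m ∉ Q := by
  classical
  haveI := Fintype.ofFinite G
  haveI : Finite (G ⧸ Q) := inferInstance
  by_contra hall
  push Not at hall
  have hfix : ∀ g : G, 1 ≤ Nat.card (fixedBy (G ⧸ Q) g) := by
    intro g
    obtain ⟨m, hm⟩ := hall g
    have hmem : (m : G ⧸ Q) ∈ fixedBy (G ⧸ Q) g := by
      rw [mem_fixedBy, MulAction.Quotient.smul_coe, smul_eq_mul, QuotientGroup.eq]
      have := inv_mem hm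
      simpa [mul_assoc] using this
    rw [Nat.card_coe_set_eq]
    exact (Set.ncard_pos (Set.toFinite _)).mpr ⟨_, hmem⟩
  have hone : 2 ≤ Nat.card (fixedBy (G ⧸ Q) (1 : G)) := by
    have h1 : Q.index ≠ 1 := fun e => hQ (Subgroup.index_eq_one.mp e)
    have h2 : Q.index ≠ 0 := Subgroup.index_ne_zero_of_finite
    simp only [MulAction.fixedBy_one_eq_univ, Nat.card_coe_set_eq, Set.ncard_univ]
    show 2 ≤ Q.index
    omega
  have hsum := CfsgLib.Perm.sum_natCard_fixedBy_of_transitive (G := G) (Ω := G ⧸ Q)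
  have hlt : ∑ _g : G, 1 < ∑ g : G, Nat.card (fixedBy (G ⧸ Q) g) :=
    Finset.sum_lt_sum (fun g _ => hfix g) ⟨1, Finset.mem_univ _, by omega⟩
  rw [hsum, Finset.sum_const, Finset.card_univ, smul_eq_mul, mul_one,
    ← Nat.card_eq_fintype_card] at hlt
  exact lt_irrefl _ hlt

theorem isConj_pow {x y : G} (h : IsConj x y) (k : ℕ) : IsConj (x ^ k) (y ^ k) := by
  obtain ⟨c, rfl⟩ := isConj_iff.mp h
  exact isConj_iff.mpr ⟨c, (conj_pow).symm⟩

theorem orderOf_eq_of_isConj {x y : G} (h : IsConj x y) : orderOf x = orderOf y := by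
  obtain ⟨c, rfl⟩ := isConj_iff.mp h
  exact (orderOf_injective (MulAut.conj c).toMonoidHom (MulAut.conj c).injective x).symm

/-- A subgroup of `G` is transitive in a primitive action if it is normal and not trivial. -/
theorem transitive_of_normal {Ω : Type*} [MulAction G Ω] [FaithfulSMul G Ω]
    (hprim : IsPreprimitive G Ω) (N : Subgroup G) [N.Normal] (hN : N ≠ ⊥) :
    IsPretransitive N Ω := by
  haveI := hprim
  refine IsQuasiPreprimitive.isPretransitive_of_normal (G := G) fun h => hN ?_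
  rw [eq_bot_iff]
  intro m hm
  rw [Subgroup.mem_bot]
  refine eq_of_smul_eq_smul fun ω : Ω => ?_
  rw [one_smul]
  have : ω ∈ fixedPoints N Ω := h ▸ Set.mem_univ ω
  exact this ⟨m, hm⟩

/-- Semiregularity from a transitive centralizing subgroup. -/
theorem semiregular_of_commute {Ω : Type*} [MulAction G Ω] [FaithfulSMul G Ω] {A B : Subgroup G}
    (hB : IsPretransitive B Ω) (hcomm : ∀ a ∈ A, ∀ b ∈ B, a * b = b * a) :
    ∀ a ∈ A, ∀ ω : Ω, a • ω = ω → a = 1 := by
  intro a ha ω hω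
  refine eq_of_smul_eq_smul fun x : Ω => ?_
  obtain ⟨b, rfl⟩ := hB.exists_smul_eq ω x
  rw [one_smul]
  show a • (b : G) • ω = (b : G) • ω
  rw [← mul_smul, hcomm a ha b b.2, mul_smul, hω]

variable [Finite G]

/-- A nonabelian simple group has orders divisible by three primes. -/
theorem exists_three_primes {L : Type*} [Group L] [Finite L] [IsSimpleGroup L]
    (hL : ¬ IsMulCommutative L) :
    ∃ p q r : ℕ, p.Prime ∧ q.Prime ∧ r.Prime ∧ p ≠ q ∧ p ≠ r ∧ q ≠ r ∧
      p ∣ Nat.card L ∧ q ∣ Nat.card L ∧ r ∣ Nat.card L := by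
  classical
  have hns : ¬ Group.IsSolvable L := fun h =>
    hL ⟨⟨IsSimpleGroup.comm_iff_isSolvable.mpr h⟩⟩
  have h3 : 2 < (Nat.card L).primeFactors.card := by
    by_contra hle
    push Not at hle
    apply hns
    obtain ⟨S, hS, hScard, hSp⟩ : ∃ S : Finset ℕ, (Nat.card L).primeFactors ⊆ S ∧ S.card = 2 ∧
        ∀ s ∈ S, s.Prime := by
      have hc := (Nat.card L).primeFactors.card
      rcases Nat.lt_or_ge (Nat.card L).primeFactors.card 2 with hlt | hge
      · rcases Nat.lt_or_ge (Nat.card L).primeFactors.card 1 with h0 | h1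
        · exact ⟨{2, 3}, by rw [Finset.card_eq_zero.mp (by omega : (Nat.card L).primeFactors.card = 0)]; simp,
            by simp, by simp [Nat.prime_two, Nat.prime_three]⟩
        · obtain ⟨a, ha⟩ := Finset.card_eq_one.mp (by omega : (Nat.card L).primeFactors.card = 1)
          have hap : a.Prime := Nat.prime_of_mem_primeFactors (n := Nat.card L) (by rw [ha]; simp)
          by_cases h2 : a = 2
          · exact ⟨{2, 3}, by rw [ha, h2]; simp, by simp, by simp [Nat.prime_two, Nat.prime_three]⟩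
          · exact ⟨{2, a}, by rw [ha]; simp, Finset.card_pair (Ne.symm h2),
              by simp [Nat.prime_two, hap]⟩
      · exact ⟨_, subset_rfl, by omega, fun s hs => Nat.prime_of_mem_primeFactors hs⟩
    obtain ⟨a, b, hab, rfl⟩ := Finset.card_eq_two.mp hScard
    refine CfsgLib.FourOrbit.isSolvable_of_two_primes (hSp a (by simp)) (hSp b (by simp)) hab
      fun s hs hd => ?_
    have := hS (Nat.mem_primeFactors.mpr ⟨hs, hd, Nat.card_pos.ne'⟩)
    simpa using this
  obtain ⟨p, q, r, hp, hq, hr, hpq, hpr, hqr⟩ := Finset.two_lt_card_iff.mp h3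
  exact ⟨p, q, r, Nat.prime_of_mem_primeFactors hp, Nat.prime_of_mem_primeFactors hq,
    Nat.prime_of_mem_primeFactors hr, hpq, hpr, hqr, Nat.dvd_of_mem_primeFactors hp,
    Nat.dvd_of_mem_primeFactors hq, Nat.dvd_of_mem_primeFactors hr⟩

theorem exists_orderOf_mem {A : Subgroup G} {p : ℕ} (hp : p.Prime) (hd : p ∣ Nat.card A) :
    ∃ x ∈ A, orderOf x = p := by
  haveI := Fact.mk hp
  obtain ⟨x, hx⟩ := exists_prime_orderOf_dvd_card' (G := A) p hd
  exact ⟨x, x.2, by rw [Subgroup.orderOf_coe, hx]⟩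

/-- In a primitive group that is not almost simple, either there is a regular abelian normal
subgroup or there are three pairwise non-conjugate derangements. -/
theorem affine_or_three {Ω : Type*} [MulAction G Ω] [FaithfulSMul G Ω] [Nontrivial Ω]
    (hprim : IsPreprimitive G Ω)
    (hnas : ¬ ∃ T : Subgroup G, T.Normal ∧ IsSimpleGroup T ∧ ¬ IsMulCommutative T ∧
      Subgroup.centralizer (T : Set G) = ⊥) :
    (∃ N : Subgroup G, N.Normal ∧ N ≠ ⊥ ∧ IsMulCommutative N ∧ IsPretransitive N Ω ∧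
      ∀ n ∈ N, ∀ ω : Ω, n • ω = ω → n = 1) ∨
    ∃ x y z : G, (∀ ω : Ω, x • ω ≠ ω) ∧ (∀ ω : Ω, y • ω ≠ ω) ∧ (∀ ω : Ω, z • ω ≠ ω) ∧
      ¬ IsConj x y ∧ ¬ IsConj x z ∧ ¬ IsConj y z := by
  classical
  haveI := hprim
  haveI : Nontrivial G := by
    by_contra hc
    rw [not_nontrivial_iff_subsingleton] at hc
    obtain ⟨a, b, hab⟩ := exists_pair_ne Ω
    obtain ⟨g, hg⟩ := exists_smul_eq G a b
    rw [Subsingleton.elim g 1, one_smul] at hg
    exact hab hg
  obtain ⟨N, ⟨hN, hNne⟩, hmin⟩ := Set.Finite.exists_minimal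
    (s := {A : Subgroup G | A.Normal ∧ A ≠ ⊥}) (Set.toFinite _) ⟨⊤, inferInstance, top_ne_bot⟩
  haveI := hN
  have hNtr := transitive_of_normal hprim N hNne
  by_cases hab : IsMulCommutative N
  · refine Or.inl ⟨N, hN, hNne, hab, hNtr, semiregular_of_commute hNtr fun a ha b hb => ?_⟩
    exact congrArg Subtype.val (hab.is_comm.comm (⟨a, ha⟩ : N) ⟨b, hb⟩)
  right
  obtain ⟨L, d⟩ := exists_simpleConjugates (M := N)
    (fun K h1 h2 h3 => le_antisymm h3 (hmin ⟨h1, h2⟩ h3)) hab
  haveI := d.simple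
  obtain ⟨p, q, r, hp, hq, hr, hpq, hpr, hqr, hpd, hqd, hrd⟩ := exists_three_primes d.nab
  by_cases hsemi : ∀ l ∈ L, ∀ ω : Ω, l • ω = ω → l = 1
  · obtain ⟨x, hx, hxo⟩ := exists_orderOf_mem hp hpd
    obtain ⟨y, hy, hyo⟩ := exists_orderOf_mem hq hqd
    obtain ⟨z, hz, hzo⟩ := exists_orderOf_mem hr hrd
    refine ⟨x, y, z, fun ω h => ?_, fun ω h => ?_, fun ω h => ?_, fun h => ?_, fun h => ?_, fun h => ?_⟩
    · rw [hsemi x hx ω h, orderOf_one] at hxo; exact hp.ne_one hxo.symm
    · rw [hsemi y hy ω h, orderOf_one] at hyo; exact hq.ne_one hyo.symm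
    · rw [hsemi z hz ω h, orderOf_one] at hzo; exact hr.ne_one hzo.symm
    · exact hpq (hxo ▸ hyo ▸ orderOf_eq_of_isConj h)
    · exact hpr (hxo ▸ hzo ▸ orderOf_eq_of_isConj h)
    · exact hqr (hyo ▸ hzo ▸ orderOf_eq_of_isConj h)
  -- a second component
  obtain ⟨g, hg⟩ : ∃ g : G, cj L g ≠ cj L 1 := by
    by_contra hall
    push Not at hall
    have hNL : N = L := by
      rw [← d.sup]
      exact le_antisymm (iSup_le fun g => (hall g).trans (cj_one L) |>.le)
        (le_iSup_of_le 1 (cj_one L).ge)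
    subst hNL
    refine hsemi (semiregular_of_commute (B := Subgroup.centralizer (N : Set G)) ?_ fun a ha b hb =>
      Subgroup.mem_centralizer_iff.mp hb a ha)
    exact transitive_of_normal hprim _ fun e => hnas ⟨N, hN, d.simple, hab, e⟩
  rw [cj_one] at hg
  have hgne : cj L 1 ≠ cj L g := by rw [cj_one]; exact Ne.symm hg
  set C := Subgroup.centralizer (L : Set G) ⊓ N with hC
  have hgcent : cj L g ≤ Subgroup.centralizer (L : Set G) := by
    have := d.le_centralizer hgne
    rwa [cj_one] at this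
  have hgC : cj L g ≤ C := le_inf hgcent (d.cj_le g)
  have hLn : N ≤ Subgroup.normalizer (L : Set G) := cj_one L ▸ d.norm 1
  have hCn : ∀ m ∈ N, ∀ k ∈ C, m * k * m⁻¹ ∈ C := fun m hm k hk =>
    ⟨Subgroup.mem_centralizer_iff.mpr fun l hl => by
      have hl' : m⁻¹ * l * m ∈ L := by
        have := (Subgroup.mem_normalizer_iff.mp (hLn (inv_mem hm)) l).mp hl
        rwa [inv_inv] at this
      have h1 := Subgroup.mem_centralizer_iff.mp hk.1 _ hl'
      calc l * (m * k * m⁻¹) = m * (m⁻¹ * l * m * k) * m⁻¹ := by group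
        _ = m * (k * (m⁻¹ * l * m)) * m⁻¹ := by rw [h1]
        _ = m * k * m⁻¹ * l := by group, hN.conj_mem k hk.2 m⟩
  push Not at hsemi
  obtain ⟨l₀, hl₀, α, hl₀α, hl₀1⟩ := hsemi
  let Q : Subgroup G := (stabilizer G α ⊓ N) ⊔ C
  have hQN : Q ≤ N := sup_le inf_le_right inf_le_right
  have hQ : Q ≠ N := by
    intro e
    -- `L ⊓ G_α` would be normal in `L`
    let X : Subgroup G := L ⊓ stabilizer G α
    have hNX : N ≤ Subgroup.normalizer (X : Set G) := by
      rw [← e]
      refine sup_le (fun m hm => Subgroup.mem_normalizer_iff.mpr fun x => ?_)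
        (fun k hk => Subgroup.mem_normalizer_iff.mpr fun x => ?_)
      · exact and_congr (Subgroup.mem_normalizer_iff.mp (hLn hm.2) x)
          (Subgroup.mem_normalizer_iff.mp (Subgroup.le_normalizer hm.1) x)
      · have hc : ∀ y ∈ L, k * y * k⁻¹ = y := fun y hy => by
          rw [← Subgroup.mem_centralizer_iff.mp hk.1 y hy, mul_inv_cancel_right]
        refine ⟨fun hx => by rw [hc x hx.1]; exact hx, fun hx => ?_⟩
        have hxL : x ∈ L := by
          have h2 := Subgroup.mem_centralizer_iff.mp hk.1 _ hx.1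
          have h3 : k * x * k⁻¹ = x := by
            calc k * x * k⁻¹ = k⁻¹ * (k * (k * x * k⁻¹)) := by group
              _ = k⁻¹ * (k * x * k⁻¹ * k) := by rw [h2]
              _ = x := by group
          exact h3 ▸ hx.1
        rw [hc x hxL] at hx
        exact hx
    have hn : (X.subgroupOf L).Normal :=
      (Subgroup.normal_subgroupOf_iff_le_normalizer inf_le_left).mpr (d.le.trans hNX)
    rcases hn.eq_bot_or_eq_top with h | h
    · rw [Subgroup.subgroupOf_eq_bot] at h
      exact hl₀1 (Subgroup.mem_bot.mp (h.le_bot ⟨⟨hl₀, hl₀α⟩, hl₀⟩))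
    · have hle : L ≤ stabilizer G α := (Subgroup.subgroupOf_eq_top.mp h).trans inf_le_right
      refine hl₀1 (eq_of_smul_eq_smul fun ω : Ω => ?_)
      obtain ⟨m, rfl⟩ := hNtr.exists_smul_eq α ω
      rw [one_smul]
      show l₀ • (m : G) • α = (m : G) • α
      have h1 : (m : G)⁻¹ * l₀ * m ∈ L := by
        have := (Subgroup.mem_normalizer_iff.mp (hLn (inv_mem m.2)) l₀).mp hl₀
        rwa [inv_inv] at this
      have h2 : ((m : G)⁻¹ * l₀ * m) • α = α := hle h1
      calc l₀ • (m : G) • α = (m : G) • (((m : G)⁻¹ * l₀ * m) • α) := by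
            simp [smul_smul, mul_assoc]
        _ = _ := by rw [h2]
  obtain ⟨⟨n, hn⟩, hnQ⟩ := exists_not_mem_conjugates (Q := Q.subgroupOf N)
    (fun h => hQ (le_antisymm hQN (Subgroup.subgroupOf_eq_top.mp h)))
  obtain ⟨a, ha, k, hk, hak⟩ := d.decomp 1 hn
  rw [cj_one] at ha hk
  have hkC : k ∈ C := ⟨hk, by
    have h := mul_mem (inv_mem (d.le ha)) hn
    rwa [← hak, inv_mul_cancel_left] at h⟩
  -- translates of `a` by elements centralizing `L` are derangements
  have hder : ∀ k' ∈ C, ∀ ω : Ω, (a * k') • ω ≠ ω := by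
    intro k' hk' ω hω
    obtain ⟨⟨m, hm⟩, rfl⟩ := hNtr.exists_smul_eq α ω
    replace hm : m ∈ N := hm
    refine hnQ ⟨m, hm⟩ ?_
    show m⁻¹ * n * m ∈ Q
    have h1 : m⁻¹ * (a * k') * m ∈ Q := by
      refine Subgroup.mem_sup_left ⟨?_, ?_⟩
      · show (m⁻¹ * (a * k') * m) • α = α
        rw [mul_smul, mul_smul, show (a * k') • m • α = m • α from hω, inv_smul_smul]
      · exact mul_mem (mul_mem ((Subgroup.inv_mem N hm : m⁻¹ ∈ N)) (mul_mem (d.le ha) hk'.2)) hm
    have h2 : m⁻¹ * (k'⁻¹ * k) * m ∈ Q := by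
      have := hCn m⁻¹ (inv_mem hm) _ (mul_mem (inv_mem hk') hkC)
      rw [inv_inv] at this
      exact Subgroup.mem_sup_right this
    rw [← hak, show m⁻¹ * (a * k) * m = m⁻¹ * (a * k') * m * (m⁻¹ * (k'⁻¹ * k) * m) by group]
    exact mul_mem h1 h2
  have ha1 : a ≠ 1 := by
    intro e
    refine hder 1 (one_mem C) α ?_
    rw [e, one_mul, one_smul]
  -- membership in some conjugate of `L`
  let U : G → Prop := fun x => ∃ h : G, x ∈ cj L h
  have hUconj : ∀ {x y : G}, IsConj x y → U x → U y := by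
    rintro x y hc ⟨h, hx⟩
    obtain ⟨c, rfl⟩ := isConj_iff.mp hc
    exact ⟨c * h, (cj_mul L c h).le ⟨x, hx, rfl⟩⟩
  have hUL : ∀ x ∈ L, U x := fun x hx => ⟨1, (cj_one L).ge hx⟩
  have hnU : ∀ x ∈ L, ∀ b ∈ cj L g, x ≠ 1 → b ≠ 1 → ¬ U (x * b) := by
    rintro x hx b hb hx1 hb1 ⟨h, hmem⟩
    rcases eq_or_ne (cj L 1) (cj L h) with e | e
    · rw [← e, cj_one] at hmem
      have hbL : b ∈ cj L 1 := by
        rw [cj_one]
        have := mul_mem (inv_mem hx) hmem
        rwa [inv_mul_cancel_left] at this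
      have hbot := d.inf 1 g hgne
      exact hb1 (Subgroup.mem_bot.mp (hbot.le ⟨hbL, hb⟩))
    · have h1 : x * b ∈ Subgroup.centralizer (cj L 1 : Set G) := d.le_centralizer e hmem
      have h2 : b ∈ Subgroup.centralizer (cj L 1 : Set G) := d.le_centralizer hgne hb
      have h3 : x ∈ Subgroup.centralizer (cj L 1 : Set G) := by
        have := mul_mem h1 (inv_mem h2)
        rwa [mul_inv_cancel_right] at this
      exact hx1 (d.eq_one ((cj_one L).ge hx) h3)
  obtain ⟨p, q, hp, hq, hpq, hpd, hqd, hap⟩ : ∃ p q : ℕ, p.Prime ∧ q.Prime ∧ p ≠ q ∧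
      p ∣ Nat.card L ∧ q ∣ Nat.card L ∧ a ^ p ≠ 1 := by
    by_cases h : a ^ p = 1
    · refine ⟨q, p, hq, hp, hpq.symm, hqd, hpd, fun h' => ha1 ?_⟩
      have h1 : orderOf a ∣ Nat.gcd p q := Nat.dvd_gcd (orderOf_dvd_of_pow_eq_one h) (orderOf_dvd_of_pow_eq_one h')
      rw [(Nat.coprime_primes hp hq).mpr hpq, Nat.dvd_one, orderOf_eq_one_iff] at h1
      exact h1
    · exact ⟨p, q, hp, hq, hpq, hpd, hqd, h⟩
  obtain ⟨s, hs, hso⟩ := exists_orderOf_mem (A := cj L g) hp (by rwa [card_cj])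
  obtain ⟨t, ht, hto⟩ := exists_orderOf_mem (A := cj L g) hq (by rwa [card_cj])
  have hcomm : ∀ b ∈ cj L g, Commute a b := fun b hb =>
    d.comm 1 g hgne a ((cj_one L).ge ha) b hb
  have hs1 : s ≠ 1 := fun e => hp.ne_one (by rw [← hso, e, orderOf_one])
  have ht1 : t ≠ 1 := fun e => hq.ne_one (by rw [← hto, e, orderOf_one])
  refine ⟨a, a * s, a * t, fun ω => by simpa using hder 1 (one_mem C) ω, hder s (hgC hs),
    hder t (hgC ht), fun h => hnU a ha s hs ha1 hs1 (hUconj h (hUL a ha)),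
    fun h => hnU a ha t ht ha1 ht1 (hUconj h (hUL a ha)), fun h => ?_⟩
  have h1 := isConj_pow h p
  rw [(hcomm s hs).mul_pow, (hcomm t ht).mul_pow, ← hso, pow_orderOf_eq_one, mul_one, hso] at h1
  refine hnU (a ^ p) (pow_mem ha p) (t ^ p) (pow_mem ht p) hap (fun e => ?_) (hUconj h1 (hUL _ (pow_mem ha p)))
  have h2 := orderOf_dvd_of_pow_eq_one e
  rw [hto] at h2
  exact hpq ((Nat.prime_dvd_prime_iff_eq hq hp).mp h2).symm

end CfsgLib.DerangeCount
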