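import Mathlib
import Cfsg.Agent.Lib.Derange.NonAlmostSimple
import Cfsg.Agent.Lib.Perm.SharplyTwo

/-!
Derangements in groups with a regular normal abelian subgroup.
-/

set_option autoImplicit false
set_option linter.style.haveILetI false

namespace CfsgLib.DerangeCount

open MulAction

variable {G : Type*} [Group G] {Ω : Type*} [MulAction G Ω]

/-- The classes of derangements. -/
abbrev Classes (G Ω : Type*) [Group G] [MulAction G Ω] :=
  {c : ConjClasses G // ∃ g : G, ConjClasses.mk g = c ∧ ∀ ω : Ω, g • ω ≠ ω}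

/-- The class of a derangement. -/
def cls (g : G) (h : ∀ ω : Ω, g • ω ≠ ω) : Classes G Ω := ⟨ConjClasses.mk g, g, rfl, h⟩

theorem cls_eq_iff {g g' : G} (h : ∀ ω : Ω, g • ω ≠ ω) (h' : ∀ ω : Ω, g' • ω ≠ ω) :
    cls g h = cls g' h' ↔ IsConj g g' :=
  Subtype.ext_iff.trans ConjClasses.mk_eq_mk_iff_isConj

theorem isConj_of_one [Finite G] (h1 : Nat.card (Classes G Ω) = 1) {g g' : G}
    (h : ∀ ω : Ω, g • ω ≠ ω) (h' : ∀ ω : Ω, g' • ω ≠ ω) : IsConj g g' := by
  haveI := (Nat.card_eq_one_iff_unique.mp h1).1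
  exact (cls_eq_iff h h').mp (Subsingleton.elim _ _)

theorem isConj_or_of_two [Finite G] (h2 : Nat.card (Classes G Ω) = 2) {g g' x : G}
    (h : ∀ ω : Ω, g • ω ≠ ω) (h' : ∀ ω : Ω, g' • ω ≠ ω) (hx : ∀ ω : Ω, x • ω ≠ ω)
    (hne : ¬ IsConj g g') : IsConj g x ∨ IsConj g' x := by
  obtain ⟨y, hy⟩ : ∃ y, y ≠ cls g h ∧ ∀ z, z ≠ cls g h → z = y := Nat.card_eq_two_iff' (cls g h) |>.mp h2
  by_cases e : cls x hx = cls g h
  · exact Or.inl ((cls_eq_iff _ _).mp e).symm
  · refine Or.inr ((cls_eq_iff h' hx).mp ?_)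
    rw [hy.2 _ (fun e' => hne ((cls_eq_iff _ _).mp e').symm), hy.2 _ e]

theorem not_three [Finite G] (h2 : Nat.card (Classes G Ω) ≤ 2) {x y z : G}
    (hx : ∀ ω : Ω, x • ω ≠ ω) (hy : ∀ ω : Ω, y • ω ≠ ω) (hz : ∀ ω : Ω, z • ω ≠ ω)
    (hxy : ¬ IsConj x y) (hxz : ¬ IsConj x z) (hyz : ¬ IsConj y z) : False := by
  haveI := Fintype.ofFinite (Classes G Ω)
  rw [Nat.card_eq_fintype_card] at h2
  have : 2 < Fintype.card (Classes G Ω) := Fintype.two_lt_card_iff.mpr
    ⟨cls x hx, cls y hy, cls z hz, fun e => hxy ((cls_eq_iff _ _).mp e),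
      fun e => hxz ((cls_eq_iff _ _).mp e), fun e => hyz ((cls_eq_iff _ _).mp e)⟩
  omega

/-- `n ↦ n • α` on a regular subgroup. -/
theorem regular_bijective {N : Subgroup G} (htr : IsPretransitive N Ω)
    (hreg : ∀ n ∈ N, ∀ ω : Ω, n • ω = ω → n = 1) (α : Ω) :
    Function.Bijective (fun n : N => n • α) := by
  refine ⟨fun a b h => ?_, fun x => htr.exists_smul_eq α x⟩
  have h' : (a : G) • α = (b : G) • α := h
  have := hreg _ (mul_mem (inv_mem b.2) a.2) α (by rw [mul_smul, h', inv_smul_smul])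
  exact Subtype.ext (inv_mul_eq_one.mp this).symm

/-- Conjugate elements of a regular abelian normal subgroup are conjugate under a stabilizer. -/
theorem exists_stabilizer_conj {N : Subgroup G} (hab : IsMulCommutative N) [N.Normal]
    (htr : IsPretransitive N Ω) {a b : G} (ha : a ∈ N) (h : IsConj a b) (α : Ω) :
    ∃ g : G, g • α = α ∧ g * a * g⁻¹ = b := by
  obtain ⟨c, hc⟩ := isConj_iff.mp h
  obtain ⟨⟨m, hm⟩, hmα⟩ := htr.exists_smul_eq α (c • α)
  refine ⟨m⁻¹ * c, by rw [mul_smul, inv_smul_eq_iff]; exact hmα.symm, ?_⟩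
  have hb : b ∈ N := hc ▸ (‹N.Normal›).conj_mem a ha c
  have hmb : b * m = m * b := congrArg Subtype.val (hab.is_comm.comm (⟨b, hb⟩ : N) ⟨m, hm⟩)
  calc m⁻¹ * c * a * (m⁻¹ * c)⁻¹ = m⁻¹ * (c * a * c⁻¹) * m := by group
    _ = m⁻¹ * b * m := by rw [hc]
    _ = b := by rw [mul_assoc, hmb, inv_mul_cancel_left]

/-- When all derangements lie in a regular subgroup, other elements fix one point at most. -/
theorem fixedBy_le_one [Finite G] [Finite Ω] [Nonempty Ω] {N : Subgroup G}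
    (htr : IsPretransitive N Ω) (hreg : ∀ n ∈ N, ∀ ω : Ω, n • ω = ω → n = 1)
    (hD : ∀ g : G, (∀ ω : Ω, g • ω ≠ ω) → g ∈ N) :
    ∀ g : G, g ≠ 1 → Nat.card (fixedBy Ω g) ≤ 1 := by
  classical
  haveI := Fintype.ofFinite G
  haveI : IsPretransitive G Ω := ⟨fun x y => by
    obtain ⟨n, hn⟩ := htr.exists_smul_eq x y
    exact ⟨n, hn⟩⟩
  intro g₀ hg₀
  by_contra hlt
  have hsum := CfsgLib.Perm.sum_natCard_fixedBy_of_transitive (G := G) (Ω := Ω)
  have hzero : ∀ n ∈ N, n ≠ 1 → Nat.card (fixedBy Ω n) = 0 := fun n hn hn1 => by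
    rw [Nat.card_coe_set_eq, Set.ncard_eq_zero]
    ext ω
    simpa using fun e => hn1 (hreg n hn ω e)
  have hnot : g₀ ∉ N := fun h => by
    have := hzero g₀ h hg₀
    omega
  have hpos : ∀ g : G, g ∉ N → 1 ≤ Nat.card (fixedBy Ω g) := fun g hg => by
    rw [Nat.card_coe_set_eq]
    refine (Set.ncard_pos (Set.toFinite _)).mpr ?_
    by_contra he
    exact hg (hD g fun ω hω => he ⟨ω, hω⟩)
  obtain ⟨α⟩ := (inferInstance : Nonempty Ω)
  have hNcard : Nat.card N = Nat.card Ω :=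
    Nat.card_congr (Equiv.ofBijective _ (regular_bijective htr hreg α))
  rw [← Finset.sum_filter_add_sum_filter_not Finset.univ (fun g : G => g ∈ N)] at hsum
  have hin : ∑ g ∈ Finset.univ.filter (fun g : G => g ∈ N), Nat.card (fixedBy Ω g) = Nat.card Ω := by
    rw [Finset.sum_eq_single (1 : G)]
    · simp [Nat.card_coe_set_eq, Set.ncard_univ]
    · intro g hg hg1
      exact hzero g (Finset.mem_filter.mp hg).2 hg1
    · simp
  have hlt2 : ∑ _g ∈ Finset.univ.filter (fun g : G => g ∉ N), 1 <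
      ∑ g ∈ Finset.univ.filter (fun g : G => g ∉ N), Nat.card (fixedBy Ω g) :=
    Finset.sum_lt_sum (fun g hg => hpos g (Finset.mem_filter.mp hg).2)
      ⟨g₀, Finset.mem_filter.mpr ⟨Finset.mem_univ _, hnot⟩, by omega⟩
  have hc := Finset.card_filter_add_card_filter_not (s := (Finset.univ : Finset G)) (fun g : G => g ∈ N)
  have hNf : (Finset.univ.filter (fun g : G => g ∈ N)).card = Nat.card N := by
    rw [Nat.card_eq_fintype_card]
    exact (Fintype.card_subtype _).symm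
  rw [Finset.sum_const, smul_eq_mul, mul_one] at hlt2
  rw [Finset.card_univ, ← Nat.card_eq_fintype_card] at hc
  omega

theorem sharp_of_fixedBy_le_one [Finite Ω] (h : ∀ g : G, g ≠ 1 → Nat.card (fixedBy Ω g) ≤ 1)
    {g : G} (hg : g ≠ 1) {a b : Ω} (hab : a ≠ b) (ha : g • a = a) : g • b ≠ b := fun hb => by
  have h1 := h g hg
  rw [Nat.card_coe_set_eq, Set.ncard_le_one_iff] at h1
  exact hab (h1 ha hb)

/-- In a sharply 2-transitive group the derangements form one class. -/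
theorem isConj_derangements [Finite G] [Fintype Ω] (h2 : 2 ≤ Fintype.card Ω)
    [IsMultiplyPretransitive G Ω 2]
    (hfrob : ∀ g : G, g ≠ 1 → ∀ a b : Ω, a ≠ b → g • a = a → g • b ≠ b) :
    (∃ g : G, ∀ ω : Ω, g • ω ≠ ω) ∧
      ∀ g g' : G, (∀ ω : Ω, g • ω ≠ ω) → (∀ ω : Ω, g' • ω ≠ ω) → IsConj g g' := by
  classical
  have hsharp : ∀ x : Fin 2 ↪ Ω, stabilizer G x = ⊥ := fun x => by
    rw [Subgroup.eq_bot_iff_forall]
    intro g hg
    by_contra hg1
    have h : ∀ i, g • x i = x i := fun i => DFunLike.congr_fun (mem_stabilizer_iff.mp hg) i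
    exact hfrob g hg1 (x 0) (x 1) (fun e => absurd (x.injective e) (by decide)) (h 0) (h 1)
  obtain ⟨N, p, j, -, -, -, hNn, hNc, hmem, hcomm, -⟩ :=
    CfsgLib.SharplyTwo.exists_translations hsharp h2
  have hu : ∀ a b : Ω, ∃! g : N, g • a = b := CfsgLib.SharplyTwo.exists_unique_smul hNc
    (fun g hg => (hmem g).mp hg)
  obtain ⟨α, β, hαβ⟩ := Fintype.exists_pair_of_one_lt_card (by omega : 1 < Fintype.card Ω)
  refine ⟨?_, fun g g' hg hg' => ?_⟩
  · obtain ⟨⟨n, hn⟩, hnα, -⟩ := hu α β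
    refine ⟨n, ((hmem n).mp hn).resolve_left fun e => hαβ ?_⟩
    rw [← hnα]
    show α = n • α
    rw [e, one_smul]
  obtain ⟨c, hc1, hc2⟩ := is_two_pretransitive_iff.mp (inferInstance : IsMultiplyPretransitive G Ω 2)
    (Ne.symm (hg α) : α ≠ g • α) (Ne.symm (hg' α) : α ≠ g' • α)
  refine isConj_iff.mpr ⟨c, ?_⟩
  have h1 : c * g * c⁻¹ ∈ N := hNn.conj_mem g ((hmem g).mpr (Or.inr hg)) c
  have h3 : (⟨c * g * c⁻¹, h1⟩ : N) = ⟨g', (hmem g').mpr (Or.inr hg')⟩ :=
    (hu α (g' • α)).unique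
      (show (c * g * c⁻¹) • α = g' • α by
        rw [mul_smul, mul_smul, inv_smul_eq_iff.mpr hc1.symm, hc2]) rfl
  exact congrArg Subtype.val h3

/-- One class in a regular abelian normal subgroup gives 2-transitivity. -/
theorem two_pretransitive_of_isConj {N : Subgroup G} (hab : IsMulCommutative N) [N.Normal]
    (htr : IsPretransitive N Ω)
    (hone : ∀ a ∈ N, ∀ b ∈ N, a ≠ 1 → b ≠ 1 → IsConj a b) : IsMultiplyPretransitive G Ω 2 := by
  rw [is_two_pretransitive_iff]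
  intro a b c e hab' hce
  obtain ⟨⟨m, hm⟩, hma⟩ := htr.exists_smul_eq a c
  obtain ⟨⟨u, hu⟩, hua⟩ := htr.exists_smul_eq c (m • b)
  obtain ⟨⟨v, hv⟩, hvc⟩ := htr.exists_smul_eq c e
  have hma' : m • a = c := hma
  have hua' : u • c = m • b := hua
  have hvc' : v • c = e := hvc
  have hu1 : u ≠ 1 := fun h => hab' (by
    rw [h, one_smul, ← hma'] at hua'
    exact smul_left_cancel m hua')
  have hv1 : v ≠ 1 := fun h => hce (by rw [h, one_smul] at hvc'; exact hvc')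
  obtain ⟨g, hgc, hg⟩ := exists_stabilizer_conj hab htr hu (hone u hu v hv hu1 hv1) c
  refine ⟨g * m, by rw [mul_smul, hma', hgc], ?_⟩
  rw [mul_smul, ← hua', ← hvc', ← hg, mul_smul, mul_smul, inv_smul_eq_iff.mpr hgc.symm]

end CfsgLib.DerangeCount
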