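import Mathlib

/-!
Counting subspaces over a finite field.
-/

set_option autoImplicit false
set_option linter.style.haveILetI false

namespace CfsgLib.Derange

open Module Finset

/-- `∏_{t=1}^{k} (q^t - 1)`. -/
def qFac (q k : ℕ) : ℕ := ∏ t ∈ range k, (q ^ (t + 1) - 1)

theorem qFac_pos {q : ℕ} (hq : 2 ≤ q) (k : ℕ) : 0 < qFac q k :=
  prod_pos fun t _ => Nat.sub_pos_of_lt (Nat.one_lt_pow (by omega) hq)

theorem qFac_not_dvd {q p : ℕ} (hp : p.Prime) (hpq : p ∣ q) (hq : 2 ≤ q) (k : ℕ) : ¬ p ∣ qFac q k := by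
  intro h
  obtain ⟨t, -, ht⟩ := (Prime.dvd_finsetProd_iff hp.prime _).mp h
  have h1 : p ∣ q ^ (t + 1) := hpq.trans (dvd_pow_self q (by omega))
  have h2 := Nat.dvd_sub h1 ht
  rw [Nat.sub_sub_self (Nat.one_le_pow _ _ (by omega))] at h2
  exact hp.not_dvd_one h2

theorem qFac_split (q : ℕ) {n k : ℕ} (_hk : k ≤ n) :
    qFac q n = qFac q (n - k) * ∏ t ∈ Ico (n - k) n, (q ^ (t + 1) - 1) :=
  (prod_range_mul_prod_Ico _ (Nat.sub_le n k)).symm

theorem frames_eq (q : ℕ) {n k : ℕ} (hk : k ≤ n) :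
    (∏ j : Fin k, (q ^ n - q ^ (j : ℕ))) * qFac q (n - k) = q ^ (∑ j ∈ range k, j) * qFac q n := by
  rw [qFac_split q hk, Fin.prod_univ_eq_prod_range (fun j => q ^ n - q ^ j), ← prod_pow_eq_pow_sum]
  have h : ∀ j ∈ range k, q ^ n - q ^ j = q ^ j * (q ^ (n - j) - 1) := fun j hj => by
    rw [Nat.mul_sub, mul_one, ← pow_add, Nat.add_sub_cancel' (by rw [mem_range] at hj; omega)]
  have h2 : ∏ t ∈ Ico (n - k) n, (q ^ (t + 1) - 1) = ∏ j ∈ range k, (q ^ (n - j) - 1) := by
    rw [prod_Ico_eq_prod_range, show n - (n - k) = k by omega, ← prod_range_reflect]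
    refine prod_congr rfl fun j hj => ?_
    rw [mem_range] at hj
    congr 2
    omega
  rw [prod_congr rfl h, prod_mul_distrib, h2]
  ring

variable {F : Type*} [Field F] [Fintype F] {V : Type*} [AddCommGroup V] [Module F V] [Finite V]

/-- Bases of subspaces are the frames. -/
theorem card_subspaces_mul {q : ℕ} (hq : Fintype.card F = q) {k : ℕ} (hk : k ≤ finrank F V) :
    Nat.card {W : Submodule F V // finrank F W = k} * (qFac q k * qFac q (finrank F V - k)) =
      qFac q (finrank F V) := by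
  classical
  haveI := Fintype.ofFinite V
  haveI : FiniteDimensional F V := Module.Finite.of_finite
  haveI : Finite {W : Submodule F V // finrank F W = k} :=
    Finite.of_injective (fun W => (W.1 : Set V)) fun a b h => Subtype.ext (SetLike.coe_injective h)
  haveI := Fintype.ofFinite {W : Submodule F V // finrank F W = k}
  let g : (Σ W : {W : Submodule F V // finrank F W = k}, {s : Fin k → W.1 // LinearIndependent F s}) →
      {s : Fin k → V // LinearIndependent F s} :=
    fun s => ⟨fun j => (s.2.1 j : V), s.2.2.map' s.1.1.subtype s.1.1.ker_subtype⟩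
  have hspan : ∀ a, Submodule.span F (Set.range (g a).1) = a.1.1 := by
    rintro ⟨⟨W, hW⟩, ⟨s, hs⟩⟩
    refine Submodule.eq_of_le_of_finrank_eq (Submodule.span_le.mpr ?_) ?_
    · rintro _ ⟨j, rfl⟩
      exact (s j).2
    · rw [finrank_span_eq_card (g ⟨⟨W, hW⟩, ⟨s, hs⟩⟩).2, Fintype.card_fin, hW]
  have hg : Function.Bijective g := by
    refine ⟨fun a a' h => ?_, fun s => ?_⟩
    · obtain ⟨W, s, hs⟩ := a
      obtain ⟨W', s', hs'⟩ := a'
      obtain rfl : W = W' := Subtype.ext (by
        rw [← hspan ⟨W, s, hs⟩, ← hspan ⟨W', s', hs'⟩, h])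
      have hss : s = s' := funext fun j => Subtype.ext (congrFun (congrArg Subtype.val h) j)
      subst hss
      rfl
    · exact ⟨⟨⟨Submodule.span F (Set.range s.1), by rw [finrank_span_eq_card s.2, Fintype.card_fin]⟩,
        ⟨fun j => ⟨s.1 j, Submodule.subset_span ⟨j, rfl⟩⟩,
          LinearIndependent.of_comp (Submodule.span F (Set.range s.1)).subtype s.2⟩⟩, rfl⟩
  let e := (Equiv.ofBijective g hg).symm
  have h1 := Nat.card_congr e
  rw [card_linearIndependent hk, Nat.card_sigma, hq] at h1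
  have h2 : ∀ W : {W : Submodule F V // finrank F W = k},
      Nat.card {s : Fin k → W.1 // LinearIndependent F s} = ∏ j : Fin k, (q ^ k - q ^ (j : ℕ)) := by
    rintro ⟨W, hW⟩
    rw [card_linearIndependent hW.ge, hW, hq]
  simp only [h2, sum_const, card_univ, smul_eq_mul, ← Nat.card_eq_fintype_card] at h1
  have h3 := frames_eq q hk
  have h4 := frames_eq q (le_refl k)
  rw [Nat.sub_self, show qFac q 0 = 1 from rfl, mul_one] at h4
  rw [h1, h4] at h3
  have hpos : 0 < q ^ (∑ j ∈ range k, j) := pow_pos (hq ▸ Fintype.card_pos) _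
  rw [← Nat.mul_left_cancel_iff hpos]
  rw [← h3]
  ring

/-- Pairs `U ≤ W` of subspaces of given dimensions. -/
theorem card_flags_mul {q : ℕ} (hq : Fintype.card F = q) {a b : ℕ} (hab : a ≤ b) (hb : b ≤ finrank F V) :
    Nat.card {P : Submodule F V × Submodule F V // P.1 ≤ P.2 ∧ finrank F P.1 = a ∧ finrank F P.2 = b} *
      (qFac q a * qFac q (b - a) * qFac q (finrank F V - b)) = qFac q (finrank F V) := by
  classical
  haveI := Fintype.ofFinite V
  haveI : FiniteDimensional F V := Module.Finite.of_finite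
  haveI : Finite (Submodule F V) :=
    Finite.of_injective (fun W : Submodule F V => (W : Set V)) SetLike.coe_injective
  haveI := Fintype.ofFinite {W : Submodule F V // finrank F W = b}
  let e : {P : Submodule F V × Submodule F V // P.1 ≤ P.2 ∧ finrank F P.1 = a ∧ finrank F P.2 = b} ≃
      Σ W : {W : Submodule F V // finrank F W = b}, {U : Submodule F W.1 // finrank F U = a} :=
    { toFun := fun P => ⟨⟨P.1.2, P.2.2.2⟩, ⟨P.1.1.comap P.1.2.subtype,
          (Submodule.comapSubtypeEquivOfLe P.2.1).finrank_eq.trans P.2.2.1⟩⟩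
      invFun := fun s => ⟨(s.2.1.map s.1.1.subtype, s.1.1), Submodule.map_subtype_le _ _,
        (Submodule.finrank_map_subtype_eq _ _).trans s.2.2, s.1.2⟩
      left_inv := fun P => Subtype.ext (Prod.ext
        ((Submodule.map_comap_subtype _ _).trans (inf_eq_right.mpr P.2.1)) rfl)
      right_inv := by
        rintro ⟨⟨W, hW⟩, ⟨U, hU⟩⟩
        refine Sigma.ext rfl (heq_of_eq (Subtype.ext ?_))
        exact Submodule.comap_map_eq_of_injective W.injective_subtype U }
  have h2 : ∀ W : {W : Submodule F V // finrank F W = b},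
      Nat.card {U : Submodule F W.1 // finrank F U = a} * (qFac q a * qFac q (b - a)) = qFac q b := by
    rintro ⟨W, hW⟩
    have := card_subspaces_mul (V := W) hq (hW ▸ hab)
    rwa [hW] at this
  rw [Nat.card_congr e, Nat.card_sigma, Finset.sum_mul]
  simp only [← mul_assoc] at h2 ⊢
  simp only [h2, sum_const, card_univ, smul_eq_mul, ← Nat.card_eq_fintype_card]
  exact card_subspaces_mul hq hb

/-- A prime dividing a quotient of the `qFac`s. -/
theorem exists_exponent {p q r : ℕ} (hp : p.Prime) (hpq : p ∣ q) (hq : 2 ≤ q) [Fact r.Prime] {c D n k : ℕ}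
    (hk : k ≤ n) (h : c * (D * qFac q (n - k)) = qFac q n) (hr : r ∣ c) :
    r ≠ p ∧ ∃ j < k, orderOf (q : ZMod r) ∣ n - j := by
  have hrP : r.Prime := Fact.out
  refine ⟨fun e => qFac_not_dvd hp hpq hq n (h ▸ (e ▸ hr).mul_right _), ?_⟩
  rw [qFac_split q hk, ← mul_assoc, mul_comm (c * D)] at h
  have hd := (hr.mul_right D).trans (Nat.eq_of_mul_eq_mul_left (qFac_pos hq _) h).dvd
  obtain ⟨t, ht, hrt⟩ := (Prime.dvd_finsetProd_iff hrP.prime _).mp hd
  rw [Finset.mem_Ico] at ht
  refine ⟨n - (t + 1), by omega, ?_⟩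
  rw [show n - (n - (t + 1)) = t + 1 by omega]
  refine orderOf_dvd_of_pow_eq_one ?_
  rw [← ZMod.natCast_eq_zero_iff, Nat.cast_sub (Nat.one_le_pow _ _ (by omega)), sub_eq_zero, Nat.cast_pow,
    Nat.cast_one] at hrt
  exact hrt

end CfsgLib.Derange
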