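import Cfsg.Agent.Lib.Derange.OddNondeg

/-!
Even-dimensional orthogonal groups on non-degenerate subspaces of odd dimension: elements of prime order different from
the characteristic.
-/

set_option autoImplicit false
set_option linter.style.haveILetI false

namespace CfsgLib.Derange

open Polynomial Module QuadraticMap CfsgLib.Classical CfsgLib.Classical.OrthModels CfsgLib.Orth
open CfsgLib.Classical.OrthPrimeReal CfsgLib.Classical.OrthPrimeFactors

universe u

variable {F : Type u} [Field F] [Fintype F] {p : ℕ} [hp : Fact p.Prime] [CharP F p]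
  {ι : Type} [Fintype ι] [DecidableEq ι] {Q : QuadraticForm F (ι → F)}

/-- Subspaces isometric to a given one. -/
def IsoSub (Q : QuadraticForm F (ι → F)) (W₀ W : Submodule F (ι → F)) : Prop :=
  finrank F W = finrank F W₀ ∧ NondegOn Q W ∧ Iso (⇑(qOn Q W)) (⇑(qOn Q W₀))

omit hp [CharP F p] in
theorem isoSub_iff {W₀ W : Submodule F (ι → F)} {m : ℕ} (hm : finrank F W₀ = m) :
    (finrank F ↥W = m ∧ Cfsg.Geo.IsNondegenerateOn (QuadraticMap.polar ⇑Q) W ∧
        Cfsg.Geo.AreIsometricFor ⇑Q W W₀) ↔ IsoSub Q W₀ W :=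
  ⟨fun h => ⟨h.1.trans hm.symm, nondegOn_of h.2.1, h.2.2⟩, fun h => ⟨h.1.trans hm, nondegOn_geo h.2.1, h.2.2⟩⟩

omit hp [CharP F p] in
theorem isoSub_img (g : Grp Q) {W₀ W : Submodule F (ι → F)} (hW : IsoSub Q W₀ W) : IsoSub Q W₀ (img g W) :=
  ⟨(finrank_img g W).trans hW.1, nondegOn_img hW.2.1 g, (iso_img g W).symm.trans hW.2.2⟩

include hp in
/-- The criterion. -/
theorem parabolic_iff {q r i t : ℕ} {D : Finset F[X]} (X : Ctx F p q r i t D) (h2 : (2 : F) ≠ 0)
    (hB : Nondeg Q) {d a : ℕ} (hd : 3 ≤ d) (hcard : Fintype.card ι = 2 * d) (had : a < d)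
    {W₀ : Submodule F (ι → F)} (hW₀ : NondegOn Q W₀) (hW₀d : finrank F W₀ = 2 * a + 1) :
    (∀ x : GL ι F, x ∈ Cfsg.Geo.omegaGL ⇑Q →
      (∃ z : F, ((x ^ r : GL ι F) : Matrix ι ι F) = z • (1 : Matrix ι ι F)) →
      (∀ z : F, (x : Matrix ι ι F) ≠ z • (1 : Matrix ι ι F)) →
      ∃ W : Submodule F (ι → F), (finrank F ↥W = 2 * a + 1 ∧ Cfsg.Geo.IsNondegenerateOn (QuadraticMap.polar ⇑Q) W ∧
        Cfsg.Geo.AreIsometricFor ⇑Q W W₀) ∧ W.map (Matrix.toLin' (x : Matrix ι ι F)) ≤ W) ↔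
    (∀ e K, 0 < K → e + unitDim i * K = 2 * d → (0 < e ∨ (Cfsg.Geo.IsPlusTypeOn ⇑Q ⊤ ↔ PlusFree i K)) →
      ∃ e' A, e' + unitDim i * A = 2 * a + 1 ∧ A ≤ K ∧ e' ≤ e) := by
  classical
  have hpi : finrank F (ι → F) = 2 * d := by rw [Module.finrank_pi, hcard]
  have htop : Cfsg.Geo.IsPlusTypeOn ⇑Q ⊤ ↔ Iso (⇑Q) (Cfsg.quadFormPlus d F) := by
    rw [isPlusTypeOn_iff (W := (⊤ : Submodule F (ι → F))) (fun x _ h => hB x fun y => h y Submodule.mem_top)
      (by rwa [finrank_top])]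
    have h : Iso (⇑(qOn Q ⊤)) (⇑Q) := ⟨Submodule.topEquiv, fun x => rfl⟩
    exact ⟨fun h' => h.symm.trans h', fun h' => h.trans h'⟩
  have horth : ∀ {W : Submodule F (ι → F)}, finrank F W = 2 * a + 1 →
      finrank F (orth Q W) = 2 * (d - a - 1) + 1 := fun {W} hW => by
    have := finrank_orth hB W
    rw [hW, hpi] at this
    omega
  have hrodd : Odd r := X.prime.odd_of_ne_two X.ne_two
  constructor
  · intro H e K hK he hsgn
    obtain ⟨f, hf⟩ := exists_of_shape X.facts X.t_pos e K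
    have hreal : Real r (⇑Q) f := (real_even_iff X Q (bilin_nondeg hB) hpi f).mpr
      ⟨e, K, hf, he, hsgn.imp_right fun h => htop.symm.trans h⟩
    obtain ⟨x, hxΩ, hx, hxc, -, hxs⟩ := exists_element hB (by omega) X hK hf hreal
    obtain ⟨W, hW, hWx⟩ := H x hxΩ ⟨1, by rw [← SubmonoidClass.coe_pow, hx, one_smul]; rfl⟩ hxs
    obtain ⟨hWd, hWn, -⟩ := (isoSub_iff hW₀d).1 hW
    have hWd' := hWd.trans hW₀d
    obtain ⟨fA, fB, hA, hB', hAB⟩ := real_restrict hB x hx hWn fun w hw => hWx (Submodule.mem_map_of_mem hw)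
    obtain ⟨e', A, hsA, hdA⟩ := exists_shaped X.facts ((real_odd_iff X h2 _ (qOn_nondeg hWn) hWd' fA).mp hA)
    obtain ⟨eB, KB, hsB, -⟩ := exists_shaped X.facts
      ((real_odd_iff X h2 _ (qOn_nondeg (nondegOn_orth hB hWn)) (horth hWd') fB).mp hB')
    obtain ⟨he1, hK1⟩ := hf.unique X.facts (hxc ▸ hAB ▸ hsA.mul hsB)
    exact ⟨e', A, hdA, by omega, by omega⟩
  · rintro H x hxΩ ⟨z, hz⟩ hxs
    obtain ⟨g, -, rfl⟩ := hxΩ
    obtain ⟨v, hv⟩ := exists_aniso hB (by omega)
    have hzz : z * z = 1 := by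
      have h1 := ap_q (g ^ r) v
      rw [ap, SubmonoidClass.coe_pow, show ((g : GL ι F) ^ r : GL ι F).1 = z • (1 : Matrix ι ι F) from hz,
        Matrix.smul_mulVec, Matrix.one_mulVec, q_smul] at h1
      exact mul_right_cancel₀ hv (h1.trans (one_mul _).symm)
    have hapz : ∀ w, ap (g ^ r) w = z • w := fun w => by
      rw [ap, SubmonoidClass.coe_pow, show ((g : GL ι F) ^ r : GL ι F).1 = z • (1 : Matrix ι ι F) from hz,
        Matrix.smul_mulVec, Matrix.one_mulVec]
    rcases mul_self_eq_one_iff.1 hzz with rfl | rfl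
    · have hg : g ^ r = 1 := ext_ap fun w => by rw [hapz, one_smul, ap_one]
      have hne : g ≠ 1 := fun h => hxs 1 (by rw [h, one_smul]; rfl)
      obtain ⟨e, K, hs, hd', hsgn⟩ := (real_even_iff X Q (bilin_nondeg hB) hpi (cp g)).mp (real_of_grp g hg)
      obtain ⟨e', A, hm, hAK, he'⟩ := H e K (units_pos hB X hg hne hs) hd'
        (hsgn.imp_right fun h => htop.trans h)
      obtain ⟨fA, fB, hfAB, hsA, hsB⟩ := hs.split X.facts he' hAK
      have hdeg : (e - e') + unitDim i * (K - A) = 2 * (d - a - 1) + 1 := by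
        have h' : unitDim i * A ≤ unitDim i * K := Nat.mul_le_mul_left _ hAK
        rw [Nat.mul_sub]
        omega
      obtain ⟨h, hh⟩ := exists_invariant hB X.prime X.ne_two X.ne_char g hg hW₀
        ((real_odd_iff X h2 _ (qOn_nondeg hW₀) hW₀d fA).mpr (hm ▸ hsA.isT))
        ((real_odd_iff X h2 _ (qOn_nondeg (nondegOn_orth hB hW₀)) (horth hW₀d) fB).mpr (hdeg ▸ hsB.isT)) hfAB
      exact ⟨img h W₀, (isoSub_iff hW₀d).2 (isoSub_img h ⟨rfl, hW₀, Iso.refl _⟩),
        by rintro _ ⟨w, hw, rfl⟩; exact hh w hw⟩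
    · let n : Grp Q := ⟨-1, fun u _ => by
        show Q (((-1 : GL ι F) : Matrix ι ι F).mulVec u) = Q u
        rw [Units.val_neg, Units.val_one, Matrix.neg_mulVec, Matrix.one_mulVec, ← neg_one_smul F u, q_smul]
        ring⟩
      have hn : ∀ w, ap n w = -w := fun w => by
        show ((-1 : GL ι F) : Matrix ι ι F).mulVec w = -w
        rw [Units.val_neg, Units.val_one, Matrix.neg_mulVec, Matrix.one_mulVec]
      have hng : n * g = g * n := ext_ap fun w => by
        rw [ap_mul, ap_mul, hn, hn, ← neg_one_smul F w, ap_smul, neg_one_smul]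
      have hg : (n * g) ^ r = 1 := by
        refine ext_ap fun w => ?_
        rw [(Commute.pow_pow (show Commute n g from hng) r r |> fun _ => (show Commute n g from hng).mul_pow r),
          ap_mul, hapz, ap_one]
        have h1 : ∀ j : ℕ, ap (n ^ j) (( -1 : F) • w) = ((-1 : F) ^ (j + 1)) • w := fun j => by
          induction j with
          | zero => rw [pow_zero, ap_one, zero_add, pow_one]
          | succ j ih => rw [pow_succ', ap_mul, ih, hn, ← neg_smul, pow_succ (-1 : F) (j + 1)]; ring_nf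
        rw [h1, (hrodd.add_odd odd_one).neg_one_pow, one_smul]
      have hne : n * g ≠ 1 := fun h => hxs (-1) (by
        have h' : g = n⁻¹ := eq_inv_of_mul_eq_one_right h
        rw [h']
        show (((n : GL ι F)⁻¹ : GL ι F) : Matrix ι ι F) = _
        rw [inv_neg, inv_one, Units.val_neg, Units.val_one, neg_one_smul])
      obtain ⟨e, K, hs, hd', hsgn⟩ := (real_even_iff X Q (bilin_nondeg hB) hpi (cp (n * g))).mp (real_of_grp _ hg)
      obtain ⟨e', A, hm, hAK, he'⟩ := H e K (units_pos hB X hg hne hs) hd'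
        (hsgn.imp_right fun h => htop.trans h)
      obtain ⟨fA, fB, hfAB, hsA, hsB⟩ := hs.split X.facts he' hAK
      have hdeg : (e - e') + unitDim i * (K - A) = 2 * (d - a - 1) + 1 := by
        have h' : unitDim i * A ≤ unitDim i * K := Nat.mul_le_mul_left _ hAK
        rw [Nat.mul_sub]
        omega
      obtain ⟨h, hh⟩ := exists_invariant hB X.prime X.ne_two X.ne_char (n * g) hg hW₀
        ((real_odd_iff X h2 _ (qOn_nondeg hW₀) hW₀d fA).mpr (hm ▸ hsA.isT))
        ((real_odd_iff X h2 _ (qOn_nondeg (nondegOn_orth hB hW₀)) (horth hW₀d) fB).mpr (hdeg ▸ hsB.isT)) hfAB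
      refine ⟨img h W₀, (isoSub_iff hW₀d).2 (isoSub_img h ⟨rfl, hW₀, Iso.refl _⟩), ?_⟩
      rintro _ ⟨w, hw, rfl⟩
      have h1 := hh w hw
      rw [ap_mul, hn] at h1
      have h3 := (img h W₀).neg_mem h1
      rw [neg_neg] at h3
      rw [Matrix.toLin'_apply]
      exact h3

include hp in
/-- A prime dividing the number of subspaces. -/
theorem parabolic_window {q r i : ℕ} (hq : Fintype.card F = q) (hr : r.Prime) (hrp : r ≠ p)
    (hi : i = orderOf (q : ZMod r)) (h2 : (2 : F) ≠ 0) {d a : ℕ} (hcard : Fintype.card ι = 2 * d) (had : a < d)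
    (hB : Nondeg Q) {W₀ : Submodule F (ι → F)} (hW₀ : NondegOn Q W₀) (hW₀d : finrank F W₀ = 2 * a + 1)
    (hN : r ∣ Nat.card {W // IsoSub Q W₀ W}) :
    ∃ j, d - a - 1 < j ∧ j ≤ d ∧ unitDim i ∣ 2 * j := by
  classical
  have hpi : finrank F (ι → F) = 2 * d := by rw [Module.finrank_pi, hcard]
  obtain ⟨R, φ, hφ, hR, hRn, hfix⟩ := exists_embed_odd hB h2 (nondegOn_orth hB hW₀) (k := d - a - 1) (by
    have := finrank_orth hB W₀
    omega)
  have h := card_mul_dvd (IsoSub Q W₀) (fun g W hW => isoSub_img g hW) (W₀ := W₀) ⟨rfl, hW₀, Iso.refl _⟩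
    (fun W hW => exists_move hB hW.2.2.symm) φ hφ (hfix W₀ (orth_orth hB W₀).ge)
  rw [card_orth_odd h2 (d - a - 1) hR hRn, Nat.card_eq_fintype_card (α := F), hq] at h
  obtain ⟨hrq, hq2⟩ := not_dvd_card (p := p) hq hr hrp
  obtain ⟨b, hb⟩ : ∃ b, Nat.card (Grp Q) ∣ 2 * q ^ b * ∏ j ∈ Finset.range d, (q ^ (2 * (j + 1)) - 1) := by
    obtain ⟨k, rfl⟩ : ∃ k, d = k + 1 := ⟨d - 1, by omega⟩
    refine ⟨(k + 1) * k, ?_⟩
    rw [Finset.prod_range_succ]
    set P := ∏ i ∈ Finset.range k, (q ^ (2 * (i + 1)) - 1) with hPdef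
    have hsq : q ^ (2 * (k + 1)) - 1 = (q ^ (k + 1) - 1) * (q ^ (k + 1) + 1) := by
      obtain ⟨Y, hY⟩ : ∃ Y, q ^ (k + 1) = Y + 1 :=
        ⟨_, (Nat.sub_add_cancel (Nat.one_le_pow _ _ (by omega))).symm⟩
      rw [mul_comm 2, pow_mul, hY, Nat.add_sub_cancel]
      apply Nat.sub_eq_of_eq_add
      ring
    obtain ⟨a', b', hab⟩ := RestrictScalars.exists_ab (F := F)
    rcases classify_even Q (bilin_nondeg hB) hpi a' b' hab with ⟨e, he⟩ | ⟨j, hj, e, he⟩
    · obtain ⟨Pq, hPq, hPn⟩ := exists_quadForm_plus (F := F) (k + 1)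
      rw [card_grp_congr hB hPn e (fun x => by rw [hPq]; exact he x), card_orth_plus (k + 1) (by omega) hPq hPn,
        Nat.card_eq_fintype_card, hq, Nat.add_sub_cancel, ← hPdef, hsq]
      exact ⟨q ^ (k + 1) + 1, by ring⟩
    · obtain rfl : j = k := by omega
      obtain ⟨Pq, hPq, hPn⟩ := exists_quadForm_minus j hab
      rw [← hPq] at he
      have hc : Nat.card (Grp Pq) = 2 * Nat.card F ^ ((j + 1) * j) * (Nat.card F ^ (j + 1) + 1) *
          ∏ i ∈ Finset.range j, (Nat.card F ^ (2 * (i + 1)) - 1) :=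
        card_orth_minus (j + 1) (by omega) hab (Q := Pq) hPq hPn
      rw [card_grp_congr hB hPn e he, hc, Nat.card_eq_fintype_card, hq, ← hPdef, hsq]
      exact ⟨q ^ (j + 1) - 1, by ring⟩
  exact exists_window hr hrq hq2 hi two_pos (by omega) hN (h.trans hb)

/-- The criterion in numbers. -/
theorem parabolic_arith {i d a j : ℕ} (hi : 0 < i) (σ : Prop) (had : a < d) (hj : d - a - 1 < j) (hjd : j ≤ d)
    (hdvd : unitDim i ∣ 2 * j) :
    (∀ e K, 0 < K → e + unitDim i * K = 2 * d → (0 < e ∨ (σ ↔ PlusFree i K)) →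
        ∃ e' A, e' + unitDim i * A = 2 * a + 1 ∧ A ≤ K ∧ e' ≤ e) ↔
      ((2 * d) % unitDim i = 0 ∧ ¬ (σ ↔ PlusFree i (2 * d / unitDim i))) ∨
        (unitDim i ≤ 2 * a + 1 ∧ 0 < (2 * a + 1) % unitDim i ∧
          (2 * a + 1) % unitDim i < (2 * d) % unitDim i) := by
  set c := unitDim i with hcdef
  have hc0 : 0 < c := unitDim_pos hi
  obtain ⟨w, hw⟩ : Even c := even_unitDim
  set m := 2 * a + 1 with hm
  have hN := Nat.mod_add_div (2 * d) c
  have hM := Nat.mod_add_div m c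
  have hclt := Nat.mod_lt (2 * d) hc0
  have hmlt := Nat.mod_lt m hc0
  have heven : ∀ A, c * A = 2 * (w * A) := fun A => by rw [hw]; ring
  have hμ : 0 < m % c := by have := heven (m / c); omega
  have hρ2 : (2 * d) % c % 2 = 0 := by have := heven (2 * d / c); omega
  have hcd : c ≤ 2 * d := (Nat.le_of_dvd (by omega) hdvd).trans (by omega)
  have hge : m % c < (2 * d) % c → c ≤ m := fun hlt => by
    by_contra h
    push Not at h
    obtain ⟨l, hl⟩ := hdvd
    rw [Nat.mod_eq_of_lt h, show 2 * d = 2 * (d - j) + c * l by omega, Nat.add_mul_mod_self_left] at hlt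
    have := Nat.mod_le (2 * (d - j)) c
    omega
  constructor
  · intro H
    by_cases hlt : m % c < (2 * d) % c
    · exact Or.inr ⟨hge hlt, hμ, hlt⟩
    push Not at hlt
    by_cases hall : 0 < (2 * d) % c ∨ (σ ↔ PlusFree i (2 * d / c))
    · obtain ⟨e', A, he, -, hle⟩ := H _ _ (Nat.div_pos hcd hc0) hN hall
      exfalso
      have : m % c ≤ e' := by
        rw [← he, Nat.add_mul_mod_self_left]; exact Nat.mod_le _ _
      have := heven A
      omega
    · push Not at hall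
      exact Or.inl ⟨by omega, fun h => by tauto⟩
  · intro hcase e K hK he hsgn
    have hKN : K ≤ 2 * d / c := (Nat.le_div_iff_mul_le hc0).2 (by rw [mul_comm]; omega)
    by_cases ha : m / c ≤ K
    · refine ⟨m % c, m / c, hM, ha, ?_⟩
      have hcK : c * K ≤ c * (2 * d / c) := Nat.mul_le_mul_left c hKN
      rcases hcase with ⟨hρ, hno⟩ | ⟨-, -, hlt⟩
      · rcases hKN.lt_or_eq with h | h
        · have h1 : c * (K + 1) ≤ c * (2 * d / c) := Nat.mul_le_mul_left c h
          rw [mul_add, mul_one] at h1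
          omega
        · exfalso
          have h1 : c * K = c * (2 * d / c) := by rw [h]
          exact hno (h ▸ hsgn.resolve_left (by omega))
      · omega
    · push Not at ha
      have h1 : c * (K + 1) ≤ c * (m / c) := Nat.mul_le_mul_left c ha
      rw [mul_add, mul_one] at h1
      exact ⟨m - c * K, K, by omega, le_rfl, by omega⟩

end CfsgLib.Derange
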