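import Cfsg.Agent.Lib.Derange.OrthExist
import Cfsg.Agent.Lib.Classical.OmegaApps

/-!
An involutive isometry has invariant hyperbolic subspaces of every admissible dimension.
-/

set_option autoImplicit false

namespace CfsgLib.Derange

open Module CfsgLib.Orth

variable {F : Type*} [Field F] [Fintype F] {ι : Type} [Fintype ι] [DecidableEq ι] {Q : QuadraticForm F (ι → F)}

local notation "B" => QuadraticMap.polar (DFunLike.coe Q)

/-- Two subspaces on which an involution acts by scalars, spanning a space of dimension at least three. -/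
theorem exists_hyperbolic_eigen (hB : Nondeg Q) (h2 : (2 : F) ≠ 0) (t : Grp Q) {E E' : Submodule F (ι → F)}
    (hE : NondegOn Q E) (hE' : NondegOn Q E') (hperp : ∀ u ∈ E, ∀ v ∈ E', B u v = 0)
    {s₁ s₂ : F} (hs₁ : ∀ u ∈ E, ap t u = s₁ • u) (hs₂ : ∀ u ∈ E', ap t u = s₂ • u)
    (hd : 3 ≤ finrank F E + finrank F E') (hle : finrank F E' ≤ finrank F E) :
    ∃ s f, s ∈ E ⊔ E' ∧ f ∈ E ⊔ E' ∧ Q s = 0 ∧ Q f = 0 ∧ B s f = 1 ∧
      ap t s ∈ Submodule.span F {s, f} ∧ ap t f ∈ Submodule.span F {s, f} := by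
  by_cases h0 : finrank F E' = 0
  · obtain ⟨s, f, hs, hf, -, hsq, hfq, hsf⟩ := exists_pair_in hB hE (bot_le : ⊥ ≤ E) (by rw [finrank_bot]; omega)
    refine ⟨s, f, Submodule.mem_sup_left hs.1, Submodule.mem_sup_left hf.1, hsq, hfq, hsf, ?_, ?_⟩
    · rw [hs₁ s hs.1]; exact Submodule.smul_mem _ _ (Submodule.subset_span (by simp))
    · rw [hs₁ f hf.1]; exact Submodule.smul_mem _ _ (Submodule.subset_span (by simp))
  · obtain ⟨v, hv, hqv⟩ : ∃ v ∈ E', Q v ≠ 0 := by
      by_contra hc
      push Not at hc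
      obtain ⟨x, hx, hx0⟩ := E'.exists_mem_ne_zero_of_ne_bot fun e => h0 (by rw [e, finrank_bot])
      refine hx0 (hE' x hx fun y hy => ?_)
      have := hc _ (E'.add_mem hx hy)
      rw [q_add, hc x hx, hc y hy, zero_add, zero_add] at this
      exact this
    obtain ⟨u, hu, hqu⟩ := exists_value (Q := Q) (fun x hx h => hE x hx h) h2 (by omega) (-Q v)
    have huv : B u v = 0 := hperp u hu v hv
    have hu0 : Q u ≠ 0 := by rw [hqu, neg_ne_zero]; exact hqv
    have h4 : (4 : F) * Q u ≠ 0 := mul_ne_zero (by rw [show (4 : F) = 2 * 2 by norm_num]; exact mul_ne_zero h2 h2) hu0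
    have hmem : ∀ a b : F, a • u + b • v ∈ Submodule.span F ({u + v, (4 * Q u)⁻¹ • (u - v)} : Set (ι → F)) := fun a b => by
      rw [show a • u + b • v = ((a + b) / 2) • (u + v) + ((a - b) / 2 * (4 * Q u)) • ((4 * Q u)⁻¹ • (u - v)) by
        rw [smul_smul, mul_assoc, mul_inv_cancel₀ h4, mul_one]
        have e1 : a = (a + b) / 2 + (a - b) / 2 := by field_simp; ring
        have e2 : b = (a + b) / 2 - (a - b) / 2 := by field_simp; ring
        conv_lhs => rw [e1, e2]
        module]
      exact add_mem (Submodule.smul_mem _ _ (Submodule.subset_span (by simp)))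
        (Submodule.smul_mem _ _ (Submodule.subset_span (by simp)))
    refine ⟨u + v, (4 * Q u)⁻¹ • (u - v),
      add_mem (Submodule.mem_sup_left hu) (Submodule.mem_sup_right hv),
      Submodule.smul_mem _ _ (sub_mem (Submodule.mem_sup_left hu) (Submodule.mem_sup_right hv)), ?_, ?_, ?_, ?_, ?_⟩
    · rw [q_add, huv, hqu]; ring
    · rw [q_smul, q_sub, huv, hqu]; ring
    · rw [b_smul_right, b_sub_right, b_add_left, b_add_left, b_self, b_self, huv, b_comm v u, huv,
        show (Q v) = -Q u by rw [hqu, neg_neg]]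
      have h44 : (4 : F) ≠ 0 := left_ne_zero_of_mul h4
      field_simp
      ring
    · rw [ap_add, hs₁ u hu, hs₂ v hv]; exact hmem _ _
    · rw [ap_smul, ap_sub, hs₁ u hu, hs₂ v hv, show s₁ • u - s₂ • v = s₁ • u + (-s₂) • v by
        rw [neg_smul, sub_eq_add_neg]]
      exact Submodule.smul_mem _ _ (hmem _ _)

/-- An invariant nondegenerate subspace splits into the eigenspaces of an involution. -/
theorem exists_eigen (h2 : (2 : F) ≠ 0) (t : Grp Q) (ht : t * t = 1) {M : Submodule F (ι → F)}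
    (hM : NondegOn Q M) (hMt : ∀ w ∈ M, ap t w ∈ M) :
    ∃ E E' : Submodule F (ι → F), NondegOn Q E ∧ NondegOn Q E' ∧ (∀ u ∈ E, ∀ v ∈ E', B u v = 0) ∧
      E ⊔ E' ≤ M ∧ M ≤ E ⊔ E' ∧ (∀ u ∈ E, ap t u = (1 : F) • u) ∧ (∀ u ∈ E', ap t u = (-1 : F) • u) := by
  have htt : ∀ w, ap t (ap t w) = w := fun w => by rw [← ap_mul, ht, ap_one]
  let L := Matrix.toLin' ((t : GL ι F) : Matrix ι ι F)
  have hL : ∀ w, L w = ap t w := fun w => rfl
  let E : F → Submodule F (ι → F) := fun s => M ⊓ LinearMap.ker (L - s • LinearMap.id)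
  have hEs : ∀ s u, u ∈ E s → ap t u = s • u := fun s u hu => by
    have : L u - s • u = 0 := hu.2
    rwa [sub_eq_zero, hL] at this
  have hperp : ∀ u ∈ E 1, ∀ v ∈ E (-1), B u v = 0 := fun u hu v hv => by
    have h := ap_b t u v
    rw [hEs _ u hu, hEs _ v hv, b_smul_left, b_smul_right] at h
    have : (2 : F) * B u v = 0 := by linear_combination -h
    exact (mul_eq_zero.1 this).resolve_left h2
  have hsplit : ∀ w ∈ M, ∃ u ∈ E 1, ∃ v ∈ E (-1), w = u + v := fun w hw => by
    refine ⟨(2 : F)⁻¹ • (w + ap t w), ⟨M.smul_mem _ (M.add_mem hw (hMt w hw)), ?_⟩,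
      (2 : F)⁻¹ • (w - ap t w), ⟨M.smul_mem _ (M.sub_mem hw (hMt w hw)), ?_⟩, ?_⟩
    · show L _ - (1 : F) • _ = 0
      rw [hL, LinearMap.id_apply, ap_smul, ap_add, htt, one_smul, add_comm (ap t w) w, sub_self]
    · show L _ - (-1 : F) • _ = 0
      rw [hL, LinearMap.id_apply, ap_smul, ap_sub, htt, neg_one_smul, sub_neg_eq_add, ← smul_add, sub_add_sub_cancel, sub_self,
        smul_zero]
    · rw [← smul_add, show w + ap t w + (w - ap t w) = (2 : F) • w by rw [two_smul]; abel, smul_smul,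
        inv_mul_cancel₀ h2, one_smul]
  have hE1 : NondegOn Q (E 1) := fun x hx h => hM x hx.1 fun y hy => by
    obtain ⟨u, hu, v, hv, rfl⟩ := hsplit y hy
    rw [b_add_right, h u hu, hperp x hx v hv, add_zero]
  have hE2 : NondegOn Q (E (-1)) := fun x hx h => hM x hx.1 fun y hy => by
    obtain ⟨u, hu, v, hv, rfl⟩ := hsplit y hy
    rw [b_add_right, h v hv, b_comm, hperp u hu x hx, zero_add]
  exact ⟨E 1, E (-1), hE1, hE2, hperp, sup_le inf_le_left inf_le_left, fun w hw => by
      obtain ⟨u, hu, v, hv, rfl⟩ := hsplit w hw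
      exact add_mem (Submodule.mem_sup_left hu) (Submodule.mem_sup_right hv), hEs 1, hEs (-1)⟩

/-- An involution has invariant hyperbolic subspaces. -/
theorem exists_invariant_plus (hB : Nondeg Q) (h2 : (2 : F) ≠ 0) (t : Grp Q) (ht : t * t = 1) :
    ∀ a : ℕ, (1 ≤ a → 2 * a + 1 ≤ finrank F (ι → F)) →
      ∃ W : Submodule F (ι → F), NondegOn Q W ∧ finrank F W = 2 * a ∧ (∀ w ∈ W, ap t w ∈ W) ∧
        Cfsg.Geo.IsPlusTypeOn ⇑Q W := by
  intro a
  induction a with
  | zero =>
    intro _
    exact ⟨⊥, fun x hx _ => (Submodule.mem_bot F).1 hx, finrank_bot F (ι → F),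
      fun w hw => by rw [(Submodule.mem_bot F).1 hw, ap_zero]; exact zero_mem _,
      ⊥, le_rfl, fun w hw => by rw [(Submodule.mem_bot F).1 hw, QuadraticMap.map_zero], by simp⟩
  | succ a ih =>
    intro ha
    have ha := ha (by omega)
    obtain ⟨W, hW, hWd, hWt, U, hUW, hUs, hUd⟩ := ih fun _ => by omega
    set M := orth Q W
    have hM : NondegOn Q M := nondegOn_orth hB hW
    have hMt : ∀ w ∈ M, ap t w ∈ M := invariant_orth t hWt
    obtain ⟨E, E', hE1, hE2, hperp, hle, h3, hE1s, hE2s⟩ := exists_eigen h2 t ht hM hMt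
    have hdim : 3 ≤ finrank F E + finrank F E' := by
      have h1 := Submodule.finrank_add_le_finrank_add_finrank E E'
      have h4 := Submodule.finrank_mono h3
      have h5 : finrank F W + finrank F M = finrank F (ι → F) := finrank_orth hB W
      omega
    obtain ⟨s, f, hs, hf, hsq, hfq, hsf, hts, htf⟩ : ∃ s f, s ∈ M ∧ f ∈ M ∧ Q s = 0 ∧ Q f = 0 ∧ B s f = 1 ∧
        ap t s ∈ Submodule.span F {s, f} ∧ ap t f ∈ Submodule.span F {s, f} := by
      rcases le_total (finrank F E') (finrank F E) with h | h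
      · obtain ⟨s, f, hs, hf, rest⟩ := exists_hyperbolic_eigen hB h2 t hE1 hE2 hperp hE1s hE2s hdim h
        exact ⟨s, f, hle hs, hle hf, rest⟩
      · obtain ⟨s, f, hs, hf, rest⟩ := exists_hyperbolic_eigen hB h2 t hE2 hE1
          (fun u hu v hv => by rw [b_comm]; exact hperp v hv u hu) hE2s hE1s (by omega) h
        exact ⟨s, f, hle (sup_comm E E' ▸ hs), hle (sup_comm E E' ▸ hf), rest⟩
    set P := Submodule.span F ({s, f} : Set (ι → F)) with hP
    have hPM : P ≤ M := Submodule.span_le.2 (by rintro x (rfl | rfl) <;> assumption)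
    have hPn : NondegOn Q P := fun x hx h => by
      obtain ⟨c, e, rfl⟩ := Submodule.mem_span_pair.1 hx
      have h1 := h f (Submodule.subset_span (by simp))
      have h3 := h s (Submodule.subset_span (by simp))
      rw [b_add_left, b_smul_left, b_smul_left, hsf, b_self_zero hfq] at h1
      rw [b_add_left, b_smul_left, b_smul_left, b_self_zero hsq, b_comm f s, hsf] at h3
      simp only [mul_one, mul_zero, add_zero, zero_add] at h1 h3
      rw [h1, h3, zero_smul, zero_smul, add_zero]
    have hPd : finrank F P = 2 := by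
      have hli : LinearIndependent F ![s, f] := LinearIndependent.pair_iff.2 fun c e h => by
        have h1 := congrArg (fun z => B z f) h
        have h3 := congrArg (fun z => B z s) h
        simp only [b_add_left, b_smul_left, hsf, b_self_zero hfq, b_self_zero hsq, b_comm f s, b_zero_left] at h1 h3
        exact ⟨by simpa using h1, by simpa using h3⟩
      rw [hP, show ({s, f} : Set (ι → F)) = Set.range ![s, f] by simp [Matrix.range_cons, Set.pair_comm],
        finrank_span_eq_card hli, Fintype.card_fin]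
    have hdisj : W ⊓ P = ⊥ := (Submodule.eq_bot_iff _).2 fun x hx => nondeg_inf hW hx.1 (hPM hx.2)
    have hfr : ∀ A C : Submodule F (ι → F), A ≤ W → C ≤ P → finrank F ↥(A ⊔ C) = finrank F A + finrank F C :=
      fun A C hA hC => by
        have := Submodule.finrank_sup_add_finrank_inf_eq A C
        rwa [show A ⊓ C = ⊥ from le_bot_iff.1 (hdisj ▸ inf_le_inf hA hC), finrank_bot, add_zero] at this
    refine ⟨W ⊔ P, fun x hx h => ?_, ?_, ?_, U ⊔ Submodule.span F {s}, ?_, ?_, ?_⟩
    · obtain ⟨w, hw, z, hz, rfl⟩ := Submodule.mem_sup.1 hx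
      have hw0 : w = 0 := hW w hw fun y hy => by
        have := h y (Submodule.mem_sup_left hy)
        rwa [b_add_left, b_comm z y, mem_orth.1 (hPM hz) y hy, add_zero] at this
      subst hw0
      rw [zero_add] at h ⊢
      exact hPn z hz fun y hy => h y (Submodule.mem_sup_right hy)
    · rw [hfr W P le_rfl le_rfl, hWd, hPd]; ring
    · intro x hx
      obtain ⟨w, hw, z, hz, rfl⟩ := Submodule.mem_sup.1 hx
      rw [ap_add]
      refine add_mem (Submodule.mem_sup_left (hWt w hw)) (Submodule.mem_sup_right ?_)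
      obtain ⟨c, e, rfl⟩ := Submodule.mem_span_pair.1 hz
      rw [ap_add, ap_smul, ap_smul]
      exact add_mem (P.smul_mem _ hts) (P.smul_mem _ htf)
    · exact sup_le_sup hUW (Submodule.span_mono (by simp))
    · intro x hx
      obtain ⟨w, hw, z, hz, rfl⟩ := Submodule.mem_sup.1 hx
      obtain ⟨c, rfl⟩ := Submodule.mem_span_singleton.1 hz
      rw [q_add, hUs w hw, q_smul, hsq, b_smul_right, mem_orth.1 hs w (hUW hw)]
      ring
    · have hs0 : s ≠ 0 := ne_zero_of_b (show B s f ≠ 0 by rw [hsf]; exact one_ne_zero)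
      rw [hfr U _ hUW (Submodule.span_mono (by simp)), finrank_span_singleton hs0, hfr W P le_rfl le_rfl, hPd]
      omega

end CfsgLib.Derange
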