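import Cfsg.Agent.Lib.Derange.Window
import Cfsg.Agent.Lib.Derange.InvolutionPlanes

/-!
Odd-dimensional orthogonal groups on non-degenerate subspaces of even dimension: elements of prime order
different from the characteristic.
-/

set_option autoImplicit false
set_option linter.style.haveILetI false

namespace CfsgLib.Derange

open Polynomial Module QuadraticMap CfsgLib.Classical CfsgLib.Classical.OrthModels CfsgLib.Orth
open CfsgLib.Classical.OrthPrimeReal CfsgLib.Classical.OrthPrimeFactors CfsgLib.Classical.OrthPrimeCount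

universe u v

variable {F : Type u} [Field F] [Fintype F] {p : ℕ} [hp : Fact p.Prime] [CharP F p]
  {ι : Type} [Fintype ι] [DecidableEq ι] {Q : QuadraticForm F (ι → F)}

/-- Subspaces of one dimension and one type. -/
def TypedSub (Q : QuadraticForm F (ι → F)) (a : ℕ) (σ : Prop) (W : Submodule F (ι → F)) : Prop :=
  finrank F W = 2 * a ∧ NondegOn Q W ∧ (Cfsg.Geo.IsPlusTypeOn ⇑Q W ↔ σ)

omit hp [CharP F p] in
theorem iso_of_type {a : ℕ} {σ : Prop} {U W : Submodule F (ι → F)} (hU : TypedSub Q a σ U)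
    (hW : TypedSub Q a σ W) : Iso (⇑(qOn Q U)) (⇑(qOn Q W)) := by
  classical
  obtain ⟨b, c, hbc⟩ := RestrictScalars.exists_ab (F := F)
  have hU' := (isPlusTypeOn_iff hU.2.1 hU.1).symm.trans hU.2.2
  have hW' := (isPlusTypeOn_iff hW.2.1 hW.1).symm.trans hW.2.2
  by_cases hσ : σ
  · exact (hU'.2 hσ).trans (hW'.2 hσ).symm
  · obtain ⟨j, hj, h1⟩ := (classify_even (qOn Q U) (qOn_nondeg hU.2.1) hU.1 b c hbc).resolve_left
      fun h => hσ (hU'.1 h)
    obtain ⟨j', hj', h2⟩ := (classify_even (qOn Q W) (qOn_nondeg hW.2.1) hW.1 b c hbc).resolve_left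
      fun h => hσ (hW'.1 h)
    obtain rfl : j = j' := by omega
    exact h1.trans h2.symm

omit hp [CharP F p] in
theorem typedSub_img {a : ℕ} {σ : Prop} (g : Grp Q) {W : Submodule F (ι → F)} (hW : TypedSub Q a σ W) :
    TypedSub Q a σ (img g W) := by
  refine ⟨(finrank_img g W).trans hW.1, nondegOn_img hW.2.1 g, ?_⟩
  refine Iff.trans ?_ hW.2.2
  rw [isPlusTypeOn_iff (nondegOn_img hW.2.1 g) ((finrank_img g W).trans hW.1), isPlusTypeOn_iff hW.2.1 hW.1]
  exact ⟨fun h => (iso_img g W).trans h, fun h => (iso_img g W).symm.trans h⟩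

theorem mod_div_of_lt {c m e A : ℕ} (he : e < c) (h : e + c * A = m) : m % c = e ∧ m / c = A := by
  subst h
  exact ⟨by rw [Nat.add_mul_mod_self_left, Nat.mod_eq_of_lt he],
    by rw [Nat.add_mul_div_left _ _ (Nat.zero_lt_of_lt he), Nat.div_eq_of_lt he, zero_add]⟩

include hp in
/-- The criterion. -/
theorem odd_nondeg_iff {q r i t : ℕ} {D : Finset F[X]} (X : Ctx F p q r i t D) (h2 : (2 : F) ≠ 0)
    (hB : Nondeg Q) {d a : ℕ} (hd : 2 ≤ d) (hcard : Fintype.card ι = 2 * d + 1) (had : a ≤ d) (σ : Prop)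
    (hU : ∃ U, TypedSub Q a σ U) (hc : unitDim i ≤ 2 * d + 1) :
    (∀ x : GL ι F, x ∈ Cfsg.Geo.omegaGL ⇑Q → orderOf x = r →
      ∃ W : Submodule F (ι → F), (finrank F ↥W = 2 * a ∧ Cfsg.Geo.IsNondegenerateOn (QuadraticMap.polar ⇑Q) W ∧
        (Cfsg.Geo.IsPlusTypeOn ⇑Q W ↔ σ)) ∧ W.map (Matrix.toLin' (x : Matrix ι ι F)) ≤ W) ↔
    ((2 * a) % unitDim i < (2 * d + 1) % unitDim i ∧
      (0 < (2 * a) % unitDim i ∨ (σ ↔ PlusFree i (2 * a / unitDim i)))) := by
  classical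
  set c := unitDim i with hcdef
  have hc0 : 0 < c := unitDim_pos X.i_pos
  have hev : Even c := even_unitDim
  have hpi : finrank F (ι → F) = 2 * d + 1 := by rw [Module.finrank_pi, hcard]
  have horth : ∀ {W : Submodule F (ι → F)}, finrank F W = 2 * a →
      finrank F (orth Q W) = 2 * (d - a) + 1 := fun {W} hW => by
    have := finrank_orth hB W
    rw [hW, hpi] at this
    omega
  constructor
  · intro H
    obtain ⟨f, hf⟩ := exists_of_shape X.facts X.t_pos ((2 * d + 1) % c) ((2 * d + 1) / c)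
    have hsum : (2 * d + 1) % c + c * ((2 * d + 1) / c) = 2 * d + 1 := Nat.mod_add_div _ _
    have hreal : Real r (⇑Q) f := (real_odd_iff X h2 Q (bilin_nondeg hB) hpi f).mpr (hsum ▸ hf.isT)
    obtain ⟨x, hxΩ, hx, hxc, hxr, -⟩ := exists_element hB (by omega) X (Nat.div_pos hc hc0) hf hreal
    obtain ⟨W, ⟨hWd, hWn, hWσ⟩, hWx⟩ := H x hxΩ hxr
    have hWn' := nondegOn_of hWn
    obtain ⟨fA, fB, hA, hB', hAB⟩ := real_restrict hB x hx hWn' fun w hw => hWx (Submodule.mem_map_of_mem hw)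
    obtain ⟨e', A, hsA, hdA, hsgn⟩ := (real_even_iff X _ (qOn_nondeg hWn') hWd fA).mp hA
    obtain ⟨eB, KB, hsB, hdB⟩ := exists_shaped X.facts
      ((real_odd_iff X h2 _ (qOn_nondeg (nondegOn_orth hB hWn')) (horth hWd) fB).mp hB')
    obtain ⟨he, -⟩ := hf.unique X.facts (hxc ▸ hAB ▸ hsA.mul hsB)
    have heB : 0 < eB := by
      rcases Nat.eq_zero_or_pos eB with rfl | h
      · obtain ⟨w, hw⟩ := hev
        rw [← hcdef, hw, add_mul] at hdB
        omega
      · exact h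
    have hlt : (2 * d + 1) % c < c := Nat.mod_lt _ hc0
    obtain ⟨h1, h3⟩ := mod_div_of_lt (c := c) (m := 2 * a) (e := e') (A := A) (by omega) hdA
    rw [h1, h3]
    exact ⟨by omega, hsgn.imp_right fun h => hWσ.symm.trans ((isPlusTypeOn_iff hWn' hWd).trans h)⟩
  · rintro ⟨hlt, hsgn⟩ x hxΩ hxr
    obtain ⟨g, -, rfl⟩ := hxΩ
    have hg : g ^ r = 1 := Subtype.ext (by
      rw [SubmonoidClass.coe_pow]; exact hxr ▸ pow_orderOf_eq_one _)
    have hne : g ≠ 1 := fun h => X.prime.ne_one (by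
      rw [← hxr, h]; exact orderOf_one)
    obtain ⟨e, K, hs, hsum⟩ := exists_shaped X.facts
      ((real_odd_iff X h2 Q (bilin_nondeg hB) hpi (cp g)).mp (real_of_grp g hg))
    have hK := units_pos hB X hg hne hs
    rw [← hcdef] at hsum
    have hKle : K ≤ (2 * d + 1) / c := (Nat.le_div_iff_mul_le hc0).mpr (by rw [mul_comm]; omega)
    have hm1 := Nat.mod_add_div (2 * a) c
    have hm2 := Nat.mod_add_div (2 * d + 1) c
    obtain ⟨A, e', hAK, he', hsplit, hA⟩ : ∃ A e', A ≤ K ∧ e' ≤ e ∧ e' + c * A = 2 * a ∧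
        (0 < e' ∨ (σ ↔ PlusFree i A)) := by
      by_cases hcase : 2 * a / c ≤ K
      · refine ⟨2 * a / c, (2 * a) % c, hcase, ?_, hm1, hsgn⟩
        have := Nat.mul_le_mul_left c hKle
        omega
      · have h' : c * (K + 1) ≤ c * (2 * a / c) := Nat.mul_le_mul_left c (by omega)
        rw [mul_add, mul_one] at h'
        exact ⟨K, 2 * a - c * K, le_rfl, by omega, by omega, Or.inl (by omega)⟩
    obtain ⟨fA, fB, hfAB, hsA, hsB⟩ := hs.split X.facts he' hAK
    obtain ⟨U, hUd, hUn, hUσ⟩ := hU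
    have hA' : Real r (⇑(qOn Q U)) fA := (real_even_iff X _ (qOn_nondeg hUn) hUd fA).mpr
      ⟨e', A, hsA, hsplit, hA.imp_right fun h => (isPlusTypeOn_iff hUn hUd).symm.trans (hUσ.trans h)⟩
    have hdeg : (e - e') + c * (K - A) = 2 * (d - a) + 1 := by
      have h' : c * A ≤ c * K := Nat.mul_le_mul_left c hAK
      rw [Nat.mul_sub]
      omega
    have hB' : Real r (⇑(qOn Q (orth Q U))) fB :=
      (real_odd_iff X h2 _ (qOn_nondeg (nondegOn_orth hB hUn)) (horth hUd) fB).mpr (hdeg ▸ hsB.isT)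
    obtain ⟨h, hh⟩ := exists_invariant hB X.prime X.ne_two X.ne_char g hg hUn hA' hB' hfAB
    obtain ⟨h1, h3, h4⟩ := typedSub_img h ⟨hUd, hUn, hUσ⟩
    exact ⟨img h U, ⟨h1, nondegOn_geo h3, h4⟩, by rintro _ ⟨w, hw, rfl⟩; exact hh w hw⟩

/-- Below the period the remainder condition fails. -/
theorem le_of_window {c a d j : ℕ} (hc : 2 ∣ c) (hj : d - a < j) (hjd : j ≤ d) (hdvd : c ∣ 2 * j)
    (hlt : (2 * a) % c < (2 * d + 1) % c) : c ≤ 2 * a := by
  by_contra h
  push Not at h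
  obtain ⟨l, hl⟩ := hdvd
  rw [Nat.mod_eq_of_lt h, show 2 * d + 1 = (2 * (d - j) + 1) + c * l by omega, Nat.add_mul_mod_self_left,
    Nat.mod_eq_of_lt (by obtain ⟨w, rfl⟩ := hc; omega)] at hlt
  omega

include hp in
/-- A prime dividing the number of these subspaces. -/
theorem odd_nondeg_window {q r i : ℕ} (hq : Fintype.card F = q) (hr : r.Prime) (hrp : r ≠ p)
    (hi : i = orderOf (q : ZMod r)) (h2 : (2 : F) ≠ 0) {d a : ℕ} (had : a ≤ d)
    {Q : QuadraticForm F (Unit ⊕ (Fin d ⊕ Fin d) → F)} (hQ : ⇑Q = Cfsg.quadFormOdd d F) (hB : Nondeg Q) (σ : Prop)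
    (hU : ∃ U, TypedSub Q a σ U) (hN : r ∣ Nat.card {W // TypedSub Q a σ W}) :
    ∃ j, d - a < j ∧ j ≤ d ∧ unitDim i ∣ 2 * j := by
  obtain ⟨U, hU⟩ := hU
  have hpi : finrank F (Unit ⊕ (Fin d ⊕ Fin d) → F) = 2 * d + 1 := by
    rw [Module.finrank_pi]; simp; omega
  have horth : finrank F (orth Q U) = 2 * (d - a) + 1 := by
    have := finrank_orth hB U
    rw [hU.1, hpi] at this
    omega
  obtain ⟨R, φ, hφ, hR, hRn, hfix⟩ := exists_embed_odd hB h2 (nondegOn_orth hB hU.2.1) horth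
  have h := card_mul_dvd (TypedSub Q a σ) (fun g W hW => typedSub_img g hW) hU
    (fun W hW => exists_move hB (iso_of_type hU hW)) φ hφ (hfix U (orth_orth hB U).ge)
  rw [card_orth_odd h2 (d - a) hR hRn, card_orth_odd h2 d hQ hB, Nat.card_eq_fintype_card (α := F), hq] at h
  obtain ⟨hrq, hq2⟩ := not_dvd_card (p := p) hq hr hrp
  exact exists_window hr hrq hq2 hi two_pos (by omega) hN h

omit hp [CharP F p] in
/-- Both types of subspaces occur. -/
theorem exists_typedSub (h2 : (2 : F) ≠ 0) {d a : ℕ} (ha : 1 ≤ a) (had : a ≤ d)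
    {Q : QuadraticForm F (Unit ⊕ (Fin d ⊕ Fin d) → F)} (hQ : ⇑Q = Cfsg.quadFormOdd d F) (hB : Nondeg Q) (σ : Prop) :
    ∃ U, TypedSub Q a σ U := by
  classical
  by_cases hσ : σ
  · obtain ⟨b, rfl⟩ : ∃ b, d = a + b := ⟨d - a, by omega⟩
    have h : Iso (add (Cfsg.quadFormPlus a F) (Cfsg.quadFormOdd b F)) (⇑Q) := by
      rw [hQ]
      exact (((Iso.refl _).sum (odd_def b).symm).trans (Iso.sum_assoc _ _ _).symm).trans
        (((plus_plus a b).sum (Iso.refl _)).trans (odd_def (a + b)))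
    obtain ⟨U, hUn, hUd, hUA, -⟩ := exists_sub hB h (by simp [Cfsg.quadFormPlus]) (by simp [Cfsg.quadFormOdd])
    have hd' : finrank F U = 2 * a := by rw [hUd, Module.finrank_pi]; simp; omega
    exact ⟨U, hd', hUn, iff_of_true ((isPlusTypeOn_iff hUn hd').mpr hUA.symm) hσ⟩
  · obtain ⟨b, c, hbc⟩ := RestrictScalars.exists_ab (F := F)
    obtain ⟨j, rfl⟩ : ∃ j, a = j + 1 := ⟨a - 1, by omega⟩
    obtain ⟨M, hM, hMn⟩ := exists_quadForm_minus j hbc
    obtain ⟨R, hR, hRn⟩ := exists_quadForm_odd h2 (d - (j + 1))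
    have hnd : ∀ v, (∀ w, QuadraticMap.polar (M.prod R) v w = 0) → v = 0 := fun v hv => by
      refine Prod.ext (hMn v.1 fun w => ?_) (hRn v.2 fun w => ?_)
      · simpa [QuadraticMap.polar] using hv (w, 0)
      · simpa [QuadraticMap.polar] using hv (0, w)
    obtain ⟨l, hl, e, he⟩ := classify_odd (M.prod R)
      ⟨hnd, fun v hv => hnd v fun w => by rw [QuadraticMap.polar_comm]; exact hv w⟩ (m := d)
      (by simp [Module.finrank_fintype_fun_eq_card]; omega)
    have h : Iso (add (fun v => l⁻¹ * M v) (fun v => l⁻¹ * R v)) (⇑Q) := ⟨e, fun v => by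
      have := he v
      simp only [QuadraticMap.prod_apply] at this
      show Q (e v) = l⁻¹ * M v.1 + l⁻¹ * R v.2
      rw [hQ, ← mul_add, ← this, ← mul_assoc, inv_mul_cancel₀ hl, one_mul]⟩
    obtain ⟨U, hUn, hUd, ⟨u, hu⟩, -⟩ := exists_sub hB h (by simp) (by simp)
    have hd' : finrank F U = 2 * (j + 1) := by rw [hUd, Module.finrank_pi]; simp; omega
    refine ⟨U, hd', hUn, iff_of_false ?_ hσ⟩
    rintro ⟨V, hVU, hV, hVd⟩
    refine minus_no_half j hbc hM hMn ((V.comap U.subtype).map u.symm.toLinearMap) ⟨?_, ?_⟩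
    · rintro _ ⟨w, hw, rfl⟩
      have h1 := hu (u.symm w)
      rw [u.apply_symm_apply] at h1
      have h0 : qOn Q U w = 0 := hV _ hw
      rw [h0] at h1
      exact (mul_eq_zero.1 h1.symm).resolve_left (inv_ne_zero hl)
    · rw [LinearEquiv.finrank_map_eq, (Submodule.comapSubtypeEquivOfLe hVU).finrank_eq, hVd, hd',
        Module.finrank_pi, Fintype.card_sum, Fintype.card_sum, Fintype.card_fin, Fintype.card_fin]
      omega

end CfsgLib.Derange
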