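import Cfsg.Agent.Lib.Derange.OddLine
import Cfsg.Agent.Lib.Derange.OddNondeg
import Cfsg.Agent.Lib.Derange.InvolutionPlanes

/-!
Even-dimensional orthogonal groups on non-degenerate subspaces of odd dimension: square roots of the scalars `±1`.
-/

set_option autoImplicit false
set_option linter.style.haveILetI false

namespace CfsgLib.Derange

open Module QuadraticMap CfsgLib.Classical CfsgLib.Classical.OrthModels CfsgLib.Orth

universe u

variable {F : Type u} [Field F] [Fintype F] {ι : Type} [Fintype ι] [DecidableEq ι] {Q : QuadraticForm F (ι → F)}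

local notation "B" => QuadraticMap.polar (DFunLike.coe Q)

/-- The discriminant in the standard basis is a square. -/
def DiscSq (Q : QuadraticForm F (ι → F)) : Prop :=
  IsSquare (Matrix.of fun i j : ι =>
    QuadraticMap.polar (⇑Q) (Pi.single i (1 : F)) (Pi.single j (1 : F))).det

theorem discSq_iff (h2 : (2 : F) ≠ 0) {κ : Type*} [Fintype κ] [Nonempty κ] {d : ℕ}
    (hcard : Fintype.card κ = 2 * d) (hι : Fintype.card ι = 2 * d) (e : κ → ι → F) (he : ∀ i, Q (e i) ≠ 0)
    (hp : ∀ i j, i ≠ j → B (e i) (e j) = 0) : DiscSq Q ↔ IsSquare (∏ i, Q (e i)) := by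
  classical
  rw [← isSquare_det_gram h2 (by rw [hcard, Module.finrank_pi, hι]) ⟨d, by omega⟩ e he hp (Pi.basisFun F ι), DiscSq]
  simp only [Pi.basisFun_apply]

omit [Fintype F] in
/-- The orthogonal of an anisotropic orthogonal family. -/
theorem frame_orth (hB : Nondeg Q) (h2 : (2 : F) ≠ 0) {κ : Type*} [Fintype κ] {e : κ → ι → F}
    (he : ∀ i, Q (e i) ≠ 0) (hp : ∀ i j, i ≠ j → B (e i) (e j) = 0) :
    NondegOn Q (orth Q (Submodule.span F (Set.range e))) ∧
      finrank F ↥(orth Q (Submodule.span F (Set.range e))) + Fintype.card κ = finrank F (ι → F) := by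
  classical
  have hS : NondegOn Q (Submodule.span F (Set.range e)) := fun x hx h => by
    obtain ⟨c, rfl⟩ := (Submodule.mem_span_range_iff_exists_fun F).1 hx
    refine Finset.sum_eq_zero fun i _ => ?_
    have h1 := h (e i) (Submodule.subset_span ⟨i, rfl⟩)
    rw [b_comm, ← QuadraticMap.polarBilin_apply_apply, map_sum, Finset.sum_eq_single i (fun j _ hj => by
      rw [map_smul, QuadraticMap.polarBilin_apply_apply, hp i j hj.symm, smul_zero])
      (fun h => absurd (Finset.mem_univ i) h), map_smul, QuadraticMap.polarBilin_apply_apply, b_self,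
      smul_eq_mul] at h1
    rw [(mul_eq_zero.1 h1).resolve_right (mul_ne_zero h2 (he i)), zero_smul]
  refine ⟨nondegOn_orth hB hS, ?_⟩
  have := finrank_orth hB (Submodule.span F (Set.range e))
  rw [finrank_span_eq_card (linearIndependent_frame h2 e he hp)] at this
  omega

omit [Fintype F] in
theorem exists_aniso_in {U : Submodule F (ι → F)} (hU : NondegOn Q U) (hd : 1 ≤ finrank F U) :
    ∃ v ∈ U, Q v ≠ 0 := by
  by_contra hc
  push Not at hc
  obtain ⟨x, hx, hx0⟩ := U.exists_mem_ne_zero_of_ne_bot fun e => by rw [e, finrank_bot] at hd; omega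
  refine hx0 (hU x hx fun y hy => ?_)
  have := hc _ (U.add_mem hx hy)
  rwa [q_add, hc x hx, hc y hy, zero_add, zero_add] at this

omit [Fintype F] in
theorem mem_orth_range {κ : Type*} {e : κ → ι → F} {u : ι → F}
    (hu : u ∈ orth Q (Submodule.span F (Set.range e))) (i : κ) : B (e i) u = 0 :=
  mem_orth.1 hu _ (Submodule.subset_span ⟨i, rfl⟩)

/-- A frame of planes with a rotation in each. -/
structure RotFrame (Q : QuadraticForm F (ι → F)) {k : ℕ} (v w : Fin k → ι → F) : Prop where
  qv : ∀ j, Q (v j) ≠ 0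
  qw : ∀ j, Q (w j) = Q (v j)
  vw : ∀ i j, QuadraticMap.polar (⇑Q) (v i) (w j) = 0
  vv : ∀ i j, i ≠ j → QuadraticMap.polar (⇑Q) (v i) (v j) = 0
  ww : ∀ i j, i ≠ j → QuadraticMap.polar (⇑Q) (w i) (w j) = 0

omit [Fintype F] in
theorem RotFrame.orthogonal {k : ℕ} {v w : Fin k → ι → F} (h : RotFrame Q v w) :
    (∀ i, Q (Sum.elim v w i) ≠ 0) ∧ ∀ i j, i ≠ j → B (Sum.elim v w i) (Sum.elim v w j) = 0 := by
  refine ⟨?_, ?_⟩
  · rintro (j | j)
    · exact h.qv j
    · show Q (w j) ≠ 0; rw [h.qw]; exact h.qv j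
  · rintro (i | i) (j | j) hij
    · exact h.vv i j fun e => hij (by rw [e])
    · exact h.vw i j
    · exact (b_comm (Q := Q) _ _).trans (h.vw j i)
    · exact h.ww i j fun e => hij (by rw [e])

/-- The rotation of a frame. -/
theorem exists_rot (hB : Nondeg Q) (h2 : (2 : F) ≠ 0) (hn : 2 ≤ finrank F (ι → F)) {k : ℕ} {v w : Fin k → ι → F}
    (h : RotFrame Q v w) :
    ∃ g : Grp Q, (∀ j, ap g (v j) = w j) ∧ (∀ j, ap g (w j) = -v j) ∧ dickson hB g = 1 ∧
      spinor Q 1 g = sqc ((2 : F) ^ k) := by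
  classical
  suffices H : ∀ S : Finset (Fin k), ∃ g : Grp Q,
      (∀ j, ap g (v j) = if j ∈ S then w j else v j) ∧ (∀ j, ap g (w j) = if j ∈ S then -v j else w j) ∧
      dickson hB g = 1 ∧ spinor Q 1 g = sqc ((2 : F) ^ S.card) by
    obtain ⟨g, g1, g2, g3, g4⟩ := H Finset.univ
    exact ⟨g, fun j => by simpa using g1 j, fun j => by simpa using g2 j, g3, by simpa using g4⟩
  intro S
  induction S using Finset.induction_on with
  | empty => exact ⟨1, fun j => by simp, fun j => by simp, map_one _, by simp [sqc_one]⟩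
  | insert i T hi ih =>
    obtain ⟨g, g1, g2, g3, g4⟩ := ih
    have hw0 : Q (w i) ≠ 0 := by rw [h.qw]; exact h.qv i
    have hs : Q (v i + w i) = 2 * Q (v i) := by rw [q_add, h.vw, h.qw]; ring
    obtain ⟨r, hr⟩ := exists_refl hB hw0
    obtain ⟨s, hs'⟩ := exists_refl hB (v := v i + w i) (by rw [hs]; exact mul_ne_zero h2 (h.qv i))
    have hBv : B (v i + w i) (v i) = 2 * Q (v i) := by
      rw [b_add_left, b_self, b_comm (w i), h.vw, add_zero]
    have hBw : B (v i + w i) (w i) = 2 * Q (v i) := by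
      rw [b_add_left, b_self, h.vw, zero_add, h.qw]
    have hsv : ap s (v i) = -w i := by
      rw [hs'.2, hs, hBv, inv_mul_cancel₀ (mul_ne_zero h2 (h.qv i)), one_smul]; abel
    have hsw : ap s (w i) = -v i := by
      rw [hs'.2, hs, hBw, inv_mul_cancel₀ (mul_ne_zero h2 (h.qv i)), one_smul]; abel
    have hrw : ap r (-w i) = w i := by
      rw [← neg_one_smul F (w i), ap_smul, refl_self hr]; simp
    have hrv : ap r (-v i) = -v i := by
      rw [← neg_one_smul F (v i), ap_smul, refl_fix hr ((b_comm _ _).trans (h.vw i i))]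
    have hfix : ∀ j, j ≠ i → ap (r * s) (v j) = v j ∧ ap (r * s) (w j) = w j := fun j hj => by
      refine ⟨?_, ?_⟩
      · rw [ap_mul, refl_fix hs' (by rw [b_add_left, h.vv i j hj.symm, b_comm (w i), h.vw, add_zero]),
          refl_fix hr ((b_comm _ _).trans (h.vw j i))]
      · rw [ap_mul, refl_fix hs' (by rw [b_add_left, h.vw, h.ww i j hj.symm, add_zero]),
          refl_fix hr (h.ww i j hj.symm)]
    refine ⟨r * s * g, fun j => ?_, fun j => ?_, by rw [map_mul, (class_pair hB hn hr hs').1, g3, one_mul], ?_⟩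
    · rw [ap_mul, g1]
      rcases eq_or_ne j i with rfl | hj
      · rw [if_neg hi, if_pos (Finset.mem_insert_self j T), ap_mul, hsv, hrw]
      · simp only [Finset.mem_insert, hj, false_or]
        split_ifs
        exacts [(hfix j hj).2, (hfix j hj).1]
    · rw [ap_mul, g2]
      rcases eq_or_ne j i with rfl | hj
      · rw [if_neg hi, if_pos (Finset.mem_insert_self j T), ap_mul, hsw, hrv]
      · simp only [Finset.mem_insert, hj, false_or]
        split_ifs
        · rw [← neg_one_smul F (v j), ap_smul, (hfix j hj).1]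
        · exact (hfix j hj).2
    · rw [map_mul, (class_pair hB hn hr hs').2 h2, g4, hs, h.qw, Finset.card_insert_of_notMem hi,
        show Q (v i) * (2 * Q (v i)) = 2 * (Q (v i) * Q (v i)) by ring,
        sqc_mul h2 (mul_ne_zero (h.qv i) (h.qv i)), sqc_eq_one.2 ⟨_, rfl⟩, mul_one, pow_succ',
        sqc_mul h2 (pow_ne_zero _ h2)]

omit [Fintype F] in
/-- An isometry with square `-1` rotates a frame. -/
theorem exists_rotFrame (hB : Nondeg Q) (h2 : (2 : F) ≠ 0) {d : ℕ} (hfin : finrank F (ι → F) = 2 * d)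
    (g : Grp Q) (hg : ∀ x, ap g (ap g x) = -x) :
    ∃ v : Fin d → ι → F, RotFrame Q v fun j => ap g (v j) := by
  classical
  suffices H : ∀ k ≤ d, ∃ v : Fin k → ι → F, RotFrame Q v fun j => ap g (v j) from H d le_rfl
  intro k
  induction k with
  | zero =>
    exact fun _ => ⟨Fin.elim0, ⟨fun j => j.elim0, fun j => j.elim0, fun i => i.elim0, fun i => i.elim0, fun i => i.elim0⟩⟩
  | succ k ih =>
    intro hk
    obtain ⟨v, hv⟩ := ih (by omega)
    obtain ⟨hT, hTd⟩ := frame_orth hB h2 hv.orthogonal.1 hv.orthogonal.2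
    rw [Fintype.card_sum, Fintype.card_fin, hfin] at hTd
    obtain ⟨u, hu, hqu⟩ := exists_aniso_in hT (by omega)
    have huv : ∀ j, B (v j) u = 0 := fun j => mem_orth_range hu (Sum.inl j)
    have huw : ∀ j, B (ap g (v j)) u = 0 := fun j => mem_orth_range hu (Sum.inr j)
    have hneg : ∀ x y, B (ap g x) y = -B x (ap g y) := fun x y => by
      rw [← ap_b g x (ap g y), hg, ← neg_one_smul F y, b_smul_right]; ring
    have huu : B u (ap g u) = 0 := by
      have h1 := hneg u u
      rw [b_comm (ap g u), eq_neg_iff_add_eq_zero, ← two_mul, mul_eq_zero, or_iff_right h2] at h1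
      exact h1
    have hvu : ∀ j, B (v j) (ap g u) = 0 := fun j => neg_eq_zero.1 ((hneg _ _).symm.trans (huw j))
    have hww : ∀ j, B (ap g (v j)) (ap g u) = 0 := fun j => (ap_b g _ _).trans (huv j)
    refine ⟨Fin.snoc v u, ⟨fun j => ?_, fun j => ap_q g _, fun i j => ?_, fun i j hij => ?_, fun i j hij => ?_⟩⟩
    · refine Fin.lastCases ?_ (fun j => ?_) j <;> simp [hqu, hv.qv]
    · refine Fin.lastCases ?_ (fun i => ?_) i <;> refine Fin.lastCases ?_ (fun j => ?_) j <;>
        simp only [Fin.snoc_last, Fin.snoc_castSucc]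
      · exact huu
      · exact (b_comm _ _).trans (huw j)
      · exact hvu i
      · exact hv.vw i j
    · revert hij
      refine Fin.lastCases ?_ (fun i => ?_) i <;> refine Fin.lastCases ?_ (fun j => ?_) j <;>
        simp only [Fin.snoc_last, Fin.snoc_castSucc] <;> intro hij
      · exact absurd rfl hij
      · exact (b_comm _ _).trans (huv j)
      · exact huv i
      · exact hv.vv i j fun e => hij (by rw [e])
    · revert hij
      refine Fin.lastCases ?_ (fun i => ?_) i <;> refine Fin.lastCases ?_ (fun j => ?_) j <;>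
        simp only [Fin.snoc_last, Fin.snoc_castSucc] <;> intro hij
      · exact absurd rfl hij
      · exact (b_comm _ _).trans (hww j)
      · exact hww i
      · exact hv.ww i j fun e => hij (by rw [e])

/-- A square discriminant gives an orthonormal basis. -/
theorem exists_orthonormal (hB : Nondeg Q) (h2 : (2 : F) ≠ 0) {d : ℕ} (hι : Fintype.card ι = 2 * d) (hd : 1 ≤ d)
    (hdisc : DiscSq Q) : ∃ e : Fin (2 * d) → ι → F, (∀ i, Q (e i) = 1) ∧ ∀ i j, i ≠ j → B (e i) (e j) = 0 := by
  classical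
  obtain ⟨k, hk⟩ : ∃ k, 2 * d = k + 1 := ⟨2 * d - 1, by omega⟩
  have hfin : finrank F (ι → F) = 2 * d := by rw [Module.finrank_pi, hι]
  have H : ∀ j ≤ k, ∃ e : Fin j → ι → F, (∀ i, Q (e i) = 1) ∧ ∀ a b, a ≠ b → B (e a) (e b) = 0 := by
    intro j
    induction j with
    | zero => exact fun _ => ⟨Fin.elim0, fun i => i.elim0, fun i => i.elim0⟩
    | succ j ih =>
      intro hj
      obtain ⟨e, he, hp⟩ := ih (by omega)
      obtain ⟨hT, hTd⟩ := frame_orth hB h2 (fun i => by rw [he]; exact one_ne_zero) hp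
      rw [Fintype.card_fin, hfin] at hTd
      obtain ⟨u, hu, hqu⟩ := exists_value (Q := Q) (fun x hx h => hT x hx h) h2 (by omega) 1
      refine ⟨Fin.snoc e u, fun i => ?_, fun a b hab => ?_⟩
      · refine Fin.lastCases ?_ (fun i => ?_) i <;> simp [hqu, he]
      · revert hab
        refine Fin.lastCases ?_ (fun a => ?_) a <;> refine Fin.lastCases ?_ (fun b => ?_) b <;>
          simp only [Fin.snoc_last, Fin.snoc_castSucc] <;> intro hab
        · exact absurd rfl hab
        · exact (b_comm _ _).trans (mem_orth_range hu b)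
        · exact mem_orth_range hu a
        · exact hp a b fun e => hab (by rw [e])
  obtain ⟨e, he, hp⟩ := H k le_rfl
  obtain ⟨hT, hTd⟩ := frame_orth hB h2 (fun i => by rw [he]; exact one_ne_zero) hp
  rw [Fintype.card_fin, hfin] at hTd
  obtain ⟨u, hu, hqu⟩ := exists_aniso_in hT (by omega)
  have hfr : (∀ i, Q ((Fin.snoc e u : Fin (k + 1) → ι → F) i) ≠ 0) ∧
      ∀ a b, a ≠ b → B ((Fin.snoc e u : Fin (k + 1) → ι → F) a) ((Fin.snoc e u : Fin (k + 1) → ι → F) b) = 0 := by
    refine ⟨fun i => ?_, fun a b hab => ?_⟩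
    · refine Fin.lastCases ?_ (fun i => ?_) i <;> simp [hqu, he]
    · revert hab
      refine Fin.lastCases ?_ (fun a => ?_) a <;> refine Fin.lastCases ?_ (fun b => ?_) b <;>
        simp only [Fin.snoc_last, Fin.snoc_castSucc] <;> intro hab
      · exact absurd rfl hab
      · exact (b_comm _ _).trans (mem_orth_range hu b)
      · exact mem_orth_range hu a
      · exact hp a b fun e => hab (by rw [e])
  have hs := (discSq_iff h2 (by rw [Fintype.card_fin, hk]) hι _ hfr.1 hfr.2).1 hdisc
  rw [Fin.prod_univ_castSucc] at hs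
  simp only [Fin.snoc_castSucc, he, Finset.prod_const_one, Fin.snoc_last, one_mul] at hs
  obtain ⟨c, hc⟩ := hs
  have hc0 : c ≠ 0 := fun h => hqu (by rw [hc, h, mul_zero])
  suffices H : ∃ f : Fin (k + 1) → ι → F, (∀ i, Q (f i) = 1) ∧ ∀ a b, a ≠ b → B (f a) (f b) = 0 by
    obtain ⟨f, hf, hfp⟩ := H
    exact ⟨fun i => f (Fin.cast hk i), fun i => hf _, fun a b hab => hfp _ _ fun h => hab (Fin.cast_injective hk h)⟩
  refine ⟨Fin.snoc e (c⁻¹ • u), fun i => ?_, fun a b hab => ?_⟩
  · refine Fin.lastCases ?_ (fun i => ?_) i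
    · rw [Fin.snoc_last, q_smul, hc]; field_simp
    · rw [Fin.snoc_castSucc, he]
  · revert hab
    refine Fin.lastCases ?_ (fun a => ?_) a <;> refine Fin.lastCases ?_ (fun b => ?_) b <;>
      simp only [Fin.snoc_last, Fin.snoc_castSucc] <;> intro hab
    · exact absurd rfl hab
    · rw [b_smul_left, b_comm, mem_orth_range hu b, mul_zero]
    · rw [b_smul_right, mem_orth_range hu a, mul_zero]
    · exact hp a b fun e => hab (by rw [e])

omit [Fintype F] in
/-- No invariant non-degenerate odd subspace for a square root of `-1`. -/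
theorem even_finrank_of_sq_neg (h2 : (2 : F) ≠ 0) (g : Grp Q) (hg : ∀ x, ap g (ap g x) = -x)
    {W : Submodule F (ι → F)} (hW : NondegOn Q W) (hWg : ∀ w ∈ W, ap g w ∈ W) : Even (finrank F W) := by
  classical
  by_contra hodd
  rw [Nat.not_even_iff_odd] at hodd
  let b := Module.finBasis F W
  let A : Matrix (Fin (finrank F W)) (Fin (finrank F W)) F :=
    Matrix.of fun i j => B (ap g (b i : ι → F)) (b j : ι → F)
  have hA : A.transpose = -A := by
    ext i j
    show B (ap g (b j : ι → F)) (b i : ι → F) = -B (ap g (b i : ι → F)) (b j : ι → F)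
    rw [b_comm, ← ap_b g (b i : ι → F), hg, ← neg_one_smul F (b j : ι → F), b_smul_right]
    ring
  have hdet : A.det = 0 := by
    have h := congrArg Matrix.det hA
    rw [Matrix.det_transpose, Matrix.det_neg, Fintype.card_fin, hodd.neg_one_pow, neg_one_mul,
      eq_neg_iff_add_eq_zero, ← two_mul, mul_eq_zero] at h
    exact h.resolve_left h2
  obtain ⟨c, hc0, hc⟩ := Matrix.exists_vecMul_eq_zero_iff.2 hdet
  set x : W := ∑ i, c i • b i with hx
  have hx0 : ap g (x : ι → F) = 0 := hW _ (hWg _ x.2) fun y hy => by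
    have hcol : ∀ j, B (ap g (x : ι → F)) (b j : ι → F) = 0 := fun j => by
      have h := congrFun hc j
      have hlin : ∀ (s : Finset (Fin (finrank F W))),
          B (ap g ((∑ i ∈ s, c i • b i : W) : ι → F)) (b j : ι → F) = ∑ i ∈ s, c i * A i j := fun s => by
        induction s using Finset.induction_on with
        | empty => rw [Finset.sum_empty, Finset.sum_empty, ZeroMemClass.coe_zero, ap_zero, b_zero_left]
        | insert i s his ih =>
          rw [Finset.sum_insert his, Finset.sum_insert his, Submodule.coe_add, Submodule.coe_smul, ap_add, ap_smul,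
            b_add_left, b_smul_left, ih]
          rfl
      rw [hx, hlin]
      exact h
    have hy' : (⟨y, hy⟩ : W) = ∑ j, b.repr ⟨y, hy⟩ j • b j := (b.sum_repr _).symm
    rw [show y = ((⟨y, hy⟩ : W) : ι → F) from rfl, hy']
    generalize b.repr ⟨y, hy⟩ = r
    induction (Finset.univ : Finset (Fin (finrank F W))) using Finset.induction_on with
    | empty => rw [Finset.sum_empty, ZeroMemClass.coe_zero, b_zero_right]
    | insert j s hjs ih =>
      rw [Finset.sum_insert hjs, Submodule.coe_add, Submodule.coe_smul, b_add_right, b_smul_right, hcol, ih,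
        mul_zero, add_zero]
  have hx1 : x = 0 := Subtype.ext (ap_inj g (hx0.trans (ap_zero g).symm))
  refine hc0 (funext fun i => ?_)
  have := congrArg (fun z => b.repr z i) (hx.symm.trans hx1)
  simpa [Finsupp.single_apply] using this

/-- A square root of `-1` in `Ω` under the discriminant conditions. -/
theorem exists_omega_neg_sq (hB : Nondeg Q) (h2 : (2 : F) ≠ 0) {d : ℕ} (hι : Fintype.card ι = 2 * d) (hd : 1 ≤ d)
    (hdisc : DiscSq Q) (hsq : IsSquare ((2 : F) ^ d)) :
    ∃ g : Grp Q, g ∈ Cfsg.Omega F ⇑Q ∧ (∀ x, ap g (ap g x) = -x) ∧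
      ∀ z : F, ((g : GL ι F) : Matrix ι ι F) ≠ z • (1 : Matrix ι ι F) := by
  classical
  have hfin : finrank F (ι → F) = 2 * d := by rw [Module.finrank_pi, hι]
  have hn : 2 ≤ finrank F (ι → F) := by omega
  have hex : finrank F (ι → F) = 4 → Nat.card F ≠ 2 := fun _ e => h2 (by
    rw [Nat.card_eq_fintype_card] at e
    have := FiniteField.cast_card_eq_zero F
    rwa [e, Nat.cast_ofNat] at this)
  obtain ⟨e, he, hp⟩ := exists_orthonormal hB h2 hι hd hdisc
  let v : Fin d → ι → F := fun j => e ⟨2 * j.1, by omega⟩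
  let w : Fin d → ι → F := fun j => e ⟨2 * j.1 + 1, by omega⟩
  have hf : RotFrame Q v w := ⟨fun j => by simp [v, he], fun j => by simp [v, w, he],
    fun i j => hp _ _ fun h => by have := congrArg Fin.val h; simp at this; omega,
    fun i j hij => hp _ _ fun h => hij (Fin.ext (by have := congrArg Fin.val h; simp at this; omega)),
    fun i j hij => hp _ _ fun h => hij (Fin.ext (by have := congrArg Fin.val h; simp at this; omega))⟩
  obtain ⟨g, g1, g2, g3, g4⟩ := exists_rot hB h2 hn hf
  haveI : Nonempty (Fin d) := ⟨⟨0, by omega⟩⟩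
  let bb := basisOfLinearIndependentOfCardEqFinrank
    (linearIndependent_frame h2 (Sum.elim v w) hf.orthogonal.1 hf.orthogonal.2)
    (by rw [Fintype.card_sum, Fintype.card_fin, hfin]; ring)
  have hgg : ∀ x, ap g (ap g x) = -x := fun x => by
    have hlin : Matrix.toLin' ((g : GL ι F) : Matrix ι ι F) ∘ₗ Matrix.toLin' ((g : GL ι F) : Matrix ι ι F) =
        -LinearMap.id := bb.ext fun i => by
      rw [LinearMap.comp_apply, Matrix.toLin'_apply, Matrix.toLin'_apply, LinearMap.neg_apply, LinearMap.id_apply,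
        coe_basisOfLinearIndependentOfCardEqFinrank]
      show ap g (ap g _) = _
      rcases i with j | j
      · simp only [Sum.elim_inl, g1, g2]
      · simp only [Sum.elim_inr, g2]
        rw [← neg_one_smul F (v j), ap_smul, g1, neg_one_smul]
    exact LinearMap.congr_fun hlin x
  let j₀ : Fin d := ⟨0, by omega⟩
  refine ⟨g, (mem_omega_iff hB hn hex g).2 ⟨g3, fun _ => g4.trans (sqc_eq_one.2 hsq)⟩, hgg, fun z hz => ?_⟩
  have h1 : z • v j₀ = w j₀ := by
    rw [← g1, ap, hz, Matrix.smul_mulVec, Matrix.one_mulVec]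
  have h3 := congrArg (B (v j₀)) h1
  rw [b_smul_right, b_self, hf.vw, mul_eq_zero, or_iff_left (mul_ne_zero h2 (hf.qv j₀))] at h3
  have h4 := hf.qw j₀
  rw [← h1, h3, zero_smul, QuadraticMap.map_zero] at h4
  exact hf.qv j₀ h4.symm

/-- Square roots of `-1` in `Ω` force the discriminant conditions. -/
theorem disc_of_omega_neg_sq (hB : Nondeg Q) (h2 : (2 : F) ≠ 0) {d : ℕ} (hι : Fintype.card ι = 2 * d) (hd : 1 ≤ d)
    (g : Grp Q) (hgΩ : g ∈ Cfsg.Omega F ⇑Q) (hgg : ∀ x, ap g (ap g x) = -x) :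
    DiscSq Q ∧ IsSquare ((2 : F) ^ d) := by
  classical
  have hfin : finrank F (ι → F) = 2 * d := by rw [Module.finrank_pi, hι]
  have hn : 2 ≤ finrank F (ι → F) := by omega
  have hex : finrank F (ι → F) = 4 → Nat.card F ≠ 2 := fun _ e => h2 (by
    rw [Nat.card_eq_fintype_card] at e
    have := FiniteField.cast_card_eq_zero F
    rwa [e, Nat.cast_ofNat] at this)
  obtain ⟨v', hf⟩ := exists_rotFrame hB h2 hfin g hgg
  haveI : Nonempty (Fin d) := ⟨⟨0, by omega⟩⟩
  obtain ⟨g', g1, g2, -, g4⟩ := exists_rot hB h2 hn hf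
  let bb := basisOfLinearIndependentOfCardEqFinrank
    (linearIndependent_frame h2 (Sum.elim v' fun j => ap g (v' j)) hf.orthogonal.1 hf.orthogonal.2)
    (by rw [Fintype.card_sum, Fintype.card_fin, hfin]; ring)
  have hgeq : g' = g := ext_ap fun x => by
    have hlin : Matrix.toLin' ((g' : GL ι F) : Matrix ι ι F) = Matrix.toLin' ((g : GL ι F) : Matrix ι ι F) :=
      bb.ext fun i => by
        rw [Matrix.toLin'_apply, Matrix.toLin'_apply, coe_basisOfLinearIndependentOfCardEqFinrank]
        show ap g' _ = ap g _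
        rcases i with j | j
        · exact g1 j
        · exact (g2 j).trans (hgg _).symm
    exact LinearMap.congr_fun hlin x
  refine ⟨(discSq_iff h2 (by rw [Fintype.card_sum, Fintype.card_fin]; ring) hι _ hf.orthogonal.1
    hf.orthogonal.2).2 ⟨∏ j, Q (v' j), ?_⟩, sqc_eq_one.1 ?_⟩
  · rw [Fintype.prod_sum_type]
    simp [ap_q]
  · rw [← g4, hgeq]
    exact ((mem_omega_iff hB hn hex g).1 hgΩ).2 h2

variable {p : ℕ} [hp : Fact p.Prime] [CharP F p]

include hp in
/-- The criterion at two. -/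
theorem parabolic_two_iff (hB : Nondeg Q) (h2 : (2 : F) ≠ 0) {d a : ℕ} (hι : Fintype.card ι = 2 * d)
    (had : 2 * a + 1 < d) {W₀ : Submodule F (ι → F)} (hW₀ : NondegOn Q W₀) (hW₀d : finrank F W₀ = 2 * a + 1) :
    (∀ x : GL ι F, x ∈ Cfsg.Geo.omegaGL ⇑Q →
      (∃ z : F, ((x ^ 2 : GL ι F) : Matrix ι ι F) = z • (1 : Matrix ι ι F)) →
      (∀ z : F, (x : Matrix ι ι F) ≠ z • (1 : Matrix ι ι F)) →
      ∃ W : Submodule F (ι → F), (finrank F ↥W = 2 * a + 1 ∧ Cfsg.Geo.IsNondegenerateOn (QuadraticMap.polar ⇑Q) W ∧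
        Cfsg.Geo.AreIsometricFor ⇑Q W W₀) ∧ W.map (Matrix.toLin' (x : Matrix ι ι F)) ≤ W) ↔
    ¬ (DiscSq Q ∧ IsSquare ((2 : F) ^ d)) := by
  classical
  have hfin : finrank F (ι → F) = 2 * d := by rw [Module.finrank_pi, hι]
  have hn : 2 ≤ finrank F (ι → F) := by omega
  have hex : finrank F (ι → F) = 4 → Nat.card F ≠ 2 := fun _ e => h2 (by
    rw [Nat.card_eq_fintype_card] at e
    have := FiniteField.cast_card_eq_zero F
    rwa [e, Nat.cast_ofNat] at this)
  constructor
  · rintro H ⟨hdisc, hsq⟩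
    obtain ⟨g, hgΩ, hgg, hgs⟩ := exists_omega_neg_sq hB h2 hι (by omega) hdisc hsq
    obtain ⟨W, hW, hWx⟩ := H (g : GL ι F) ⟨g, hgΩ, rfl⟩
      ⟨-1, by
        refine Matrix.ext_iff_mulVec.mpr fun x => ?_
        rw [neg_one_smul, Matrix.neg_mulVec, Matrix.one_mulVec, pow_two, Units.val_mul, ← Matrix.mulVec_mulVec]
        exact hgg x⟩ hgs
    have := even_finrank_of_sq_neg h2 g hgg (Orth.nondegOn_of hW.2.1)
      fun w hw => hWx (Submodule.mem_map_of_mem hw)
    rw [hW.1] at this
    simp [parity_simps] at this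
  · rintro hno x hxΩ ⟨z, hz⟩ hxs
    obtain ⟨g, hgΩ, rfl⟩ := hxΩ
    obtain ⟨v, hv⟩ := exists_aniso hB (by omega)
    have hap : ∀ w, ap g (ap g w) = z • w := fun w => by
      rw [← ap_mul, ← pow_two, ap, SubmonoidClass.coe_pow, show ((g : GL ι F) ^ 2 : GL ι F).1 =
        z • (1 : Matrix ι ι F) from hz, Matrix.smul_mulVec, Matrix.one_mulVec]
    have hzz : z * z = 1 := by
      have h1 := congrArg Q (hap v)
      rw [ap_q, ap_q, q_smul] at h1
      exact mul_right_cancel₀ hv (h1.symm.trans (one_mul _).symm)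
    rcases mul_self_eq_one_iff.1 hzz with rfl | rfl
    · have hgg : g * g = 1 := ext_ap fun w => by rw [ap_mul, hap, one_smul, ap_one]
      obtain ⟨W₁, hW₁, hW₁d, hW₁g, hW₁p⟩ := exists_invariant_plus hB h2 g hgg a fun _ => by omega
      obtain ⟨E, E', hE, hE', -, hle, h3, hEs, hE's⟩ :=
        exists_eigen h2 g hgg (nondegOn_orth hB hW₁) (invariant_orth g hW₁g)
      have hd2 : 2 ≤ finrank F E ∨ 2 ≤ finrank F E' := by
        have h4 := Submodule.finrank_mono h3
        have h5 := Submodule.finrank_add_le_finrank_add_finrank E E'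
        have h6 : finrank F W₁ + finrank F (orth Q W₁) = finrank F (ι → F) := finrank_orth hB W₁
        omega
      obtain ⟨l, hl, hW₀l⟩ := exists_class hW₀ hW₀d
      obtain ⟨u, hu, hqu, s, hgu⟩ : ∃ u ∈ orth Q W₁, Q u = l ∧ ∃ s : F, ap g u = s • u := by
        rcases hd2 with h | h
        · obtain ⟨u, hu, hqu⟩ := exists_value (Q := Q) (fun x hx h' => hE x hx h') h2 h l
          exact ⟨u, hle (Submodule.mem_sup_left hu), hqu, 1, hEs u hu⟩
        · obtain ⟨u, hu, hqu⟩ := exists_value (Q := Q) (fun x hx h' => hE' x hx h') h2 h l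
          exact ⟨u, hle (Submodule.mem_sup_right hu), hqu, -1, hE's u hu⟩
      obtain ⟨hUn, hUd, hUi⟩ := exists_add_line h2 hW₁ hW₁d hW₁p hu (by rw [hqu]; exact hl)
      rw [hqu] at hUi
      refine ⟨_, ⟨hUd, nondegOn_geo hUn, hUi.trans hW₀l.symm⟩, ?_⟩
      rintro _ ⟨w, hw, rfl⟩
      obtain ⟨w₁, hw₁, w₂, hw₂, rfl⟩ := Submodule.mem_sup.1 hw
      obtain ⟨c, rfl⟩ := Submodule.mem_span_singleton.1 hw₂
      show ap g (w₁ + c • u) ∈ _
      rw [ap_add, ap_smul, hgu, smul_smul]
      exact add_mem (Submodule.mem_sup_left (hW₁g w₁ hw₁))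
        (Submodule.mem_sup_right (Submodule.smul_mem _ _ (Submodule.mem_span_singleton_self u)))
    · exfalso
      exact hno (disc_of_omega_neg_sq hB h2 hι (by omega) g hgΩ fun w => by rw [hap, neg_one_smul])

end CfsgLib.Derange
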