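import Cfsg.Agent.Lib.Derange.OrthSplit
import Cfsg.Agent.Lib.Classical.OrthOrderStd

/-!
Subspaces of prescribed type, the transfer of elements to shapes and back.
-/

set_option autoImplicit false
set_option linter.style.haveILetI false

namespace CfsgLib.Derange

open Polynomial Module QuadraticMap CfsgLib.Classical CfsgLib.Classical.OrthModels CfsgLib.Orth
open CfsgLib.Classical.OrthPrimeReal CfsgLib.Classical.OrthPrimeFactors CfsgLib.Classical.OrthPrimeCount

universe u v w

variable {F : Type u} [Field F] {ι : Type} [Fintype ι] [DecidableEq ι] {Q : QuadraticForm F (ι → F)}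

/-- A decomposition of the form gives a non-degenerate subspace. -/
theorem exists_sub (hB : Nondeg Q) {A : Type v} {B : Type w} [AddCommGroup A] [Module F A] [FiniteDimensional F A]
    [AddCommGroup B] [Module F B] [FiniteDimensional F B] {QA : A → F} {QB : B → F} (h : Iso (add QA QB) (⇑Q))
    (hA0 : QA 0 = 0) (hB0 : QB 0 = 0) :
    ∃ U : Submodule F (ι → F), NondegOn Q U ∧ finrank F U = finrank F A ∧ Iso QA (⇑(qOn Q U)) ∧
      Iso QB (⇑(qOn Q (orth Q U))) := by
  obtain ⟨e, he⟩ := h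
  let f : A →ₗ[F] (ι → F) := e.toLinearMap ∘ₗ LinearMap.inl F A B
  let g : B →ₗ[F] (ι → F) := e.toLinearMap ∘ₗ LinearMap.inr F A B
  have hf : Function.Injective f := fun a b h => congrArg Prod.fst (e.injective h)
  have hg : Function.Injective g := fun a b h => congrArg Prod.snd (e.injective h)
  have hfQ : ∀ a, Q (f a) = QA a := fun a => by
    show Q (e (a, 0)) = _; rw [he]; show QA a + QB 0 = _; rw [hB0, add_zero]
  have hgQ : ∀ b, Q (g b) = QB b := fun b => by
    show Q (e (0, b)) = _; rw [he]; show QA 0 + QB b = _; rw [hA0, zero_add]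
  have hfg : ∀ a b, polar (⇑Q) (f a) (g b) = 0 := fun a b => by
    rw [polar, hfQ, hgQ, show f a + g b = e (a, b) by simp [f, g, ← map_add], he, add]
    ring
  have hle : LinearMap.range g ≤ orth Q (LinearMap.range f) := by
    rintro _ ⟨b, rfl⟩
    exact mem_orth.2 (by rintro _ ⟨a, rfl⟩; exact hfg a b)
  have heq : orth Q (LinearMap.range f) = LinearMap.range g := by
    refine (Submodule.eq_of_le_of_finrank_eq hle ?_).symm
    have := finrank_orth hB (LinearMap.range f)
    have h2 := e.finrank_eq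
    rw [Module.finrank_prod] at h2
    rw [LinearMap.finrank_range_of_inj hf] at this
    rw [LinearMap.finrank_range_of_inj hg]
    omega
  refine ⟨LinearMap.range f, fun x hx hxy => hB x fun y => ?_, LinearMap.finrank_range_of_inj hf,
    ⟨LinearEquiv.ofInjective f hf, hfQ⟩, ⟨(LinearEquiv.ofInjective g hg).trans (LinearEquiv.ofEq _ _ heq.symm), hgQ⟩⟩
  obtain ⟨⟨a, b⟩, rfl⟩ := e.surjective y
  obtain ⟨a', rfl⟩ := hx
  rw [show e (a, b) = f a + g b by simp [f, g, ← map_add], b_add_right, hxy _ ⟨a, rfl⟩, hfg, add_zero]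

theorem iso_img (g : Grp Q) (U : Submodule F (ι → F)) : Iso (⇑(qOn Q U)) (⇑(qOn Q (img g U))) :=
  ⟨Submodule.equivMapOfInjective _ (fun x y e => ap_inj g
    ((Matrix.toLin'_apply _ x).symm.trans (e.trans (Matrix.toLin'_apply _ y)))) U,
    fun x => (congrArg Q (Matrix.toLin'_apply _ _)).trans (ap_q g x)⟩

variable [Fintype F] {p : ℕ} [hp : Fact p.Prime] [CharP F p]

omit hp [CharP F p] in
/-- A shape realised by an element. -/
theorem exists_grp_of_real (hB : Nondeg Q) {r : ℕ} {f : F[X]} (h : Real r (⇑Q) f) :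
    ∃ x : Grp Q, x ^ r = 1 ∧ cp x = f := by
  obtain ⟨T, hT, hTr, hTc⟩ := h
  obtain ⟨y, hy⟩ := exists_iso hB T hT
  have hy' : Matrix.toLin' ((y : GL ι F) : Matrix ι ι F) = T := LinearMap.ext hy
  refine ⟨y, ext_ap fun v => ?_, by rw [cp, ← Matrix.charpoly_toLin', hy', hTc]⟩
  show (((y ^ r : Grp Q) : GL ι F) : Matrix ι ι F).mulVec v = ap 1 v
  rw [ap_one, ← Matrix.toLin'_apply, SubmonoidClass.coe_pow, Units.val_pow_eq_pow_val, Matrix.toLin'_pow, hy', hTr]
  rfl

omit hp [CharP F p] in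
theorem real_of_grp {r : ℕ} (x : Grp Q) (hx : x ^ r = 1) : Real r (⇑Q) (cp x) :=
  ⟨_, fun v => ap_q x v, pow_toLin x hx, Matrix.charpoly_toLin' _⟩

include hp in
/-- A non-trivial element has a unit. -/
theorem units_pos (hB : Nondeg Q) {q r i t : ℕ} {D : Finset F[X]} (X : Ctx F p q r i t D) {x : Grp Q} (hx : x ^ r = 1)
    (hne : x ≠ 1) {e K : ℕ} (h : Shaped i D (cp x) e K) : 0 < K := by
  refine Nat.pos_of_ne_zero fun hK => hne ?_
  subst hK
  obtain ⟨g, hf, hg, hgd⟩ := h
  rw [eq_one_of_monic_natDegree_zero hg.monic (by simpa using hgd), mul_one] at hf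
  have h1 : cp x = cp (1 : Grp Q) := by
    have hd : (cp x).natDegree = Fintype.card ι := Matrix.charpoly_natDegree_eq_dim _
    rw [hf, natDegree_pow, show (Polynomial.X - 1 : F[X]).natDegree = 1 by simpa using natDegree_X_sub_C (1 : F),
      mul_one] at hd
    rw [hf, hd]
    exact (Matrix.charpoly_one).symm
  exact (isConj_one_right.mp (isConj_of_cp (p := p) hB X.prime X.ne_two X.ne_char 1 x (one_pow r) hx h1.symm))

include hp in
/-- The elements of the statement, from a realisable shape. -/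
theorem exists_element (hB : Nondeg Q) (hn : 5 ≤ Fintype.card ι) {q r i t : ℕ} {D : Finset F[X]}
    (X : Ctx F p q r i t D) {f : F[X]} {e K : ℕ} (hK : 0 < K) (hf : Shaped i D f e K) (h : Real r (⇑Q) f) :
    ∃ x : Grp Q, (x : GL ι F) ∈ Cfsg.Geo.omegaGL ⇑Q ∧ x ^ r = 1 ∧ cp x = f ∧ orderOf (x : GL ι F) = r ∧
      ∀ z : F, ((x : GL ι F) : Matrix ι ι F) ≠ z • (1 : Matrix ι ι F) := by
  haveI := Fact.mk X.prime
  obtain ⟨x, hx, hc⟩ := exists_grp_of_real hB h
  have hne : x ≠ 1 := by
    rintro rfl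
    have h1 : Shaped i D f (Fintype.card ι) 0 :=
      ⟨1, by rw [← hc, cp, mul_one]; exact Matrix.charpoly_one, Free.one, by simp⟩
    exact hK.ne' (hf.unique X.facts h1).2
  have hne' : (x : GL ι F) ≠ 1 := fun h => hne (Subtype.ext h)
  refine ⟨x, ⟨x, mem_omega_of_odd hB hn (X.prime.odd_of_ne_two X.ne_two) hx, rfl⟩, hx, hc,
    orderOf_eq_prime (by rw [← SubmonoidClass.coe_pow, hx]; rfl) hne', fun z hz => ?_⟩
  haveI : Nonempty ι := Fintype.card_pos_iff.1 (by omega)
  have hpow : z ^ r = 1 := by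
    have h1 : ((x : GL ι F) : Matrix ι ι F) ^ r = 1 := by
      rw [← Units.val_pow_eq_pow_val, ← SubmonoidClass.coe_pow, hx]; rfl
    rw [hz, _root_.smul_pow, one_pow] at h1
    obtain ⟨j⟩ := ‹Nonempty ι›
    have := congrFun (congrFun h1 j) j
    rwa [Matrix.smul_apply, Matrix.one_apply_eq, smul_eq_mul, mul_one] at this
  have hsq : z * z = 1 := by
    obtain ⟨v, hv⟩ := exists_aniso hB (by rw [Module.finrank_pi]; omega)
    have h1 := ap_q x v
    rw [ap, hz, Matrix.smul_mulVec, Matrix.one_mulVec, q_smul] at h1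
    exact mul_right_cancel₀ hv (h1.trans (one_mul _).symm)
  obtain ⟨k, hk⟩ := X.prime.odd_of_ne_two X.ne_two
  rw [hk, pow_succ, pow_mul, _root_.sq, hsq, one_pow, one_mul] at hpow
  exact hne' (Units.ext (by rw [hz, hpow, one_smul]; rfl))

omit hp in
/-- The isometry groups of the standard odd spaces inside the orthogonal of a subspace. -/
theorem exists_embed_odd (hB : Nondeg Q) (h2 : (2 : F) ≠ 0) {W : Submodule F (ι → F)} (hW : NondegOn Q W)
    {k : ℕ} (hd : finrank F W = 2 * k + 1) :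
    ∃ (R : QuadraticForm F (Unit ⊕ (Fin k ⊕ Fin k) → F)) (φ : Grp R →* Grp Q), Function.Injective φ ∧
      ⇑R = Cfsg.quadFormOdd k F ∧ Nondeg R ∧ ∀ X ≤ orth Q W, ∀ h, img (φ h) X = X := by
  obtain ⟨l, hl, e, he⟩ := classify_odd (qOn Q W) (qOn_nondeg hW) hd
  obtain ⟨R, hR, hRn⟩ := exists_quadForm_odd h2 k
  let R' : QuadraticForm F (Unit ⊕ (Fin k ⊕ Fin k) → F) := l • R
  obtain ⟨φ, hφ, hfix⟩ := exists_embed hB hW R' ⟨e.symm, fun v => by
    show qOn Q W (e.symm v) = l * R v
    rw [hR, ← he, e.apply_symm_apply]⟩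
  let j : Grp R →* Grp R' :=
    { toFun := fun g => ⟨g.1, fun u v => by
        show l * R _ = l * R u
        exact congrArg (l * ·) (g.2 u v)⟩
      map_one' := rfl
      map_mul' := fun _ _ => rfl }
  refine ⟨R, φ.comp j, hφ.comp (fun a b h => Subtype.ext (congrArg (fun z : Grp R' => z.1) h)), hR, hRn,
    fun X hX h => hfix X hX (j h)⟩

end CfsgLib.Derange
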