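import Cfsg.Agent.Lib.Derange.OddLine
import Cfsg.Agent.Lib.Derange.OrthExist
import Cfsg.Agent.Lib.Classical.OmegaApps
import Cfsg.Agent.Lib.UnipForm.PSplit

/-!
Even-dimensional orthogonal groups on non-degenerate subspaces of odd dimension: unipotent elements of prime order
leaving none of them invariant.
-/

set_option autoImplicit false
set_option linter.style.haveILetI false

namespace CfsgLib.Derange

open Module QuadraticMap CfsgLib.Classical CfsgLib.Classical.OrthModels CfsgLib.Orth

universe u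

variable {F : Type u} [Field F] [Fintype F] {p : ℕ} [hp : Fact p.Prime] [CharP F p] {ι : Type} [Fintype ι]
  [DecidableEq ι] {Q : QuadraticForm F (ι → F)}

local notation "B" => QuadraticMap.polar (DFunLike.coe Q)

omit [Fintype F] hp [CharP F p] in
theorem ringChar_ne_two (h2 : (2 : F) ≠ 0) : ringChar F ≠ 2 := fun e => h2 (by
  haveI := ringChar.charP F
  have := CharP.cast_eq_zero F (ringChar F)
  rwa [e, Nat.cast_ofNat] at this)

include hp in
/-- An invariant odd subspace killed by the square of `g - 1`, when all fixed vectors lie in one class. -/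
theorem sqzero_part (hB : Nondeg Q) (h2 : (2 : F) ≠ 0) (N : (ι → F) →ₗ[F] (ι → F))
    (hN : ∀ u v, B (N u) v + B u (N v) + B (N u) (N v) = 0) {α : F} (hα : α ≠ 0)
    (hfix : ∀ x, N x = 0 → IsSquare (α * Q x)) {U : Submodule F (ι → F)} (hU : NondegOn Q U) {a : ℕ}
    (hUd : finrank F U = 2 * a + 1) (hUN : ∀ x ∈ U, N x ∈ U) (hN2 : ∀ x ∈ U, N (N x) = 0) :
    Even a ∧ Iso (⇑(qOn Q U)) (fun x => α * Cfsg.quadFormOdd a F x) := by
  classical
  have hNN : ∀ u ∈ U, ∀ v ∈ U, B (N u) (N v) = 0 := fun u hu v hv => by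
    have h := hN (N u) v
    rwa [hN2 u hu, b_zero_left, b_zero_left, zero_add, add_zero] at h
  have hskew : ∀ u ∈ U, ∀ v ∈ U, B (N u) v = -B u (N v) := fun u hu v hv => by
    have h := hN u v
    rw [hNN u hu v hv, add_zero] at h
    exact eq_neg_iff_add_eq_zero.2 h
  set R := U.map N with hR
  set K := U ⊓ LinearMap.ker N with hK
  have hRK : R ≤ K := by
    rintro _ ⟨x, hx, rfl⟩
    exact ⟨hUN x hx, hN2 x hx⟩
  have hRs : ∀ w ∈ R, Q w = 0 := by
    rintro _ ⟨x, hx, rfl⟩
    have h := hNN x hx x hx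
    rw [b_self, mul_eq_zero, or_iff_right h2] at h
    exact h
  have hdim : finrank F K + finrank F R = 2 * a + 1 := by
    have h := LinearMap.finrank_range_add_finrank_ker (N ∘ₗ U.subtype)
    rw [LinearMap.range_comp, Submodule.range_subtype, LinearMap.ker_comp, ← Submodule.finrank_map_subtype_eq,
      Submodule.map_comap_subtype, hUd] at h
    rw [hK, hR]
    omega
  -- the rank is even
  let b := Module.finBasis F R
  have hpre : ∀ i, ∃ u ∈ U, N u = (b i : ι → F) := fun i => Submodule.mem_map.1 (b i).2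
  choose w hwU hwN using hpre
  have hReven : Even (finrank F R) := by
    let H : Matrix (Fin (finrank F R)) (Fin (finrank F R)) F :=
      Matrix.of fun i j => B (b i : ι → F) (w j)
    have := UnipForm.even_card_of_alt (K := F) H (fun k l => by
      show B (b l : ι → F) (w k) = -B (b k : ι → F) (w l)
      rw [← hwN, ← hwN, hskew _ (hwU l) _ (hwU k), b_comm])
      (fun k => by
        show B (b k : ι → F) (w k) = 0
        have h := hskew _ (hwU k) _ (hwU k)
        rw [b_comm (w k), eq_neg_iff_add_eq_zero, ← two_mul, mul_eq_zero, or_iff_right h2, hwN] at h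
        exact h)
      (fun hdet => by
        obtain ⟨c, hc0, hc⟩ := Matrix.exists_vecMul_eq_zero_iff.2 hdet
        let L : (Fin (finrank F R) → F) →ₗ[F] (ι → F) := R.subtype ∘ₗ b.equivFun.symm.toLinearMap
        have hLc : ∀ j, B (L c) (w j) = 0 := fun j => by
          have h := congrFun hc j
          have e : B (L c) (w j) = ∑ i, c i * H i j := by
            show polarBilin Q (R.subtype (b.equivFun.symm c)) (w j) = _
            rw [Basis.equivFun_symm_apply, map_sum, map_sum, LinearMap.sum_apply]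
            exact Finset.sum_congr rfl fun i _ => by
              rw [map_smul, map_smul, LinearMap.smul_apply, smul_eq_mul]; rfl
          rw [e]; exact h
        have hL0 : L c = 0 := hU _ (hRK (Subtype.mem _)).1 fun y hy => by
          set z := b.equivFun ⟨N y, Submodule.mem_map_of_mem hy⟩ with hz
          have hk : N (y - ∑ i, z i • w i) = 0 := by
            rw [map_sub, map_sum, sub_eq_zero]
            simp only [map_smul, hwN]
            have h := congrArg Subtype.val (b.sum_equivFun ⟨N y, Submodule.mem_map_of_mem hy⟩)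
            rw [← hz, Submodule.coe_sum] at h
            exact h.symm
          have hzero : B (L c) (y - ∑ i, z i • w i) = 0 := by
            obtain ⟨u, hu, hu'⟩ : ∃ u ∈ U, N u = L c := Submodule.mem_map.1 (Subtype.mem _)
            rw [← hu', hskew u hu _ (U.sub_mem hy (U.sum_mem fun i _ => U.smul_mem _ (hwU i))), hk,
              b_zero_right, neg_zero]
          have hsum : B (L c) (∑ i, z i • w i) = 0 := by
            rw [← polarBilin_apply_apply, map_sum]
            exact Finset.sum_eq_zero fun i _ => by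
              rw [map_smul, polarBilin_apply_apply, hLc, smul_zero]
          rw [b_sub_right, hsum, sub_zero] at hzero
          exact hzero
        exact hc0 (b.equivFun.symm.injective (Subtype.ext (hL0.trans (by simp)))))
    simpa using this
  -- an anisotropic fixed vector
  have hperp : ∀ x ∈ K, ∀ r ∈ R, B r x = 0 := by
    rintro x hx _ ⟨u, hu, rfl⟩
    rw [hskew u hu x hx.1, show N x = 0 from hx.2, b_zero_right, neg_zero]
  obtain ⟨x, hx, hqx⟩ : ∃ x ∈ K, Q x ≠ 0 := by
    by_contra hc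
    push Not at hc
    have h1 : K ≤ U ⊓ orth Q K := le_inf inf_le_left (le_orth_of_singular hc)
    have h3 := Submodule.finrank_sup_add_finrank_inf_eq U (orth Q K)
    have h4 : U ⊔ orth Q K = ⊤ :=
      top_le_iff.1 (sup_orth_eq_top hB hU ▸ sup_le_sup_left (orth_le inf_le_left) U)
    have h5 := finrank_orth hB K
    have h6 := Submodule.finrank_mono h1
    have h7 := Submodule.finrank_mono hRK
    rw [h4, finrank_top] at h3
    omega
  have hx0 : x ≠ 0 := fun h => hqx (by rw [h, QuadraticMap.map_zero])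
  set X := U ⊓ orth Q (Submodule.span F {x}) with hX
  have hXx : ∀ y ∈ X, B x y = 0 := fun y hy => mem_orth.1 hy.2 x (Submodule.mem_span_singleton_self x)
  have hperpx : ∀ {y}, B x y = 0 → y ∈ orth Q (Submodule.span F {x}) := fun {y} h => mem_orth.2 fun z hz => by
    obtain ⟨c, rfl⟩ := Submodule.mem_span_singleton.1 hz
    rw [b_smul_left, h, mul_zero]
  have hsplit : ∀ u ∈ U, u - ((B x u) / (2 * Q x)) • x ∈ X := fun u hu =>
    ⟨U.sub_mem hu (U.smul_mem _ hx.1), hperpx (by
      rw [b_sub_right, b_smul_right, b_self, div_mul_cancel₀ _ (mul_ne_zero h2 hqx), sub_self])⟩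
  have hXn : NondegOn Q X := fun y hy h => hU y hy.1 fun u hu => by
    have e : u = (u - ((B x u) / (2 * Q x)) • x) + ((B x u) / (2 * Q x)) • x := by rw [sub_add_cancel]
    rw [e, b_add_right, h _ (hsplit u hu), b_smul_right, b_comm y x, hXx y hy, mul_zero, add_zero]
  have hXsup : X ⊔ Submodule.span F {x} = U := le_antisymm
    (sup_le inf_le_left ((Submodule.span_singleton_le_iff_mem _ _).2 hx.1)) fun u hu => by
      rw [← sub_add_cancel u (((B x u) / (2 * Q x)) • x)]
      exact add_mem (Submodule.mem_sup_left (hsplit u hu))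
        (Submodule.mem_sup_right (Submodule.smul_mem _ _ (Submodule.mem_span_singleton_self x)))
  have hdisj : X ⊓ Submodule.span F {x} = ⊥ := (Submodule.eq_bot_iff _).2 fun z hz => by
    obtain ⟨c, rfl⟩ := Submodule.mem_span_singleton.1 hz.2
    have h := hXx _ hz.1
    rw [b_smul_right, b_self, mul_eq_zero, or_iff_left (mul_ne_zero h2 hqx)] at h
    rw [h, zero_smul]
  have hXd : finrank F X = 2 * a := by
    have h := Submodule.finrank_sup_add_finrank_inf_eq X (Submodule.span F {x})
    rw [hXsup, hdisj, finrank_bot, finrank_span_singleton hx0, hUd] at h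
    omega
  have hRX : R ≤ X := fun r hr => ⟨(hRK hr).1, hperpx ((b_comm _ _).trans (hperp x hx r hr))⟩
  -- fixed vectors orthogonal to `x` are singular
  set K' := K ⊓ orth Q (Submodule.span F {x}) with hK'
  have hK's : ∀ y ∈ K', Q y = 0 := fun y hy => by
    by_contra hqy
    obtain ⟨ν, hν⟩ : ∃ ν : F, ¬ IsSquare ν := FiniteField.exists_nonsquare (ringChar_ne_two h2)
    obtain ⟨c, hc⟩ := hfix x hx.2
    obtain ⟨e, he⟩ := hfix y hy.1.2
    have hν0 : ν ≠ 0 := fun h => hν (h ▸ IsSquare.zero)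
    obtain ⟨s, t, hst⟩ := FiniteField.exists_root_sum_quadratic
      (f := Polynomial.X ^ 2) (g := Polynomial.X ^ 2 + Polynomial.C (-ν))
      (by compute_degree!) (by compute_degree!)
      (FiniteField.odd_card_of_char_ne_two (ringChar_ne_two h2))
    simp only [Polynomial.eval_pow, Polynomial.eval_X, Polynomial.eval_add, Polynomial.eval_C] at hst
    have hc0 : c ≠ 0 := fun h => mul_ne_zero hα hqx (by rw [hc, h, mul_zero])
    have he0 : e ≠ 0 := fun h => mul_ne_zero hα hqy (by rw [he, h, mul_zero])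
    have hxy : B x y = 0 := mem_orth.1 hy.2 x (Submodule.mem_span_singleton_self x)
    obtain ⟨w, hw⟩ := hfix ((α * s / c) • x + (α * t / e) • y)
      (by rw [map_add, map_smul, map_smul, show N x = 0 from hx.2, show N y = 0 from hy.1.2]; simp)
    have hQx : Q x = c * c / α := by rw [← hc, mul_div_cancel_left₀ _ hα]
    have hQy : Q y = e * e / α := by rw [← he, mul_div_cancel_left₀ _ hα]
    rw [q_add, q_smul, q_smul, b_smul_left, b_smul_right, hxy, hQx, hQy] at hw
    apply hν
    refine ⟨w / α, ?_⟩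
    field_simp at hw ⊢
    refine mul_left_cancel₀ (mul_ne_zero hc0 he0) ?_
    linear_combination hw - c * e * α ^ 2 * hst
  have hK'X : K' ≤ X := inf_le_inf_right _ inf_le_left
  have hK'd : finrank F K ≤ finrank F K' + 1 := by
    have h1 := Submodule.finrank_sup_add_finrank_inf_eq K (orth Q (Submodule.span F {x}))
    have h4 := finrank_orth hB (Submodule.span F {x})
    have h5 := Submodule.finrank_le (K ⊔ orth Q (Submodule.span F {x}))
    rw [finrank_span_singleton hx0] at h4
    rw [← hK'] at h1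
    omega
  have hK'half : 2 * finrank F K' ≤ 2 * a := by
    have h1 : K' ≤ X ⊓ orth Q K' := le_inf hK'X (le_orth_of_singular hK's)
    have h3 := Submodule.finrank_sup_add_finrank_inf_eq X (orth Q K')
    have h4 : X ⊔ orth Q K' = ⊤ := top_le_iff.1 (sup_orth_eq_top hB hXn ▸ sup_le_sup_left (orth_le hK'X) X)
    have h5 := finrank_orth hB K'
    have h6 := Submodule.finrank_mono h1
    rw [h4, finrank_top] at h3
    omega
  have hRd : finrank F R = a := by
    have h1 : R ≤ X ⊓ orth Q R := le_inf hRX (le_orth_of_singular hRs)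
    have h3 := Submodule.finrank_sup_add_finrank_inf_eq X (orth Q R)
    have h4 : X ⊔ orth Q R = ⊤ := top_le_iff.1 (sup_orth_eq_top hB hXn ▸ sup_le_sup_left (orth_le hRX) X)
    have h5 := finrank_orth hB R
    have h6 := Submodule.finrank_mono h1
    rw [h4, finrank_top] at h3
    omega
  refine ⟨hRd ▸ hReven, ?_⟩
  obtain ⟨-, -, hi⟩ := exists_add_line h2 hXn hXd ⟨R, hRX, hRs, by omega⟩
    (mem_orth.2 fun y hy => (b_comm _ _).trans (hXx y hy) : x ∈ orth Q X) hqx
  rw [hXsup] at hi
  exact hi.trans (odd_scale_congr hqx hα (by rw [mul_comm]; exact hfix x hx.2))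

omit hp [CharP F p] in
theorem iso_orth (hB : Nondeg Q) {W W₀ : Submodule F (ι → F)} (h : Iso (⇑(qOn Q W)) (⇑(qOn Q W₀))) :
    Iso (⇑(qOn Q (orth Q W))) (⇑(qOn Q (orth Q W₀))) := by
  obtain ⟨g, hg⟩ := exists_move hB h
  have e : img g (orth Q W) = orth Q W₀ := by
    refine Submodule.eq_of_le_of_finrank_eq (fun y hy => mem_orth.2 fun w hw => ?_) ?_
    · have h1 : ap g⁻¹ w ∈ W := mem_img.1 (hg ▸ hw : w ∈ img g W)
      rw [← ap_ap_inv g w, ← ap_ap_inv g y, ap_b]
      exact mem_orth.1 (mem_img.1 hy) _ h1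
    · have h1 := finrank_orth hB W
      have h3 := finrank_orth hB W₀
      rw [finrank_img, ← hg, finrank_img] at *
      omega
  exact e ▸ iso_img g (orth Q W)

omit hp [CharP F p] in
/-- A nilpotent map on the model of odd dimension. -/
theorem exists_model_nil (h2 : (2 : F) ≠ 0) {k s : ℕ} (hk : k = 2 * s + 1) :
    ∃ N : (Unit ⊕ (Fin k ⊕ Fin k) → F) →ₗ[F] (Unit ⊕ (Fin k ⊕ Fin k) → F),
      (∀ y, Cfsg.quadFormOdd k F (y + N y) = Cfsg.quadFormOdd k F y) ∧ (∀ y, N (N (N y)) = 0) ∧ N ≠ 0 ∧
        (∀ y, N y = 0 → Cfsg.quadFormOdd k F y = 0) ∧ ∃ z, ∀ y, ∃ c : F, N (N y) = c • z := by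
  classical
  let κ := Unit ⊕ (Fin s ⊕ Fin s)
  let σ : κ ≃ Fin k := Fintype.equivFinOfCardEq (by simp [κ]; omega)
  let J := Unit ⊕ (κ ⊕ κ)
  let τ : J ≃ Unit ⊕ (Fin k ⊕ Fin k) := Equiv.sumCongr (Equiv.refl _) (Equiv.sumCongr σ σ)
  let L : (Unit ⊕ (Fin k ⊕ Fin k) → F) ≃ₗ[F] (J → F) := LinearEquiv.funCongrLeft F F τ
  let pr : J → (J → F) →ₗ[F] F := fun j => LinearMap.proj j
  let M : (J → F) →ₗ[F] (J → F) := LinearMap.pi fun
    | .inl _ => pr (.inr (.inl (.inl ())))
    | .inr (.inl (.inl _)) => 0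
    | .inr (.inl (.inr (.inl t))) => pr (.inr (.inl (.inr (.inr t))))
    | .inr (.inl (.inr (.inr _))) => 0
    | .inr (.inr (.inl _)) => (-2 : F) • pr (.inl ()) - pr (.inr (.inl (.inl ())))
    | .inr (.inr (.inr (.inl _))) => 0
    | .inr (.inr (.inr (.inr t))) => -pr (.inr (.inr (.inr (.inl t))))
  have hq : ∀ y, Cfsg.quadFormOdd k F y = (L y (.inl ())) ^ 2 + (L y (.inr (.inl (.inl ()))) * L y (.inr (.inr (.inl ()))) +
      ∑ t : Fin s, (L y (.inr (.inl (.inr (.inl t)))) * L y (.inr (.inr (.inr (.inl t)))) +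
        L y (.inr (.inl (.inr (.inr t)))) * L y (.inr (.inr (.inr (.inr t)))))) := fun y => by
    simp only [Cfsg.quadFormOdd]
    rw [← Equiv.sum_comp σ]
    simp only [κ, Fintype.sum_sum_type, Finset.univ_unique, Finset.sum_singleton, Finset.sum_add_distrib]
    rfl
  let N := L.symm.toLinearMap ∘ₗ M ∘ₗ L.toLinearMap
  have hLN : ∀ y, L (N y) = M (L y) := fun y => L.apply_symm_apply _
  refine ⟨N, fun y => ?_, fun y => L.injective ?_, fun h => ?_, fun y hy => ?_,
    L.symm (Pi.single (.inr (.inr (.inl ()))) 1), fun y => ⟨-2 * L y (.inr (.inl (.inl ()))), L.injective ?_⟩⟩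
  · rw [hq, hq, map_add, hLN]
    set z := L y
    simp only [Pi.add_apply, M, LinearMap.pi_apply, LinearMap.zero_apply, LinearMap.sub_apply, LinearMap.neg_apply,
      LinearMap.smul_apply, pr, LinearMap.proj_apply, smul_eq_mul, add_zero]
    rw [Finset.sum_congr rfl fun t _ => show _ = z (.inr (.inl (.inr (.inl t)))) * z (.inr (.inr (.inr (.inl t)))) +
        z (.inr (.inl (.inr (.inr t)))) * z (.inr (.inr (.inr (.inr t)))) by ring]
    ring
  · rw [hLN, hLN, hLN, map_zero]
    funext j
    rcases j with j | (j | j | j) | (j | j | j) <;>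
      simp [M, pr]
  · have h1 := congrArg (fun T : _ →ₗ[F] _ => L (T (L.symm (Pi.single (.inr (.inl (.inl ()))) 1))) (.inl ())) h
    simp only [hLN, L.apply_symm_apply] at h1
    simp [M, pr] at h1
  · have h := hLN y
    rw [hy, map_zero] at h
    rw [hq]
    set z := L y
    have ha : z (.inr (.inl (.inl ()))) = 0 := by simpa [M, pr] using (congrFun h (.inl ())).symm
    have hy0 : z (.inl ()) = 0 := by
      have := (congrFun h (.inr (.inr (.inl ())))).symm
      simp [M, pr, ha, h2] at this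
      exact this
    have hA : ∀ t, z (.inr (.inl (.inr (.inr t)))) = 0 := fun t => by
      simpa [M, pr] using (congrFun h (.inr (.inl (.inr (.inl t))))).symm
    have hb : ∀ t, z (.inr (.inr (.inr (.inl t)))) = 0 := fun t => by
      simpa [M, pr] using (congrFun h (.inr (.inr (.inr (.inr t))))).symm
    simp [ha, hy0, hA, hb]
  · rw [hLN, hLN, map_smul, L.apply_symm_apply]
    funext j
    rcases j with j | (j | j | j) | (j | j | j) <;>
      simp [M, pr, Pi.single_apply, Sum.inl.injEq, Sum.inr.injEq] <;> rintro ⟨⟩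

include hp in
/-- In dimension a multiple of four some element of order the characteristic leaves no such subspace invariant. -/
theorem no_invariant_unip (hB : Nondeg Q) (h2 : (2 : F) ≠ 0) {d a : ℕ} (hι : Fintype.card ι = 2 * d) (hd : Even d)
    (hd2 : 2 ≤ d) (had : a < d) {W₀ : Submodule F (ι → F)} (hW₀ : NondegOn Q W₀)
    (hW₀d : finrank F W₀ = 2 * a + 1) :
    ∃ x : GL ι F, x ∈ Cfsg.Geo.omegaGL ⇑Q ∧ x ^ p = 1 ∧ (∀ z : F, (x : Matrix ι ι F) ≠ z • (1 : Matrix ι ι F)) ∧
      ∀ W : Submodule F (ι → F), NondegOn Q W → finrank F W = 2 * a + 1 → Iso (⇑(qOn Q W)) (⇑(qOn Q W₀)) →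
        ¬ W.map (Matrix.toLin' (x : Matrix ι ι F)) ≤ W := by
  classical
  have hfin : finrank F (ι → F) = 2 * d := by rw [Module.finrank_pi, hι]
  have horth : ∀ {W : Submodule F (ι → F)}, finrank F W = 2 * a + 1 →
      finrank F (orth Q W) = 2 * (d - a - 1) + 1 := fun {W} hW => by
    have := finrank_orth hB W
    omega
  -- the class to avoid
  obtain ⟨l₁, hl₁, hW₁⟩ := exists_class hW₀ hW₀d
  obtain ⟨l₂, hl₂, hW₂⟩ := exists_class (nondegOn_orth hB hW₀) (horth hW₀d)
  obtain ⟨ν, hν⟩ : ∃ ν : F, ¬ IsSquare ν := FiniteField.exists_nonsquare (ringChar_ne_two h2)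
  have hν0 : ν ≠ 0 := fun h => hν (h ▸ IsSquare.zero)
  set l := if Even a then l₁ else l₂ with hl
  have hl0 : l ≠ 0 := by rw [hl]; split_ifs <;> assumption
  set α := ν * l with hαdef
  have hα : α ≠ 0 := mul_ne_zero hν0 hl0
  -- the element
  obtain ⟨e, -, hqe⟩ := exists_value (Q := Q) (U := ⊤) (fun x _ h => hB x fun y => h y trivial) h2
    (by rw [finrank_top]; omega) α
  have he0 : e ≠ 0 := fun h => hα (by rw [← hqe, h, QuadraticMap.map_zero])
  set L := Submodule.span F {e}
  have hLn : NondegOn Q L := fun x hx h => by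
    obtain ⟨c, rfl⟩ := Submodule.mem_span_singleton.1 hx
    have := h e (Submodule.mem_span_singleton_self e)
    rw [b_smul_left, b_self, hqe, mul_eq_zero, or_iff_left (mul_ne_zero h2 hα)] at this
    rw [this, zero_smul]
  have hMd : finrank F (orth Q L) = 2 * (d - 1) + 1 := by
    have := finrank_orth hB L
    rw [finrank_span_singleton he0, hfin] at this
    omega
  obtain ⟨β, hβ, E, hE⟩ := exists_class (nondegOn_orth hB hLn) hMd
  obtain ⟨s, hs⟩ : ∃ s, d - 1 = 2 * s + 1 := ⟨(d - 2) / 2, by obtain ⟨w, rfl⟩ := hd; omega⟩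
  obtain ⟨N₀, hN₀q, hN₀3, hN₀0, hN₀f, z, hN₀2⟩ := exists_model_nil (F := F) h2 hs
  let π : (ι → F) →ₗ[F] orth Q L :=
    (LinearMap.id - ((2 * α)⁻¹ • polarBilin Q e).smulRight e).codRestrict _ fun v => mem_orth.2 fun w hw => by
      obtain ⟨c, rfl⟩ := Submodule.mem_span_singleton.1 hw
      show B (c • e) (v - ((2 * α)⁻¹ * B e v) • e) = 0
      rw [b_smul_left, b_sub_right, b_smul_right, b_self, hqe]
      field_simp
      ring
  have hπ : ∀ v, (π v : ι → F) = v - ((2 * α)⁻¹ * B e v) • e := fun v => rfl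
  have hπid : ∀ m : orth Q L, π m = m := fun m => Subtype.ext (by
    rw [hπ, mem_orth.1 m.2 e (Submodule.mem_span_singleton_self e), mul_zero, zero_smul, sub_zero])
  let N : (ι → F) →ₗ[F] (ι → F) := (orth Q L).subtype ∘ₗ E.symm.toLinearMap ∘ₗ N₀ ∘ₗ E.toLinearMap ∘ₗ π
  have hEN : ∀ v, E (π (N v)) = N₀ (E (π v)) := fun v => by
    show E (π ((E.symm (N₀ (E (π v))) : orth Q L) : ι → F)) = _
    rw [hπid, E.apply_symm_apply]
  have hNE : ∀ v, N v = 0 ↔ N₀ (E (π v)) = 0 := fun v => by
    show ((E.symm (N₀ (E (π v))) : orth Q L) : ι → F) = 0 ↔ _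
    rw [ZeroMemClass.coe_eq_zero, LinearEquiv.map_eq_zero_iff]
  have hdecomp : ∀ v, Q v = ((2 * α)⁻¹ * B e v) ^ 2 * α + β * Cfsg.quadFormOdd (d - 1) F (E (π v)) := fun v => by
    have h1 : β * Cfsg.quadFormOdd (d - 1) F (E (π v)) = Q (π v : ι → F) := hE (π v)
    have h3 : v = ((2 * α)⁻¹ * B e v) • e + (π v : ι → F) := by rw [hπ]; abel
    conv_lhs => rw [h3]
    rw [q_add, q_smul, hqe, b_smul_left, mem_orth.1 (π v).2 e (Submodule.mem_span_singleton_self e), h1]
    ring
  have hBN : ∀ v, B e (N v) = 0 := fun v => mem_orth.1 (Subtype.mem _) e (Submodule.mem_span_singleton_self e)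
  have hTq : ∀ v, Q (v + N v) = Q v := fun v => by
    rw [hdecomp, hdecomp v, b_add_right, hBN, add_zero, map_add, map_add, hEN, hN₀q]
  obtain ⟨g, hg⟩ := exists_iso hB (LinearMap.id + N) hTq
  have hgap : ∀ v, ap g v = v + N v := hg
  have hN3 : ∀ v, N (N (N v)) = 0 := fun v => by rw [hNE, hEN, hEN, hN₀3]
  haveI : Nonempty ι := Fintype.card_pos_iff.1 (by omega)
  haveI : CharP (Matrix ι ι F) p := inferInstance
  have hp2 : p ≠ 2 := fun h => h2 (by subst h; exact_mod_cast CharP.cast_eq_zero F 2)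
  have hp3 : 3 ≤ p := lt_of_le_of_ne hp.out.two_le (Ne.symm hp2)
  set A := LinearMap.toMatrix' N
  have hgA : ((g : GL ι F) : Matrix ι ι F) = 1 + A := Matrix.toLin'.injective (LinearMap.ext fun v => by
    rw [map_add, LinearMap.add_apply, Matrix.toLin'_one, Matrix.toLin'_toMatrix']
    exact hgap v)
  have hgp : g ^ p = 1 := by
    refine Subtype.ext (Units.ext ?_)
    rw [SubgroupClass.coe_pow, Units.val_pow_eq_pow_val, hgA, add_pow_char_of_commute p (Commute.one_left _), one_pow]
    have h3 : A ^ 3 = 0 := Matrix.toLin'.injective (LinearMap.ext fun v => by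
      rw [Matrix.toLin'_pow, Matrix.toLin'_toMatrix', map_zero, pow_succ, pow_two]
      exact hN3 v)
    rw [show p = 3 + (p - 3) by omega, pow_add, h3, zero_mul, add_zero]
    rfl
  refine ⟨g, ⟨g, UnipForm.mem_omega_of_pow hB h2 (by omega) (hp.out.odd_of_ne_two hp2) hgp, rfl⟩,
    by rw [← SubmonoidClass.coe_pow, hgp]; rfl, fun c hc => ?_, fun W hW hWd hWi hWg => ?_⟩
  · have hsc : ∀ v, v + N v = c • v := fun v => by
      rw [← hgap, ap, hc, Matrix.smul_mulVec, Matrix.one_mulVec]
    have hNe : N e = 0 := by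
      rw [hNE, show π e = 0 from Subtype.ext (by
        rw [hπ, b_self, hqe, inv_mul_cancel₀ (mul_ne_zero h2 hα), one_smul, sub_self]; rfl), map_zero, map_zero]
    have hc1 : c = 1 := by
      have h := hsc e
      rw [hNe, add_zero] at h
      by_contra h1
      exact he0 ((smul_eq_zero.1 (show (c - 1) • e = 0 by rw [sub_smul, one_smul, ← h, sub_self])).resolve_left
        (sub_ne_zero.2 h1))
    refine hN₀0 (LinearMap.ext fun y => ?_)
    have h := hsc (E.symm y : ι → F)
    rw [hc1, one_smul, add_eq_left, hNE, hπid, E.apply_symm_apply] at h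
    exact h
  · have hBg : ∀ u v, B (N u) v + B u (N v) + B (N u) (N v) = 0 := fun u v => by
      have h := ap_b g u v
      rw [hgap, hgap, b_add_left, b_add_right, b_add_right] at h
      linear_combination h
    have hNW : ∀ v ∈ W, N v ∈ W := fun v hv => by
      have : ap g v ∈ W := hWg ⟨v, hv, Matrix.toLin'_apply _ _⟩
      rw [hgap] at this
      simpa using W.sub_mem this hv
    have hNW' : ∀ v ∈ orth Q W, N v ∈ orth Q W := fun v hv => by
      have := invariant_orth g (fun w hw => hWg ⟨w, hw, Matrix.toLin'_apply _ _⟩) v hv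
      rw [hgap] at this
      simpa using (orth Q W).sub_mem this hv
    have hfix : ∀ x, N x = 0 → IsSquare (α * Q x) := fun x hx => by
      rw [hdecomp x, hN₀f _ ((hNE x).1 hx)]
      exact ⟨α * ((2 * α)⁻¹ * B e x), by ring⟩
    have hN2 : ∀ v, ∃ c : F, N (N v) = c • (E.symm z : ι → F) := fun v => by
      obtain ⟨c, hc⟩ := hN₀2 (E (π v))
      refine ⟨c, ?_⟩
      show ((E.symm (N₀ (E (π (N v)))) : orth Q L) : ι → F) = _
      rw [hEN, hc, map_smul, Submodule.coe_smul]
    have hone : (∀ v ∈ W, N (N v) = 0) ∨ (∀ v ∈ orth Q W, N (N v) = 0) := by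
      by_contra hc
      push Not at hc
      obtain ⟨⟨u, hu, hu0⟩, v, hv, hv0⟩ := hc
      obtain ⟨c, hc⟩ := hN2 u
      obtain ⟨c', hc'⟩ := hN2 v
      have hzW : (E.symm z : ι → F) ∈ W := (Submodule.smul_mem_iff W (s := c) (fun h => hu0 (by
        rw [hc, h, zero_smul]))).1 (hc ▸ hNW _ (hNW u hu))
      refine hv0 (nondeg_inf hW ?_ (hNW' _ (hNW' v hv)))
      rw [hc']
      exact W.smul_mem _ hzW
    have hbad : ∀ {k : ℕ} {m : F}, m ≠ 0 → IsSquare (m * l) →
        Iso (fun x => α * Cfsg.quadFormOdd k F x) (fun x => m * Cfsg.quadFormOdd k F x) → False := by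
      intro k m hm hml h
      have h1 := (isSquare_of_iso_odd h2 hα hm h).mul hml
      rw [show α * m * (m * l) = ν * ((m * l) * (m * l)) by rw [hαdef]; ring] at h1
      obtain ⟨c, hc⟩ := h1
      exact hν ⟨c / (m * l), by field_simp; linear_combination hc⟩
    rcases hone with h | h
    · obtain ⟨hev, hi⟩ := sqzero_part (p := p) hB h2 N hBg hα hfix hW hWd hNW h
      exact hbad hl₁ (by rw [hl, if_pos hev]; exact ⟨l₁, rfl⟩) (hi.symm.trans (hWi.trans hW₁))
    · obtain ⟨hev, hi⟩ := sqzero_part (p := p) hB h2 N hBg hα hfix (nondegOn_orth hB hW) (horth hWd) hNW' h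
      have hodd : ¬ Even a := fun ha => by
        obtain ⟨w, hw⟩ := ha
        obtain ⟨w', hw'⟩ := hev
        obtain ⟨w'', hw''⟩ := hd
        omega
      exact hbad hl₂ (by rw [hl, if_neg hodd]; exact ⟨l₂, rfl⟩) (hi.symm.trans ((iso_orth hB hWi).trans hW₂))

end CfsgLib.Derange
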