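import Cfsg.Agent.Lib.Derange.EvenParabolic
import Cfsg.Agent.Lib.Derange.EvenParabolicTwo
import Cfsg.Agent.Lib.Derange.EvenParabolicUnip

/-!
Even-dimensional orthogonal groups on non-degenerate subspaces of odd dimension: the prime order rows.
-/

set_option autoImplicit false
set_option linter.style.haveILetI false

namespace CfsgLib.Derange

open Module QuadraticMap CfsgLib.Classical CfsgLib.Classical.OrthModels CfsgLib.Orth

universe u

variable {F : Type u} [Field F] [Fintype F] {p : ℕ} [hp : Fact p.Prime] [CharP F p] {ι : Type} [Fintype ι]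
  [DecidableEq ι] {Q : QuadraticForm F (ι → F)}

include hp in
/-- No element of order `p` condition: some element fixes none of the subspaces. -/
theorem parabolic_char (hB : Nondeg Q) (h2 : (2 : F) ≠ 0) {d a : ℕ} (hι : Fintype.card ι = 2 * d) (hd : 4 ≤ d)
    (had : 2 * a + 1 < d) {W₀ : Submodule F (ι → F)} (hW₀ : NondegOn Q W₀) (hW₀d : finrank F W₀ = 2 * a + 1) :
    ¬ ∀ x : GL ι F, x ∈ Cfsg.Geo.omegaGL ⇑Q →
      (∃ z : F, ((x ^ p : GL ι F) : Matrix ι ι F) = z • (1 : Matrix ι ι F)) →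
      (∀ z : F, (x : Matrix ι ι F) ≠ z • (1 : Matrix ι ι F)) →
      ∃ W : Submodule F (ι → F), (finrank F ↥W = 2 * a + 1 ∧ Cfsg.Geo.IsNondegenerateOn (QuadraticMap.polar ⇑Q) W ∧
        Cfsg.Geo.AreIsometricFor ⇑Q W W₀) ∧ W.map (Matrix.toLin' (x : Matrix ι ι F)) ≤ W := by
  intro H
  have hp2 : p ≠ 2 := fun h => h2 (by subst h; exact_mod_cast CharP.cast_eq_zero F 2)
  have hp3 : 3 ≤ p := lt_of_le_of_ne hp.out.two_le (Ne.symm hp2)
  rcases Nat.even_or_odd d with hev | ⟨w, hw⟩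
  · obtain ⟨x, hxΩ, hxp, hxs, hx⟩ := no_invariant_unip (p := p) hB h2 hι hev (by omega) (by omega : a < d) hW₀ hW₀d
    obtain ⟨W, ⟨hWd, hWn, hWi⟩, hWx⟩ := H x hxΩ ⟨1, by rw [hxp, one_smul]; rfl⟩ hxs
    obtain ⟨-, hWn', hWi'⟩ := (isoSub_iff hW₀d).1 ⟨hWd, hWn, hWi⟩
    exact hx W hWn' hWd hWi' hWx
  · obtain ⟨μ, hμ, hμe, hsum, hodd, hbig, hbad⟩ : ∃ μ : Multiset ℕ, (∀ e ∈ μ, 0 < e ∧ e ≤ p) ∧
        (∀ e, Even e → Even (μ.count e)) ∧ μ.sum = Fintype.card ι ∧ (∃ e ∈ μ, Odd e) ∧ (∃ e ∈ μ, 1 < e) ∧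
        ∀ ν ≤ μ, Even (ν.count 2) → ν.sum ≠ 2 * a + 1 := by
      have key : ∀ o k, (o = 1 ∨ o = 3) → Even k → 2 * o + 2 * k = 2 * d → 1 ≤ k →
          (2 * a + 1) % 4 ≠ o % 4 → ∃ μ : Multiset ℕ, (∀ e ∈ μ, 0 < e ∧ e ≤ p) ∧
          (∀ e, Even e → Even (μ.count e)) ∧ μ.sum = Fintype.card ι ∧ (∃ e ∈ μ, Odd e) ∧ (∃ e ∈ μ, 1 < e) ∧
          ∀ ν ≤ μ, Even (ν.count 2) → ν.sum ≠ 2 * a + 1 := by
        intro o k ho hk hsum hk1 hm
        refine ⟨Multiset.replicate 2 o + Multiset.replicate k 2, fun e he => ?_, fun e he => ?_, ?_,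
          ⟨o, Multiset.mem_add.2 (Or.inl (Multiset.mem_replicate.2 ⟨two_ne_zero, rfl⟩)), ?_⟩,
          ⟨2, Multiset.mem_add.2 (Or.inr (Multiset.mem_replicate.2 ⟨by omega, rfl⟩)), by omega⟩, fun ν hν hev h => ?_⟩
        · rcases Multiset.mem_add.1 he with he | he <;> obtain rfl := Multiset.eq_of_mem_replicate he <;> omega
        · rw [Multiset.count_add, Multiset.count_replicate, Multiset.count_replicate]
          refine Even.add ?_ ?_ <;> split_ifs <;> first | exact hk | exact Even.zero | decide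
        · rw [Multiset.sum_add, Multiset.sum_replicate, Multiset.sum_replicate, smul_eq_mul, smul_eq_mul, hι]
          omega
        · rcases ho with rfl | rfl <;> decide
        · have ho2 : o ≠ 2 := by omega
          have hsub : ∀ e ∈ ν, e = o ∨ e = 2 := fun e he => by
            rcases Multiset.mem_add.1 (Multiset.mem_of_le hν he) with h' | h'
            exacts [Or.inl (Multiset.eq_of_mem_replicate h'), Or.inr (Multiset.eq_of_mem_replicate h')]
          have hνeq : ν = Multiset.replicate (ν.count o) o + Multiset.replicate (ν.count 2) 2 := by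
            ext e
            rw [Multiset.count_add, Multiset.count_replicate, Multiset.count_replicate]
            rcases eq_or_ne o e with rfl | h1
            · rw [if_pos rfl, if_neg (Ne.symm ho2), add_zero]
            rcases eq_or_ne 2 e with rfl | h2'
            · rw [if_neg h1, if_pos rfl, zero_add]
            rw [if_neg h1, if_neg h2']
            exact Multiset.count_eq_zero.2 fun he => (hsub e he).elim (fun h => h1 h.symm) fun h => h2' h.symm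
          have hc := Multiset.count_le_of_le o hν
          rw [Multiset.count_add, Multiset.count_replicate, Multiset.count_replicate, if_pos rfl,
            if_neg (Ne.symm ho2), add_zero] at hc
          rw [hνeq, Multiset.sum_add, Multiset.sum_replicate, Multiset.sum_replicate, smul_eq_mul, smul_eq_mul] at h
          obtain ⟨z, hz⟩ := hev
          rcases ho with rfl | rfl <;> omega
      rcases Nat.even_or_odd a with ⟨b, hb⟩ | ⟨b, hb⟩
      · exact key 3 (2 * w - 2) (Or.inr rfl) ⟨w - 1, by omega⟩ (by omega) (by omega) (by omega)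
      · exact key 1 (2 * w) (Or.inl rfl) ⟨w, by omega⟩ (by omega) (by omega) (by omega)
    obtain ⟨W, -, -, ν, hle, hν, hev, -⟩ := UnipForm.exists_stable_type (hp.out.odd_of_ne_two hp2) h2 hB
      (m := 2 * a + 1) (by omega) (fun W => Cfsg.Geo.AreIsometricFor ⇑Q W W₀)
      (fun x hxΩ hxp hxs => H x hxΩ ⟨1, by rw [← hxp, pow_orderOf_eq_one, one_smul]; rfl⟩ hxs) hμ hμe hsum hodd hbig
    exact hbad ν hle (hev 2 (by decide)) hν

include hp in
/-- The prime order rows. -/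
theorem parabolic_main {q : ℕ} (hq : Fintype.card F = q) (hodd : Odd q) (hB : Nondeg Q) {d a : ℕ}
    (hι : Fintype.card ι = 2 * d) (hd : 4 ≤ d) (had : 2 * a + 1 < d) {W₀ : Submodule F (ι → F)}
    (hW₀ : NondegOn Q W₀) (hW₀d : finrank F W₀ = 2 * a + 1) {r : ℕ} (hr : r.Prime)
    (hN : r ∣ Nat.card {W : Submodule F (ι → F) // finrank F ↥W = 2 * a + 1 ∧
      Cfsg.Geo.IsNondegenerateOn (QuadraticMap.polar ⇑Q) W ∧ Cfsg.Geo.AreIsometricFor ⇑Q W W₀})
    {i : ℕ} (hi : i = orderOf (q : ZMod r)) :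
    (∀ x : GL ι F, x ∈ Cfsg.Geo.omegaGL ⇑Q →
      (∃ z : F, ((x ^ r : GL ι F) : Matrix ι ι F) = z • (1 : Matrix ι ι F)) →
      (∀ z : F, (x : Matrix ι ι F) ≠ z • (1 : Matrix ι ι F)) →
      ∃ W : Submodule F (ι → F), (finrank F ↥W = 2 * a + 1 ∧ Cfsg.Geo.IsNondegenerateOn (QuadraticMap.polar ⇑Q) W ∧
        Cfsg.Geo.AreIsometricFor ⇑Q W W₀) ∧ W.map (Matrix.toLin' (x : Matrix ι ι F)) ≤ W) ↔
    (r = 2 ∧ ¬ (DiscSq Q ∧ IsSquare ((2 : F) ^ d))) ∨
      (r ≠ p ∧ 2 < r ∧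
        (((2 * d) % unitDim i = 0 ∧ ¬ (Cfsg.Geo.IsPlusTypeOn ⇑Q ⊤ ↔ PlusFree i (2 * d / unitDim i))) ∨
        (unitDim i ≤ 2 * a + 1 ∧ 0 < (2 * a + 1) % unitDim i ∧
          (2 * a + 1) % unitDim i < (2 * d) % unitDim i))) := by
  have h2 : (2 : F) ≠ 0 := two_ne_zero_of_odd hq hodd
  by_cases hr2 : r = 2
  · subst hr2
    rw [parabolic_two_iff (p := p) hB h2 hι had hW₀ hW₀d]
    simp
  by_cases hrp : r = p
  · subst hrp
    exact iff_of_false (parabolic_char hB h2 hι hd had hW₀ hW₀d) (by simp [hr2])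
  have hN' : r ∣ Nat.card {W // IsoSub Q W₀ W} :=
    hN.trans (dvd_of_eq (Nat.card_congr (Equiv.subtypeEquivRight fun W => isoSub_iff hW₀d)))
  obtain ⟨j, hj, hjd, hdvd⟩ := parabolic_window hq hr hrp hi h2 hι (by omega) hB hW₀ hW₀d hN'
  obtain ⟨t, D, X⟩ := exists_ctx hq hr hr2 hrp hi
  rw [parabolic_iff X h2 hB (by omega) hι (by omega) hW₀ hW₀d,
    parabolic_arith X.i_pos _ (by omega) hj hjd hdvd]
  have h2r : 2 < r := lt_of_le_of_ne hr.two_le (Ne.symm hr2)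
  simp [hr2, hrp, h2r]

/-- The plus type of the split form. -/
theorem plus_top {d : ℕ} {Q : QuadraticForm F (Fin d ⊕ Fin d → F)} (hQ : ⇑Q = Cfsg.quadFormPlus d F)
    (hB : Nondeg Q) : Cfsg.Geo.IsPlusTypeOn ⇑Q ⊤ := by
  refine (isPlusTypeOn_iff (W := (⊤ : Submodule F (Fin d ⊕ Fin d → F)))
    (fun x _ h => hB x fun y => h y Submodule.mem_top) (k := d)
    (by rw [finrank_top, Module.finrank_pi]; simp; ring)).2 ⟨Submodule.topEquiv, fun x => ?_⟩
  rw [← hQ]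
  rfl

/-- The elliptic form is not of plus type. -/
theorem minus_top {k : ℕ} {a b : F}
    (hab : ∀ z₁ z₂ : F, z₁ ^ 2 + a * z₁ * z₂ + b * z₂ ^ 2 = 0 → z₁ = 0 ∧ z₂ = 0)
    {Q : QuadraticForm F ((Fin k ⊕ Fin k) ⊕ Fin 2 → F)} (hQ : ⇑Q = Cfsg.quadFormMinus k F a b) (hB : Nondeg Q) :
    ¬ Cfsg.Geo.IsPlusTypeOn ⇑Q ⊤ := by
  rintro ⟨U, -, hU, hUd⟩
  rw [finrank_top] at hUd
  exact minus_no_half k hab hQ hB U ⟨hU, by omega⟩

/-- The discriminant of the elliptic form. -/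
theorem minus_disc (h2 : (2 : F) ≠ 0) {k : ℕ} {a b : F}
    (hab : ∀ z₁ z₂ : F, z₁ ^ 2 + a * z₁ * z₂ + b * z₂ ^ 2 = 0 → z₁ = 0 ∧ z₂ = 0)
    {Q : QuadraticForm F ((Fin k ⊕ Fin k) ⊕ Fin 2 → F)} (hQ : ⇑Q = Cfsg.quadFormMinus k F a b) :
    DiscSq Q ↔ ¬ IsSquare ((-1 : F) ^ (k + 1)) := by
  obtain ⟨e, he, hp, hprod⟩ := frame_minus h2 k hab hQ
  haveI : Nonempty ((Fin k ⊕ Fin k) ⊕ Fin 2) := ⟨Sum.inr 0⟩
  rw [discSq_iff h2 (d := k + 1) (by simp; omega) (by simp; omega) e he hp, hprod,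
    show (-1 : F) ^ k * (4 * b - a ^ 2) = (-1) ^ (k + 1) * (a ^ 2 - 4 * b) by ring]
  have hns : ¬ IsSquare (a ^ 2 - 4 * b) := fun ⟨c, hc⟩ => by
    have h := (hab ((c - a) / 2) 1 (by field_simp; linear_combination -hc)).2
    exact one_ne_zero h
  have hne : (-1 : F) ^ (k + 1) ≠ 0 := pow_ne_zero _ (neg_ne_zero.2 one_ne_zero)
  rw [isSquare_mul_iff hne]
  have hδ : a ^ 2 - 4 * b ≠ 0 := fun h => hns (h ▸ IsSquare.zero)
  simp only [hδ, false_or]
  tauto

end CfsgLib.Derange
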