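import Cfsg.Agent.Lib.Derange.InvolutionMinus
import Cfsg.Agent.Lib.Classical.InvolutionOrth

/-!
Quadratic forms of characteristic two with a given polar form which are invariant under an involution.
-/

set_option autoImplicit false

namespace CfsgLib.Derange

open Module CfsgLib.Orth CfsgLib.Classical.OrthModels

universe u

variable {F : Type u} [Field F] [Fintype F] [CharP F 2] {ι : Type} [Fintype ι] [DecidableEq ι]
  {Q : QuadraticForm F (ι → F)}

local notation "B" => QuadraticMap.polar (DFunLike.coe Q)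

omit [Fintype F] in
theorem eq_of_sq_eq {x y : F} (h : x * x = y * y) : x = y := by
  have h2 : (x + y) * (x + y) = 0 := by
    linear_combination h + (x * y + y * y) * CharTwo.two_eq_zero (R := F)
  exact CharTwo.add_eq_zero.1 (mul_self_eq_zero.1 h2)

/-- The square root of an additive function of degree two. -/
theorem exists_sqrt_linear {V : Type*} [AddCommGroup V] [Module F V] (ψ : V → F)
    (ha : ∀ u v, ψ (u + v) = ψ u + ψ v) (hs : ∀ (c : F) v, ψ (c • v) = c * c * ψ v) :
    ∃ μ : V →ₗ[F] F, ∀ v, μ v * μ v = ψ v := by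
  choose s hs' using fun a : F => FiniteField.isSquare_of_char_two (ringChar.eq F 2) a
  refine ⟨{ toFun := fun v => s (ψ v), map_add' := fun u v => eq_of_sq_eq ?_,
            map_smul' := fun c v => eq_of_sq_eq ?_ }, fun v => (hs' _).symm⟩
  · rw [← hs', ha]
    linear_combination hs' (ψ u) + hs' (ψ v) - (s (ψ u) * s (ψ v)) * CharTwo.two_eq_zero (R := F)
  · simp only [RingHom.id_apply, smul_eq_mul]
    rw [← hs', hs]
    linear_combination c * c * hs' (ψ v)

/-- The form `Q + f(k, ·) ^ 2`. -/
noncomputable def addSq (Q : QuadraticForm F (ι → F)) (k : ι → F) : QuadraticForm F (ι → F) :=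
  Q + QuadraticMap.linMulLin (QuadraticMap.polarBilin Q k) (QuadraticMap.polarBilin Q k)

omit [Fintype F] [CharP F 2] [Fintype ι] [DecidableEq ι] in
theorem addSq_apply (k x : ι → F) : addSq Q k x = Q x + B k x * B k x := rfl

omit [Fintype F] [Fintype ι] [DecidableEq ι] in
theorem addSq_polar (k : ι → F) : QuadraticMap.polar ⇑(addSq Q k) = B := by
  funext x y
  show addSq Q k (x + y) - addSq Q k x - addSq Q k y = B x y
  rw [addSq_apply, addSq_apply, addSq_apply, q_add, b_add_right]
  linear_combination (B k x * B k y) * CharTwo.two_eq_zero (R := F)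

omit [Fintype F] [Fintype ι] [DecidableEq ι] in
theorem addSq_nondeg (hB : Nondeg Q) (k : ι → F) : Nondeg (addSq Q k) := fun x hx =>
  hB x fun y => by have := hx y; rwa [addSq_polar] at this

omit [Fintype F] [CharP F 2] [DecidableEq ι] in
theorem exists_riesz (hB : Nondeg Q) (μ : (ι → F) →ₗ[F] F) : ∃ w, ∀ v, B w v = μ v :=
  ⟨(LinearMap.BilinForm.toDual (QuadraticMap.polarBilin Q) (bilin_nondeg hB)).symm μ, fun v =>
    LinearMap.BilinForm.apply_toDual_symm_apply (hB := bilin_nondeg hB) μ v⟩

omit [Fintype F] [CharP F 2] [DecidableEq ι] in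
/-- A totally isotropic subspace of half dimension meeting a given one trivially. -/
theorem exists_transversal (hB : Nondeg Q) (h2 : (2 : F) = 0) {d : ℕ} (hd : finrank F (ι → F) = 2 * d)
    {M : Submodule F (ι → F)} (hM : M ≤ orth Q M) :
    ∀ k ≤ d, ∃ L : Submodule F (ι → F), L ≤ orth Q L ∧ finrank F L = k ∧ L ⊓ M = ⊥ := by
  intro k
  induction k with
  | zero => exact fun _ => ⟨⊥, bot_le, finrank_bot F (ι → F), bot_inf_eq _⟩
  | succ k ih =>
    intro hk
    obtain ⟨L, hL, hLd, hLM⟩ := ih (by omega)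
    have hnot : ¬ orth Q L ≤ L ⊔ M := fun hle => by
      have hiso : orth Q L ≤ orth Q (orth Q L) := fun x hx w hw => by
        obtain ⟨l₁, hl₁, m₁, hm₁, rfl⟩ := Submodule.mem_sup.1 (hle hw)
        obtain ⟨l, hl, m, hm, rfl⟩ := Submodule.mem_sup.1 (hle hx)
        show B (l₁ + m₁) (l + m) = 0
        have hm' : m ∈ orth Q L := by simpa using (orth Q L).sub_mem hx (hL hl)
        have hm₁' : m₁ ∈ orth Q L := by simpa using (orth Q L).sub_mem hw (hL hl₁)
        rw [b_add_left, b_add_right, b_add_right, mem_orth.1 (hL hl) _ hl₁, mem_orth.1 hm' _ hl₁,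
          b_comm m₁ l, mem_orth.1 hm₁' _ hl, mem_orth.1 (hM hm) _ hm₁, add_zero, add_zero]
      have h1 := two_mul_finrank_le hB hiso
      have h3 := finrank_orth hB L
      omega
    obtain ⟨v, hv, hvn⟩ := SetLike.not_le_iff_exists.1 hnot
    refine ⟨L ⊔ Submodule.span F {v}, fun x hx w hw => ?_, ?_, ?_⟩
    · obtain ⟨l, hl, z, hz, rfl⟩ := Submodule.mem_sup.1 hx
      obtain ⟨l', hl', z', hz', rfl⟩ := Submodule.mem_sup.1 hw
      obtain ⟨a, rfl⟩ := Submodule.mem_span_singleton.1 hz
      obtain ⟨a', rfl⟩ := Submodule.mem_span_singleton.1 hz'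
      show B (l' + a' • v) (l + a • v) = 0
      rw [b_add_left, b_add_right, b_add_right, b_smul_left, b_smul_left, b_smul_right, b_smul_right,
        mem_orth.1 (hL hl) _ hl', mem_orth.1 hv _ hl', b_comm v l, mem_orth.1 hv _ hl, b_self, h2]
      ring
    · have hv0 : v ≠ 0 := fun h => hvn (h ▸ zero_mem _)
      have := Submodule.finrank_sup_add_finrank_inf_eq L (Submodule.span F {v})
      rw [show L ⊓ Submodule.span F {v} = ⊥ from (Submodule.eq_bot_iff _).2 fun x hx => by
          obtain ⟨a, rfl⟩ := Submodule.mem_span_singleton.1 hx.2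
          by_contra ha
          exact hvn (Submodule.mem_sup_left (by
            have := L.smul_mem a⁻¹ hx.1
            rwa [smul_smul, inv_mul_cancel₀ (fun h => ha (by rw [h, zero_smul])), one_smul] at this)),
        finrank_bot, add_zero, finrank_span_singleton hv0, hLd] at this
      exact this
    · refine (Submodule.eq_bot_iff _).2 fun x hx => ?_
      obtain ⟨l, hl, z, hz, rfl⟩ := Submodule.mem_sup.1 hx.1
      obtain ⟨a, rfl⟩ := Submodule.mem_span_singleton.1 hz
      by_cases ha : a = 0
      · subst ha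
        rw [zero_smul, add_zero] at hx ⊢
        exact (Submodule.eq_bot_iff _).1 hLM l ⟨hl, hx.2⟩
      · refine absurd ?_ hvn
        have h1 : a • v ∈ L ⊔ M := by
          have := (L ⊔ M).sub_mem (Submodule.mem_sup_right hx.2) (Submodule.mem_sup_left hl)
          simpa using this
        have := (L ⊔ M).smul_mem a⁻¹ h1
        rwa [smul_smul, inv_mul_cancel₀ ha, one_smul] at this

/-- `T` is an involution preserving the polar form. -/
structure PolarInvol (Q : QuadraticForm F (ι → F)) (T : End F (ι → F)) : Prop where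
  b : ∀ x y, QuadraticMap.polar (⇑Q) (T x) (T y) = QuadraticMap.polar (⇑Q) x y
  sq : ∀ x, T (T x) = x

omit [Fintype F] [DecidableEq ι] in
theorem PolarInvol.nil {T : End F (ι → F)} (h : PolarInvol Q T) :
    CfsgLib.Classical.InvolutionData.Nil (QuadraticMap.polarBilin Q) (T - 1) :=
  CfsgLib.Classical.InvolutionData.nil_of_invol h.b h.sq

omit [Fintype F] [DecidableEq ι] in
theorem PolarInvol.mem_orth_range (hB : Nondeg Q) {T : End F (ι → F)} (h : PolarInvol Q T) {x : ι → F}
    (hx : x ∈ orth Q (LinearMap.range (T - 1))) : T x = x :=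
  sub_eq_zero.1 (h.nil.ker_eq (CfsgLib.Classical.InvolutionOrth.symp hB) fun z hz =>
    (QuadraticMap.polar_comm _ x z).trans (mem_orth.1 hx z hz))

omit [Fintype F] in
theorem PolarInvol.addSq {T : End F (ι → F)} (h : PolarInvol Q T) (k : ι → F) : PolarInvol (Derange.addSq Q k) T :=
  ⟨fun x y => by rw [addSq_polar]; exact h.b x y, h.sq⟩

/-- Some form with the given polar form is invariant and of plus type. -/
theorem exists_plus_form (hB : Nondeg Q) {d : ℕ} (hd : finrank F (ι → F) = 2 * d) {T : End F (ι → F)}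
    (hT : PolarInvol Q T) :
    ∃ k, (∀ x, Derange.addSq Q k (T x) = Derange.addSq Q k x) ∧
      Cfsg.Geo.IsPlusTypeOn ⇑(Derange.addSq Q k) ⊤ := by
  classical
  have h2 : (2 : F) = 0 := CharTwo.two_eq_zero
  set N := T - 1 with hN
  have hn := hT.nil
  have hTN : ∀ v, T v = v + N v := fun v => by simp [hN]
  have hNN : ∀ u v, B (N u) (N v) = 0 := fun u v => hn.isotropic ⟨u, rfl⟩ ⟨v, rfl⟩
  have hadj : ∀ u v, B (N u) v = B u (N v) := hn.adj
  obtain ⟨μ, hμ⟩ := exists_sqrt_linear (fun v => Q (N v) + B v (N v)) (fun u v => by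
    simp only [map_add, q_add, hNN, b_add_left, b_add_right]
    rw [b_comm v (N u), hadj]
    linear_combination (B u (N v)) * h2) fun c v => by
    simp only [map_smul, q_smul, b_smul_left, b_smul_right]; ring
  obtain ⟨u, hu⟩ := exists_riesz hB μ
  have hu' : u ∈ LinearMap.range N := by
    rw [← orth_orth hB (LinearMap.range N)]
    intro x hx
    have hNx : N x = 0 := sub_eq_zero.2 (hT.mem_orth_range hB hx)
    show B x u = 0
    rw [b_comm, hu]
    refine mul_self_eq_zero.1 ?_
    rw [hμ, hNx, QuadraticMap.map_zero, b_zero_right, add_zero]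
  obtain ⟨w, rfl⟩ := hu'
  set M := LinearMap.range N
  obtain ⟨L, hL, hLd, hLM⟩ := exists_transversal hB h2 hd
    (M := M) (fun x hx z hz => by obtain ⟨a, rfl⟩ := hx; obtain ⟨b, rfl⟩ := hz; exact hNN b a) d le_rfl
  obtain ⟨σ, hσ⟩ := exists_sqrt_linear (fun l : L => Q (l : ι → F) + B w l * B w l) (fun a b => by
    simp only [Submodule.coe_add, q_add, b_add_right]
    rw [mem_orth.1 (hL b.2) _ a.2]
    linear_combination (B w a * B w b) * h2) fun c l => by
    simp only [Submodule.coe_smul, q_smul, b_smul_right]; ring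
  obtain ⟨π, hπ⟩ := (M.mkQ ∘ₗ L.subtype).exists_leftInverse_of_injective (by
    refine LinearMap.ker_eq_bot'.2 fun l hl => Subtype.ext ?_
    exact (Submodule.eq_bot_iff _).1 hLM l ⟨l.2, (Submodule.Quotient.mk_eq_zero M).1 hl⟩)
  obtain ⟨k, hk⟩ := exists_riesz hB (σ ∘ₗ π ∘ₗ M.mkQ)
  have hkM : ∀ v, B k (N v) = 0 := fun v => by
    rw [hk, LinearMap.comp_apply, LinearMap.comp_apply, Submodule.mkQ_apply,
      (Submodule.Quotient.mk_eq_zero M).2 (LinearMap.mem_range_self N v), map_zero, map_zero]
  have hsq : ∀ x, Derange.addSq Q (w + k) x = Q x + B w x * B w x + B k x * B k x := fun x => by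
    rw [addSq_apply, b_add_left]; linear_combination (B w x * B k x) * h2
  refine ⟨w + k, fun x => ?_, L, le_top, fun x hx => ?_, by rw [finrank_top, hd, hLd]⟩
  · rw [hsq, hsq, hTN, q_add, b_add_right, b_add_right, hkM, add_zero]
    have h1 := hμ x
    rw [← hu, hadj] at h1
    linear_combination (B w x * B w (N x) + B w (N x) * B w (N x)) * h2 - h1
  · have hkx : B k x = σ ⟨x, hx⟩ := by
      rw [hk, LinearMap.comp_apply, LinearMap.comp_apply]
      exact congrArg σ (LinearMap.congr_fun hπ ⟨x, hx⟩)
    rw [hsq, hkx, hσ]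
    exact CharTwo.add_self_eq_zero _

/-- A fixed non-singular vector allows an invariant form of minus type. -/
theorem exists_minus_form (hB : Nondeg Q) {d : ℕ} (hd : finrank F (ι → F) = 2 * d) {T : End F (ι → F)}
    (hT : PolarInvol Q T) (hQT : ∀ x, Q (T x) = Q x) (hplus : Cfsg.Geo.IsPlusTypeOn ⇑Q ⊤)
    {v : ι → F} (hv : T v = v) (hqv : Q v ≠ 0) :
    ∃ k, (∀ x, Derange.addSq Q k (T x) = Derange.addSq Q k x) ∧
      ¬ Cfsg.Geo.IsPlusTypeOn ⇑(Derange.addSq Q k) ⊤ := by
  classical
  have h2 : (2 : F) = 0 := CharTwo.two_eq_zero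
  obtain ⟨L, -, hLs, hLd⟩ := hplus
  rw [finrank_top, hd] at hLd
  have hLiso := le_orth_of_singular (Q := Q) (W := L) hLs
  have hvL : v ∉ orth Q L := fun h => hqv (hLs v (by
    rwa [← Submodule.eq_of_le_of_finrank_le hLiso (by have := finrank_orth hB L; omega)] at h))
  obtain ⟨j, hj, hvj⟩ : ∃ j ∈ L, B v j = 1 := by
    obtain ⟨l, hl, hne⟩ : ∃ l ∈ L, B l v ≠ 0 := by
      by_contra hc
      push Not at hc
      exact hvL hc
    exact ⟨(B l v)⁻¹ • l, L.smul_mem _ hl, by rw [b_smul_right, b_comm v l, inv_mul_cancel₀ hne]⟩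
  obtain ⟨a, b, hab⟩ := CfsgLib.Classical.RestrictScalars.exists_ab (F := F)
  obtain ⟨sb, hsb⟩ := FiniteField.isSquare_of_char_two (ringChar.eq F 2) b
  have ha : a ≠ 0 := fun h => one_ne_zero (hab sb 1 (by
    rw [h, hsb]; linear_combination (sb * sb) * h2)).2
  set t₀ := b / (a * a) with ht₀
  have hns : ∀ z : F, z * z + z + t₀ ≠ 0 := fun z hz => one_ne_zero (hab (a * z) 1 (by
    rw [ht₀] at hz; field_simp at hz ⊢; linear_combination hz)).2
  obtain ⟨s, hs⟩ := FiniteField.isSquare_of_char_two (ringChar.eq F 2) (t₀ / Q v)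
  set k := s • v
  set Q' := Derange.addSq Q k with hQ'
  have hB' : Nondeg Q' := addSq_nondeg hB k
  have hp : QuadraticMap.polar ⇑Q' = B := addSq_polar k
  have hkv : B k v = 0 := by rw [b_smul_left, b_self, h2, zero_mul, mul_zero]
  have hkj : B k j = s := by rw [b_smul_left, hvj, mul_one]
  refine ⟨k, fun x => ?_, ?_⟩
  · rw [addSq_apply, addSq_apply, hQT]
    have h := hT.b v x
    rw [hv] at h
    simp only [k, b_smul_left, h]
  rintro ⟨S, -, hSs, hSd⟩
  have hval : ∀ x y : F, Q' (x • v + y • j) = x * x * Q v + x * y + y * y * (t₀ / Q v) := fun x y => by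
    rw [hQ', addSq_apply, q_add, q_smul, q_smul, hLs j hj, b_smul_left, b_smul_right, hvj, b_add_right,
      b_smul_right, b_smul_right, hkv, hkj, hs]
    ring
  set P := Submodule.span F ({v, j} : Set (ι → F)) with hP
  have haniso : ∀ z ∈ P, Q' z = 0 → z = 0 := fun z hz h => by
    obtain ⟨x, y, rfl⟩ := Submodule.mem_span_pair.1 hz
    rw [hval] at h
    by_cases hy : y = 0
    · subst hy
      simp only [mul_zero, zero_mul, add_zero, mul_eq_zero, or_self, hqv, or_false] at h
      simp [h]
    · refine absurd ?_ (hns (Q v * x / y))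
      field_simp at h ⊢
      linear_combination h
  have hPd : finrank F P = 2 := by
    have hli : LinearIndependent F ![v, j] := LinearIndependent.pair_iff.2 fun x y h => by
      have h1 := congrArg (fun z => B z j) h
      have h3 := congrArg (fun z => B z v) h
      simp only [b_add_left, b_smul_left, hvj, b_self_zero (hLs j hj), b_comm j v, b_zero_left, b_self v, h2,
        zero_mul, mul_zero, mul_one, add_zero, zero_add] at h1 h3
      exact ⟨h1, h3⟩
    rw [hP, show ({v, j} : Set (ι → F)) = Set.range ![v, j] by simp [Matrix.range_cons, Set.pair_comm],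
      finrank_span_eq_card hli, Fintype.card_fin]
  have hPn : NondegOn Q' P := fun z hz h => by
    obtain ⟨x, y, rfl⟩ := Submodule.mem_span_pair.1 hz
    have h1 := h j (Submodule.subset_span (by simp))
    have h3 := h v (Submodule.subset_span (by simp))
    rw [hp] at h1 h3
    simp only [b_add_left, b_smul_left, hvj, b_self_zero (hLs j hj), b_comm j v, b_self v, h2,
      zero_mul, mul_zero, mul_one, add_zero, zero_add] at h1 h3
    simp [h1, h3]
  set W := orth Q' P
  have hWd : finrank F W + 2 = 2 * d := by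
    have : finrank F P + finrank F W = _ := finrank_orth hB' P
    rw [hPd, hd] at this
    omega
  have hU : ∀ x ∈ L ⊓ W, Q' x = 0 := fun x hx => by
    have h := mem_orth.1 hx.2 v (Submodule.subset_span (by simp))
    rw [hp] at h
    rw [hQ', addSq_apply, hLs x hx.1, b_smul_left, h, mul_zero, mul_zero, add_zero]
  have hLW : finrank F ↥(L ⊓ W) + 1 = d := by
    have h1 := Submodule.finrank_sup_add_finrank_inf_eq L W
    have h4 : L ⊔ W ≤ orth Q' (Submodule.span F {j}) := sup_le
      (fun x hx => mem_orth_span.2 fun z hz => by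
        rw [Set.mem_singleton_iff] at hz; subst hz; rw [hp]; exact mem_orth.1 (hLiso hx) _ hj)
      (orth_le (Submodule.span_mono (by simp)))
    have h5 := Submodule.finrank_mono h4
    have h6 := finrank_orth hB' (Submodule.span F {j})
    rw [finrank_span_singleton (ne_zero_of_b (show B j v ≠ 0 by rw [b_comm, hvj]; exact one_ne_zero)), hd] at h6
    have h7 := two_mul_finrank_le hB' (le_orth_of_singular (Q := Q') hU)
    have h8 : finrank F ↥(L ⊓ W) < d := by
      by_contra h
      push Not at h
      have hle : L ≤ W := inf_eq_left.1 (Submodule.eq_of_le_of_finrank_le inf_le_left (by omega))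
      have := mem_orth.1 (hle hj) v (Submodule.subset_span (by simp))
      rw [hp, hvj] at this
      exact one_ne_zero this
    omega
  have hWn : NondegOn Q' W := nondegOn_orth hB' hPn
  have h := not_plus_of_anisotropic hB' hWn (inf_le_right : L ⊓ W ≤ W) hU (by omega)
    (orth_orth hB' P).ge haniso (S := S) (by
      rw [sup_comm, sup_orth_eq_top hB' hPn]; exact le_top) hSs
  rw [finrank_top, hd] at hSd
  omega

/-- In odd half-dimension an involution fixes a non-singular vector. -/
theorem exists_fixed_nonsingular (hB : Nondeg Q) {d : ℕ} (hd : finrank F (ι → F) = 2 * d) {T : End F (ι → F)}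
    (hT : PolarInvol Q T) (hQT : ∀ x, Q (T x) = Q x) (hd' : Odd d) : ∃ v, T v = v ∧ Q v ≠ 0 := by
  by_contra hc
  push Not at hc
  let K := LinearMap.ker (T - 1)
  have hK : ∀ x ∈ K, Q x = 0 := fun x hx => hc x (sub_eq_zero.1 hx)
  have h1 : 2 * finrank F ↥(LinearMap.ker (T - 1)) ≤ _ := two_mul_finrank_le hB (le_orth_of_singular (Q := Q) hK)
  have h3 := LinearMap.finrank_range_add_finrank_ker (T - 1)
  have h4 := hT.nil.two_mul_rank_le
  have hr : finrank F ↥(LinearMap.range (T - 1)) = d := by
    rw [hd] at h1 h3 h4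
    omega
  have halt : CfsgLib.Classical.InvolutionData.Alt (QuadraticMap.polarBilin Q) (T - 1) := fun x => by
    have h := hQT x
    rw [show T x = x + (T - 1) x by simp, q_add, hK _ (LinearMap.mem_ker.2 (hT.nil.sq x)), add_zero,
      add_eq_left] at h
    exact h
  have := CfsgLib.Classical.InvolutionData.even_rank_of_alt (CfsgLib.Classical.InvolutionOrth.symp hB) hT.nil halt
  rw [hr] at this
  exact absurd this (Nat.not_even_iff_odd.2 hd')

end CfsgLib.Derange
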