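import Cfsg.Agent.Lib.Derange.EvenQSymp

/-!
The involution of a split space of even half-dimension whose fixed space is totally singular.
-/

set_option autoImplicit false

namespace CfsgLib.Derange

open Module CfsgLib.Orth
open scoped Matrix

universe u

variable {F : Type u} [Field F] [Fintype F] [CharP F 2] {d : ℕ}

local notation "V" => (Fin d ⊕ Fin d → F)

theorem exists_singular_involution (hd : Even d) (hd0 : 0 < d) :
    ∃ x : GL (Fin d ⊕ Fin d) F, x * x = 1 ∧
      (∀ z : F, (x : Matrix (Fin d ⊕ Fin d) (Fin d ⊕ Fin d) F) ≠ z • (1 : Matrix (Fin d ⊕ Fin d) (Fin d ⊕ Fin d) F)) ∧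
      (∀ v, Cfsg.quadFormPlus d F ((x : Matrix (Fin d ⊕ Fin d) (Fin d ⊕ Fin d) F) *ᵥ v) = Cfsg.quadFormPlus d F v) ∧
      (∀ v, (x : Matrix (Fin d ⊕ Fin d) (Fin d ⊕ Fin d) F) *ᵥ v = v → Cfsg.quadFormPlus d F v = 0) ∧
      (∀ v, Cfsg.sympForm d F v ((x : Matrix (Fin d ⊕ Fin d) (Fin d ⊕ Fin d) F) *ᵥ v) = 0) ∧
      finrank F ↥(LinearMap.range (Matrix.toLin' ((x : Matrix (Fin d ⊕ Fin d) (Fin d ⊕ Fin d) F) - 1))) = d := by
  classical
  obtain ⟨k, hk⟩ := hd
  let σ : Fin d → Fin d := fun i =>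
    if h : (i : ℕ) % 2 = 0 then ⟨i + 1, by omega⟩ else ⟨i - 1, by omega⟩
  have hσσ : ∀ i, σ (σ i) = i := fun i => by
    ext
    by_cases h : (i : ℕ) % 2 = 0
    · have h1 : ¬ ((i : ℕ) + 1) % 2 = 0 := by omega
      simp [σ, h, h1]
    · have h1 : ((i : ℕ) - 1) % 2 = 0 := by omega
      simp [σ, h, h1]
      omega
  have hσne : ∀ i, σ i ≠ i := fun i h => by
    have h' := congrArg Fin.val h
    by_cases h0 : (i : ℕ) % 2 = 0 <;> simp [σ, h0] at h'
    omega
  let N : V →ₗ[F] V :=
    { toFun := fun v => Sum.elim (fun i => v (.inr (σ i))) 0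
      map_add' := fun u v => funext fun i => by rcases i with i | i <;> simp
      map_smul' := fun c v => funext fun i => by rcases i with i | i <;> simp }
  have hNl : ∀ v i, N v (.inl i) = v (.inr (σ i)) := fun v i => rfl
  have hNr : ∀ v i, N v (.inr i) = 0 := fun v i => rfl
  have hNN : ∀ v, N (N v) = 0 := fun v => funext fun i => by rcases i with i | i <;> simp [N]
  have hsum : ∀ r : Fin d → F, ∑ i, r (σ i) * r i = 0 := fun r =>
    Finset.sum_ninvolution σ (fun i => by rw [hσσ, mul_comm, CharTwo.add_self_eq_zero])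
      (fun i _ => hσne i) (fun i => Finset.mem_univ _) hσσ
  let T : V →ₗ[F] V := LinearMap.id + N
  have hTT : T.comp T = LinearMap.id := LinearMap.ext fun v => by
    show v + N v + N (v + N v) = v
    rw [map_add, hNN, add_zero, add_assoc, CfsgLib.Classical.InvolutionData.add_self (F := F) (N v), add_zero]
  let x : GL (Fin d ⊕ Fin d) F := ⟨LinearMap.toMatrix' T, LinearMap.toMatrix' T,
    by rw [← LinearMap.toMatrix'_comp, hTT, LinearMap.toMatrix'_id],
    by rw [← LinearMap.toMatrix'_comp, hTT, LinearMap.toMatrix'_id]⟩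
  have hx : ∀ v, (x : Matrix (Fin d ⊕ Fin d) (Fin d ⊕ Fin d) F) *ᵥ v = v + N v := fun v =>
    LinearMap.toMatrix'_mulVec T v
  refine ⟨x, Units.ext (show LinearMap.toMatrix' T * LinearMap.toMatrix' T = 1 by
    rw [← LinearMap.toMatrix'_comp, hTT, LinearMap.toMatrix'_id]), fun z hz => ?_, fun v => ?_, fun v hv => ?_,
    fun v => ?_, ?_⟩
  · let j : Fin d := ⟨0, hd0⟩
    have h := congrFun (hx (Pi.single (.inr (σ j)) 1)) (.inl j)
    rw [hz, Matrix.smul_mulVec, Matrix.one_mulVec, Pi.smul_apply, Pi.add_apply, hNl] at h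
    simp at h
  · rw [hx]
    simp only [Cfsg.quadFormPlus, Pi.add_apply, hNr, add_zero, add_mul, Finset.sum_add_distrib, hNl]
    rw [hsum fun i => v (.inr i), add_zero]
  · rw [hx, add_eq_left] at hv
    refine Finset.sum_eq_zero fun i _ => ?_
    have := congrFun hv (.inl (σ i))
    rw [hNl, hσσ, Pi.zero_apply] at this
    rw [this, mul_zero]
  · rw [hx, CfsgLib.Classical.OddEven.sympForm_eq]
    simp only [Pi.add_apply, hNr, add_zero, add_mul, Finset.sum_add_distrib, hNl]
    rw [hsum fun i => v (.inr i), add_zero, CharTwo.add_self_eq_zero]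
  · have hlin : Matrix.toLin' ((x : Matrix (Fin d ⊕ Fin d) (Fin d ⊕ Fin d) F) - 1) = N := LinearMap.ext fun v => by
      rw [Matrix.toLin'_apply, Matrix.sub_mulVec, hx, Matrix.one_mulVec, add_sub_cancel_left]
    let emb : (Fin d → F) →ₗ[F] V :=
      { toFun := fun z => Sum.elim z 0
        map_add' := fun u v => funext fun i => by rcases i with i | i <;> simp
        map_smul' := fun c v => funext fun i => by rcases i with i | i <;> simp }
    have hinj : Function.Injective emb := fun u v h => funext fun i => congrFun h (.inl i)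
    have hrange : LinearMap.range N = LinearMap.range emb := le_antisymm
      (by rintro _ ⟨v, rfl⟩; exact ⟨fun i => v (.inr (σ i)), rfl⟩)
      (by rintro _ ⟨z, rfl⟩; exact ⟨Sum.elim 0 (z ∘ σ), funext fun i => by
        rcases i with i | i
        · simp [N, emb, hσσ]
        · rfl⟩)
    rw [hlin, hrange, LinearMap.finrank_range_of_inj hinj, Module.finrank_pi, Fintype.card_fin]

end CfsgLib.Derange
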