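import Cfsg.Agent.Lib.Derange.EvenQForms
import Cfsg.Agent.Lib.Classical.SympOrder
import Cfsg.Agent.Lib.Classical.OrthOrderStd
import Cfsg.Agent.Lib.Classical.OddEvenSymp

/-!
Quadratic forms polarising to the standard symplectic form, their orthogonal groups inside the symplectic group, and
elements without fixed vectors.
-/

set_option autoImplicit false
set_option linter.style.haveILetI false

namespace CfsgLib.Derange

open Polynomial Module QuadraticMap CfsgLib.Classical CfsgLib.Classical.OrthModels CfsgLib.Orth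
open CfsgLib.Classical.OrthPrimeReal CfsgLib.Classical.OrthPrimeFactors
open scoped Matrix

universe u

variable {F : Type u} [Field F] [Fintype F] {ι : Type} [Fintype ι] [DecidableEq ι] {Q : QuadraticForm F (ι → F)}

omit [Fintype F] [DecidableEq ι] in
theorem nondegOn_top (hB : Nondeg Q) : NondegOn Q ⊤ := fun x _ h => hB x fun y => h y trivial

omit [DecidableEq ι] in
theorem plus_top_iff (hB : Nondeg Q) {k : ℕ} (hd : finrank F (ι → F) = 2 * k) :
    Cfsg.Geo.IsPlusTypeOn ⇑Q ⊤ ↔ Iso (⇑Q) (Cfsg.quadFormPlus k F) := by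
  classical
  rw [isPlusTypeOn_iff (nondegOn_top hB) (by rwa [finrank_top])]
  have h : Iso (⇑(qOn Q ⊤)) (⇑Q) := ⟨Submodule.topEquiv, fun x => rfl⟩
  exact ⟨fun h' => h.symm.trans h', fun h' => h.trans h'⟩

omit [Fintype F] in
theorem eval_one_charpoly_eq_zero {v : ι → F} (hv : v ≠ 0) (A : Matrix ι ι F) (h : A *ᵥ v = v) :
    A.charpoly.eval 1 = 0 := by
  rw [Matrix.eval_charpoly, map_one]
  exact Matrix.exists_mulVec_eq_zero_iff.1 ⟨v, hv, by rw [Matrix.sub_mulVec, h, Matrix.one_mulVec, sub_self]⟩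

omit [Fintype F] in
/-- A conjugate of an element lying in an isometry group. -/
theorem exists_conj_shaped {Q' : QuadraticForm F (ι → F)} (g : GL ι F) (x : Grp Q') {r : ℕ}
    (hxr : (x : GL ι F) ^ r = 1) (hy : g⁻¹ * (x : GL ι F) * g ∈ Cfsg.isometryGroup F ⇑Q) {i : ℕ}
    {D : Finset F[X]} {e K : ℕ} (hxs : Shaped i D (cp x) e K) :
    ∃ w : Grp Q, w ^ r = 1 ∧ Shaped i D (cp w) e K := by
  refine ⟨⟨_, hy⟩, Subtype.ext ?_, ?_⟩
  · show (g⁻¹ * (x : GL ι F) * g) ^ r = 1
    have h := conj_pow (i := r) (a := g⁻¹) (b := (x : GL ι F))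
    rw [inv_inv] at h
    rw [h, hxr, mul_one, inv_mul_cancel]
  · have h : cp (⟨_, hy⟩ : Grp Q) = cp x := by
      show ((g⁻¹ * (x : GL ι F) * g : GL ι F) : Matrix ι ι F).charpoly = ((x : GL ι F) : Matrix ι ι F).charpoly
      rw [Units.val_mul, Units.val_mul, Matrix.coe_units_inv]
      exact Matrix.charpoly_units_conj' g _
    rw [h]; exact hxs

omit [Fintype F] [Fintype ι] [DecidableEq ι] in
theorem pow_eq_one_of_ne {c : F} {r : ℕ} (hr : Odd r) (h : c ^ r = 1) (h' : c * c = 1) : c = 1 := by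
  obtain ⟨k, rfl⟩ := hr
  rwa [pow_succ, pow_mul, _root_.sq, h', one_pow, one_mul] at h

/-- An element of prime order without fixed vectors, of the sign given by the space. -/
theorem exists_free_element {p : ℕ} [hp : Fact p.Prime] [CharP F p] (hB : Nondeg Q) {d : ℕ}
    (hcard : Fintype.card ι = 2 * d) (hd : 1 ≤ d) {q r i t : ℕ} {D : Finset F[X]} (X : Ctx F p q r i t D)
    (hdvd : unitDim i ∣ 2 * d) (hsgn : Cfsg.Geo.IsPlusTypeOn ⇑Q ⊤ ↔ PlusFree i (2 * d / unitDim i)) :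
    ∃ x : Grp Q, x ^ r = 1 ∧ orderOf (x : GL ι F) = r ∧
      Shaped i D (cp x) 0 (2 * d / unitDim i) ∧
      (∀ z : F, ((x : GL ι F) : Matrix ι ι F) ≠ z • (1 : Matrix ι ι F)) ∧
      ∀ v, ap x v = v → v = 0 := by
  have hfin : finrank F (ι → F) = 2 * d := by rw [Module.finrank_pi, hcard]
  obtain ⟨f, hf⟩ := exists_of_shape X.facts X.t_pos 0 (2 * d / unitDim i)
  have hreal : Real r (⇑Q) f := (real_even_iff X Q (bilin_nondeg hB) hfin f).mpr
    ⟨0, _, hf, by rw [zero_add, Nat.mul_div_cancel' hdvd], Or.inr ((plus_top_iff hB hfin).symm.trans hsgn)⟩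
  obtain ⟨x, hx, hxc⟩ := exists_grp_of_real hB hreal
  have hfree : ∀ v, ap x v = v → v = 0 := fun v hv => by
    by_contra hv0
    have h1 : (cp x).eval 1 = 0 := eval_one_charpoly_eq_zero hv0 _ hv
    rw [hxc] at h1
    exact absurd ((hf.eval_one_eq_zero_iff X.facts).1 h1) (by omega)
  obtain ⟨v, hv⟩ := exists_aniso hB (by omega)
  have hv0 : v ≠ 0 := fun h => hv (by rw [h, QuadraticMap.map_zero])
  have hxr : ((x : GL ι F) : GL ι F) ^ r = 1 := by rw [← SubmonoidClass.coe_pow, hx]; rfl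
  haveI := Fact.mk X.prime
  refine ⟨x, hx, orderOf_eq_prime hxr fun h => hv0 (hfree v ?_), hxc.symm ▸ hf, fun z hz => ?_, hfree⟩
  · rw [ap, h, Units.val_one, Matrix.one_mulVec]
  · have hap : ∀ w, ap x w = z • w := fun w => by rw [ap, hz, Matrix.smul_mulVec, Matrix.one_mulVec]
    have hsq : z * z = 1 := by
      have h1 := ap_q x v
      rw [hap, q_smul] at h1
      exact mul_right_cancel₀ hv (h1.trans (one_mul _).symm)
    obtain ⟨j, hj⟩ := Function.ne_iff.1 hv0
    have hpow : z ^ r = 1 := by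
      have h1 := congrArg (fun M : GL ι F => (M : Matrix ι ι F) *ᵥ v) hxr
      simp only [Units.val_pow_eq_pow_val, hz, _root_.smul_pow, one_pow, Matrix.smul_mulVec, Units.val_one,
        Matrix.one_mulVec] at h1
      have h3 := congrFun h1 j
      rw [Pi.smul_apply, smul_eq_mul] at h3
      exact mul_right_cancel₀ hj (h3.trans (one_mul _).symm)
    exact hv0 (hfree v (by rw [hap, pow_eq_one_of_ne (X.prime.odd_of_ne_two X.ne_two) hpow hsq, one_smul]))

/-- A fixed-point-free element of a space of even dimension determines the type of the space. -/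
theorem free_element_type {p : ℕ} [hp : Fact p.Prime] [CharP F p] (hB : Nondeg Q) {d : ℕ}
    (hcard : Fintype.card ι = 2 * d) {q r i t : ℕ} {D : Finset F[X]} (X : Ctx F p q r i t D) {x : Grp Q}
    (hx : x ^ r = 1) {K : ℕ} (hs : Shaped i D (cp x) 0 K) :
    Cfsg.Geo.IsPlusTypeOn ⇑Q ⊤ ↔ PlusFree i K := by
  have hfin : finrank F (ι → F) = 2 * d := by rw [Module.finrank_pi, hcard]
  obtain ⟨e, K', hs', -, h⟩ := (real_even_iff X Q (bilin_nondeg hB) hfin (cp x)).mp (real_of_grp x hx)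
  obtain ⟨rfl, rfl⟩ := hs.unique X.facts hs'
  exact (plus_top_iff hB hfin).trans (h.resolve_left (lt_irrefl 0))

variable [CharP F 2] {d : ℕ}

theorem polar_plus_eq_symp : QuadraticMap.polar (Cfsg.quadFormPlus d F) = Cfsg.sympForm d F := by
  funext u v
  rw [CfsgLib.Orth.polar_plus, CfsgLib.Classical.OddEven.sympForm_eq]

/-- A form of each type polarising to the symplectic form. -/
theorem exists_form_of_type (hd : 1 ≤ d) (σ : Prop) :
    ∃ R : QuadraticForm F (Fin d ⊕ Fin d → F), Nondeg R ∧ QuadraticMap.polar ⇑R = Cfsg.sympForm d F ∧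
      (Cfsg.Geo.IsPlusTypeOn ⇑R ⊤ ↔ σ) := by
  classical
  obtain ⟨P, hP, hPn⟩ := exists_quadForm_plus (F := F) d
  have hpol : QuadraticMap.polar ⇑P = Cfsg.sympForm d F := hP ▸ polar_plus_eq_symp
  have hfin : finrank F (Fin d ⊕ Fin d → F) = 2 * d := by rw [Module.finrank_pi]; simp; omega
  have hplus : Cfsg.Geo.IsPlusTypeOn ⇑P ⊤ := (plus_top_iff hPn hfin).2 (hP ▸ OrthModels.Iso.refl _)
  by_cases hσ : σ
  · exact ⟨P, hPn, hpol, iff_of_true hplus hσ⟩
  · have hT : PolarInvol P 1 := ⟨fun x y => rfl, fun x => rfl⟩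
    let v : Fin d ⊕ Fin d → F := Sum.elim (Pi.single ⟨0, by omega⟩ 1) (Pi.single ⟨0, by omega⟩ 1)
    obtain ⟨k, -, hk⟩ := exists_minus_form hPn hfin hT (fun x => rfl) hplus (v := v) rfl (by
      rw [hP, Cfsg.quadFormPlus, Finset.sum_eq_single (⟨0, by omega⟩ : Fin d)
        (fun b _ hb => by simp [v, hb]) (by simp)]
      simp [v])
    exact ⟨_, addSq_nondeg hPn k, (addSq_polar k).trans hpol, iff_of_false hk hσ⟩

omit [Fintype F] [CharP F 2] in
/-- An isometry lies in the symplectic group of the polar form. -/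
theorem grp_mem_spGL {R : QuadraticForm F (Fin d ⊕ Fin d → F)}
    (hpol : QuadraticMap.polar ⇑R = Cfsg.sympForm d F) (g : Grp R) :
    (g : GL (Fin d ⊕ Fin d) F) ∈ Cfsg.spGL d F := fun u v => by
  have := ap_b g u v
  rwa [hpol] at this

omit [CharP F 2] in
/-- Forms of one type with one polar form are conjugate in the symplectic group. -/
theorem exists_sp_conj {R R' : QuadraticForm F (Fin d ⊕ Fin d → F)} (hB : Nondeg R) (hB' : Nondeg R')
    (hpol : QuadraticMap.polar ⇑R = Cfsg.sympForm d F) (hpol' : QuadraticMap.polar ⇑R' = Cfsg.sympForm d F)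
    (hσ : Cfsg.Geo.IsPlusTypeOn ⇑R ⊤ ↔ Cfsg.Geo.IsPlusTypeOn ⇑R' ⊤) :
    ∃ g ∈ Cfsg.spGL d F, ∀ v, R' ((g : Matrix (Fin d ⊕ Fin d) (Fin d ⊕ Fin d) F) *ᵥ v) = R v := by
  classical
  have hfin : finrank F (Fin d ⊕ Fin d → F) = 2 * d := by rw [Module.finrank_pi]; simp; omega
  rw [plus_top_iff hB hfin, plus_top_iff hB' hfin] at hσ
  have h : Iso (⇑R) (⇑R') := by
    by_cases hp : Iso (⇑R) (Cfsg.quadFormPlus d F)
    · exact hp.trans (hσ.1 hp).symm
    · obtain ⟨a, b, hab⟩ := RestrictScalars.exists_ab (F := F)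
      obtain ⟨j, hj, h1⟩ := (classify_even R (bilin_nondeg hB) hfin a b hab).resolve_left hp
      obtain ⟨j', hj', h3⟩ := (classify_even R' (bilin_nondeg hB') hfin a b hab).resolve_left fun h => hp (hσ.2 h)
      obtain rfl : j = j' := by omega
      exact h1.trans h3.symm
  obtain ⟨e, he⟩ := h
  let g : GL (Fin d ⊕ Fin d) F :=
    ⟨LinearMap.toMatrix' e.toLinearMap, LinearMap.toMatrix' e.symm.toLinearMap,
      by rw [← LinearMap.toMatrix'_comp, LinearEquiv.comp_coe, LinearEquiv.symm_trans_self]; simp,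
      by rw [← LinearMap.toMatrix'_comp, LinearEquiv.comp_coe, LinearEquiv.self_trans_symm]; simp⟩
  have hg : ∀ v, (g : Matrix (Fin d ⊕ Fin d) (Fin d ⊕ Fin d) F) *ᵥ v = e v := fun v =>
    LinearMap.toMatrix'_mulVec _ v
  refine ⟨g, fun u v => ?_, fun v => by rw [hg]; exact he v⟩
  show Cfsg.sympForm d F ((g : Matrix _ _ F) *ᵥ u) ((g : Matrix _ _ F) *ᵥ v) = Cfsg.sympForm d F u v
  rw [hg, hg, ← hpol', QuadraticMap.polar, ← map_add, he, he, he]
  exact (congrFun (congrFun hpol u) v).trans (congrFun (congrFun hpol' u) v).symm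

omit [CharP F 2] in
/-- Similitudes of a form inside the symplectic group of its polar form are isometries. -/
theorem sim_inf_spGL {R : QuadraticForm F (Fin d ⊕ Fin d → F)} (hB : Nondeg R) (hd : 1 ≤ d)
    (hpol : QuadraticMap.polar ⇑R = Cfsg.sympForm d F) :
    Cfsg.Geo.quadSimilarityGroup ⇑R ⊓ Cfsg.spGL d F = Cfsg.isometryGroup F ⇑R := by
  refine le_antisymm ?_ fun g hg => ⟨⟨1, fun v => by simpa using hg v v⟩, grp_mem_spGL hpol ⟨g, hg⟩⟩
  rintro g ⟨⟨c, hc⟩, hg⟩
  have hc1 : (c : F) = 1 := by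
    let u : Fin d ⊕ Fin d → F := Pi.single (.inl ⟨0, by omega⟩) 1
    obtain ⟨v, hv⟩ : ∃ v, QuadraticMap.polar ⇑R u v ≠ 0 := by
      by_contra hcon
      push Not at hcon
      have := congrFun (hB u hcon) (.inl ⟨0, by omega⟩)
      simp [u] at this
    have h : QuadraticMap.polar ⇑R ((g : Matrix _ _ F) *ᵥ u) ((g : Matrix _ _ F) *ᵥ v) =
        QuadraticMap.polar ⇑R u v := by rw [hpol]; exact hg u v
    rw [QuadraticMap.polar, ← Matrix.mulVec_add, hc, hc, hc, ← mul_sub, ← mul_sub] at h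
    exact mul_right_cancel₀ hv (h.trans (one_mul _).symm)
  intro u v
  show R ((g : Matrix _ _ F) *ᵥ u) = R u
  rw [hc, hc1, one_mul]

/-- The index of an orthogonal group in the symplectic group. -/
theorem relIndex_mul_two {R : QuadraticForm F (Fin d ⊕ Fin d → F)} (hB : Nondeg R) (hd : 1 ≤ d)
    (hpol : QuadraticMap.polar ⇑R = Cfsg.sympForm d F) {q : ℕ} (hq : Fintype.card F = q) :
    (Cfsg.Geo.IsPlusTypeOn ⇑R ⊤ →
        2 * (Cfsg.Geo.quadSimilarityGroup ⇑R).relIndex (Cfsg.spGL d F) = q ^ d * (q ^ d + 1)) ∧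
      (¬ Cfsg.Geo.IsPlusTypeOn ⇑R ⊤ →
        2 * (Cfsg.Geo.quadSimilarityGroup ⇑R).relIndex (Cfsg.spGL d F) = q ^ d * (q ^ d - 1)) := by
  classical
  have hfin : finrank F (Fin d ⊕ Fin d → F) = 2 * d := by rw [Module.finrank_pi]; simp; omega
  have hsp : Nat.card (Cfsg.spGL d F) =
      q ^ (d ^ 2) * ∏ i ∈ Finset.range d, (q ^ (2 * (i + 1)) - 1) := by
    rw [← Nat.card_eq_of_bijective _ ⟨SympTrans.toSpGL_injective, SympTrans.toSpGL_surjective⟩,
      SympTrans.card_symplectic, Nat.card_eq_fintype_card, hq]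
  have hmul : Nat.card (Grp R) * (Cfsg.Geo.quadSimilarityGroup ⇑R).relIndex (Cfsg.spGL d F) =
      Nat.card (Cfsg.spGL d F) := by
    have h := Subgroup.relIndex_mul_relIndex ⊥ (Cfsg.Geo.quadSimilarityGroup ⇑R ⊓ Cfsg.spGL d F)
      (Cfsg.spGL d F) bot_le inf_le_right
    rw [Subgroup.relIndex_bot_left, Subgroup.relIndex_bot_left, Subgroup.inf_relIndex_right,
      sim_inf_spGL hB hd hpol] at h
    exact h
  obtain ⟨k, rfl⟩ : ∃ k, d = k + 1 := ⟨d - 1, by omega⟩
  have hq2 : 2 ≤ q := hq ▸ Fintype.one_lt_card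
  have hqk : 1 ≤ q ^ (k + 1) := Nat.one_le_pow _ _ (by omega)
  have hsq : q ^ (2 * (k + 1)) - 1 = (q ^ (k + 1) - 1) * (q ^ (k + 1) + 1) := by
    obtain ⟨Y, hY⟩ : ∃ Y, q ^ (k + 1) = Y + 1 := ⟨_, (Nat.sub_add_cancel hqk).symm⟩
    rw [mul_comm 2, pow_mul, hY, Nat.add_sub_cancel]
    apply Nat.sub_eq_of_eq_add
    ring
  set P := ∏ i ∈ Finset.range k, (q ^ (2 * (i + 1)) - 1) with hPdef
  have hP0 : 0 < P := Finset.prod_pos fun j _ => Nat.sub_pos_of_lt (Nat.one_lt_pow (by omega) (by omega))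
  rw [hsp, Finset.prod_range_succ, ← hPdef, hsq] at hmul
  have hexp : (k + 1) ^ 2 = (k + 1) * k + (k + 1) := by ring
  rw [hexp, pow_add] at hmul
  refine ⟨fun hp => ?_, fun hp => ?_⟩
  · obtain ⟨Pq, hPq, hPn⟩ := exists_quadForm_plus (F := F) (k + 1)
    obtain ⟨e, he⟩ := hPq.symm ▸ (plus_top_iff hB hfin).1 hp
    rw [card_grp_congr hB hPn e he, card_orth_plus (k + 1) (by omega) hPq hPn, Nat.card_eq_fintype_card, hq,
      Nat.add_sub_cancel, ← hPdef] at hmul
    have hpos : 0 < q ^ ((k + 1) * k) * (q ^ (k + 1) - 1) * P :=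
      Nat.mul_pos (Nat.mul_pos (Nat.pow_pos (by omega)) (Nat.sub_pos_of_lt (Nat.one_lt_pow (by omega) (by omega)))) hP0
    refine Nat.eq_of_mul_eq_mul_left hpos ?_
    linear_combination hmul
  · obtain ⟨a, b, hab⟩ := RestrictScalars.exists_ab (F := F)
    obtain ⟨j, hj, e, he⟩ := (classify_even R (bilin_nondeg hB) hfin a b hab).resolve_left fun h =>
      hp ((plus_top_iff hB hfin).2 h)
    obtain rfl : j = k := by omega
    obtain ⟨Pq, hPq, hPn⟩ := exists_quadForm_minus j hab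
    rw [← hPq] at he
    have hcard : Nat.card (Grp Pq) = 2 * Nat.card F ^ ((j + 1) * j) * (Nat.card F ^ (j + 1) + 1) *
        ∏ i ∈ Finset.range j, (Nat.card F ^ (2 * (i + 1)) - 1) :=
      card_orth_minus (j + 1) (by omega) hab (Q := Pq) hPq hPn
    rw [card_grp_congr hB hPn e he, hcard, Nat.card_eq_fintype_card, hq, ← hPdef] at hmul
    have hpos : 0 < q ^ ((j + 1) * j) * (q ^ (j + 1) + 1) * P :=
      Nat.mul_pos (Nat.mul_pos (Nat.pow_pos (by omega)) (Nat.succ_pos _)) hP0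
    refine Nat.eq_of_mul_eq_mul_left hpos ?_
    linear_combination hmul

omit [Fintype F] [CharP F 2] in
/-- The exponent data of a prime dividing `q ^ d - ε`. -/
theorem unitDim_dvd {q r i d : ℕ} (hi : i = orderOf (q : ZMod r))
    (h : (q : ZMod r) ^ d = 1 ∨ (q : ZMod r) ^ d = -1) : unitDim i ∣ 2 * d := by
  have h2 : (q : ZMod r) ^ (2 * d) = 1 := by
    rw [mul_comm, pow_mul]; rcases h with h | h <;> rw [h] <;> simp
  have h3 : i ∣ 2 * d := hi ▸ orderOf_dvd_of_pow_eq_one h2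
  unfold unitDim
  split_ifs with he
  · exact h3
  · exact Nat.mul_dvd_mul_left 2
      ((Nat.coprime_two_right.2 (Nat.not_even_iff_odd.1 he)).dvd_of_dvd_mul_left h3)

omit [Fintype F] [CharP F 2] in
theorem plusFree_iff {q r i d : ℕ} [Fact r.Prime] (hr2 : r ≠ 2) (hd0 : 0 < d) (hi : i = orderOf (q : ZMod r))
    (h : (q : ZMod r) ^ d = 1 ∨ (q : ZMod r) ^ d = -1) :
    (q : ZMod r) ^ d = 1 ↔ PlusFree i (2 * d / unitDim i) := by
  rcases Nat.even_or_odd i with he | ho
  · rw [unitDim_even (Nat.not_odd_iff_even.2 he), PlusFree, or_iff_right (Nat.not_odd_iff_even.2 he)]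
    have hdvd := unitDim_dvd hi h
    rw [unitDim_even (Nat.not_odd_iff_even.2 he)] at hdvd
    obtain ⟨K, hK⟩ := hdvd
    obtain ⟨j, rfl⟩ := he
    have hj : 0 < j + j := Nat.pos_of_ne_zero fun h0 => by
      rw [h0] at hi
      rcases h with h | h <;>
      · have hfin : IsOfFinOrder (q : ZMod r) := isOfFinOrder_iff_pow_eq_one.2 ⟨2 * d, by omega, by rw [mul_comm, pow_mul, h]; simp⟩
        exact absurd hi.symm (orderOf_pos_iff.2 hfin).ne'
    rw [hK, Nat.mul_div_cancel_left _ hj]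
    constructor
    · intro h1
      obtain ⟨l, hl⟩ := (hi.symm ▸ orderOf_dvd_of_pow_eq_one h1 : j + j ∣ d)
      refine ⟨l, Nat.eq_of_mul_eq_mul_left hj ?_⟩
      rw [← hK, hl]; ring
    · rintro ⟨l, rfl⟩
      have hd : d = (j + j) * l := by
        have : 2 * d = 2 * ((j + j) * l) := by rw [hK]; ring
        omega
      rw [hd, pow_mul, hi, pow_orderOf_eq_one, one_pow]
  · refine iff_of_true ?_ (Or.inl ho)
    rcases h with h | h
    · exact h
    · have h3 : i ∣ 2 * d := hi ▸ orderOf_dvd_of_pow_eq_one (by rw [mul_comm, pow_mul, h]; simp)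
      obtain ⟨l, hl⟩ := (Nat.coprime_two_right.2 ho).dvd_of_dvd_mul_left h3
      rw [hl, pow_mul, hi, pow_orderOf_eq_one, one_pow]

end CfsgLib.Derange
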