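import Mathlib
import Cfsg.Prelude.Def_GeometricClasses
import Cfsg.Agent.Lib.Classical.SemisimpleClasses

/-!
Extraspecial groups of order twenty-seven in `GL₃` and the elements of prime order of their normalisers.
-/

set_option autoImplicit false
set_option linter.style.haveILetI false

namespace CfsgLib.Derange.Heis

open Matrix
open scoped MatrixGroups

universe u

variable {F : Type u} [Field F]

/-- The characteristic polynomial of a matrix of finite order prime to the characteristic, when the roots of unity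
are present. -/
theorem charpoly_roots {n r : ℕ} [NeZero r] {ζ : F} (hζ : IsPrimitiveRoot ζ r) (M : Matrix (Fin n) (Fin n) F)
    (hM : M ^ r = 1) : ∃ d : Fin n → F, (∀ i, d i ^ r = 1) ∧ M.charpoly = (Matrix.diagonal d).charpoly := by
  classical
  let L := AlgebraicClosure F
  let φ := algebraMap F L
  have hroot : ∀ a ∈ (M.charpoly.map φ).roots, ∃ b : F, b ^ r = 1 ∧ φ b = a := fun a ha => by
    have h1 : (M.map φ).charpoly.IsRoot a := by
      rw [Matrix.charpoly_map]; exact (Polynomial.mem_roots'.1 ha).2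
    rw [Polynomial.IsRoot.def, Matrix.eval_charpoly] at h1
    obtain ⟨v, hv0, hv⟩ := Matrix.exists_mulVec_eq_zero_iff.2 h1
    have hv' : (M.map φ) *ᵥ v = a • v := by
      rw [Matrix.sub_mulVec, sub_eq_zero, Matrix.scalar_apply] at hv
      rw [← hv]
      funext i
      rw [Matrix.mulVec_diagonal]
      rfl
    have hpow : ∀ k, ((M.map φ) ^ k) *ᵥ v = a ^ k • v := fun k => by
      induction k with
      | zero => simp
      | succ k ih => rw [pow_succ', ← Matrix.mulVec_mulVec, ih, Matrix.mulVec_smul, hv', smul_smul, pow_succ]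
    have h3 := hpow r
    rw [← Matrix.map_pow, hM, Matrix.map_one φ (map_zero φ) (map_one φ), Matrix.one_mulVec] at h3
    have har : a ^ r = 1 := by
      obtain ⟨j, hj⟩ := Function.ne_iff.1 hv0
      have h4 := congrFun h3 j
      rw [Pi.smul_apply, smul_eq_mul] at h4
      exact mul_right_cancel₀ hj (h4.symm.trans (one_mul _).symm)
    obtain ⟨j, -, hj⟩ := (hζ.map_of_injective φ.injective).eq_pow_of_pow_eq_one har
    exact ⟨ζ ^ j, by rw [← pow_mul, mul_comm, pow_mul, hζ.pow_eq_one, one_pow], by rw [map_pow, hj]⟩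
  have hs : M.charpoly.Splits := Polynomial.Splits.of_splits_map φ (IsAlgClosed.splits _) fun a ha =>
    ⟨_, (hroot a ha).choose_spec.2⟩
  have hcard : M.charpoly.roots.card = n := by
    rw [Polynomial.splits_iff_card_roots.1 hs, Matrix.charpoly_natDegree_eq_dim, Fintype.card_fin]
  let e : Fin n → F := fun i => M.charpoly.roots.toList.get ⟨i, by rw [Multiset.length_toList, hcard]; exact i.2⟩
  have he : M.charpoly.roots = (Finset.univ.val.map e : Multiset F) := by
    have hl : M.charpoly.roots.toList = List.ofFn e := by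
      refine List.ext_get (by simp [hcard]) fun k h1 h2 => ?_
      simp [e]
    conv_lhs => rw [← Multiset.coe_toList M.charpoly.roots, hl]
    simp [List.ofFn_eq_map]
  refine ⟨e, fun i => ?_, ?_⟩
  · have hmem : e i ∈ M.charpoly.roots := Multiset.mem_toList.1 (List.get_mem _ _)
    obtain ⟨b, hb, hbe⟩ := hroot (φ (e i)) (by
      rw [hs.roots_map φ]; exact Multiset.mem_map_of_mem _ hmem)
    rwa [φ.injective hbe] at hb
  · rw [Matrix.charpoly_diagonal]
    conv_lhs => rw [hs.eq_prod_roots_of_monic (Matrix.charpoly_monic M), he, Multiset.map_map]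
    rfl

/-- Semisimple conjugacy to a diagonal matrix. -/
theorem exists_conj_diagonal [Fintype F] {p n r : ℕ} [Fact p.Prime] [CharP F p] [NeZero r] (hpr : ¬ p ∣ r) {ζ : F}
    (hζ : IsPrimitiveRoot ζ r) (g : GL (Fin n) F) (hg : g ^ r = 1) :
    ∃ (h : GL (Fin n) F) (d : Fin n → F), (∀ i, d i ^ r = 1) ∧
      (h : Matrix (Fin n) (Fin n) F) = Matrix.diagonal d ∧ IsConj g h := by
  obtain ⟨d, hd, hc⟩ := charpoly_roots hζ (g : Matrix (Fin n) (Fin n) F)
    (by rw [← Units.val_pow_eq_pow_val, hg, Units.val_one])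
  have hpow : Matrix.diagonal d ^ r = 1 := by
    rw [Matrix.diagonal_pow, ← Matrix.diagonal_one]
    exact congrArg _ (funext hd)
  let h : GL (Fin n) F := Units.ofPowEqOne _ r hpow (NeZero.ne r)
  have hh : h ^ r = 1 := Units.pow_ofPowEqOne hpow (NeZero.ne r)
  have hcop : ∀ x : GL (Fin n) F, x ^ r = 1 → (orderOf x).Coprime p := fun x hx =>
    (((Fact.out : p.Prime).coprime_iff_not_dvd).2 fun h' => hpr (h'.trans (orderOf_dvd_of_pow_eq_one hx))).symm
  exact ⟨h, d, hd, rfl, CfsgLib.Classical.SemisimpleClasses.isConj_of_charpoly_eq (p := p) g h (hcop g hg) (hcop h hh) hc⟩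

/-- The clock matrix. -/
def dM (ω : F) : Matrix (Fin 3) (Fin 3) F := Matrix.diagonal fun i => ω ^ (i : ℕ)

/-- The shift matrix. -/
def yM : Matrix (Fin 3) (Fin 3) F := !![0, 0, 1; 1, 0, 0; 0, 1, 0]

theorem dy_comm {ω : F} (hω3 : ω ^ 3 = 1) : dM ω * yM = ω • (yM * dM ω) := by
  ext i j
  rw [dM, Matrix.diagonal_mul, Matrix.smul_apply, Matrix.mul_diagonal, smul_eq_mul]
  fin_cases i <;> fin_cases j <;> simp [yM] <;> first | ring1 | linear_combination (-1 : F) * hω3 | linear_combination hω3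

/-- Matrices commuting with the clock and the shift are scalar. -/
theorem scalar_of_comm {ω : F} (hω : IsPrimitiveRoot ω 3) {M : Matrix (Fin 3) (Fin 3) F}
    (hd : M * dM ω = dM ω * M) (hy : M * yM = yM * M) : M = M 0 0 • (1 : Matrix (Fin 3) (Fin 3) F) := by
  have hoff : ∀ i j, i ≠ j → M i j = 0 := fun i j hij => by
    have h := congrFun (congrFun hd i) j
    rw [dM, Matrix.mul_diagonal, Matrix.diagonal_mul] at h
    have hne : ω ^ (j : ℕ) ≠ ω ^ (i : ℕ) := fun e => hij (Fin.ext (hω.pow_inj i.2 j.2 e.symm))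
    by_contra h0
    exact hne (mul_left_cancel₀ h0 (h.trans (mul_comm _ _)))
  have h1 := congrFun (congrFun hy 1) 0
  have h2 := congrFun (congrFun hy 2) 1
  simp [yM, Matrix.mul_apply, Fin.sum_univ_three] at h1 h2
  ext i j
  fin_cases i <;> fin_cases j <;>
    simp [hoff 0 1 (by decide), hoff 0 2 (by decide), hoff 1 0 (by decide), hoff 1 2 (by decide),
      hoff 2 0 (by decide), hoff 2 1 (by decide), h1, h2]

/-- A frame for an extraspecial group of order twenty-seven. -/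
structure Frame (ω : F) (R : Subgroup (GL (Fin 3) F)) (P : GL (Fin 3) F) : Prop where
  prim : IsPrimitiveRoot ω 3
  clock : ∃ g ∈ R, (g : Matrix (Fin 3) (Fin 3) F) * (P : Matrix (Fin 3) (Fin 3) F) = (P : Matrix (Fin 3) (Fin 3) F) * dM ω
  shift : ∃ g ∈ R, (g : Matrix (Fin 3) (Fin 3) F) * (P : Matrix (Fin 3) (Fin 3) F) = (P : Matrix (Fin 3) (Fin 3) F) * yM
  scal : ∀ k : ℕ, ∃ g ∈ R, (g : Matrix (Fin 3) (Fin 3) F) = ω ^ k • 1
  gen : ∀ (S : Subgroup (GL (Fin 3) F)) (x y : GL (Fin 3) F), x ∈ R → y ∈ R →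
    (x : Matrix (Fin 3) (Fin 3) F) * (P : Matrix (Fin 3) (Fin 3) F) = (P : Matrix (Fin 3) (Fin 3) F) * dM ω →
    (y : Matrix (Fin 3) (Fin 3) F) * (P : Matrix (Fin 3) (Fin 3) F) = (P : Matrix (Fin 3) (Fin 3) F) * yM → x ∈ S → y ∈ S → R ≤ S

theorem exists_frame {ω : F} (hω : IsPrimitiveRoot ω 3) (h3 : (3 : F) ≠ 0) {R : Subgroup (GL (Fin 3) F)}
    (hR : Nat.card R = 27) (hRe : Monoid.exponent R = 3) (hRna : ¬ IsMulCommutative R) :
    ∃ P, Frame ω R P := by
  classical
  haveI : Fact (Nat.Prime 3) := ⟨Nat.prime_three⟩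
  haveI : Finite R := Nat.finite_of_card_ne_zero (by omega)
  have hω3 : ω ^ 3 = 1 := hω.pow_eq_one
  have hω1 : ω ≠ 1 := hω.ne_one (by norm_num)
  have hωq : ω ^ 2 + ω + 1 = 0 :=
    (mul_eq_zero.1 (show (ω - 1) * (ω ^ 2 + ω + 1) = 0 by linear_combination hω3)).resolve_left (sub_ne_zero.2 hω1)
  have hcube : ∀ g ∈ R, g ^ 3 = 1 := fun g hg => by
    have := Monoid.pow_exponent_eq_one (⟨g, hg⟩ : R)
    rw [hRe] at this
    exact congrArg Subtype.val this
  have hab : ∀ (S : Subgroup (GL (Fin 3) F)), S ≤ R → Nat.card S ≠ 27 → ∀ a b : S, a * b = b * a := fun S hS h a b => by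
    have hdvd : Nat.card S ∣ 3 ^ 3 := by
      have := Subgroup.card_dvd_of_le hS
      rwa [hR] at this
    obtain ⟨k, hk, hk'⟩ := (Nat.dvd_prime_pow Nat.prime_three).1 hdvd
    haveI : Finite S := Nat.finite_of_card_ne_zero (by rw [hk']; positivity)
    interval_cases k
    · haveI : Subsingleton S := (Nat.card_eq_one_iff_unique.1 hk').1
      exact Subsingleton.elim _ _
    · haveI : IsCyclic S := isCyclic_of_prime_card (p := 3) (by rw [hk']; rfl)
      exact (IsCyclic.commutative.is_comm.comm a b)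
    · exact IsPGroup.commutative_of_card_eq_prime_sq (p := 3) hk' a b
    · exact absurd (hk'.trans (by norm_num)) h
  obtain ⟨x₀, y₀, hne⟩ : ∃ a b : R, a * b ≠ b * a := by
    by_contra h
    push Not at h
    exact hRna ⟨⟨h⟩⟩
  have hquot : ∀ a b : R, a * b * a⁻¹ * b⁻¹ ∈ Subgroup.center R := by
    have hp3 : IsPGroup 3 R := IsPGroup.of_card (n := 3) (by rw [hR]; norm_num)
    haveI : Nontrivial R := ⟨⟨x₀, 1, fun h => hne (by rw [h, one_mul, mul_one])⟩⟩
    haveI := hp3.center_nontrivial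
    have hZ : 1 < Nat.card (Subgroup.center R) := Finite.one_lt_card
    have hcard := Subgroup.card_eq_card_quotient_mul_card_subgroup (Subgroup.center R)
    rw [hR] at hcard
    obtain ⟨k, hk, hk'⟩ := (Nat.dvd_prime_pow Nat.prime_three).1
      (show Nat.card (R ⧸ Subgroup.center R) ∣ 3 ^ 3 from ⟨_, by rw [show (3 : ℕ) ^ 3 = 27 by norm_num]; exact hcard⟩)
    haveI : Finite (R ⧸ Subgroup.center R) := inferInstance
    have hcomm : ∀ a b : R ⧸ Subgroup.center R, a * b = b * a := by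
      interval_cases k
      · haveI : Subsingleton (R ⧸ Subgroup.center R) := (Nat.card_eq_one_iff_unique.1 hk').1
        exact fun a b => Subsingleton.elim _ _
      · haveI : IsCyclic (R ⧸ Subgroup.center R) := isCyclic_of_prime_card (p := 3) (by rw [hk']; rfl)
        exact fun a b => IsCyclic.commutative.is_comm.comm a b
      · exact fun a b => IsPGroup.commutative_of_card_eq_prime_sq (p := 3) hk' a b
      · rw [hk'] at hcard
        omega
    intro a b
    rw [← QuotientGroup.eq_one_iff]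
    simp only [QuotientGroup.mk_mul, QuotientGroup.mk_inv]
    rw [hcomm (a : R ⧸ Subgroup.center R) b]
    simp
  have hscal : ∃ c : F, c ≠ 1 ∧ c ^ 3 = 1 ∧ ((x₀ : GL (Fin 3) F) : Matrix (Fin 3) (Fin 3) F) *
      ((y₀ : GL (Fin 3) F) : Matrix (Fin 3) (Fin 3) F) = c • (((y₀ : GL (Fin 3) F) : Matrix (Fin 3) (Fin 3) F) *
      ((x₀ : GL (Fin 3) F) : Matrix (Fin 3) (Fin 3) F)) := by
    set z : R := x₀ * y₀ * x₀⁻¹ * y₀⁻¹ with hz
    have hz1 : z ≠ 1 := fun h => hne (by
      have := congrArg (· * (y₀ * x₀)) h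
      simpa [hz, mul_assoc] using this)
    set M := ((z : GL (Fin 3) F) : Matrix (Fin 3) (Fin 3) F) with hM
    have hM3 : M ^ 3 = 1 := by rw [hM, ← Units.val_pow_eq_pow_val, hcube _ z.2]; rfl
    obtain ⟨c, hc1, hc3, hdet⟩ : ∃ c : F, c ≠ 1 ∧ c ^ 3 = 1 ∧ (M - c • 1).det = 0 := by
      have hprod : (M - 1) * ((M - ω • 1) * (M - (ω * ω) • 1)) = 0 := by
        have h' : (M - 1) * (M ^ 2 + M + 1) = M ^ 3 - 1 := by noncomm_ring
        have h'' : (M - ω • 1) * (M - (ω * ω) • 1) = M ^ 2 + M + 1 := by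
          simp only [sub_mul, mul_sub, smul_mul_assoc, mul_smul_comm, one_mul, mul_one, smul_sub, smul_smul]
          rw [show ω * ω * ω = 1 by linear_combination hω3, one_smul, pow_two,
            show ω * ω = -(1 + ω) by linear_combination hωq]
          module
        rw [h'', h', hM3, sub_self]
      rcases eq_or_ne ((M - ω • 1) * (M - (ω * ω) • 1)).det 0 with h | h
      · rw [Matrix.det_mul, mul_eq_zero] at h
        rcases h with h | h
        · exact ⟨ω, hω1, hω3, h⟩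
        · refine ⟨ω * ω, fun e => hω1 ?_, by rw [mul_pow, hω3, one_mul], h⟩
          linear_combination hω3 - ω * e
      · exfalso
        refine hz1 (Subtype.ext (Units.ext (sub_eq_zero.1 ?_)))
        exact ((Matrix.isUnit_iff_isUnit_det _).2 (isUnit_iff_ne_zero.2 h)).mul_left_eq_zero.1 hprod
    let E : Submodule F (Fin 3 → F) := LinearMap.ker (Matrix.toLin' (M - c • 1))
    have hE0 : E ≠ ⊥ := fun h => by
      obtain ⟨v, hv0, hv⟩ := Matrix.exists_mulVec_eq_zero_iff.2 hdet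
      exact hv0 ((Submodule.mem_bot F).1 (h ▸ (show v ∈ E from hv)))
    have hEm : ∀ v ∈ E, M *ᵥ v = c • v := fun v hv => by
      have h : (M - c • 1) *ᵥ v = 0 := hv
      rwa [Matrix.sub_mulVec, sub_eq_zero, Matrix.smul_mulVec, Matrix.one_mulVec] at h
    have hinv : ∀ g : R, ∀ v ∈ E, ((g : GL (Fin 3) F) : Matrix (Fin 3) (Fin 3) F) *ᵥ v ∈ E := fun g v hv => by
      have hgM : ((g : GL (Fin 3) F) : Matrix (Fin 3) (Fin 3) F) * M = M * ((g : GL (Fin 3) F) : Matrix (Fin 3) (Fin 3) F) := by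
        have := congrArg (fun t : R => ((t : GL (Fin 3) F) : Matrix (Fin 3) (Fin 3) F))
          (Subgroup.mem_center_iff.1 (hquot x₀ y₀) g)
        simpa [← hz, hM] using this
      show (M - c • 1) *ᵥ _ = 0
      rw [Matrix.sub_mulVec, Matrix.mulVec_mulVec, ← hgM, ← Matrix.mulVec_mulVec, hEm v hv, Matrix.mulVec_smul,
        Matrix.smul_mulVec, Matrix.one_mulVec, sub_self]
    let res : R → Module.End F E := fun g =>
      (Matrix.toLin' ((g : GL (Fin 3) F) : Matrix (Fin 3) (Fin 3) F)).restrict (hinv g)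
    have hres : ∀ a b : R, res (a * b) = res a * res b := fun a b => LinearMap.ext fun v => Subtype.ext (by
      simp [res, LinearMap.restrict, Matrix.mulVec_mulVec])
    have hres1 : res 1 = 1 := LinearMap.ext fun v => Subtype.ext (by simp [res, LinearMap.restrict])
    have hdetE : ∀ a : R, LinearMap.det (res a) * LinearMap.det (res a⁻¹) = 1 := fun a => by
      rw [← map_mul, ← hres, mul_inv_cancel, hres1, map_one]
    have hresz : res z = c • (1 : Module.End F E) := LinearMap.ext fun v => Subtype.ext (by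
      simp [res, LinearMap.restrict, hEm v.1 v.2, ← hM])
    have hd : c ^ Module.finrank F E = 1 := by
      have h := congrArg LinearMap.det hresz
      rw [LinearMap.det_smul, map_one, mul_one, hz, hres, hres, hres, map_mul, map_mul, map_mul] at h
      rw [← h]
      linear_combination (LinearMap.det (res y₀) * LinearMap.det (res y₀⁻¹)) * hdetE x₀ + hdetE y₀
    have htop : E = ⊤ := Submodule.eq_top_of_finrank_eq (by
      have h1 : Module.finrank F E ≤ 3 := (Submodule.finrank_le E).trans (by simp)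
      have h2 : 0 < Module.finrank F E := Nat.pos_of_ne_zero fun h => hE0 (Submodule.finrank_eq_zero.1 h)
      rw [Module.finrank_fin_fun]
      interval_cases h : Module.finrank F E
      · exact absurd (by simpa using hd) hc1
      · exfalso; apply hc1; linear_combination hc3 - c * hd
      · rfl)
    refine ⟨c, hc1, hc3, ?_⟩
    have hMc : M = c • 1 := Matrix.ext_iff_mulVec.2 fun v => by
      rw [hEm v (htop ▸ trivial), Matrix.smul_mulVec, Matrix.one_mulVec]
    have e : z * (y₀ * x₀) = x₀ * y₀ := by rw [hz]; group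
    have := congrArg (fun t : R => ((t : GL (Fin 3) F) : Matrix (Fin 3) (Fin 3) F)) e
    simpa [← hM, hMc, smul_mul_assoc] using this.symm
  obtain ⟨x, hx, y, hy, hxy⟩ : ∃ x ∈ R, ∃ y ∈ R, (x : Matrix (Fin 3) (Fin 3) F) * y =
      ω • ((y : Matrix (Fin 3) (Fin 3) F) * x) := by
    obtain ⟨c, hc1, hc3, hc⟩ := hscal
    rcases mul_eq_zero.1 (show (c - ω) * (c - ω * ω) = 0 by
      have h' : c ^ 2 + c + 1 = 0 := (mul_eq_zero.1 (show (c - 1) * (c ^ 2 + c + 1) = 0 by
        linear_combination hc3)).resolve_left (sub_ne_zero.2 hc1)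
      linear_combination h' - c * hωq + hω3) with e | e
    · exact ⟨_, x₀.2, _, y₀.2, by rw [hc, sub_eq_zero.1 e]⟩
    · refine ⟨_, y₀.2, _, x₀.2, ?_⟩
      rw [hc, sub_eq_zero.1 e, smul_smul, show ω * (ω * ω) = 1 by rw [← hω3]; ring, one_smul]
  have hscalR : ∀ k : ℕ, ∃ g ∈ R, (g : Matrix (Fin 3) (Fin 3) F) = ω ^ k • 1 := fun k => by
    have h1 : ((x * y * x⁻¹ * y⁻¹ : GL (Fin 3) F) : Matrix (Fin 3) (Fin 3) F) = ω • 1 := by
      rw [Units.val_mul, Units.val_mul, Units.val_mul, hxy, smul_mul_assoc, smul_mul_assoc,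
        Units.mul_inv_cancel_right, Units.mul_inv]
    refine ⟨(x * y * x⁻¹ * y⁻¹) ^ k, pow_mem (mul_mem (mul_mem (mul_mem hx hy) (inv_mem hx)) (inv_mem hy)) k, ?_⟩
    rw [Units.val_pow_eq_pow_val, h1, smul_pow, one_pow]
  have hX3 : (x : Matrix (Fin 3) (Fin 3) F) * x * x = 1 := by
    rw [← Units.val_mul, ← Units.val_mul, ← pow_two, ← pow_succ, hcube x hx, Units.val_one]
  have hY3 : (y : Matrix (Fin 3) (Fin 3) F) * y * y = 1 := by
    rw [← Units.val_mul, ← Units.val_mul, ← pow_two, ← pow_succ, hcube y hy, Units.val_one]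
  obtain ⟨X, hX⟩ : ∃ X, X = (x : Matrix (Fin 3) (Fin 3) F) := ⟨_, rfl⟩
  obtain ⟨Y, hY⟩ : ∃ Y, Y = (y : Matrix (Fin 3) (Fin 3) F) := ⟨_, rfl⟩
  rw [← hX] at hxy hX3
  rw [← hY] at hxy hY3
  have hinjY : ∀ u, Y *ᵥ u = 0 → u = 0 := fun u h => by
    have := congrArg ((Y * Y) *ᵥ ·) h
    simpa [mulVec_mulVec, hY3, mulVec_zero] using this
  have hstep : ∀ (u : Fin 3 → F) (c : F), X *ᵥ u = c • u → X *ᵥ (Y *ᵥ u) = (ω * c) • (Y *ᵥ u) := fun u c h => by
    rw [mulVec_mulVec, hxy, smul_mulVec, ← mulVec_mulVec, h, mulVec_smul, smul_smul]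
  obtain ⟨v, hv0, hv⟩ : ∃ v : Fin 3 → F, v ≠ 0 ∧ X *ᵥ v = v := by
    have hprod : (X - 1) * (X - ω • 1) * (X - (ω * ω) • 1) = 0 := by
      have h' : (X - 1) * (X ^ 2 + X + 1) = X ^ 3 - 1 := by noncomm_ring
      have h'' : (X - ω • 1) * (X - (ω * ω) • 1) = X ^ 2 + X + 1 := by
        simp only [sub_mul, mul_sub, smul_mul_assoc, mul_smul_comm, one_mul, mul_one, smul_sub, smul_smul]
        rw [show ω * ω * ω = 1 by linear_combination hω3, one_smul, pow_two,
          show ω * ω = -(1 + ω) by linear_combination hωq]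
        module
      rw [mul_assoc, h'', h', pow_succ, pow_two, hX3, sub_self]
    have hdet : (X - 1).det = 0 ∨ (X - ω • 1).det = 0 ∨ (X - (ω * ω) • 1).det = 0 := by
      have := congrArg Matrix.det hprod
      rw [det_mul, det_mul, det_zero, mul_eq_zero, mul_eq_zero] at this
      exact or_assoc.1 this
    rcases hdet with h | h | h <;> obtain ⟨u, hu0, hu⟩ := Matrix.exists_mulVec_eq_zero_iff.2 h <;>
      rw [sub_mulVec, sub_eq_zero] at hu
    · exact ⟨u, hu0, by rwa [one_mulVec] at hu⟩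
    · rw [smul_mulVec, one_mulVec] at hu
      refine ⟨Y *ᵥ (Y *ᵥ u), fun e => hu0 (hinjY _ (hinjY _ e)), ?_⟩
      rw [hstep _ _ (hstep _ _ hu), show ω * (ω * ω) = 1 by rw [← hω3]; ring, one_smul]
    · rw [smul_mulVec, one_mulVec] at hu
      refine ⟨Y *ᵥ u, fun e => hu0 (hinjY _ e), ?_⟩
      rw [hstep _ _ hu, show ω * (ω * ω) = 1 by rw [← hω3]; ring, one_smul]
  obtain ⟨b, hb⟩ : ∃ b : Fin 3 → Fin 3 → F, b = ![v, Y *ᵥ v, Y *ᵥ (Y *ᵥ v)] := ⟨_, rfl⟩
  have hbX : ∀ i, X *ᵥ b i = ω ^ (i : ℕ) • b i := fun i => by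
    have h1 : X *ᵥ (Y *ᵥ v) = ω • (Y *ᵥ v) := by
      rw [hstep v 1 (by rw [one_smul, hv]), mul_one]
    fin_cases i
    · simp [hb, hv]
    · simpa [hb] using h1
    · simpa [hb, pow_two, -mulVec_mulVec] using hstep _ _ h1
  have hb0 : ∀ i, b i ≠ 0 := fun i => by
    fin_cases i
    · simpa [hb] using hv0
    · simpa [hb] using fun e => hv0 (hinjY _ e)
    · simpa [hb, -mulVec_mulVec] using fun e => hv0 (hinjY _ (hinjY _ e))
  let Pm : Matrix (Fin 3) (Fin 3) F := Matrix.of fun i r => b r i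
  have hPu : IsUnit Pm := by
    refine (Matrix.linearIndependent_cols_iff_isUnit).1 ?_
    rw [Fintype.linearIndependent_iff]
    intro g hg
    have e0 : g 0 • b 0 + g 1 • b 1 + g 2 • b 2 = 0 := by
      rw [← hg, Fin.sum_univ_three]; funext i; simp [Pm, Matrix.col]
    have e1 : g 0 • b 0 + (g 1 * ω) • b 1 + (g 2 * ω ^ 2) • b 2 = 0 := by
      have := congrArg (X *ᵥ ·) e0
      simpa [mulVec_add, mulVec_smul, hbX, smul_smul] using this
    have e2 : g 0 • b 0 + (g 1 * ω * ω) • b 1 + (g 2 * ω ^ 2 * ω ^ 2) • b 2 = 0 := by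
      have := congrArg (X *ᵥ ·) e1
      simpa [mulVec_add, mulVec_smul, hbX, smul_smul] using this
    have key : ∀ i, (3 * g i) • b i = 0 := by
      intro i
      funext r
      have c0 := congrFun e0 r; have c1 := congrFun e1 r; have c2 := congrFun e2 r
      simp at c0 c1 c2
      rw [Pi.smul_apply, smul_eq_mul, Pi.zero_apply]
      obtain rfl | rfl | rfl : i = 0 ∨ i = 1 ∨ i = 2 := (show ∀ i : Fin 3, i = 0 ∨ i = 1 ∨ i = 2 by decide) i
      · linear_combination c0 + c1 + c2 - (g 1 * b 1 r) * hωq - (g 2 * b 2 r) * (hωq + ω * hω3)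
      · linear_combination c0 + ω ^ 2 * c1 + ω * c2 - (g 0 * b 0 r) * hωq - (g 2 * b 2 r) * (hωq + (ω + ω ^ 2) * hω3) - (g 1 * b 1 r) * 2 * hω3
      · linear_combination c0 + ω * c1 + ω ^ 2 * c2 - (g 0 * b 0 r) * hωq - (g 1 * b 1 r) * (hωq + ω * hω3) - (g 2 * b 2 r) * (ω ^ 3 + 2) * hω3
    intro i
    rcases smul_eq_zero.1 (key i) with h | h
    · exact (mul_eq_zero.1 h).resolve_left h3
    · exact absurd h (hb0 i)
  obtain ⟨P, hP⟩ := hPu
  have hcol : ∀ (A : Matrix (Fin 3) (Fin 3) F) (r s : Fin 3), (A * (P : Matrix (Fin 3) (Fin 3) F)) r s = (A *ᵥ b s) r :=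
    fun A r s => by rw [hP]; rfl
  refine ⟨P, hω, ⟨x, hx, ?_⟩, ⟨y, hy, ?_⟩, hscalR, fun S x' y' hx' hy' hxP hyP hxS hyS => ?_⟩
  · ext r s
    rw [hcol, ← hX, hbX, dM, Matrix.mul_diagonal, hP]
    simp [Pm, mul_comm]
  · ext r s
    rw [hcol, ← hY, hP]
    fin_cases s <;> simp [Pm, yM, hb, Matrix.mul_apply, Fin.sum_univ_three, Matrix.mulVec_mulVec, ← mul_assoc, hY3]
  · have hne' : x' * y' ≠ y' * x' := fun e => by
      have h1 : (x' : Matrix (Fin 3) (Fin 3) F) * (y' : Matrix (Fin 3) (Fin 3) F) * (P : Matrix (Fin 3) (Fin 3) F) = (P : Matrix (Fin 3) (Fin 3) F) * (dM ω * yM) := by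
        rw [mul_assoc, hyP, ← mul_assoc, hxP, mul_assoc]
      have h4 : (y' : Matrix (Fin 3) (Fin 3) F) * (x' : Matrix (Fin 3) (Fin 3) F) * (P : Matrix (Fin 3) (Fin 3) F) = (P : Matrix (Fin 3) (Fin 3) F) * (yM * dM ω) := by
        rw [mul_assoc, hxP, ← mul_assoc, hyP, mul_assoc]
      rw [← Units.val_mul, e, Units.val_mul, h4] at h1
      have h5 : yM * dM ω = dM ω * yM := by
        have := congrArg ((((P⁻¹ : GL (Fin 3) F)) : Matrix (Fin 3) (Fin 3) F) * ·) h1
        simpa [← mul_assoc] using this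
      have h6 := congrFun (congrFun (h5.trans (dy_comm hω3)) 1) 0
      rw [Matrix.smul_apply, dM, Matrix.mul_diagonal] at h6
      simp [yM] at h6
      exact hω1 h6.symm
    have h27 : Nat.card (R ⊓ S : Subgroup (GL (Fin 3) F)) = 27 := by
      by_contra h
      exact hne' (congrArg Subtype.val (hab (R ⊓ S) inf_le_left h ⟨x', hx', hxS⟩ ⟨y', hy', hyS⟩))
    have heq : R ⊓ S = R := by
      refine Subgroup.eq_of_le_of_card_ge inf_le_left ?_
      rw [h27, hR]
    exact heq ▸ inf_le_right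

variable {ω : F} {R : Subgroup (GL (Fin 3) F)} {P : GL (Fin 3) F}

/-- The element attached to a matrix in frame coordinates normalises the group. -/
theorem Frame.mem_normalizer [Finite F] (hf : Frame ω R P) (N : GL (Fin 3) F) {a b k l k' l' : ℕ}
    (hd : (N : Matrix (Fin 3) (Fin 3) F) * dM ω = ω ^ k • (yM ^ a * dM ω ^ b) * (N : Matrix (Fin 3) (Fin 3) F))
    (hy : (N : Matrix (Fin 3) (Fin 3) F) * yM = ω ^ l • (yM ^ k' * dM ω ^ l') * (N : Matrix (Fin 3) (Fin 3) F)) :
    P * N * P⁻¹ ∈ Cfsg.Geo.subgroupNormalizer R := by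
  classical
  obtain ⟨x, hx, hxP⟩ := hf.clock
  obtain ⟨y, hy', hyP⟩ := hf.shift
  set n := P * N * P⁻¹ with hn
  have hword : ∀ c i j, ∃ g ∈ R, (g : Matrix (Fin 3) (Fin 3) F) * (P : Matrix (Fin 3) (Fin 3) F) =
      (P : Matrix (Fin 3) (Fin 3) F) * (ω ^ c • (yM ^ i * dM ω ^ j)) := fun c i j => by
    obtain ⟨s, hs, hsv⟩ := hf.scal c
    have hpw : ∀ (g : GL (Fin 3) F) (A : Matrix (Fin 3) (Fin 3) F),
        (g : Matrix (Fin 3) (Fin 3) F) * (P : Matrix (Fin 3) (Fin 3) F) = (P : Matrix (Fin 3) (Fin 3) F) * A → ∀ m,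
        (g : Matrix (Fin 3) (Fin 3) F) ^ m * P = (P : Matrix (Fin 3) (Fin 3) F) * A ^ m := fun g A h m => by
      induction m with
      | zero => simp
      | succ m ih => rw [pow_succ, mul_assoc, h, ← mul_assoc, ih, mul_assoc, ← pow_succ]
    refine ⟨s * (y ^ i * x ^ j), mul_mem hs (mul_mem (pow_mem hy' i) (pow_mem hx j)), ?_⟩
    rw [Units.val_mul, Units.val_mul, hsv, Units.val_pow_eq_pow_val, Units.val_pow_eq_pow_val, smul_mul_assoc,
      one_mul, smul_mul_assoc, mul_assoc, hpw x _ hxP, ← mul_assoc, hpw y _ hyP, mul_assoc, mul_smul_comm]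
  have hconj : ∀ (g : GL (Fin 3) F) (A : Matrix (Fin 3) (Fin 3) F) (c i j : ℕ),
      (g : Matrix (Fin 3) (Fin 3) F) * (P : Matrix (Fin 3) (Fin 3) F) = (P : Matrix (Fin 3) (Fin 3) F) * A →
      (N : Matrix (Fin 3) (Fin 3) F) * A = ω ^ c • (yM ^ i * dM ω ^ j) * (N : Matrix (Fin 3) (Fin 3) F) → n * g * n⁻¹ ∈ R := fun g A c i j h h' => by
    obtain ⟨g', hg', hg'v⟩ := hword c i j
    have e : n * g = g' * n := by
      refine Units.ext ((Units.isUnit P).mul_left_injective ?_)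
      show ((n * g : GL (Fin 3) F) : Matrix (Fin 3) (Fin 3) F) * (P : Matrix (Fin 3) (Fin 3) F) = ((g' * n : GL (Fin 3) F) : Matrix (Fin 3) (Fin 3) F) * (P : Matrix (Fin 3) (Fin 3) F)
      rw [Units.val_mul n g, Units.val_mul g' n, mul_assoc, h, mul_assoc]
      have hnP : (n : Matrix (Fin 3) (Fin 3) F) * (P : Matrix (Fin 3) (Fin 3) F) = (P : Matrix (Fin 3) (Fin 3) F) * N := by
        rw [← Units.val_mul, ← Units.val_mul, hn, inv_mul_cancel_right]
      rw [← mul_assoc, hnP, mul_assoc, h', ← mul_assoc (g' : Matrix (Fin 3) (Fin 3) F), hg'v, mul_assoc]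
    rw [e, mul_inv_cancel_right]
    exact hg'
  have hle : R ≤ R.comap (MulAut.conj n).toMonoidHom :=
    hf.gen _ x y hx hy' hxP hyP (hconj x _ k a b hxP hd) (hconj y _ l k' l' hyP hy)
  haveI : Finite R := inferInstance
  have heq : R.map (MulAut.conj n).toMonoidHom = R :=
    Subgroup.eq_of_le_of_card_ge (Subgroup.map_le_iff_le_comap.2 hle)
      (Nat.card_congr (R.equivMapOfInjective (MulAut.conj n).toMonoidHom (MulAut.conj n).injective).toEquiv).le
  refine Subgroup.mem_normalizer_iff.2 fun h => ⟨fun hh => hle hh, fun hh => ?_⟩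
  obtain ⟨g, hg, hge⟩ := (show n * h * n⁻¹ ∈ R.map (MulAut.conj n).toMonoidHom from heq.symm ▸ hh)
  exact (MulAut.conj n).injective hge ▸ hg

/-- The involution of the model. -/
def jM : Matrix (Fin 3) (Fin 3) F := !![-1, 0, 0; 0, 0, -1; 0, -1, 0]

theorem jM_mul_self : (jM : Matrix (Fin 3) (Fin 3) F) * jM = 1 := by
  ext i j
  fin_cases i <;> fin_cases j <;> simp [jM, Matrix.mul_apply, Fin.sum_univ_three]

/-- An element with square or cube a scalar is conjugate to the model of a normalising element. -/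
theorem Frame.exists_model [Fintype F] {p : ℕ} [Fact p.Prime] [CharP F p] (hp : p ≠ 2) (hp3 : p ≠ 3)
    (hf : Frame ω R P) {r : ℕ} (hr : r = 2 ∨ r = 3) (hnine : r = 3 → ∃ c : F, c ^ 3 = ω)
    (x : GL (Fin 3) F) (hx : Matrix.det (x : Matrix (Fin 3) (Fin 3) F) = 1) {z : F}
    (hz : ((x ^ r : GL (Fin 3) F) : Matrix (Fin 3) (Fin 3) F) = z • (1 : Matrix (Fin 3) (Fin 3) F))
    (hxs : ∀ z : F, (x : Matrix (Fin 3) (Fin 3) F) ≠ z • (1 : Matrix (Fin 3) (Fin 3) F)) :
    ∃ N : GL (Fin 3) F, P * N * P⁻¹ ∈ Cfsg.Geo.subgroupNormalizer R ∧ IsConj x N ∧ N ^ (9 * 2) = 1 ∧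
      ∀ σ : F →+* F, (∀ a : F, a ^ 9 = 1 → σ a * a = 1) → ((N : Matrix (Fin 3) (Fin 3) F).map σ)ᵀ * N = 1 := by
  classical
  have hω3 : ω ^ 3 = 1 := hf.prim.pow_eq_one
  have hz3 : z ^ 3 = 1 := by
    have h := congrArg Matrix.det hz
    rwa [Units.val_pow_eq_pow_val, Matrix.det_pow, hx, one_pow, Matrix.det_smul, Fintype.card_fin, Matrix.det_one,
      mul_one, eq_comm] at h
  obtain ⟨kz, -, hkz⟩ := hf.prim.eq_pow_of_pow_eq_one hz3
  have hσω : ∀ σ : F →+* F, (∀ a : F, a ^ 9 = 1 → σ a * a = 1) → ∀ k : ℕ, σ (ω ^ k) * ω ^ k = 1 := fun σ h k =>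
    h _ (by rw [← pow_mul, show k * 9 = 3 * (3 * k) by ring, pow_mul, hω3, one_pow])
  -- reduction to an element of order `r`
  obtain ⟨c, hc18, hcr, hc2, hσc⟩ : ∃ c : Fˣ, (c : F) ^ 18 = 1 ∧ (c : F) ^ r = z ∧ (r = 2 → (c : F) ^ 3 = 1) ∧
      ∀ σ : F →+* F, (∀ a : F, a ^ 9 = 1 → σ a * a = 1) → σ (c : F) * c = 1 := by
    rcases hr with rfl | rfl
    · refine ⟨Units.ofPowEqOne (ω ^ (2 * kz)) 3 (by rw [← pow_mul, mul_comm, pow_mul, hω3, one_pow]) (by norm_num),
        ?_, ?_, fun _ => ?_, fun σ h => hσω σ h _⟩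
      · show (ω ^ (2 * kz)) ^ 18 = 1
        rw [← pow_mul, show 2 * kz * 18 = 3 * (12 * kz) by ring, pow_mul, hω3, one_pow]
      · show (ω ^ (2 * kz)) ^ 2 = z
        rw [← hkz, ← pow_mul, show 2 * kz * 2 = 3 * kz + kz by ring, pow_add, pow_mul, hω3, one_pow, one_mul]
      · show (ω ^ (2 * kz)) ^ 3 = 1
        rw [← pow_mul, mul_comm, pow_mul, hω3, one_pow]
    · obtain ⟨c, hc⟩ := hnine rfl
      have hc9 : c ^ 9 = 1 := by rw [show 9 = 3 * 3 by norm_num, pow_mul, hc, hω3]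
      have hc0 : c ^ kz ≠ 0 := pow_ne_zero _ fun h => by simp [h] at hc9
      have hck9 : (c ^ kz) ^ 9 = 1 := by rw [← pow_mul, mul_comm, pow_mul, hc9, one_pow]
      refine ⟨Units.mk0 (c ^ kz) hc0, ?_, ?_, fun h => absurd h (by norm_num), fun σ h => h _ hck9⟩
      · show (c ^ kz) ^ 18 = 1
        rw [show 18 = 9 * 2 by norm_num, pow_mul, hck9, one_pow]
      · show (c ^ kz) ^ 3 = z
        rw [← pow_mul, mul_comm, pow_mul, hc, hkz]
  let s : GL (Fin 3) F := Matrix.GeneralLinearGroup.scalar (Fin 3) c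
  have hsv : (s : Matrix (Fin 3) (Fin 3) F) = (c : F) • 1 := by
    show Matrix.scalar (Fin 3) (c : F) = _
    rw [Matrix.scalar_apply, Matrix.smul_one_eq_diagonal]
  have hscomm : ∀ g : GL (Fin 3) F, Commute s g := fun g => Units.ext (by
    rw [Units.val_mul, Units.val_mul, hsv, smul_mul_assoc, one_mul, mul_smul_comm, mul_one])
  set g := s⁻¹ * x with hg
  have hgr : g ^ r = 1 := by
    rw [hg, (hscomm x).inv_left.mul_pow, inv_pow, inv_mul_eq_one]
    refine Units.ext ?_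
    rw [hz, Units.val_pow_eq_pow_val, hsv, smul_pow, one_pow, hcr]
  suffices H : ∃ (M : GL (Fin 3) F) (a b k l k' l' : ℕ), IsConj g M ∧ M ^ r = 1 ∧
      (M : Matrix (Fin 3) (Fin 3) F) * dM ω = ω ^ k • (yM ^ a * dM ω ^ b) * (M : Matrix (Fin 3) (Fin 3) F) ∧
      (M : Matrix (Fin 3) (Fin 3) F) * yM = ω ^ l • (yM ^ k' * dM ω ^ l') * (M : Matrix (Fin 3) (Fin 3) F) ∧
      ∀ σ : F →+* F, (∀ a : F, a ^ 9 = 1 → σ a * a = 1) → ((M : Matrix (Fin 3) (Fin 3) F).map σ)ᵀ * M = 1 by
    obtain ⟨M, a, b, k, l, k', l', hconj, hMr, hd, hy, hu⟩ := H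
    refine ⟨s * M, hf.mem_normalizer _ (a := a) (b := b) (k := k) (l := l) (k' := k') (l' := l') ?_ ?_, ?_, ?_, ?_⟩
    · rw [Units.val_mul, hsv, smul_mul_assoc, one_mul, smul_mul_assoc, hd, mul_smul_comm]
    · rw [Units.val_mul, hsv, smul_mul_assoc, one_mul, smul_mul_assoc, hy, mul_smul_comm]
    · obtain ⟨e, he⟩ := isConj_iff.1 hconj
      refine isConj_iff.2 ⟨e, ?_⟩
      rw [← he, show x = s * g by rw [hg, mul_inv_cancel_left]]
      rw [← mul_assoc e, ← (hscomm e).eq, mul_assoc s, mul_assoc s]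
    · have hs18 : s ^ (9 * 2) = 1 := Units.ext (by
        rw [Units.val_pow_eq_pow_val, hsv, smul_pow, one_pow, hc18, one_smul]; rfl)
      have hM18 : M ^ (9 * 2) = 1 := by
        rcases hr with rfl | rfl
        · rw [show 9 * 2 = 2 * 9 by norm_num, pow_mul, hMr, one_pow]
        · rw [show 9 * 2 = 3 * 6 by norm_num, pow_mul, hMr, one_pow]
      rw [(hscomm M).mul_pow, hs18, hM18, one_mul]
    · intro σ h
      rw [Units.val_mul, hsv, smul_mul_assoc, one_mul, Matrix.map_smul' σ (c : F) _ (map_mul σ), Matrix.transpose_smul,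
        smul_mul_smul_comm, hσc σ h, hu σ h, one_smul]
  rcases hr with rfl | rfl
  · haveI : NeZero 2 := ⟨by norm_num⟩
    have hp2 : ¬ p ∣ 2 := fun h => hp ((Nat.prime_dvd_prime_iff_eq Fact.out Nat.prime_two).1 h)
    have h2 : (2 : F) ≠ 0 := fun h => hp2 ((CharP.cast_eq_zero_iff F p 2).1 (by exact_mod_cast h))
    have hneg : IsPrimitiveRoot (-1 : F) 2 := IsPrimitiveRoot.neg_one p hp
    obtain ⟨D, d, hd, hD, hgD⟩ := exists_conj_diagonal (p := p) hp2 hneg g hgr
    let J : GL (Fin 3) F := ⟨jM, jM, jM_mul_self, jM_mul_self⟩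
    have hJ : J ^ 2 = 1 := Units.ext (by rw [pow_two, Units.val_mul]; exact jM_mul_self)
    have hcop : ∀ w : GL (Fin 3) F, w ^ 2 = 1 → (orderOf w).Coprime p := fun w hw =>
      (((Fact.out : p.Prime).coprime_iff_not_dvd).2 fun h' => hp2 (h'.trans (orderOf_dvd_of_pow_eq_one hw))).symm
    refine ⟨J, 0, 2, 0, 0, 2, 0, CfsgLib.Classical.SemisimpleClasses.isConj_of_charpoly_eq (p := p) g J (hcop g hgr)
      (hcop J hJ) ?_, hJ, ?_, ?_, fun σ _ => ?_⟩
    · have hprod : ∏ i, d i = 1 := by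
        obtain ⟨e, he⟩ := isConj_iff.1 hgD
        have h := congrArg (fun w : GL (Fin 3) F => Matrix.det (w : Matrix (Fin 3) (Fin 3) F)) he
        simp only [Units.val_mul, Matrix.det_mul, hg, hD, Matrix.det_diagonal] at h
        rw [← h, hx, mul_one, mul_comm (Matrix.det (e : Matrix (Fin 3) (Fin 3) F)), mul_assoc,
          ← Matrix.det_mul, ← Units.val_mul, mul_inv_cancel, Units.val_one, Matrix.det_one, mul_one]
        have hsinv : Matrix.det ((s⁻¹ : GL (Fin 3) F) : Matrix (Fin 3) (Fin 3) F) * ((c : F) ^ 3) = 1 := by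
          have : Matrix.det (s : Matrix (Fin 3) (Fin 3) F) = (c : F) ^ 3 := by
            rw [hsv, Matrix.det_smul, Matrix.det_one, Fintype.card_fin, mul_one]
          rw [← this, ← Matrix.det_mul, ← Units.val_mul, inv_mul_cancel, Units.val_one, Matrix.det_one]
        have hc3 : (c : F) ^ 3 = 1 := hc2 rfl
        rwa [hc3, mul_one] at hsinv
      have hns : ¬ (d 0 = d 1 ∧ d 1 = d 2) := by
        rintro ⟨e1, e2⟩
        refine hxs ((c : F) * d 0) ?_
        obtain ⟨e, he⟩ := isConj_iff.1 hgD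
        have hDs : (D : Matrix (Fin 3) (Fin 3) F) = d 0 • 1 := by
          rw [hD, Matrix.smul_one_eq_diagonal]
          refine congrArg _ (funext fun i => ?_)
          fin_cases i <;> simp [e1, e2]
        have hgs : (g : Matrix (Fin 3) (Fin 3) F) = d 0 • 1 := by
          rw [show g = e⁻¹ * D * e by rw [← he]; group, Units.val_mul, Units.val_mul, hDs, mul_smul_comm, mul_one,
            smul_mul_assoc, ← Units.val_mul, inv_mul_cancel, Units.val_one]
        rw [show x = s * g by rw [hg, mul_inv_cancel_left], Units.val_mul, hsv, hgs, smul_mul_smul_comm, one_mul]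
      obtain ⟨e, he⟩ := isConj_iff.1 hgD
      have hcg : (g : Matrix (Fin 3) (Fin 3) F).charpoly = (D : Matrix (Fin 3) (Fin 3) F).charpoly := by
        rw [← he, Units.val_mul (e * g), Units.val_mul e g, Matrix.coe_units_inv, Matrix.charpoly_units_conj]
      have hcj : (jM : Matrix (Fin 3) (Fin 3) F).charpoly =
          (Polynomial.X - Polynomial.C 1) * (Polynomial.X - Polynomial.C (-1)) * (Polynomial.X - Polynomial.C (-1)) := by
        rw [Matrix.charpoly, Matrix.det_fin_three]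
        simp [Matrix.charmatrix_apply, jM]
        ring
      show _ = (jM : Matrix (Fin 3) (Fin 3) F).charpoly
      rw [hcg, hD, Matrix.charpoly_diagonal, Fin.prod_univ_three, hcj]
      rw [Fin.prod_univ_three] at hprod
      have hsq : ∀ i, d i = 1 ∨ d i = -1 := fun i => mul_self_eq_one_iff.1 (by rw [← pow_two]; exact hd i)
      have h11 : (1 : F) ≠ -1 := fun h => h2 (by linear_combination h)
      rcases hsq 0 with h0 | h0 <;> rcases hsq 1 with h1 | h1 <;> rcases hsq 2 with h4 | h4 <;>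
        simp only [h0, h1, h4] at hprod hns ⊢ <;> first
          | exact hns.elim ⟨trivial, trivial⟩
          | (exfalso; apply h11; linear_combination -hprod)
          | ring1
    · ext i j
      fin_cases i <;> fin_cases j <;>
        simp [J, jM, dM, Matrix.mul_apply, Fin.sum_univ_three, pow_two, ← mul_assoc] <;>
        first | ring1 | linear_combination hω3 | linear_combination -hω3 | linear_combination -ω * hω3 | linear_combination ω * hω3
    · ext i j
      fin_cases i <;> fin_cases j <;>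
        simp [J, jM, yM, Matrix.mul_apply, Fin.sum_univ_three, pow_two]
    · ext i j
      fin_cases i <;> fin_cases j <;> simp [J, jM, Matrix.mul_apply, Fin.sum_univ_three]
  · haveI : NeZero 3 := ⟨by norm_num⟩
    have hp3' : ¬ p ∣ 3 := fun h => hp3 ((Nat.prime_dvd_prime_iff_eq Fact.out Nat.prime_three).1 h)
    obtain ⟨D, d, hd, hD, hgD⟩ := exists_conj_diagonal (p := p) hp3' hf.prim g hgr
    obtain ⟨e, -, he⟩ := hf.prim.eq_pow_of_pow_eq_one (show (d 1 * d 0 ^ 2) ^ 3 = 1 by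
      rw [mul_pow, ← pow_mul, mul_comm 2 3, pow_mul, hd 1, hd 0, one_pow, one_mul])
    obtain ⟨f, -, hf'⟩ := hf.prim.eq_pow_of_pow_eq_one (show (d 2 * d 1 ^ 2 * (d 1 * d 0 ^ 2) ^ 2) ^ 3 = 1 by
      rw [mul_pow, mul_pow, ← pow_mul, ← pow_mul, mul_comm 2 3, pow_mul, pow_mul, mul_pow, hd 2, hd 1, ← pow_mul,
        mul_comm 2 3, pow_mul, hd 0]
      simp)
    have hD3 : D ^ 3 = 1 := by
      refine Units.ext ?_
      rw [Units.val_pow_eq_pow_val, hD, Matrix.diagonal_pow, Units.val_one, ← Matrix.diagonal_one]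
      exact congrArg _ (funext hd)
    refine ⟨D, 0, 1, 0, e, 1, f, hgD, hD3, ?_, ?_, fun σ h => ?_⟩
    · rw [pow_zero, one_smul, pow_one, pow_zero, one_mul, hD, dM]
      simp [Matrix.diagonal_mul_diagonal, mul_comm]
    · rw [hD, pow_one, dM, Matrix.diagonal_pow, he]
      have hz0 := hd 0
      have hz1 := hd 1
      have hz2 := hd 2
      ext i j
      rw [Matrix.diagonal_mul, smul_mul_assoc, Matrix.smul_apply, Matrix.mul_assoc, Matrix.diagonal_mul_diagonal,
        Matrix.mul_diagonal, smul_eq_mul, Pi.pow_apply, ← pow_mul, mul_comm (j : ℕ), pow_mul, hf']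
      fin_cases i <;> fin_cases j <;> simp [yM] <;> grind
    · rw [hD, Matrix.diagonal_map (map_zero σ), Matrix.diagonal_transpose, Matrix.diagonal_mul_diagonal,
        ← Matrix.diagonal_one]
      refine congrArg _ (funext fun i => ?_)
      obtain ⟨k, -, hk⟩ := hf.prim.eq_pow_of_pow_eq_one (hd i)
      rw [← hk]
      exact hσω σ h k

/-- An element of prime order at least five of the normaliser is scalar. -/
theorem Frame.scalar_of_order [Finite F] (hf : Frame ω R P) (hR : Nat.card R = 27) {r : ℕ} (hr : r.Prime)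
    (hr2 : r ≠ 2) (hr3 : r ≠ 3) {n : GL (Fin 3) F} (hn : n ∈ Cfsg.Geo.subgroupNormalizer R) (hnr : n ^ r = 1) :
    ∃ z : F, (n : Matrix (Fin 3) (Fin 3) F) = z • (1 : Matrix (Fin 3) (Fin 3) F) := by
  classical
  haveI := Fact.mk hr
  haveI : Fintype R := Fintype.ofFinite _
  let σ : Equiv.Perm R :=
    { toFun := fun g => ⟨n * g * n⁻¹, (Subgroup.mem_normalizer_iff.1 hn g).1 g.2⟩
      invFun := fun g => ⟨n⁻¹ * g * n, (Subgroup.mem_normalizer_iff.1 hn _).2 (by
        rw [show n * (n⁻¹ * (g : GL (Fin 3) F) * n) * n⁻¹ = g by group]; exact g.2)⟩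
      left_inv := fun g => Subtype.ext (by simp only; group)
      right_inv := fun g => Subtype.ext (by simp only; group) }
  have hpow : ∀ (k : ℕ) (g : R), ((σ ^ k) g : GL (Fin 3) F) = n ^ k * g * (n ^ k)⁻¹ := fun k g => by
    induction k with
    | zero => simp
    | succ k ih =>
      rw [pow_succ', Equiv.Perm.mul_apply]
      show n * ((σ ^ k) g : GL (Fin 3) F) * n⁻¹ = _
      rw [ih, pow_succ']
      group
  have hσ : σ ^ r ^ 1 = 1 := Equiv.ext fun g => Subtype.ext (by rw [pow_one, hpow, hnr]; simp)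
  let C : Subgroup (GL (Fin 3) F) := R ⊓ Subgroup.centralizer {n}
  have hCR : C ≤ R := inf_le_left
  have hcard : (σ.supportᶜ).card = Nat.card C := by
    rw [← Fintype.card_coe, ← Nat.card_eq_fintype_card]
    refine Nat.card_congr
      { toFun := fun g => ⟨g.1.1, g.1.2, Subgroup.mem_centralizer_singleton_iff.2 ?_⟩
        invFun := fun g => ⟨⟨g.1, g.2.1⟩, ?_⟩
        left_inv := fun g => rfl
        right_inv := fun g => rfl }
    · have h := g.2
      rw [Finset.mem_compl, Equiv.Perm.mem_support, not_not] at h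
      have h' : n * (g.1 : GL (Fin 3) F) * n⁻¹ = g.1 := congrArg Subtype.val h
      exact (mul_inv_eq_iff_eq_mul.1 h').symm
    · rw [Finset.mem_compl, Equiv.Perm.mem_support, not_not]
      refine Subtype.ext ?_
      show n * g.1 * n⁻¹ = g.1
      rw [mul_inv_eq_iff_eq_mul]
      exact (Subgroup.mem_centralizer_singleton_iff.1 g.2.2).symm
  have hmod := Equiv.Perm.card_compl_support_modEq hσ
  rw [hcard, ← Nat.card_eq_fintype_card, hR] at hmod
  obtain ⟨z₁, hz₁, hz₁v⟩ := hf.scal 1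
  have hz₁C : z₁ ∈ C := ⟨hz₁, Subgroup.mem_centralizer_singleton_iff.2 (Units.ext (by
    rw [Units.val_mul, Units.val_mul, hz₁v, smul_mul_assoc, one_mul, mul_smul_comm, mul_one]))⟩
  have hC1 : Nat.card C ≠ 1 := fun h => by
    haveI : Subsingleton C := (Nat.card_eq_one_iff_unique.1 h).1
    have h1 := congrArg (fun w : C => ((w : GL (Fin 3) F) : Matrix (Fin 3) (Fin 3) F) 0 0)
      (Subsingleton.elim (⟨z₁, hz₁C⟩ : C) 1)
    simp [hz₁v] at h1
    exact hf.prim.ne_one (by norm_num) h1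
  have hdvd : Nat.card C ∣ 3 ^ 3 := by
    have h := Subgroup.card_dvd_of_le hCR
    rwa [hR] at h
  obtain ⟨k, hk, hk'⟩ := (Nat.dvd_prime_pow Nat.prime_three).1 hdvd
  have hk3 : k = 3 := by
    by_contra hne
    rw [hk', Nat.modEq_iff_dvd' (by interval_cases k <;> norm_num)] at hmod
    have hr5 : 5 ≤ r := by
      rcases Nat.lt_or_ge r 5 with h | h
      · have := hr.two_le
        interval_cases r <;> first | omega | exact absurd hr (by norm_num)
      · exact h
    interval_cases k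
    · exact hC1 (by simpa using hk')
    · obtain ⟨l, hl⟩ := hmod
      rcases hr.dvd_mul.1 (show r ∣ 2 ^ 3 * 3 from ⟨l, by omega⟩) with h | h
      · exact hr2 ((Nat.prime_dvd_prime_iff_eq hr Nat.prime_two).1 (hr.dvd_of_dvd_pow h))
      · exact hr3 ((Nat.prime_dvd_prime_iff_eq hr Nat.prime_three).1 h)
    · obtain ⟨l, hl⟩ := hmod
      rcases hr.dvd_mul.1 (show r ∣ 2 * 3 ^ 2 from ⟨l, by omega⟩) with h | h
      · exact hr2 ((Nat.prime_dvd_prime_iff_eq hr Nat.prime_two).1 h)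
      · exact hr3 ((Nat.prime_dvd_prime_iff_eq hr Nat.prime_three).1 (hr.dvd_of_dvd_pow h))
    · exact hne rfl
  have hall : R ≤ Subgroup.centralizer {n} := by
    have heq : C = R := Subgroup.eq_of_le_of_card_ge hCR (by rw [hk', hk3, hR]; norm_num)
    exact heq ▸ inf_le_right
  obtain ⟨x, hx, hxP⟩ := hf.clock
  obtain ⟨y, hy, hyP⟩ := hf.shift
  set N := P⁻¹ * n * P with hN
  have hc : ∀ (g : GL (Fin 3) F) (A : Matrix (Fin 3) (Fin 3) F), g ∈ R →
      (g : Matrix (Fin 3) (Fin 3) F) * (P : Matrix (Fin 3) (Fin 3) F) = (P : Matrix (Fin 3) (Fin 3) F) * A →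
      (N : Matrix (Fin 3) (Fin 3) F) * A = A * N := fun g A hg h => by
    have hA : A = ((P⁻¹ * g * P : GL (Fin 3) F) : Matrix (Fin 3) (Fin 3) F) := by
      rw [Units.val_mul, Units.val_mul, mul_assoc, h, ← mul_assoc, ← Units.val_mul, inv_mul_cancel, Units.val_one,
        one_mul]
    have hcomm : n * g = g * n := (Subgroup.mem_centralizer_singleton_iff.1 (hall hg)).symm
    rw [hA, ← Units.val_mul, ← Units.val_mul]
    refine congrArg _ ?_
    rw [hN]
    calc P⁻¹ * n * P * (P⁻¹ * g * P) = P⁻¹ * (n * g) * P := by group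
      _ = P⁻¹ * (g * n) * P := by rw [hcomm]
      _ = P⁻¹ * g * P * (P⁻¹ * n * P) := by group
  have hs := scalar_of_comm hf.prim (hc x _ hx hxP) (hc y _ hy hyP)
  refine ⟨(N : Matrix (Fin 3) (Fin 3) F) 0 0, ?_⟩
  rw [show n = P * N * P⁻¹ by rw [hN]; group, Units.val_mul, Units.val_mul]
  conv_lhs => rw [hs]
  rw [mul_smul_comm, mul_one, smul_mul_assoc, ← Units.val_mul, mul_inv_cancel, Units.val_one]

/-- The group lies in the special linear group. -/
theorem Frame.le_sl (hf : Frame ω R P) : R ≤ Cfsg.Geo.specialLinear (Fin 3) F := by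
  obtain ⟨x, hx, hxP⟩ := hf.clock
  obtain ⟨y, hy, hyP⟩ := hf.shift
  have key : ∀ (g : GL (Fin 3) F) (A : Matrix (Fin 3) (Fin 3) F),
      (g : Matrix (Fin 3) (Fin 3) F) * (P : Matrix (Fin 3) (Fin 3) F) = (P : Matrix (Fin 3) (Fin 3) F) * A →
      A.det = 1 → g ∈ Cfsg.Geo.specialLinear (Fin 3) F := fun g A h hA => MonoidHom.mem_ker.2 (Units.ext (by
    have h' := congrArg Matrix.det h
    rw [Matrix.det_mul, Matrix.det_mul, hA, mul_one] at h'
    exact mul_right_cancel₀ (Matrix.GeneralLinearGroup.det P).ne_zero (h'.trans (one_mul _).symm)))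
  refine hf.gen _ x y hx hy hxP hyP (key x _ hxP ?_) (key y _ hyP ?_)
  · rw [dM, Matrix.det_diagonal, Fin.prod_univ_three]
    show ω ^ 0 * ω ^ 1 * ω ^ 2 = 1
    rw [← hf.prim.pow_eq_one]; ring
  · simp [yM, Matrix.det_fin_three]

/-- A primitive root of unity. -/
theorem exists_prim [Fintype F] {m : ℕ} (hm : m ∣ Fintype.card F - 1) : ∃ ζ : F, IsPrimitiveRoot ζ m := by
  obtain ⟨g, hg⟩ := IsCyclic.exists_ofOrder_eq_natCard (α := Fˣ)
  rw [Nat.card_units, Nat.card_eq_fintype_card] at hg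
  have h0 : orderOf g ≠ 0 := (orderOf_pos g).ne'
  refine ⟨((g ^ (orderOf g / m) : Fˣ) : F), IsPrimitiveRoot.iff_orderOf.2 ?_⟩
  rw [orderOf_units]
  exact orderOf_pow_orderOf_div h0 (hg ▸ hm)

/-- Conjugacy of semisimple elements by a matrix of determinant one. -/
theorem exists_sl_conj [Fintype F] {p m : ℕ} [Fact p.Prime] [CharP F p] [NeZero m] (hpm : ¬ p ∣ m)
    (hm : m ∣ Fintype.card F - 1) {x n : GL (Fin 3) F} (hxm : x ^ m = 1) (hc : IsConj x n) :
    ∃ g ∈ Cfsg.Geo.specialLinear (Fin 3) F, g⁻¹ * x * g = n := by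
  obtain ⟨ζ, hζ⟩ := exists_prim hm
  obtain ⟨D, d, -, hD, hxD⟩ := exists_conj_diagonal hpm hζ x hxm
  obtain ⟨e, he⟩ := isConj_iff.1 hc
  obtain ⟨f, hf'⟩ := isConj_iff.1 hxD
  obtain ⟨δ, hδ⟩ : ∃ δ : Fˣ, δ = (Matrix.GeneralLinearGroup.det e)⁻¹ := ⟨_, rfl⟩
  let T : GL (Fin 3) F :=
    ⟨Matrix.diagonal ![(δ : F), 1, 1], Matrix.diagonal ![((δ⁻¹ : Fˣ) : F), 1, 1],
      by rw [Matrix.diagonal_mul_diagonal, ← Matrix.diagonal_one]; congr 1; funext i; fin_cases i <;> simp,
      by rw [Matrix.diagonal_mul_diagonal, ← Matrix.diagonal_one]; congr 1; funext i; fin_cases i <;> simp⟩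
  have hTD : T * D = D * T := Units.ext (by
    rw [Units.val_mul, Units.val_mul, hD]
    show Matrix.diagonal ![(δ : F), 1, 1] * _ = _ * Matrix.diagonal ![(δ : F), 1, 1]
    rw [Matrix.diagonal_mul_diagonal, Matrix.diagonal_mul_diagonal]
    simp_rw [mul_comm])
  have hdT : Matrix.GeneralLinearGroup.det T = δ := Units.ext (by
    show (Matrix.diagonal ![(δ : F), 1, 1]).det = _
    simp [Matrix.det_diagonal, Fin.prod_univ_three])
  refine ⟨(e * f⁻¹ * T * f)⁻¹, inv_mem (MonoidHom.mem_ker.2 ?_), ?_⟩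
  · rw [map_mul, map_mul, map_mul, map_inv, hdT, hδ]
    simp [mul_comm, mul_left_comm]
  · rw [inv_inv]
    calc e * f⁻¹ * T * f * x * (e * f⁻¹ * T * f)⁻¹ = e * f⁻¹ * (T * (f * x * f⁻¹)) * T⁻¹ * f * e⁻¹ := by group
      _ = e * f⁻¹ * (f * x * f⁻¹ * T) * T⁻¹ * f * e⁻¹ := by rw [hf', hTD]
      _ = e * x * e⁻¹ := by group
      _ = n := he

end CfsgLib.Derange.Heis
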