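import Cfsg.Agent.Lib.Derange.InvolutionPlanes

/-!
An involutive isometry of an odd-dimensional space has invariant elliptic subspaces of every admissible dimension.
-/

set_option autoImplicit false

namespace CfsgLib.Derange

open Module CfsgLib.Orth

variable {F : Type*} [Field F] [Fintype F] {ι : Type} [Fintype ι] [DecidableEq ι] {Q : QuadraticForm F (ι → F)}

local notation "B" => QuadraticMap.polar (DFunLike.coe Q)

/-- Two eigenspaces of total dimension at least three contain an anisotropic invariant plane. -/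
theorem exists_anisotropic_eigen (hB : Nondeg Q) (h2 : (2 : F) ≠ 0) (t : Grp Q) {E E' : Submodule F (ι → F)}
    (hE : NondegOn Q E) (hE' : NondegOn Q E') (hperp : ∀ u ∈ E, ∀ v ∈ E', B u v = 0)
    {s₁ s₂ : F} (hs₁ : ∀ u ∈ E, ap t u = s₁ • u) (hs₂ : ∀ u ∈ E', ap t u = s₂ • u)
    (hd : 3 ≤ finrank F E + finrank F E') (hle : finrank F E' ≤ finrank F E) :
    ∃ P : Submodule F (ι → F), P ≤ E ⊔ E' ∧ finrank F P = 2 ∧ (∀ z ∈ P, Q z = 0 → z = 0) ∧
      ∀ z ∈ P, ap t z ∈ P := by
  obtain ⟨α, hα⟩ := FiniteField.exists_nonsquare (F := F) (fun h => by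
    have := ringChar.Nat.cast_ringChar (R := F)
    rw [h] at this
    exact h2 (by exact_mod_cast this))
  have haniso : ∀ X : Submodule F (ι → F), NondegOn Q X → 1 ≤ finrank F X → ∃ v ∈ X, Q v ≠ 0 :=
    fun X hX hXd => by
      by_contra hc
      push Not at hc
      obtain ⟨x, hx, hx0⟩ := X.exists_mem_ne_zero_of_ne_bot fun e => by rw [e, finrank_bot] at hXd; omega
      refine hx0 (hX x hx fun y hy => ?_)
      have := hc _ (X.add_mem hx hy)
      rw [q_add, hc x hx, hc y hy, zero_add, zero_add] at this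
      exact this
  obtain ⟨u, v, s, hu, hv, hqv, hqu, huv, hsu, hsv⟩ : ∃ u v : ι → F, ∃ s : F,
      u ∈ E ∧ v ∈ E ⊔ E' ∧ Q v ≠ 0 ∧ Q u = -α * Q v ∧ B u v = 0 ∧ ap t u = s₁ • u ∧ ap t v = s • v := by
    by_cases h0 : finrank F E' = 0
    · obtain ⟨v, hv, hqv⟩ := haniso E hE (by omega)
      have hU : ∀ x ∈ E ⊓ orth Q (Submodule.span F {v}),
          (∀ y ∈ E ⊓ orth Q (Submodule.span F {v}), B x y = 0) → x = 0 := fun x hx h => by
        refine hE x hx.1 fun y hy => ?_
        have hvx : B v x = 0 := (mem_orth.1 hx.2) v (Submodule.mem_span_singleton_self v)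
        have h' := h (y - (B v y / B v v) • v) ⟨E.sub_mem hy (E.smul_mem _ hv), mem_orth_span.2 fun w hw => by
          rw [Set.mem_singleton_iff] at hw
          subst hw
          rw [b_sub_right, b_smul_right, div_mul_cancel₀ _ (by rw [b_self]; exact mul_ne_zero h2 hqv), sub_self]⟩
        rwa [b_sub_right, b_smul_right, b_comm x v, hvx, mul_zero, sub_zero] at h'
      have hdim : 2 ≤ finrank F ↥(E ⊓ orth Q (Submodule.span F {v})) := by
        have h1 := Submodule.finrank_sup_add_finrank_inf_eq E (orth Q (Submodule.span F {v}))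
        have h3 := finrank_orth hB (Submodule.span F {v})
        have h4 := Submodule.finrank_le (E ⊔ orth Q (Submodule.span F {v}))
        rw [finrank_span_singleton (show v ≠ 0 from fun h => hqv (by rw [h, QuadraticMap.map_zero]))] at h3
        omega
      obtain ⟨u, hu, hqu⟩ := exists_value (Q := Q) hU h2 hdim (-α * Q v)
      exact ⟨u, v, s₁, hu.1, Submodule.mem_sup_left hv, hqv, hqu,
        by rw [b_comm]; exact (mem_orth.1 hu.2) v (Submodule.mem_span_singleton_self v), hs₁ u hu.1, hs₁ v hv⟩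
    · obtain ⟨v, hv, hqv⟩ := haniso E' hE' (by omega)
      obtain ⟨u, hu, hqu⟩ := exists_value (Q := Q) (fun x hx h => hE x hx h) h2 (by omega) (-α * Q v)
      exact ⟨u, v, s₂, hu, Submodule.mem_sup_right hv, hqv, hqu, hperp u hu v hv, hs₁ u hu, hs₂ v hv⟩
  have hQ : ∀ a b : F, Q (a • u + b • v) = (b * b - α * (a * a)) * Q v := fun a b => by
    rw [q_add, q_smul, q_smul, b_smul_left, b_smul_right, huv, hqu]; ring
  have hzero : ∀ a b : F, Q (a • u + b • v) = 0 → a = 0 ∧ b = 0 := fun a b h => by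
    rw [hQ, mul_eq_zero, or_iff_left hqv, sub_eq_zero] at h
    by_cases ha : a = 0
    · subst ha; exact ⟨rfl, by simpa using h⟩
    · exact absurd ⟨b / a, by field_simp; linear_combination -h⟩ hα
  refine ⟨Submodule.span F {u, v}, Submodule.span_le.2 (by
    rintro x (rfl | rfl)
    exacts [Submodule.mem_sup_left hu, hv]), ?_, fun z hz h => ?_, fun z hz => ?_⟩
  · have hli : LinearIndependent F ![u, v] := LinearIndependent.pair_iff.2 fun a b h =>
      hzero a b (by rw [h, QuadraticMap.map_zero])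
    rw [show ({u, v} : Set (ι → F)) = Set.range ![u, v] by simp [Matrix.range_cons, Set.pair_comm],
      finrank_span_eq_card hli, Fintype.card_fin]
  · obtain ⟨a, b, rfl⟩ := Submodule.mem_span_pair.1 hz
    obtain ⟨rfl, rfl⟩ := hzero a b h
    simp
  · obtain ⟨a, b, rfl⟩ := Submodule.mem_span_pair.1 hz
    rw [ap_add, ap_smul, ap_smul, hsu, hsv]
    exact Submodule.mem_span_pair.2 ⟨a * s₁, b * s, by rw [mul_smul, mul_smul]⟩

/-- Adjoining an anisotropic plane to a hyperbolic space leaves no half-dimensional singular subspace. -/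
theorem not_plus_of_anisotropic (hB : Nondeg Q) {W P U : Submodule F (ι → F)} (hW : NondegOn Q W)
    (hUW : U ≤ W) (hUs : ∀ x ∈ U, Q x = 0) (hUd : 2 * finrank F U = finrank F W) (hP : P ≤ orth Q W)
    (haniso : ∀ z ∈ P, Q z = 0 → z = 0) {S : Submodule F (ι → F)} (hS : S ≤ W ⊔ P) (hSs : ∀ x ∈ S, Q x = 0) :
    finrank F S ≤ finrank F U := by
  have hWX : finrank F ↥(W ⊓ orth Q U) = finrank F U := by
    have h1 := Submodule.finrank_sup_add_finrank_inf_eq W (orth Q U)
    have h3 : W ⊔ orth Q U = ⊤ := top_le_iff.1 (sup_orth_eq_top hB hW ▸ sup_le_sup_left (orth_le hUW) W)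
    have h4 := finrank_orth hB U
    rw [h3, finrank_top] at h1
    omega
  have heq : U = W ⊓ orth Q U :=
    Submodule.eq_of_le_of_finrank_le (le_inf hUW (le_orth_of_singular hUs)) hWX.le
  have hmeet : S ⊓ orth Q U ≤ S ⊓ U := fun x hx => by
    refine ⟨hx.1, ?_⟩
    obtain ⟨w, hw, z, hz, rfl⟩ := Submodule.mem_sup.1 (hS hx.1)
    have hzU : z ∈ orth Q U := orth_le hUW (hP hz)
    have hwU : w ∈ U := heq ▸ ⟨hw, by simpa using (orth Q U).sub_mem hx.2 hzU⟩
    have h0 := hSs _ hx.1
    rw [q_add, hUs w hwU, mem_orth.1 (hP hz) w hw, zero_add, add_zero] at h0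
    rw [haniso z hz h0, add_zero]
    exact hwU
  have hsup : S ⊔ orth Q U ≤ orth Q (S ⊓ U) :=
    sup_le ((le_orth_of_singular hSs).trans (orth_le inf_le_left)) (orth_le inf_le_right)
  have h1 := Submodule.finrank_sup_add_finrank_inf_eq S (orth Q U)
  have h3 := Submodule.finrank_mono hsup
  have h4 := Submodule.finrank_mono hmeet
  have h5 := finrank_orth hB (S ⊓ U)
  have h6 := finrank_orth hB U
  omega

/-- An involution has invariant elliptic subspaces. -/
theorem exists_invariant_minus (hB : Nondeg Q) (h2 : (2 : F) ≠ 0) (t : Grp Q) (ht : t * t = 1) (a : ℕ)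
    (ha : 2 * (a + 1) + 1 ≤ finrank F (ι → F)) :
    ∃ W : Submodule F (ι → F), NondegOn Q W ∧ finrank F W = 2 * (a + 1) ∧ (∀ w ∈ W, ap t w ∈ W) ∧
      ¬ Cfsg.Geo.IsPlusTypeOn ⇑Q W := by
  obtain ⟨W, hW, hWd, hWt, U, hUW, hUs, hUd⟩ := exists_invariant_plus hB h2 t ht a fun _ => by omega
  obtain ⟨E, E', hE, hE', hperp, hle, h3, hEs, hE's⟩ :=
    exists_eigen h2 t ht (nondegOn_orth hB hW) (invariant_orth t hWt)
  have hdim : 3 ≤ finrank F E + finrank F E' := by
    have h1 := Submodule.finrank_add_le_finrank_add_finrank E E'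
    have h4 := Submodule.finrank_mono h3
    have h5 := finrank_orth hB W
    omega
  obtain ⟨P, hPM, hPd, haniso, hPt⟩ : ∃ P : Submodule F (ι → F), P ≤ orth Q W ∧ finrank F P = 2 ∧
      (∀ z ∈ P, Q z = 0 → z = 0) ∧ ∀ z ∈ P, ap t z ∈ P := by
    rcases le_total (finrank F E') (finrank F E) with h | h
    · obtain ⟨P, hP, rest⟩ := exists_anisotropic_eigen hB h2 t hE hE' hperp hEs hE's hdim h
      exact ⟨P, hP.trans hle, rest⟩
    · obtain ⟨P, hP, rest⟩ := exists_anisotropic_eigen hB h2 t hE' hE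
        (fun u hu v hv => by rw [b_comm]; exact hperp v hv u hu) hE's hEs (by omega) h
      exact ⟨P, hP.trans (sup_comm E' E ▸ hle), rest⟩
  have hsum : finrank F ↥(W ⊔ P) = 2 * (a + 1) := by
    have := Submodule.finrank_sup_add_finrank_inf_eq W P
    rw [show W ⊓ P = ⊥ from (Submodule.eq_bot_iff _).2 fun x hx => nondeg_inf hW hx.1 (hPM hx.2),
      finrank_bot, add_zero, hWd, hPd] at this
    omega
  refine ⟨W ⊔ P, fun x hx h => ?_, hsum, fun x hx => ?_, ?_⟩
  · obtain ⟨w, hw, z, hz, rfl⟩ := Submodule.mem_sup.1 hx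
    have hw0 : w = 0 := hW w hw fun y hy => by
      have := h y (Submodule.mem_sup_left hy)
      rwa [b_add_left, b_comm z y, mem_orth.1 (hPM hz) y hy, add_zero] at this
    subst hw0
    rw [zero_add] at h ⊢
    refine haniso z hz ?_
    have h' := h z (Submodule.mem_sup_right hz)
    rw [b_self] at h'
    exact (mul_eq_zero.1 h').resolve_left h2
  · obtain ⟨w, hw, z, hz, rfl⟩ := Submodule.mem_sup.1 hx
    rw [ap_add]
    exact add_mem (Submodule.mem_sup_left (hWt w hw)) (Submodule.mem_sup_right (hPt z hz))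
  · rintro ⟨S, hS, hSs, hSd⟩
    have hle' := not_plus_of_anisotropic hB hW hUW hUs hUd hPM haniso hS hSs
    rw [hsum] at hSd
    omega

end CfsgLib.Derange
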