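import Cfsg.Agent.Lib.Derange.OrthExist

/-!
Which cyclotomic factors divide a number of subspaces.
-/

set_option autoImplicit false

namespace CfsgLib.Derange

open Finset

theorem unitDim_dvd_of_pow {q r i j : ℕ} (hi : i = orderOf (q : ZMod r))
    (h : r ∣ q ^ (2 * j) - 1) (hq : 0 < q) : unitDim i ∣ 2 * j := by
  have h1 : (q : ZMod r) ^ (2 * j) = 1 := by
    have h2 : ((q ^ (2 * j) - 1 : ℕ) : ZMod r) = 0 := (ZMod.natCast_eq_zero_iff _ _).mpr h
    rw [Nat.cast_sub (Nat.one_le_pow _ _ hq), Nat.cast_pow, Nat.cast_one, sub_eq_zero] at h2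
    exact h2
  have h3 : i ∣ 2 * j := hi ▸ orderOf_dvd_of_pow_eq_one h1
  unfold unitDim
  split_ifs with he
  · exact h3
  · refine Nat.mul_dvd_mul_left 2 ((Nat.Coprime.dvd_of_dvd_mul_left ?_ h3))
    exact Nat.coprime_two_right.2 (Nat.not_even_iff_odd.1 he)

/-- A prime dividing a quotient of two orders of odd orthogonal or symplectic groups. -/
theorem exists_window {q r i : ℕ} (hr : r.Prime) (hrq : ¬ r ∣ q) (hq : 2 ≤ q) (hi : i = orderOf (q : ZMod r))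
    {N k d a b c : ℕ} (hc : 0 < c) (hkd : k ≤ d) (hN : r ∣ N)
    (h : N * (c * q ^ a * ∏ j ∈ range k, (q ^ (2 * (j + 1)) - 1)) ∣
      c * q ^ b * ∏ j ∈ range d, (q ^ (2 * (j + 1)) - 1)) :
    ∃ j, k < j ∧ j ≤ d ∧ unitDim i ∣ 2 * j := by
  set Pk := ∏ j ∈ range k, (q ^ (2 * (j + 1)) - 1)
  have hsplit := Finset.prod_range_mul_prod_Ico (fun j => q ^ (2 * (j + 1)) - 1) hkd
  rw [← hsplit] at h
  have hpos : 0 < c * Pk := by
    refine Nat.mul_pos hc (Finset.prod_pos fun j _ => Nat.sub_pos_of_lt ?_)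
    exact Nat.one_lt_pow (by omega) (by omega)
  have h' : (c * Pk) * (N * q ^ a) ∣ (c * Pk) * (q ^ b * ∏ j ∈ Ico k d, (q ^ (2 * (j + 1)) - 1)) := by
    convert h using 1 <;> ring
  have hr1 : r ∣ q ^ b * ∏ j ∈ Ico k d, (q ^ (2 * (j + 1)) - 1) :=
    (hN.trans (dvd_mul_right N _)).trans (Nat.dvd_of_mul_dvd_mul_left hpos h')
  rcases hr.dvd_mul.mp hr1 with h2 | h2
  · exact absurd (hr.dvd_of_dvd_pow h2) hrq
  · obtain ⟨j, hj, hdvd⟩ := (hr.prime.dvd_finset_prod_iff _).mp h2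
    rw [Finset.mem_Ico] at hj
    exact ⟨j + 1, by omega, by omega, unitDim_dvd_of_pow hi hdvd (by omega)⟩

theorem not_dvd_card {F : Type*} [Field F] [Fintype F] {p q r : ℕ} [Fact p.Prime] [CharP F p]
    (hq : Fintype.card F = q) (hr : r.Prime) (hrp : r ≠ p) : ¬ r ∣ q ∧ 2 ≤ q := by
  obtain ⟨n, -, hn⟩ := FiniteField.card F p
  refine ⟨fun h => hrp ?_, hq ▸ Fintype.one_lt_card⟩
  rw [← hq, hn] at h
  exact (Nat.prime_dvd_prime_iff_eq hr Fact.out).mp (hr.dvd_of_dvd_pow h)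

end CfsgLib.Derange
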