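import Cfsg.Agent.Lib.Derange.Cases
import Cfsg.Agent.Lib.Derange.Twist
import Cfsg.Agent.Lib.Derange.Window
import Cfsg.Agent.Lib.Classical.DecompMax
import Cfsg.Prelude.Def_GeometricClasses

/-!
Direct sum decompositions into subspaces of equal dimension, permuted by an endomorphism of prime order.
-/

set_option autoImplicit false
set_option linter.style.haveILetI false
set_option linter.unusedSectionVars false

namespace CfsgLib.Derange.LinDec

open Module Polynomial
open CfsgLib.Classical.SemisimpleClasses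

universe u

variable {F : Type u} [Field F] {n a t r : ℕ}

local notation "V" => (Fin n → F)

/-- `T` permutes the members of a decomposition into `t` subspaces of dimension `a`. -/
def Stabilizes (T : End F V) (a t : ℕ) : Prop :=
  ∃ D : Fin t → Submodule F V, Cfsg.Geo.IsMDecomposition a D ∧ ∃ σ : Equiv.Perm (Fin t), ∀ j, (D j).map T = D (σ j)

theorem Stabilizes.smul {T : End F V} (h : Stabilizes T a t) {b : F} (hb : b ≠ 0) : Stabilizes (b • T) a t := by
  obtain ⟨D, hD, σ, hσ⟩ := h
  exact ⟨D, hD, σ, fun j => by rw [Submodule.map_smul _ _ _ hb, hσ]⟩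

/-- Spanning subspaces of the right dimensions form a decomposition. -/
theorem mk_decomp (ha : 0 < a) (ht : 2 ≤ t) (hn : n = a * t) {D : Fin t → Submodule F V}
    (hd : ∀ j, finrank F (D j) = a) (hsup : iSup D = ⊤) : Cfsg.Geo.IsMDecomposition a D := by
  classical
  refine ⟨ht, ha, hd, ?_, hsup⟩
  have hsurj : Function.Surjective (DirectSum.coeLinearMap D) := by
    rw [← LinearMap.range_eq_top, DirectSum.range_coeLinearMap, hsup]
  have hfin : finrank F (DirectSum (Fin t) fun j => D j) = finrank F V := by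
    rw [Module.finrank_directSum, Finset.sum_congr rfl fun j _ => hd j, Finset.sum_const, Finset.card_univ,
      Fintype.card_fin, Module.finrank_fin_fun, hn, smul_eq_mul, mul_comm]
  have hI : DirectSum.IsInternal D :=
    show Function.Bijective (DirectSum.coeLinearMap D) from
      ⟨by
        let e := LinearEquiv.ofFinrankEq _ _ hfin
        have h : Function.Injective ((DirectSum.coeLinearMap D).comp e.symm.toLinearMap) :=
          LinearMap.injective_iff_surjective.2 (hsurj.comp e.symm.surjective)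
        intro x y hxy
        obtain ⟨x, rfl⟩ := e.symm.surjective x
        obtain ⟨y, rfl⟩ := e.symm.surjective y
        exact congrArg e.symm (h hxy), hsurj⟩
  exact hI.submodule_iSupIndep

/-- A monomial basis compatible with a block map gives a decomposition. -/
theorem stabilizes_of_basis {ι : Type*} [Fintype ι] [DecidableEq ι] (ha : 0 < a) (ht : 2 ≤ t) (hn : n = a * t)
    (b : Basis ι F V) (β : ι → Fin t) (hβ : ∀ j, (Finset.univ.filter fun x => β x = j).card = a)
    (π : Equiv.Perm ι) (σ : Equiv.Perm (Fin t)) (T : End F V)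
    (hT : ∀ x, ∃ c : F, c ≠ 0 ∧ T (b x) = c • b (π x)) (hπ : ∀ x, β (π x) = σ (β x)) : Stabilizes T a t := by
  classical
  let D : Fin t → Submodule F V := fun j => Submodule.span F (b '' {x | β x = j})
  have hdim : ∀ j, finrank F (D j) = a := by
    intro j
    show finrank F (Submodule.span F (b '' {x | β x = j})) = a
    rw [Set.image_eq_range]
    refine (finrank_span_eq_card (b.linearIndependent.comp _ Subtype.val_injective)).trans ?_
    rw [← hβ j, ← Fintype.card_subtype]
    exact Fintype.card_congr (Equiv.refl _)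
  refine ⟨D, mk_decomp ha ht hn hdim (eq_top_iff.2 (b.span_eq.ge.trans ?_)), σ, fun j => ?_⟩
  · rw [Submodule.span_le]
    rintro _ ⟨x, rfl⟩
    exact le_iSup D (β x) (Submodule.subset_span ⟨x, rfl, rfl⟩)
  · show (Submodule.span F (b '' {x | β x = j})).map T = Submodule.span F (b '' {x | β x = σ j})
    rw [Submodule.map_span]
    refine le_antisymm (Submodule.span_le.2 ?_) (Submodule.span_le.2 ?_)
    · rintro _ ⟨_, ⟨x, hx, rfl⟩, rfl⟩
      obtain ⟨c, -, hc⟩ := hT x
      rw [hc]
      exact Submodule.smul_mem _ c (Submodule.subset_span ⟨π x, (hπ x).trans (congrArg σ hx), rfl⟩)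
    · rintro _ ⟨y, hy, rfl⟩
      obtain ⟨x, rfl⟩ := π.surjective y
      obtain ⟨c, hc0, hc⟩ := hT x
      rw [← inv_smul_smul₀ hc0 (b (π x)), ← hc]
      refine Submodule.smul_mem _ _ (Submodule.subset_span ⟨b x, ⟨x, σ.injective ?_, rfl⟩, rfl⟩)
      rw [← hπ]
      exact hy

/-- Splitting off invariant subspaces of dimension `a` one by one. -/
theorem stabilizes_of_step (ha : 0 < a) (ht : 2 ≤ t) (hn : n = a * t) (T : End F V) (hT : T.IsSemisimple)
    (hTi : Function.Injective T)
    (step : ∀ (j : ℕ) (U : Submodule F V) (hU : ∀ x ∈ U, T x ∈ U), 1 ≤ j → j ≤ t → finrank F U = a * j →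
      ∃ W : Submodule F U, finrank F W = a ∧ ∀ x ∈ W, (T.restrict hU : End F U) x ∈ W) :
    Stabilizes T a t := by
  have key : ∀ j ≤ t, ∀ U : Submodule F V, (∀ x ∈ U, T x ∈ U) → finrank F U = a * j →
      ∃ D : Fin j → Submodule F V, (∀ i, finrank F (D i) = a ∧ ∀ x ∈ D i, T x ∈ D i) ∧ iSup D = U := by
    intro j
    induction j with
    | zero =>
      intro _ U _ hU
      refine ⟨fun i => i.elim0, fun i => i.elim0, ?_⟩
      rw [iSup_of_empty, eq_comm, ← Submodule.finrank_eq_zero, hU, mul_zero]
    | succ j ih =>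
      intro hj U hU hd
      obtain ⟨W₀, hWd, hW₀⟩ := step (j + 1) U hU (by omega) hj hd
      set W := W₀.map U.subtype
      have hW : ∀ x ∈ W, T x ∈ W := by
        rintro _ ⟨x, hx, rfl⟩
        exact ⟨_, hW₀ x hx, rfl⟩
      have hWU : W ≤ U := Submodule.map_subtype_le U W₀
      have hWd' : finrank F W = a := by rw [Submodule.finrank_map_subtype_eq, hWd]
      obtain ⟨W', hW', hc⟩ := End.isSemisimple_iff.1 hT W hW
      have hsup : W ⊔ W' ⊓ U = U := by rw [← sup_inf_assoc_of_le W' hWU, hc.sup_eq_top, top_inf_eq]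
      have hinf : W ⊓ (W' ⊓ U) = ⊥ := by rw [← inf_assoc, hc.inf_eq_bot, bot_inf_eq]
      obtain ⟨D, hD, hDs⟩ := ih (by omega) (W' ⊓ U) (fun x hx => ⟨hW' hx.1, hU x hx.2⟩) (by
        have := Submodule.finrank_sup_add_finrank_inf_eq W (W' ⊓ U)
        rw [hsup, hinf, finrank_bot, hd, hWd', mul_add, mul_one] at this
        omega)
      refine ⟨Fin.cons W D, Fin.cases ⟨hWd', hW⟩ (fun i => hD i), ?_⟩
      refine le_antisymm (iSup_le fun i => ?_) ?_
      · induction i using Fin.cases with
        | zero => exact hWU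
        | succ i =>
          rw [Fin.cons_succ]
          exact ((le_iSup D i).trans hDs.le).trans inf_le_right
      · refine hsup.ge.trans (sup_le ?_ (hDs.ge.trans (iSup_le fun i => ?_)))
        · exact le_iSup_of_le 0 (by rw [Fin.cons_zero])
        · exact le_iSup_of_le i.succ (by rw [Fin.cons_succ])
  obtain ⟨D, hD, hDs⟩ := key t le_rfl ⊤ (fun _ _ => Submodule.mem_top) (by rw [finrank_top, Module.finrank_fin_fun, hn])
  refine ⟨D, mk_decomp ha ht hn (fun j => (hD j).1) hDs, 1, fun j => ?_⟩
  exact Submodule.eq_of_le_of_finrank_eq (Submodule.map_le_iff_le_comap.2 (hD j).2)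
    (Submodule.equivMapOfInjective T hTi (D j)).finrank_eq.symm

section Model

variable [Fintype F] {p : ℕ} [hp : Fact p.Prime] [CharP F p]

include hp in
/-- A basis permuted in cycles of length `r` and fixed vectors. -/
theorem exists_cyclic_basis (hr : r.Prime) (hrp : r ≠ p) {z : F} (hz : z ≠ 0) {s l : ℕ} (hzl : l = 0 ∨ z = 1)
    (T : End F V) (hT : T.IsSemisimple)
    (hcp : T.charpoly = (X ^ r - C z) ^ s * (X - 1) ^ l) :
    ∃ b : Basis ((Fin s × Fin r) ⊕ Fin l) F V,
      (∀ w i, T (b (Sum.inl (w, i))) = (if (i : ℕ) + 1 < r then 1 else z) •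
        b (Sum.inl (w, ⟨((i : ℕ) + 1) % r, Nat.mod_lt _ hr.pos⟩))) ∧
      ∀ x, T (b (Sum.inr x)) = b (Sum.inr x) := by
  classical
  have hm : (X ^ r - C z : F[X]).Monic := monic_X_pow_sub_C z hr.ne_zero
  let K := AdjoinRoot (X ^ r - C z : F[X])
  let pb := AdjoinRoot.powerBasis' hm
  have hdim : pb.dim = r := by rw [AdjoinRoot.powerBasis'_dim, natDegree_X_pow_sub_C]
  haveI : Module.Finite F K := pb.finite
  set ρ : End F K := Algebra.lmul F K (AdjoinRoot.root _)
  have hρ : ρ.charpoly = X ^ r - C z := by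
    rw [← LinearMap.charpoly_toMatrix _ pb.basis]
    have hg : pb.gen = AdjoinRoot.root (X ^ r - C z : F[X]) := AdjoinRoot.powerBasis'_gen hm
    refine ((congrArg (fun a => (Algebra.leftMulMatrix pb.basis a).charpoly) hg.symm).trans
      (charpoly_leftMulMatrix pb)).trans ?_
    rw [hg, AdjoinRoot.minpoly_root hm.ne_zero, hm.leadingCoeff, inv_one, map_one, mul_one]
  have hroot : (AdjoinRoot.root (X ^ r - C z : F[X])) ^ r = z • (1 : K) := by
    have := AdjoinRoot.eval₂_root (X ^ r - C z : F[X])
    rw [eval₂_sub, eval₂_X_pow, eval₂_C, sub_eq_zero] at this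
    rw [this, Algebra.smul_def, mul_one]; rfl
  let f : ∀ m, End F (Fin m → K) := fun m => LinearMap.pi fun w => ρ ∘ₗ LinearMap.proj w
  have hf : ∀ m, (f m).charpoly = (X ^ r - C z) ^ m := by
    intro m
    induction m with
    | zero =>
      rw [pow_zero]
      refine Polynomial.eq_one_of_monic_natDegree_zero (LinearMap.charpoly_monic _) ?_
      rw [LinearMap.charpoly_natDegree]
      exact Module.finrank_zero_of_subsingleton
    | succ m ih =>
      let e : (K × (Fin m → K)) ≃ₗ[F] (Fin (m + 1) → K) := Fin.consLinearEquiv F fun _ => K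
      have he : f (m + 1) = e.conj (ρ.prodMap (f m)) := by
        refine LinearMap.ext fun x => ?_
        obtain ⟨⟨k, v⟩, rfl⟩ := e.surjective x
        rw [LinearEquiv.conj_apply_apply, LinearEquiv.symm_apply_apply]
        funext w
        induction w using Fin.cases <;> simp [f, e, Fin.consLinearEquiv]
      rw [he, LinearEquiv.charpoly_conj, LinearMap.charpoly_prodMap, hρ, ih, pow_succ']
  set M : End F ((Fin s → K) × (Fin l → F)) := (f s).prodMap LinearMap.id
  have hMc : M.charpoly = T.charpoly := by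
    rw [hcp, LinearMap.charpoly_prodMap, hf, ← Module.End.one_eq_id, LinearMap.charpoly_one, Module.finrank_fin_fun]
  have hMs : M.IsSemisimple := by
    refine semisimple_of_pow_smul (p := p) M hr hrp hz (LinearMap.ext fun x => ?_)
    have h1 : ∀ (m : ℕ) (v : Fin s → K) (u : Fin l → F),
        (M ^ m) (v, u) = (fun w => (AdjoinRoot.root (X ^ r - C z : F[X])) ^ m * v w, u) := by
      intro m
      induction m with
      | zero => intro v u; simp
      | succ m ih =>
        intro v u
        rw [pow_succ', Module.End.mul_apply, ih]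
        refine Prod.ext (funext fun w => ?_) rfl
        show AdjoinRoot.root _ * (AdjoinRoot.root _ ^ m * v w) = AdjoinRoot.root _ ^ (m + 1) * v w
        rw [pow_succ', mul_assoc]
    obtain ⟨v, u⟩ := x
    rw [h1, hroot]
    refine Prod.ext (funext fun w => ?_) ?_
    · simp
    · rcases hzl with rfl | rfl
      · exact funext fun i => i.elim0
      · simp
  obtain ⟨φ, hφ⟩ := exists_conj_aux (finrank F ((Fin s → K) × (Fin l → F))) _ _ M T rfl hMs hT hMc
  let b₀ : Basis ((Fin s × Fin r) ⊕ Fin l) F ((Fin s → K) × (Fin l → F)) :=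
    ((Pi.basis fun _ : Fin s => pb.basis).prod (Pi.basisFun F (Fin l))).reindex
      (Equiv.sumCongr ((Equiv.sigmaEquivProd _ _).trans (Equiv.prodCongr (Equiv.refl _) (finCongr hdim)))
        (Equiv.refl _))
  refine ⟨b₀.map φ, fun w i => ?_, fun x => ?_⟩
  · have hb : ∀ j : Fin r, b₀ (Sum.inl (w, j)) = (Pi.single w ((AdjoinRoot.root (X ^ r - C z : F[X])) ^ (j : ℕ)), 0) := by
      intro j
      simp [b₀, Basis.prod_apply, pb, PowerBasis.basis_eq_pow]
    rw [Basis.map_apply, Basis.map_apply, ← hφ, ← map_smul, hb, hb]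
    congr 1
    refine Prod.ext (funext fun w' => ?_) (by split_ifs <;> simp [M])
    show AdjoinRoot.root _ * (Pi.single w _ : Fin s → K) w' = _
    by_cases hw : w' = w
    · subst hw
      split_ifs with hi
      · simp [Nat.mod_eq_of_lt hi, pow_succ']
      · have : (i : ℕ) + 1 = r := by have := i.2; omega
        simp [this, ← pow_succ', hroot]
    · split_ifs <;> simp [hw]
  · rw [Basis.map_apply, ← hφ]
    congr 1
    refine Prod.ext (funext fun w' => ?_) ?_
    · simp [b₀, M, f, ρ, Basis.prod_apply]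
    · rfl

include hp in
/-- The fixed space of an element of order `r` without other eigenvalues. -/
theorem fix_dim {W : Type*} [AddCommGroup W] [Module F W] [FiniteDimensional F W] {q c l e : ℕ}
    (hq : Fintype.card F = q) (hr : r.Prime) (hrp : r ≠ p) (hc : c = orderOf (q : ZMod r)) (hc1 : 1 < c)
    (T : End F W) (hT : T ^ r = 1) (h : HasShape T c l e) : finrank F (LinearMap.ker (T - 1)) = l := by
  classical
  obtain ⟨S₁, S₂, hS₁, -, hS, h1, h2, hcp⟩ := h.factors
  have hT' : T ^ r = (1 : F) • 1 := by rw [one_smul, hT]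
  have hfac : ∀ P ∈ S₁, P = X - 1 := fun P hP => by
    have hd := factor_dvd_pow T hT' (hS P (Multiset.mem_add.2 (Or.inl hP))).1
      (hcp ▸ Multiset.dvd_prod (Multiset.mem_add.2 (Or.inl hP)))
    rw [map_one] at hd
    refine (natDegree_factor (p := p) hq hr hrp (hS P (Multiset.mem_add.2 (Or.inl hP))).1
      (hS P (Multiset.mem_add.2 (Or.inl hP))).2 hd).resolve_right fun he => ?_
    have := h1 P hP
    omega
  rw [Multiset.prod_add, Multiset.eq_replicate.2 ⟨hS₁, hfac⟩, Multiset.prod_replicate, ← map_one C] at hcp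
  have hR : ¬ S₂.prod.IsRoot 1 := by
    intro hroot
    obtain ⟨P, hP, hdvd⟩ := (irreducible_X_sub_C (1 : F)).prime.exists_mem_multiset_dvd (dvd_iff_isRoot.2 hroot)
    have := natDegree_eq_of_degree_eq (degree_eq_degree_of_associated
      ((irreducible_X_sub_C (1 : F)).associated_of_dvd (hS P (Multiset.mem_add.2 (Or.inr hP))).1 hdvd))
    rw [natDegree_X_sub_C, h2 P hP] at this
    omega
  set K := LinearMap.ker (T - 1)
  have hfix : ∀ x ∈ K, T x = x := fun x hx => sub_eq_zero.1 (LinearMap.mem_ker.1 hx)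
  have hK : ∀ x ∈ K, T x ∈ K := fun x hx => by rw [hfix x hx]; exact hx
  obtain ⟨U, hU, hKU⟩ := End.isSemisimple_iff.1 h.semisimple K hK
  have hcU : ¬ (T.restrict hU : End F U).charpoly.IsRoot 1 := by
    intro hroot
    obtain ⟨v, hv⟩ := ((Module.End.hasEigenvalue_iff_isRoot_charpoly (T.restrict hU : End F U) 1).2 hroot).exists_hasEigenvector
    have h1' : T (v : W) = (v : W) := by
      have := congrArg Subtype.val hv.apply_eq_smul
      rwa [one_smul] at this
    exact hv.2 (Subtype.ext (Submodule.disjoint_def.1 hKU.disjoint _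
      (LinearMap.mem_ker.2 (sub_eq_zero.2 h1')) v.2))
  have hcK : (T.restrict hK : End F K).charpoly = (X - C (1 : F)) ^ finrank F K := by
    rw [map_one, ← LinearMap.charpoly_one]
    exact congrArg LinearMap.charpoly (LinearMap.ext fun x => Subtype.ext (hfix x.1 x.2))
  have heq := charpoly_of_isCompl T hK hU hKU
  rw [hcp, hcK] at heq
  have hne : ∀ {f : F[X]}, ¬ f.IsRoot 1 → f ≠ 0 := fun hf h0 => hf (by rw [h0]; exact eval_zero)
  have := congrArg (Polynomial.rootMultiplicity 1) heq
  rw [rootMultiplicity_mul (mul_ne_zero (pow_ne_zero _ (X_sub_C_ne_zero 1)) (hne hR)),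
    rootMultiplicity_mul (mul_ne_zero (pow_ne_zero _ (X_sub_C_ne_zero 1)) (hne hcU)),
    rootMultiplicity_X_sub_C_pow, rootMultiplicity_X_sub_C_pow, rootMultiplicity_eq_zero hR,
    rootMultiplicity_eq_zero hcU] at this
  omega

end Model

section Necessary

variable [Fintype F]

variable {D : Fin t → Submodule F (Fin n → F)} {σ : Equiv.Perm (Fin t)} {T : End F (Fin n → F)}

/-- The projection on a member of a decomposition. -/
theorem exists_proj (hD : Cfsg.Geo.IsMDecomposition a D) :
    ∃ pr : Fin t → End F V, (∀ j, ∀ v ∈ D j, pr j v = v) ∧ ∀ i j, i ≠ j → ∀ v ∈ D i, pr j v = 0 := by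
  classical
  obtain ⟨B, hB⟩ := CfsgLib.Classical.DecompMax.exists_basis hD
  refine ⟨fun j => B.constr F fun x => if x.1 = j then B x else 0, fun j v hv => ?_, fun i j hij v hv => ?_⟩
  · rw [Basis.constr_apply_fintype]
    conv_rhs => rw [← B.sum_repr v]
    refine Finset.sum_congr rfl fun x _ => ?_
    show B.repr v x • (if x.1 = j then B x else 0) = _
    by_cases hx : x.1 = j
    · rw [if_pos hx]
    · rw [(hB j v).1 hv x hx, zero_smul, zero_smul]
  · rw [Basis.constr_apply_fintype]
    refine Finset.sum_eq_zero fun x _ => ?_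
    show B.repr v x • (if x.1 = j then B x else 0) = _
    by_cases hx : x.1 = j
    · rw [(hB i v).1 hv x (fun h => hij (h ▸ hx)), zero_smul]
    · rw [if_neg hx, smul_zero]

theorem map_pow_eq (hσ : ∀ j, (D j).map T = D (σ j)) (i : ℕ) (j : Fin t) : (D j).map (T ^ i : End F V) = D ((σ ^ i) j) := by
  induction i with
  | zero =>
    simp [Module.End.one_eq_id]
  | succ i ih => rw [pow_succ', Module.End.mul_eq_comp, Submodule.map_comp, ih, hσ, pow_succ', Equiv.Perm.mul_apply]

theorem perm_pow (hD : Cfsg.Geo.IsMDecomposition a D) (hσ : ∀ j, (D j).map T = D (σ j)) (hT : T ^ r = 1) :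
    σ ^ r = 1 := by
  refine Equiv.ext fun j => ?_
  have h := map_pow_eq hσ r j
  rw [hT, Module.End.one_eq_id, Submodule.map_id] at h
  refine (hD.indep.injective (fun k hk => ?_) h).symm
  have := hD.finrank_eq k
  rw [hk, finrank_bot] at this
  have := hD.pos
  omega

theorem pow_mem (hσ : ∀ j, (D j).map T = D (σ j)) (i : ℕ) {j : Fin t} {v : V} (hv : v ∈ D j) :
    (T ^ i) v ∈ D ((σ ^ i) j) :=
  map_pow_eq hσ i j ▸ Submodule.mem_map_of_mem hv

theorem orbit_inj (hr : r.Prime) (hσr : σ ^ r = 1) {j : Fin t} (hj : σ j ≠ j) {i i' : ℕ} (hi : i < r) (hi' : i' < r)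
    (h : (σ ^ i) j = (σ ^ i') j) : i = i' := by
  haveI := Fact.mk hr
  by_contra hne
  wlog hlt : i < i' generalizing i i'
  · exact this hi' hi h.symm (Ne.symm hne) (by omega)
  have hfix : (σ ^ (i' - i)) j = j := by
    apply (σ ^ i).injective
    rw [← Equiv.Perm.mul_apply, ← pow_add, Nat.add_sub_cancel' hlt.le]
    exact h.symm
  have h1 : Function.IsPeriodicPt σ (i' - i) j := by
    show σ^[i' - i] j = j
    rw [← Equiv.Perm.coe_pow]; exact hfix
  have h2 : Function.IsPeriodicPt σ r j := by
    show σ^[r] j = j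
    rw [← Equiv.Perm.coe_pow, hσr]; rfl
  have h3 := h1.gcd h2
  rw [Nat.Coprime.gcd_eq_one ((hr.coprime_iff_not_dvd.2 fun hd => by
    have := Nat.le_of_dvd (by omega) hd
    omega).symm)] at h3
  exact hj h3

/-- A moved member bounds the fixed space from below and from above. -/
theorem moved_bounds (hr : r.Prime) (hD : Cfsg.Geo.IsMDecomposition a D) (hσ : ∀ j, (D j).map T = D (σ j))
    (hT : T ^ r = 1) {j : Fin t} (hj : σ j ≠ j) :
    a ≤ finrank F (LinearMap.ker (T - 1)) ∧ a * (r - 1) + finrank F (LinearMap.ker (T - 1)) ≤ n := by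
  classical
  obtain ⟨pr, hpr, hpr0⟩ := exists_proj hD
  have hσr := perm_pow hD hσ hT
  have hproj : ∀ {i k : ℕ} {v : V}, i < r → k < r → v ∈ D j →
      pr ((σ ^ k) j) ((T ^ i) v) = if i = k then (T ^ i) v else 0 := by
    intro i k v hi hk hv
    split_ifs with h
    · subst h; exact hpr _ _ (pow_mem hσ _ hv)
    · exact hpr0 _ _ (fun hh => h (orbit_inj hr hσr hj hi hk hh)) _ (pow_mem hσ _ hv)
  constructor
  · let N : End F V := ∑ i ∈ Finset.range r, T ^ i
    have hN : ∀ v, N v ∈ LinearMap.ker (T - 1) := fun v => by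
      rw [LinearMap.mem_ker, ← Module.End.mul_apply, mul_geom_sum, hT, sub_self, LinearMap.zero_apply]
    have hinj : Function.Injective ((N.comp (D j).subtype).codRestrict _ fun v => hN _) := by
      refine (injective_iff_map_eq_zero _).2 fun v hv => Subtype.ext ?_
      have h0 : N (v : V) = 0 := congrArg Subtype.val hv
      have h1 := congrArg (pr ((σ ^ 0) j)) h0
      rw [map_zero, LinearMap.sum_apply, map_sum,
        Finset.sum_congr rfl fun i hi => hproj (Finset.mem_range.1 hi) hr.pos v.2,
        Finset.sum_ite_eq', if_pos (Finset.mem_range.2 hr.pos)] at h1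
      simpa using h1
    exact hD.finrank_eq j ▸ LinearMap.finrank_le_finrank_of_injective hinj
  · let φ : (Fin (r - 1) → D j) →ₗ[F] V := ∑ i : Fin (r - 1), ((T ^ ((i : ℕ) + 1)).comp (D j).subtype).comp (LinearMap.proj i)
    let ψ : (LinearMap.ker (T - 1) × (Fin (r - 1) → D j)) →ₗ[F] V := (Submodule.subtype _).coprod φ
    have hinj : Function.Injective ψ := by
      refine (injective_iff_map_eq_zero _).2 ?_
      rintro ⟨w, v⟩ h
      have h' : ∀ k, k < r → pr ((σ ^ k) j) (w : V) +
          ∑ i : Fin (r - 1), (if (i : ℕ) + 1 = k then (T ^ ((i : ℕ) + 1)) (v i : V) else 0) = 0 := by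
        intro k hk
        have h1 := congrArg (pr ((σ ^ k) j)) h
        simp only [ψ, φ, LinearMap.coprod_apply, LinearMap.sum_apply, LinearMap.comp_apply, LinearMap.proj_apply,
          Submodule.subtype_apply, map_add, map_sum, map_zero] at h1
        rw [Finset.sum_congr rfl fun i _ => hproj (by omega) hk (v i).2] at h1
        exact h1
      have hw0 : pr j (w : V) = 0 := by
        have := h' 0 hr.pos
        simpa using this
      have hcomm : ∀ (k : ℕ) (x : V), pr ((σ ^ k) j) ((T ^ k) x) = (T ^ k) (pr j x) := by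
        intro k x
        have hx : x ∈ iSup D := hD.iSup_eq_top ▸ Submodule.mem_top
        refine Submodule.iSup_induction D (motive := fun x => pr ((σ ^ k) j) ((T ^ k) x) = (T ^ k) (pr j x)) hx
          (fun i y hy => ?_) (by simp) (fun y y' hy hy' => by simp [hy, hy'])
        by_cases hij : i = j
        · subst hij; rw [hpr _ _ hy, hpr _ _ (pow_mem hσ k hy)]
        · rw [hpr0 _ _ hij _ hy, map_zero, hpr0 _ _ ((σ ^ k).injective.ne hij) _ (pow_mem hσ k hy)]
      have hwT : ∀ k, (T ^ k) (w : V) = w := by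
        intro k
        induction k with
        | zero => rfl
        | succ k ih =>
          rw [pow_succ', Module.End.mul_apply, ih]
          exact sub_eq_zero.1 (LinearMap.mem_ker.1 w.2)
      have hv : v = 0 := by
        refine funext fun i => Subtype.ext ?_
        have := h' ((i : ℕ) + 1) (by omega)
        rw [← hwT ((i : ℕ) + 1), hcomm, hw0, map_zero, zero_add,
          Finset.sum_eq_single i (fun b _ hb => if_neg fun hh => hb (Fin.ext (by omega))) (by simp), if_pos rfl] at this
        have h2 := congrArg (T ^ (r - ((i : ℕ) + 1))) this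
        rw [map_zero, ← Module.End.mul_apply, ← pow_add, Nat.sub_add_cancel (by omega), hT] at h2
        simpa using h2
      subst hv
      refine Prod.ext (Subtype.ext ?_) rfl
      simpa [ψ] using h
    have := LinearMap.finrank_le_finrank_of_injective hinj
    rw [Module.finrank_prod, Module.finrank_pi_fintype, Finset.sum_const, Finset.card_univ, Fintype.card_fin,
      hD.finrank_eq j, Module.finrank_fin_fun, smul_eq_mul] at this
    rw [mul_comm]
    omega

/-- Fixed members contribute to the fixed space. -/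
theorem fixed_bound (hD : Cfsg.Geo.IsMDecomposition a D) {m : ℕ}
    (hm : ∀ j, m ≤ finrank F (D j ⊓ LinearMap.ker (T - 1) : Submodule F V)) :
    t * m ≤ finrank F (LinearMap.ker (T - 1)) := by
  classical
  obtain ⟨pr, hpr, hpr0⟩ := exists_proj hD
  let φ : (∀ j, (D j ⊓ LinearMap.ker (T - 1) : Submodule F V)) →ₗ[F] V :=
    ∑ j, (Submodule.subtype _).comp (LinearMap.proj j)
  have hφ : ∀ v, φ v ∈ LinearMap.ker (T - 1) := fun v => by
    simp only [φ, LinearMap.sum_apply]
    exact Submodule.sum_mem _ fun j _ => (v j).2.2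
  have hinj : Function.Injective (φ.codRestrict _ hφ) := by
    refine (injective_iff_map_eq_zero _).2 fun v hv => funext fun j => Subtype.ext ?_
    have h0 : φ v = 0 := congrArg Subtype.val hv
    have h1 := congrArg (pr j) h0
    simp only [φ, LinearMap.sum_apply, LinearMap.comp_apply, LinearMap.proj_apply, Submodule.subtype_apply, map_sum,
      map_zero] at h1
    rw [Finset.sum_eq_single j (fun i _ hi => hpr0 i j hi _ (v i).2.1) (by simp)] at h1
    exact (hpr j _ (v j).2.1).symm.trans h1
  have h := LinearMap.finrank_le_finrank_of_injective hinj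
  rw [Module.finrank_pi_fintype] at h
  refine le_trans ?_ h
  calc t * m = ∑ _j : Fin t, m := by simp
    _ ≤ _ := Finset.sum_le_sum fun j _ => hm j

/-- Lines: one fixed vector for each orbit. -/
theorem lines_bound (hr : r.Prime) (hrF : (r : F) ≠ 0) (hD : Cfsg.Geo.IsMDecomposition 1 D)
    (hσ : ∀ j, (D j).map T = D (σ j)) (hT : T ^ r = 1)
    (hfix : ∀ j, σ j = j → ∀ v ∈ D j, T v = v) : t ≤ r * finrank F (LinearMap.ker (T - 1)) := by
  classical
  obtain ⟨pr, hpr, hpr0⟩ := exists_proj hD
  have hσr := perm_pow hD hσ hT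
  have hw : ∀ j, ∃ w ∈ D j, w ≠ (0 : V) := fun j =>
    Submodule.exists_mem_ne_zero_of_ne_bot fun h => by
      have := hD.finrank_eq j
      rw [h, finrank_bot] at this
      omega
  choose w hwD hw0 using hw
  let S := Finset.univ.filter fun j : Fin t => ∀ i : ℕ, j ≤ (σ ^ i) j
  have hmul : ∀ i i' (x : Fin t), (σ ^ i) ((σ ^ i') x) = (σ ^ (i + i')) x := fun i i' x => by
    rw [← Equiv.Perm.mul_apply, ← pow_add]
  have hcover : ∀ j, ∃ s ∈ S, ∃ i, i < r ∧ (σ ^ i) s = j := by
    intro j
    let O := (Finset.range r).image fun i => (σ ^ i) j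
    have hO : O.Nonempty := ⟨_, Finset.mem_image_of_mem _ (Finset.mem_range.2 hr.pos)⟩
    obtain ⟨i₀, hi₀, he⟩ := Finset.mem_image.1 (O.min'_mem hO)
    refine ⟨O.min' hO, Finset.mem_filter.2 ⟨Finset.mem_univ _, fun i => ?_⟩, (r - i₀) % r, Nat.mod_lt _ hr.pos, ?_⟩
    · refine O.min'_le _ (Finset.mem_image.2 ⟨(i + i₀) % r, Finset.mem_range.2 (Nat.mod_lt _ hr.pos), ?_⟩)
      rw [← pow_eq_pow_mod _ hσr, ← he, hmul]
    · rw [← pow_eq_pow_mod _ hσr, ← he, hmul, Nat.sub_add_cancel (Finset.mem_range.1 hi₀).le, hσr]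
      rfl
  have hcard : t ≤ r * S.card := by
    have hsub : (Finset.univ : Finset (Fin t)) ⊆ (S ×ˢ Finset.range r).image fun x => (σ ^ x.2) x.1 := fun j _ => by
      obtain ⟨s, hs, i, hi, h⟩ := hcover j
      exact Finset.mem_image.2 ⟨(s, i), Finset.mem_product.2 ⟨hs, Finset.mem_range.2 hi⟩, h⟩
    have := (Finset.card_le_card hsub).trans Finset.card_image_le
    rw [Finset.card_univ, Fintype.card_fin, Finset.card_product, Finset.card_range] at this
    rwa [mul_comm]
  let N : End F V := ∑ i ∈ Finset.range r, T ^ i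
  have hN : ∀ v, N v ∈ LinearMap.ker (T - 1) := fun v => by
    rw [LinearMap.mem_ker, ← Module.End.mul_apply, mul_geom_sum, hT, sub_self, LinearMap.zero_apply]
  let φ : (S → F) →ₗ[F] V := ∑ s : S, (LinearMap.proj s).smulRight (N (w s))
  have hφ : ∀ f, φ f ∈ LinearMap.ker (T - 1) := fun f => by
    simp only [φ, LinearMap.sum_apply, LinearMap.smulRight_apply]
    exact Submodule.sum_mem _ fun s _ => Submodule.smul_mem _ _ (hN _)
  have hrep : ∀ s s' : S, ∀ i, (σ ^ i) (s : Fin t) = s' → s = s' := fun s s' i h => by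
    refine Subtype.ext (le_antisymm ((Finset.mem_filter.1 s.2).2 i |>.trans h.le) ?_)
    refine ((Finset.mem_filter.1 s'.2).2 (r - i % r)).trans (le_of_eq ?_)
    rw [← h, pow_eq_pow_mod i hσr, hmul, Nat.sub_add_cancel (Nat.mod_lt _ hr.pos).le, hσr]
    rfl
  have hinj : Function.Injective (φ.codRestrict _ hφ) := by
    refine (injective_iff_map_eq_zero _).2 fun f hf => funext fun s => ?_
    have h0 : φ f = 0 := congrArg Subtype.val hf
    have h1 := congrArg (pr (s : Fin t)) h0
    simp only [φ, LinearMap.sum_apply, LinearMap.smulRight_apply, LinearMap.proj_apply] at h1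
    simp only [N, LinearMap.sum_apply, map_sum, map_smul, map_zero] at h1
    rw [Finset.sum_eq_single s (fun s' _ hs' => by
      rw [Finset.sum_eq_zero fun i _ => hpr0 _ _ (fun h => hs' (hrep s' s i h)) _ (pow_mem hσ i (hwD _)), smul_zero])
      (by simp)] at h1
    refine (smul_eq_zero.1 h1).resolve_right ?_
    by_cases hs : σ (s : Fin t) = s
    · have hTw : ∀ i, (T ^ i) (w s) = w s := by
        intro i
        induction i with
        | zero => rfl
        | succ i ih => rw [pow_succ', Module.End.mul_apply, ih, hfix _ hs _ (hwD _)]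
      have e : ∀ i, pr (s : Fin t) ((T ^ i) (w s)) = w s := fun i => by rw [hTw, hpr _ _ (hwD _)]
      simp only [e, Finset.sum_const, Finset.card_range, ← Nat.cast_smul_eq_nsmul F]
      exact smul_ne_zero hrF (hw0 _)
    · rw [Finset.sum_eq_single 0 (fun i hi hi0 => hpr0 _ (s : Fin t) (fun h => hi0 (orbit_inj hr hσr hs
        (Finset.mem_range.1 hi) hr.pos (h.trans (by simp)))) _ (pow_mem hσ i (hwD _))) (fun h => absurd (Finset.mem_range.2 hr.pos) h)]
      rw [pow_zero, Module.End.one_apply, hpr _ _ (hwD _)]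
      exact hw0 _
  have := LinearMap.finrank_le_finrank_of_injective hinj
  rw [Module.finrank_pi, Fintype.card_coe] at this
  exact hcard.trans (Nat.mul_le_mul_left r this)

end Necessary

end CfsgLib.Derange.LinDec
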