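import Cfsg.Agent.Lib.Derange.Cases
import Cfsg.Agent.Lib.Derange.Twist
import Cfsg.Prelude.Def_GeometricClasses

/-!
Elements of prime order of `SL`: diagonal forms, conjugation inside `SL`, and sample elements.
-/

set_option autoImplicit false
set_option linter.style.haveILetI false
set_option linter.unusedSectionVars false

namespace CfsgLib.Derange.Lin

open Module Matrix Polynomial CfsgLib.Classical.SemisimpleClasses

variable {F : Type*} [Field F] [Fintype F] {p : ℕ} [hp : Fact p.Prime] [CharP F p] {n : ℕ}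

/-- A homology of order `r` modulo scalars with determinant one. -/
theorem exists_homology {q r : ℕ} (hq : Fintype.card F = q) (hr : r.Prime) (hn : 0 < n)
    (hv : padicValNat r n < padicValNat r (q - 1)) :
    ∃ α ζ : F, α ≠ 0 ∧ ζ ≠ 1 ∧ ζ ^ r = 1 ∧ α ^ n * ζ = 1 := by
  classical
  haveI := Fact.mk hr
  let φ : Fˣ →* Fˣ := powMonoidHom n
  have hcard : Nat.card φ.range = (q - 1) / (q - 1).gcd n := by
    rw [IsCyclic.card_powMonoidHom_range, Nat.card_eq_fintype_card, Fintype.card_units, hq]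
  have hN : q - 1 ≠ 0 := by
    intro h; rw [h] at hv; simp at hv
  have hdvd : r ∣ (q - 1) / (q - 1).gcd n := by
    refine dvd_of_one_le_padicValNat ?_
    rw [padicValNat.div_of_dvd (Nat.gcd_dvd_left _ _)]
    have : padicValNat r ((q - 1).gcd n) ≤ padicValNat r n := by
      have h1 := pow_padicValNat_dvd (p := r) (n := (q - 1).gcd n)
      exact (padicValNat_dvd_iff_le (by omega)).1 (h1.trans (Nat.gcd_dvd_right _ _))
    omega
  obtain ⟨⟨z, α, hα⟩, hz⟩ := exists_prime_orderOf_dvd_card' r (hcard.symm ▸ hdvd : r ∣ Nat.card φ.range)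
  have hz' : orderOf z = r := by rw [← hz, ← Subgroup.orderOf_coe]
  refine ⟨α, ((z⁻¹ : Fˣ) : F), α.ne_zero, ?_, ?_, ?_⟩
  · intro h
    rw [Units.val_eq_one, inv_eq_one] at h
    rw [h, orderOf_one] at hz'
    exact hr.one_lt.ne hz'
  · rw [← Units.val_pow_eq_pow_val, inv_pow, ← hz', pow_orderOf_eq_one, inv_one, Units.val_one]
  · rw [← Units.val_pow_eq_pow_val, ← Units.val_mul, show α ^ n = z from hα, mul_inv_cancel, Units.val_one]

/-- An element of order `r` in the units. -/
theorem exists_root_of_unity {q r : ℕ} (hq : Fintype.card F = q) (hr : r.Prime) (hrq : r ∣ q - 1) :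
    ∃ ζ : F, ζ ≠ 0 ∧ ζ ^ r = 1 ∧ ∀ m, ζ ^ m = 1 → r ∣ m := by
  classical
  haveI := Fact.mk hr
  obtain ⟨ζ, hζ⟩ := exists_prime_orderOf_dvd_card' (G := Fˣ) r
    (by rw [Nat.card_eq_fintype_card, Fintype.card_units, hq]; exact hrq)
  refine ⟨ζ, ζ.ne_zero, by rw [← Units.val_pow_eq_pow_val, ← hζ, pow_orderOf_eq_one, Units.val_one], fun m h => ?_⟩
  rw [← hζ]
  exact orderOf_dvd_of_pow_eq_one (Units.ext (by rw [Units.val_pow_eq_pow_val, h, Units.val_one]))

/-- The statement applied to a given matrix. -/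
theorem conj_of_all {r : ℕ} {H : Subgroup (GL (Fin n) F)}
    (h : ∀ x ∈ Cfsg.Geo.specialLinear (Fin n) F,
      (∃ z : F, ((x ^ r : GL (Fin n) F) : Matrix (Fin n) (Fin n) F) = z • (1 : Matrix (Fin n) (Fin n) F)) →
      (∀ z : F, (x : Matrix (Fin n) (Fin n) F) ≠ z • (1 : Matrix (Fin n) (Fin n) F)) →
      ∃ g ∈ Cfsg.Geo.specialLinear (Fin n) F, g⁻¹ * x * g ∈ H)
    (X : Matrix (Fin n) (Fin n) F) (hdet : X.det = 1) {z : F} (hz : X ^ r = z • 1)
    (hns : ∀ c : F, X ≠ c • 1) :
    ∃ g x : GL (Fin n) F, (x : Matrix (Fin n) (Fin n) F) = X ∧ g⁻¹ * x * g ∈ H := by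
  obtain ⟨x, hxX⟩ : IsUnit X := (Matrix.isUnit_iff_isUnit_det X).2 (by rw [hdet]; exact isUnit_one)
  have hx : x ∈ Cfsg.Geo.specialLinear (Fin n) F := by
    refine MonoidHom.mem_ker.2 (Units.ext ?_)
    rw [Matrix.GeneralLinearGroup.val_det_apply, Units.val_one, hxX, hdet]
  obtain ⟨g, -, hg⟩ := h x hx ⟨z, by rw [Units.val_pow_eq_pow_val, hxX]; exact hz⟩
    (fun c => by rw [hxX]; exact hns c)
  exact ⟨g, x, hxX, hg⟩

include hp in
/-- Elements killed by `X ^ r - 1` are diagonalizable when the roots of unity are present. -/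
theorem exists_diagonal {q r : ℕ} (hq : Fintype.card F = q) (hr : r.Prime) (hrp : r ≠ p) (hrq : r ∣ q - 1)
    (X : Matrix (Fin n) (Fin n) F) (hX : X ^ r = 1) :
    ∃ (B : GL (Fin n) F) (d : Fin n → F), (∀ k, d k ^ r = 1) ∧
      X * (B : Matrix (Fin n) (Fin n) F) = (B : Matrix (Fin n) (Fin n) F) * Matrix.diagonal d := by
  classical
  set T := Matrix.toLin' X with hTdef
  have hT : T ^ r = 1 := by
    rw [hTdef, show Matrix.toLin' X ^ r = Matrix.toLin' (X ^ r) from
      (map_pow (Matrix.toLinAlgEquiv' (R := F) (n := Fin n)) X r).symm, hX, Matrix.toLin'_one]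
    rfl
  obtain ⟨l, e, hs, -⟩ := shape_of_pow_one (p := p) hq hr hrp T hT
  rw [((orderOf_mod (p := p) hq hr hrp).2.2.2 hrq)] at hs
  obtain ⟨S₁, S₂, -, -, hS, h1, h2, hc⟩ := hs.factors
  have hlin : ∀ P ∈ S₁ + S₂, P.natDegree = 1 := fun P hP => (Multiset.mem_add.1 hP).elim (h1 P) (h2 P)
  have hsplit : T.charpoly.Splits := by
    rw [hc]
    exact Polynomial.Splits.multisetProd fun P hP =>
      Polynomial.Splits.of_natDegree_le_one (hlin P hP).le
  have hcard : (T.charpoly.roots.toList).length = n := by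
    rw [Multiset.length_toList, ← hsplit.natDegree_eq_card_roots, T.charpoly_natDegree, Module.finrank_fin_fun]
  let d : Fin n → F := fun k => T.charpoly.roots.toList.get (Fin.cast hcard.symm k)
  have hmap : Finset.univ.val.map d = T.charpoly.roots := by
    rw [Fin.univ_val_map, ← Multiset.coe_toList T.charpoly.roots]
    congr 1
    refine List.ext_get (by simp [hcard]) fun k h1 h2 => ?_
    simp [d]
  have hd : ∀ k, d k ^ r = 1 := by
    intro k
    have hk : d k ∈ T.charpoly.roots := hmap ▸ Multiset.mem_map_of_mem d (Finset.mem_univ k)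
    have hdvd : Polynomial.X - Polynomial.C (d k) ∣ T.charpoly := dvd_iff_isRoot.2 (isRoot_of_mem_roots hk)
    have := factor_dvd_pow T (r := r) (c := 1) (by rw [hT, one_smul]) (irreducible_X_sub_C _) hdvd
    rw [dvd_iff_isRoot, IsRoot.def, eval_sub, eval_pow, eval_X, eval_C, sub_eq_zero] at this
    exact this
  have hcp : T.charpoly = (Matrix.toLin' (Matrix.diagonal d)).charpoly := by
    rw [Matrix.charpoly_toLin' (Matrix.diagonal d), Matrix.charpoly_diagonal]
    conv_lhs => rw [hsplit.eq_prod_roots_of_monic (LinearMap.charpoly_monic T), ← hmap, Multiset.map_map]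
    rfl
  have hD : (Matrix.toLin' (Matrix.diagonal d) : Module.End F (Fin n → F)) ^ r = (1 : F) • 1 := by
    rw [show Matrix.toLin' (Matrix.diagonal d) ^ r = Matrix.toLin' (Matrix.diagonal d ^ r) from
      (map_pow (Matrix.toLinAlgEquiv' (R := F) (n := Fin n)) (Matrix.diagonal d) r).symm, Matrix.diagonal_pow,
      show d ^ r = fun _ => (1 : F) from funext hd, Matrix.diagonal_one, Matrix.toLin'_one, one_smul]
    rfl
  obtain ⟨φ, hφ⟩ := exists_conj_aux n (Fin n → F) (Fin n → F) (Matrix.toLin' (Matrix.diagonal d)) T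
    (Module.finrank_fin_fun F) (semisimple_of_pow_smul (p := p) _ hr hrp one_ne_zero hD)
    (semisimple_of_pow_smul (p := p) T hr hrp one_ne_zero (by rw [hT, one_smul])) hcp.symm
  have h12 : LinearMap.toMatrix' (φ : (Fin n → F) →ₗ[F] (Fin n → F)) *
      LinearMap.toMatrix' (φ.symm : (Fin n → F) →ₗ[F] (Fin n → F)) = 1 := by
    rw [← LinearMap.toMatrix'_comp, LinearEquiv.comp_symm]; exact LinearMap.toMatrix'_id
  refine ⟨⟨_, _, h12, mul_eq_one_comm.1 h12⟩, d, hd, ?_⟩
  apply Matrix.toLin'.injective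
  show Matrix.toLin' (X * LinearMap.toMatrix' _) = Matrix.toLin' (LinearMap.toMatrix' _ * _)
  rw [Matrix.toLin'_mul, Matrix.toLin'_mul, Matrix.toLin'_toMatrix']
  exact LinearMap.ext fun v => (hφ v).symm

theorem map_eq_of_charpoly {d d' : Fin n → F}
    (h : (Matrix.diagonal d).charpoly = (Matrix.diagonal d').charpoly) :
    Finset.univ.val.map d = Finset.univ.val.map d' := by
  have := congrArg Polynomial.roots h
  rw [Matrix.charpoly_diagonal, Matrix.charpoly_diagonal] at this
  have e : ∀ f : Fin n → F, (∏ i, (Polynomial.X - Polynomial.C (f i))).roots = Finset.univ.val.map f := fun f => by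
    have e' : (∏ i, (Polynomial.X - Polynomial.C (f i))) =
        ((Finset.univ.val.map f).map fun a => Polynomial.X - Polynomial.C a).prod := by
      rw [Multiset.map_map, Finset.prod_eq_multiset_prod]
      rfl
    rw [e', Polynomial.roots_multiset_prod_X_sub_C]
  rwa [e, e] at this

theorem card_eq_of_map_eq [DecidableEq F] {d d' : Fin n → F} (h : Finset.univ.val.map d = Finset.univ.val.map d')
    (t : F) : (Finset.univ.filter fun k => d k = t).card = (Finset.univ.filter fun k => d' k = t).card := by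
  have := congrArg (Multiset.count t) h
  rw [Multiset.count_map, Multiset.count_map] at this
  simp only [eq_comm (a := t)] at this
  exact this

/-- A conjugation of a diagonalizable element can be made inside `SL`. -/
theorem exists_special_conj {H : Subgroup (GL (Fin n) F)} (hn : 0 < n) {x B g : GL (Fin n) F} {d : Fin n → F}
    (hB : (x : Matrix (Fin n) (Fin n) F) * (B : Matrix (Fin n) (Fin n) F) =
      (B : Matrix (Fin n) (Fin n) F) * Matrix.diagonal d)
    (hg : g⁻¹ * x * g ∈ H) : ∃ g' ∈ Cfsg.Geo.specialLinear (Fin n) F, g'⁻¹ * x * g' ∈ H := by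
  classical
  let δ : Fin n → F := Function.update 1 ⟨0, hn⟩ (g : Matrix (Fin n) (Fin n) F).det⁻¹
  have hδ : (Matrix.diagonal δ).det = (g : Matrix (Fin n) (Fin n) F).det⁻¹ := by
    rw [Matrix.det_diagonal, Finset.prod_update_of_mem (Finset.mem_univ _)]
    simp
  obtain ⟨D, hD⟩ : IsUnit (Matrix.diagonal δ) := (Matrix.isUnit_iff_isUnit_det _).2
    (by rw [hδ]; exact isUnit_iff_ne_zero.2 (inv_ne_zero (Matrix.GeneralLinearGroup.det g).ne_zero))
  set C := B * D * B⁻¹
  have hx : x = B * (B⁻¹ * x * B) * B⁻¹ := by group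
  have hM : ((B⁻¹ * x * B : GL (Fin n) F) : Matrix (Fin n) (Fin n) F) = Matrix.diagonal d := by
    rw [Units.val_mul, Units.val_mul, Matrix.mul_assoc, hB, ← Matrix.mul_assoc, ← Units.val_mul, inv_mul_cancel,
      Units.val_one, Matrix.one_mul]
  have hcomm : (B⁻¹ * x * B) * D = D * (B⁻¹ * x * B) := by
    refine Units.ext ?_
    rw [Units.val_mul, hM, Units.val_mul _ (B⁻¹ * x * B), hM, hD, Matrix.diagonal_mul_diagonal,
      Matrix.diagonal_mul_diagonal]
    simp [mul_comm]
  have hCx : x * C = C * x := by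
    calc x * C = B * ((B⁻¹ * x * B) * D) * B⁻¹ := by simp only [C]; group
      _ = B * (D * (B⁻¹ * x * B)) * B⁻¹ := by rw [hcomm]
      _ = C * x := by simp only [C]; group
  refine ⟨C * g, MonoidHom.mem_ker.2 ?_, ?_⟩
  · refine Units.ext ?_
    simp only [C, map_mul, map_inv, Units.val_mul, Units.val_one, mul_comm (Matrix.GeneralLinearGroup.det B),
      mul_inv_cancel_right]
    rw [Matrix.GeneralLinearGroup.val_det_apply, Matrix.GeneralLinearGroup.val_det_apply, hD, hδ]
    exact inv_mul_cancel₀ (Matrix.GeneralLinearGroup.det g).ne_zero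
  · have : (C * g)⁻¹ * x * (C * g) = g⁻¹ * x * g := by
      calc (C * g)⁻¹ * x * (C * g) = g⁻¹ * C⁻¹ * (x * C) * g := by group
        _ = g⁻¹ * x * g := by rw [hCx]; group
    rwa [this]

include hp in
/-- In dimension `r`, an element of `SL` with scalar `r`-th power is a scalar times one of order `r`. -/
theorem exists_power_of_dim_eq {r : ℕ} (hr : r.Prime) (hr2 : r ≠ 2) (X : Matrix (Fin r) (Fin r) F)
    (hdet : X.det = 1) {z : F} (hz : X ^ r = z • 1) : ∃ b : F, b ^ r = z := by
  by_contra hc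
  push Not at hc
  set T := Matrix.toLin' X
  have hT : T ^ r = z • 1 := by
    rw [show Matrix.toLin' X ^ r = Matrix.toLin' (X ^ r) from
      (map_pow (Matrix.toLinAlgEquiv' (R := F) (n := Fin r)) X r).symm, hz, map_smul, Matrix.toLin'_one]
    rfl
  obtain ⟨s, hs, hns⟩ := charpoly_of_not_power hr T hT hc
  rw [Module.finrank_fin_fun] at hns
  have hs1 : s = 1 := by
    have := hr.pos
    exact Nat.eq_of_mul_eq_mul_left this (by rw [mul_one]; exact hns.symm)
  have h0 := LinearMap.det_eq_sign_charpoly_coeff T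
  rw [LinearMap.det_toLin', hdet, Module.finrank_fin_fun, hs, hs1, pow_one, (hr.odd_of_ne_two hr2).neg_one_pow,
    coeff_sub, coeff_X_pow, if_neg hr.ne_zero.symm, coeff_C_zero] at h0
  exact hc 1 (by rw [one_pow]; linear_combination h0)

include hp in
/-- An element of `SL` with one factor of degree `orderOf q`. -/
theorem exists_block_element {q r : ℕ} (hq : Fintype.card F = q) (hr : r.Prime) (hrp : r ≠ p)
    (h2i : 2 ≤ orderOf (q : ZMod r)) (hin : orderOf (q : ZMod r) ≤ n) :
    ∃ (X : Matrix (Fin n) (Fin n) F) (P : F[X]), X.det = 1 ∧ X ^ r = 1 ∧ (∀ c : F, X ≠ c • 1) ∧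
      Irreducible P ∧ P.Monic ∧ P.natDegree = orderOf (q : ZMod r) ∧
      X.charpoly = (Polynomial.X - 1) ^ (n - orderOf (q : ZMod r)) * P := by
  classical
  set i := orderOf (q : ZMod r)
  obtain ⟨y, hy, hys, hyns⟩ := exists_sl_pow_one (p := p) (n := i) hq hr hrp h2i (l := 0) (e := 1) le_rfl (by omega)
  obtain ⟨S₁, S₂, hS₁, hS₂, hS, -, hdeg, hcpy⟩ := hys.factors
  rw [Multiset.card_eq_zero.1 hS₁, zero_add] at hcpy hS
  obtain ⟨P, rfl⟩ := Multiset.card_eq_one.1 hS₂
  rw [Multiset.prod_singleton] at hcpy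
  have hP := hS P (Multiset.mem_singleton_self P)
  set Y := (y : Matrix (Fin i) (Fin i) F)
  have hY : Y.charpoly = P := by rw [← hcpy, Matrix.charpoly_toLin']
  have hYr : Y ^ r = 1 := by rw [← Matrix.SpecialLinearGroup.coe_pow, hy, Matrix.SpecialLinearGroup.coe_one]
  let ε : Fin (n - i) ⊕ Fin i ≃ Fin n := finSumFinEquiv.trans (finCongr (by omega))
  let R := Matrix.reindexAlgEquiv F F ε
  let W : Matrix (Fin (n - i) ⊕ Fin i) (Fin (n - i) ⊕ Fin i) F := fromBlocks 1 0 0 Y
  have hW : ∀ k, W ^ k = fromBlocks 1 0 0 (Y ^ k) := by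
    intro k
    induction k with
    | zero => simp
    | succ k ih => simp [pow_succ, ih, W, fromBlocks_multiply]
  refine ⟨R W, P, ?_, ?_, ?_, hP.1, hP.2, hdeg P (Multiset.mem_singleton_self P), ?_⟩
  · rw [Matrix.det_reindexAlgEquiv, Matrix.det_fromBlocks_zero₁₂, Matrix.det_one, one_mul]
    exact y.2
  · rw [← map_pow, hW, hYr, fromBlocks_one, map_one]
  · intro c hc
    refine hyns c ?_
    have h1 : W = c • 1 := R.injective (by rw [map_smul, map_one]; exact hc)
    ext k l
    have := congrFun (congrFun h1 (Sum.inr k)) (Sum.inr l)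
    simpa [W, Matrix.one_apply] using this
  · rw [Matrix.coe_reindexAlgEquiv, Matrix.charpoly_reindex, Matrix.charpoly_fromBlocks_zero₁₂, Matrix.charpoly_one,
      Fintype.card_fin, hY]

end CfsgLib.Derange.Lin
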