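import Cfsg.Agent.Lib.Derange.SingEvenCount
import Cfsg.Agent.Lib.Derange.OddNondeg

/-!
Even-dimensional orthogonal groups on non-degenerate subspaces of even dimension: elements of prime order different
from the characteristic.
-/

set_option autoImplicit false
set_option linter.style.haveILetI false

namespace CfsgLib.Derange

open Polynomial Module CfsgLib.Classical CfsgLib.Classical.OrthModels CfsgLib.Orth
open CfsgLib.Classical.OrthPrimeReal CfsgLib.Classical.OrthPrimeFactors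

universe u v

/-- The product of two signs. -/
theorem sgn_mul {σ τ : Prop} {i K A : ℕ} (hA : A ≤ K) (h1 : Sgn σ i K ↔ Sgn τ i A) :
    Sgn (σ ↔ τ) i (K - A) := by
  simp only [Sgn, PlusFree] at h1 ⊢
  by_cases ho : Odd i
  · simp only [ho, true_or, iff_true] at h1 ⊢
    exact h1
  · simp only [ho, false_or, Nat.even_sub hA] at h1 ⊢
    tauto

/-- The criterion in numbers. -/
theorem nondeg_arith {i d m : ℕ} (hi : 0 < i) (σ τ : Prop) (hm : 0 < m) (hmd : m < 2 * d)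
    (hc : unitDim i ≤ 2 * d) :
    (∀ e K, 0 < K → e + unitDim i * K = 2 * d → (0 < e ∨ Sgn σ i K) →
        ∃ e' A, e' + unitDim i * A = m ∧ A ≤ K ∧ e' ≤ e ∧ (0 < e' ∨ Sgn τ i A) ∧
          (e' < e ∨ Sgn (σ ↔ τ) i (K - A))) ↔
      ((2 * d) % unitDim i = 0 ∧ ¬ Sgn σ i (2 * d / unitDim i)) ∨
        (m % unitDim i ≤ (2 * d) % unitDim i ∧ (0 < m % unitDim i ∨ Sgn τ i (m / unitDim i)) ∧
          (m % unitDim i < (2 * d) % unitDim i ∨ Sgn (σ ↔ τ) i (2 * d / unitDim i - m / unitDim i))) := by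
  classical
  set c := unitDim i with hcdef
  have hc0 : 0 < c := unitDim_pos hi
  have hN := Nat.mod_add_div (2 * d) c
  have hM := Nat.mod_add_div m c
  have hρ := Nat.mod_lt (2 * d) hc0
  have hμ := Nat.mod_lt m hc0
  set N := 2 * d / c
  set ρ := (2 * d) % c
  set A₀ := m / c
  set μ := m % c
  have hN1 : 1 ≤ N := Nat.div_pos hc hc0
  constructor
  · intro H
    by_cases h : 0 < ρ ∨ Sgn σ i N
    · obtain ⟨e', A, h1, -, h3, h4, h5⟩ := H ρ N hN1 hN h
      obtain ⟨e1, e2⟩ := mod_div_of_lt (c := c) (m := m) (e := e') (A := A) (by omega) h1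
      change μ = e' at e1
      change A₀ = A at e2
      subst e1 e2
      exact Or.inr ⟨h3, h4, h5⟩
    · push Not at h
      exact Or.inl ⟨by omega, h.2⟩
  · intro hcond e K hK he hel
    have hKN : K ≤ N := (Nat.le_div_iff_mul_le hc0).2 (by rw [mul_comm]; omega)
    rcases le_or_gt A₀ K with hle | hlt
    · rcases Nat.lt_or_eq_of_le hKN with hKN | rfl
      · have h' : c * (K + 1) ≤ c * N := Nat.mul_le_mul_left c hKN
        rw [Nat.mul_succ] at h'
        by_cases hμs : 0 < μ ∨ Sgn τ i A₀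
        · exact ⟨μ, A₀, hM, hle, by omega, hμs, Or.inl (by omega)⟩
        · push Not at hμs
          rcases hcond with ⟨hρ0, hns⟩ | ⟨-, hτ, -⟩
          · have hA0 : 0 < A₀ := Nat.pos_of_ne_zero fun h => by rw [h, mul_zero] at hM; omega
            have hcA : c * (A₀ - 1) + c = c * A₀ := by rw [← Nat.mul_succ, Nat.succ_eq_add_one,
              Nat.sub_add_cancel hA0]
            refine ⟨c, A₀ - 1, by omega, by omega, by omega, Or.inl hc0, ?_⟩
            rcases Nat.lt_or_ge c e with h | h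
            · exact Or.inl h
            · have hK1 : K + 1 = N := Nat.eq_of_mul_eq_mul_left hc0 (by rw [Nat.mul_succ]; omega)
              refine Or.inr ?_
              rw [show K - (A₀ - 1) = N - A₀ by omega]
              exact sgn_mul (by omega) (iff_of_false hns hμs.2)
          · exact absurd hτ (by rintro (h | h); exacts [absurd h (by omega), hμs.2 h])
      · have heρ : e = ρ := by omega
        subst heρ
        rcases hcond with ⟨hρ0, hns⟩ | ⟨h1, h3, h4⟩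
        · exact absurd hel (by rintro (h | h); exacts [absurd h (by omega), hns h])
        · exact ⟨μ, A₀, hM, hle, h1, h3, h4⟩
    · have h' : c * (K + 1) ≤ c * A₀ := Nat.mul_le_mul_left c hlt
      rw [Nat.mul_succ] at h'
      exact ⟨m - c * K, K, by omega, le_rfl, by omega, Or.inl (by omega), Or.inl (by omega)⟩

/-- A window forces room for one unit. -/
theorem le_of_nondeg_window {i d a : ℕ} (hi : 0 < i) (σ τ : Prop) (ha : 0 < a) (had : a < d)
    (hwin : (∃ j, d - a < j ∧ j < d ∧ unitDim i ∣ 2 * j) ∨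
      (unitDim i ∣ 2 * d ∧ Sgn σ i (2 * d / unitDim i)) ∨
      (unitDim i ∣ 2 * (d - a) ∧ ¬ Sgn (σ ↔ τ) i (2 * (d - a) / unitDim i))) :
    unitDim i ≤ 2 * d ∧
    ((2 * a) % unitDim i ≤ (2 * d) % unitDim i →
      ((2 * a) % unitDim i < (2 * d) % unitDim i ∨
        Sgn (σ ↔ τ) i (2 * d / unitDim i - 2 * a / unitDim i)) → unitDim i ≤ 2 * a) := by
  have hc0 : 0 < unitDim i := unitDim_pos hi
  set c := unitDim i
  refine ⟨?_, fun h1 h3 => ?_⟩
  · rcases hwin with ⟨j, hj, hjd, h⟩ | ⟨h, -⟩ | ⟨h, -⟩ <;> have := Nat.le_of_dvd (by omega) h <;> omega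
  by_contra hlt
  rw [Nat.mod_eq_of_lt (by omega : 2 * a < c)] at h1 h3
  rw [Nat.div_eq_of_lt (by omega : 2 * a < c), Nat.sub_zero] at h3
  rcases hwin with ⟨j, hj, hjd, l, hl⟩ | ⟨⟨l, hl⟩, -⟩ | ⟨⟨l, hl⟩, hns⟩
  · rw [show 2 * d = 2 * (d - j) + c * l by omega, Nat.add_mul_mod_self_left] at h1
    have := Nat.mod_le (2 * (d - j)) c
    omega
  · rw [hl, Nat.mul_mod_right] at h1
    omega
  · rw [show 2 * d = 2 * a + c * l by omega, Nat.add_mul_mod_self_left, Nat.mod_eq_of_lt (by omega : 2 * a < c),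
      Nat.add_mul_div_left _ _ hc0, Nat.div_eq_of_lt (by omega : 2 * a < c), zero_add] at h3
    rw [hl, Nat.mul_div_cancel_left _ hc0] at hns
    exact hns (h3.resolve_left (lt_irrefl _))

variable {F : Type u} [Field F] [Fintype F] {p : ℕ} [hp : Fact p.Prime] [CharP F p]
  {ι : Type} [Fintype ι] [DecidableEq ι] {Q : QuadraticForm F (ι → F)}

omit hp [CharP F p] in
/-- The type of an orthogonal sum. -/
theorem iso_sum_type {V : Type v} [AddCommGroup V] [Module F V] [FiniteDimensional F V] {W : Type v}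
    [AddCommGroup W] [Module F W] [FiniteDimensional F W] (Q₁ : QuadraticForm F V) (Q₂ : QuadraticForm F W)
    (h1 : (QuadraticMap.polarBilin Q₁).Nondegenerate) (h2 : (QuadraticMap.polarBilin Q₂).Nondegenerate) {k l : ℕ}
    (hk : finrank F V = 2 * k) (hl : finrank F W = 2 * l) :
    Iso (add ⇑Q₁ ⇑Q₂) (Cfsg.quadFormPlus (k + l) F) ↔
      (Iso (⇑Q₁) (Cfsg.quadFormPlus k F) ↔ Iso (⇑Q₂) (Cfsg.quadFormPlus l F)) := by
  classical
  obtain ⟨a, b, hab⟩ := RestrictScalars.exists_ab (F := F)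
  have hno : ∀ {U : Type v} [AddCommGroup U] [Module F U] {R : U → F} {j n : ℕ}, n = j + 1 →
      Iso R (Cfsg.quadFormMinus j F a b) → ¬ Iso R (Cfsg.quadFormPlus n F) := fun hn h h' =>
    not_plus_minus hab (hn ▸ h') h
  rcases classify_even Q₁ h1 hk a b hab with hA | ⟨ja, rfl, hA⟩ <;>
    rcases classify_even Q₂ h2 hl a b hab with hC | ⟨jc, rfl, hC⟩
  · exact iff_of_true ((hA.sum hC).trans (plus_plus k l)) (iff_of_true hA hC)
  · exact iff_of_false (hno (show k + (jc + 1) = k + jc + 1 by omega) ((hA.sum hC).trans (plus_minus k jc a b)))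
      fun h => hno rfl hC (h.1 hA)
  · exact iff_of_false (hno (show ja + 1 + l = l + ja + 1 by omega)
      ((Iso.sum_comm _ _).trans ((hC.sum hA).trans (plus_minus l ja a b)))) fun h => hno rfl hA (h.2 hC)
  · refine iff_of_true ?_ (iff_of_false (hno rfl hA) (hno rfl hC))
    have h := (hA.sum hC).trans (minus_minus ja jc a b hab)
    rwa [show ja + jc + 2 = ja + 1 + (jc + 1) by omega] at h

omit hp [CharP F p] in
/-- The type of an orthogonal complement. -/
theorem type_orth (hB : Nondeg Q) {d a : ℕ} (hd : finrank F (ι → F) = 2 * d) (had : a ≤ d)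
    {U : Submodule F (ι → F)} (hU : NondegOn Q U) (hUd : finrank F U = 2 * a) :
    (Iso (⇑Q) (Cfsg.quadFormPlus d F) ↔
      (Cfsg.Geo.IsPlusTypeOn ⇑Q U ↔ Cfsg.Geo.IsPlusTypeOn ⇑Q (orth Q U))) := by
  have horth : finrank F (orth Q U) = 2 * (d - a) := by
    have := finrank_orth hB U
    omega
  rw [isPlusTypeOn_iff hU hUd, isPlusTypeOn_iff (nondegOn_orth hB hU) horth,
    ← iso_sum_type _ _ (qOn_nondeg hU) (qOn_nondeg (nondegOn_orth hB hU)) hUd horth,
    show a + (d - a) = d by omega]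
  exact ⟨fun h => (iso_split hB hU).trans h, fun h => (iso_split hB hU).symm.trans h⟩

omit hp [CharP F p] in
/-- Subspaces of both types occur. -/
theorem exists_typedSub_in (hB : Nondeg Q) {M : Submodule F (ι → F)} (hM : NondegOn Q M) {D a : ℕ}
    (hMd : finrank F M = 2 * D) (ha : 1 ≤ a) (haD : a < D) (τ : Prop) :
    ∃ W ≤ M, TypedSub Q a τ W := by
  classical
  obtain ⟨x, y, hxy⟩ := RestrictScalars.exists_ab (F := F)
  obtain ⟨j, rfl⟩ : ∃ j, a = j + 1 := ⟨a - 1, by omega⟩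
  obtain ⟨b, rfl⟩ : ∃ b, D = j + 1 + (b + 1) := ⟨D - j - 2, by omega⟩
  have key : ∀ {κ : Type} [Fintype κ] [DecidableEq κ] (R : QuadraticForm F (κ → F)), Nondeg R →
      Fintype.card κ = 2 * (j + 1) → ∀ {W : Type u} [AddCommGroup W] [Module F W] (S : W → F), S 0 = 0 →
      Iso (add ⇑R S) (⇑(qOn Q M)) → ∀ (_ : Iso (⇑R) (Cfsg.quadFormPlus (j + 1) F) ↔ τ),
      ∃ U ≤ M, TypedSub Q (j + 1) τ U := by
    intro κ _ _ R hRn hcard W _ _ S hS h hty
    obtain ⟨e, he⟩ := h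
    let f : (κ → F) →ₗ[F] (ι → F) := M.subtype ∘ₗ e.toLinearMap ∘ₗ LinearMap.inl F _ _
    have hf : Function.Injective f := M.injective_subtype.comp (e.injective.comp LinearMap.inl_injective)
    have hQf : ∀ v, Q (f v) = R v := fun v => by
      show qOn Q M (e (v, 0)) = R v
      rw [he]
      simp [add, hS]
    have hpol : ∀ v w, QuadraticMap.polar ⇑Q (f v) (f w) = QuadraticMap.polar ⇑R v w := fun v w => by
      simp only [QuadraticMap.polar, ← map_add, hQf]
    have hd : finrank F (LinearMap.range f) = 2 * (j + 1) := by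
      rw [LinearMap.finrank_range_of_inj hf, Module.finrank_pi, hcard]
    have hn : NondegOn Q (LinearMap.range f) := by
      rintro _ ⟨v, rfl⟩ h
      rw [hRn v fun w => (hpol v w).symm.trans (h (f w) ⟨w, rfl⟩), map_zero]
    have hiso : Iso (⇑R) (⇑(qOn Q (LinearMap.range f))) :=
      ⟨LinearEquiv.ofInjective f hf, fun v => by show Q (f v) = R v; exact hQf v⟩
    refine ⟨LinearMap.range f, ?_, hd, hn, ?_⟩
    · rintro _ ⟨v, rfl⟩
      exact (e (v, 0)).2
    · rw [isPlusTypeOn_iff hn hd]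
      exact ⟨fun h => hty.1 (hiso.trans h), fun h => hiso.symm.trans (hty.2 h)⟩
  obtain ⟨Pp, hPp, hPpn⟩ := exists_quadForm_plus (F := F) (j + 1)
  obtain ⟨Pm, hPm, hPmn⟩ := exists_quadForm_minus j hxy
  by_cases hτ : τ
  · have hty : Iso (⇑Pp) (Cfsg.quadFormPlus (j + 1) F) ↔ τ := iff_of_true (hPp ▸ Iso.refl _) hτ
    rcases classify_even (qOn Q M) (qOn_nondeg hM) hMd x y hxy with h | ⟨l, hl, h⟩
    · exact key Pp hPpn (by simp; omega) (Cfsg.quadFormPlus (b + 1) F) (by simp [Cfsg.quadFormPlus])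
        (((hPp ▸ Iso.refl _ : Iso (⇑Pp) (Cfsg.quadFormPlus (j + 1) F)).sum (Iso.refl _)).trans
          ((plus_plus (j + 1) (b + 1)).trans h.symm)) hty
    · obtain rfl : l = j + 1 + b := by omega
      exact key Pp hPpn (by simp; omega) (Cfsg.quadFormMinus b F x y) (by simp [Cfsg.quadFormMinus])
        (((hPp ▸ Iso.refl _ : Iso (⇑Pp) (Cfsg.quadFormPlus (j + 1) F)).sum (Iso.refl _)).trans
          ((plus_minus (j + 1) b x y).trans h.symm)) hty
  · have hPm' : Iso (⇑Pm) (Cfsg.quadFormMinus j F x y) := hPm ▸ Iso.refl _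
    have hty : Iso (⇑Pm) (Cfsg.quadFormPlus (j + 1) F) ↔ τ :=
      iff_of_false (fun h => not_plus_minus hxy h hPm') hτ
    rcases classify_even (qOn Q M) (qOn_nondeg hM) hMd x y hxy with h | ⟨l, hl, h⟩
    · refine key Pm hPmn (by simp; omega) (Cfsg.quadFormMinus b F x y) (by simp [Cfsg.quadFormMinus])
        ((hPm'.sum (Iso.refl _)).trans ((minus_minus j b x y hxy).trans ?_)) hty
      rw [show j + b + 2 = j + 1 + (b + 1) by omega]
      exact h.symm
    · obtain rfl : l = b + 1 + j := by omega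
      exact key Pm hPmn (by simp; omega) (Cfsg.quadFormPlus (b + 1) F) (by simp [Cfsg.quadFormPlus])
        ((Iso.sum_comm _ _).trans (((Iso.refl _).sum hPm').trans ((plus_minus (b + 1) j x y).trans h.symm))) hty

omit hp [CharP F p] in
theorem exists_typedSub_even (hB : Nondeg Q) {d a : ℕ} (hd : finrank F (ι → F) = 2 * d) (ha : 1 ≤ a) (had : a < d)
    (τ : Prop) : ∃ W, TypedSub Q a τ W := by
  obtain ⟨W, -, hW⟩ := exists_typedSub_in hB (M := ⊤) (fun x _ h => hB x fun y => h y trivial)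
    (by rw [finrank_top, hd]) ha had τ
  exact ⟨W, hW⟩

include hp in
/-- The criterion. -/
theorem even_nondeg_iff {q r i t : ℕ} {D : Finset F[X]} (X : Ctx F p q r i t D) (hB : Nondeg Q) {d a : ℕ}
    (hd : 3 ≤ d) (hcard : Fintype.card ι = 2 * d) (ha : 1 ≤ a) (had : a < d) {σ τ : Prop}
    (hσ : σ ↔ Iso (⇑Q) (Cfsg.quadFormPlus d F)) :
    (∀ x : GL ι F, x ∈ Cfsg.Geo.omegaGL ⇑Q →
      (∃ z : F, ((x ^ r : GL ι F) : Matrix ι ι F) = z • (1 : Matrix ι ι F)) →
      (∀ z : F, (x : Matrix ι ι F) ≠ z • (1 : Matrix ι ι F)) →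
      ∃ W : Submodule F (ι → F), TypedSub Q a τ W ∧ W.map (Matrix.toLin' (x : Matrix ι ι F)) ≤ W) ↔
    (∀ e K, 0 < K → e + unitDim i * K = 2 * d → (0 < e ∨ Sgn σ i K) →
        ∃ e' A, e' + unitDim i * A = 2 * a ∧ A ≤ K ∧ e' ≤ e ∧ (0 < e' ∨ Sgn τ i A) ∧
          (e' < e ∨ Sgn (σ ↔ τ) i (K - A))) := by
  classical
  have hpi : finrank F (ι → F) = 2 * d := by rw [Module.finrank_pi, hcard]
  have horth : ∀ {W : Submodule F (ι → F)}, finrank F W = 2 * a →
      finrank F (orth Q W) = 2 * (d - a) := fun {W} hW => by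
    have := finrank_orth hB W
    rw [hW, hpi] at this
    omega
  have hsub : ∀ {W : Submodule F (ι → F)}, TypedSub Q a τ W →
      (Iso (⇑(qOn Q W)) (Cfsg.quadFormPlus a F) ↔ τ) ∧
      (Iso (⇑(qOn Q (orth Q W))) (Cfsg.quadFormPlus (d - a) F) ↔ (σ ↔ τ)) := fun {W} hW => by
    have h1 : Cfsg.Geo.IsPlusTypeOn ⇑Q W ↔ τ := hW.2.2
    have h3 := type_orth hB hpi had.le hW.2.1 hW.1
    rw [← hσ, h1, isPlusTypeOn_iff (nondegOn_orth hB hW.2.1) (horth hW.1)] at h3
    exact ⟨(isPlusTypeOn_iff hW.2.1 hW.1).symm.trans h1, by tauto⟩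
  constructor
  · intro H e K hK he hsgn
    obtain ⟨f, hf⟩ := exists_of_shape X.facts X.t_pos e K
    have hreal : Real r (⇑Q) f := (real_even_iff X Q (bilin_nondeg hB) hpi f).mpr
      ⟨e, K, hf, he, hsgn.imp_right fun h => hσ.symm.trans h⟩
    obtain ⟨x, hxΩ, hx, hxc, -, hxs⟩ := exists_element hB (by omega) X hK hf hreal
    obtain ⟨W, hW, hWx⟩ := H x hxΩ ⟨1, by rw [← SubmonoidClass.coe_pow, hx, one_smul]; rfl⟩ hxs
    obtain ⟨hτ', hστ⟩ := hsub hW
    obtain ⟨fA, fB, hA, hB', hAB⟩ := real_restrict hB x hx hW.2.1 fun w hw => hWx (Submodule.mem_map_of_mem hw)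
    obtain ⟨e', A, hsA, hdA, hgA⟩ := (real_even_iff X _ (qOn_nondeg hW.2.1) hW.1 fA).mp hA
    obtain ⟨eB, KB, hsB, -, hgB⟩ :=
      (real_even_iff X _ (qOn_nondeg (nondegOn_orth hB hW.2.1)) (horth hW.1) fB).mp hB'
    obtain ⟨he1, hK1⟩ := hf.unique X.facts (hxc ▸ hAB ▸ hsA.mul hsB)
    refine ⟨e', A, hdA, by omega, by omega, hgA.imp_right fun h => hτ'.symm.trans h, ?_⟩
    rcases hgB with h | h
    · exact Or.inl (by omega)
    · rw [show K - A = KB by omega]
      exact Or.inr (hστ.symm.trans h)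
  · rintro H x hxΩ ⟨z, hz⟩ hxs
    obtain ⟨g₀, -, rfl⟩ := hxΩ
    obtain ⟨g, hg, hne, hinv⟩ := exists_normal_odd hB (by omega) (X.prime.odd_of_ne_two X.ne_two) g₀ hz hxs
    obtain ⟨e, K, hs, hd', hsgn⟩ := (real_even_iff X Q (bilin_nondeg hB) hpi (cp g)).mp (real_of_grp g hg)
    obtain ⟨e', A, hm, hAK, he', hgA, hgB⟩ := H e K (units_pos hB X hg hne hs) hd'
      (hsgn.imp_right fun h => hσ.trans h)
    obtain ⟨fA, fB, hfAB, hsA, hsB⟩ := hs.split X.facts he' hAK
    obtain ⟨U, hU⟩ := exists_typedSub_even hB hpi ha had τ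
    obtain ⟨hτ', hστ⟩ := hsub hU
    have hA' : Real r (⇑(qOn Q U)) fA := (real_even_iff X _ (qOn_nondeg hU.2.1) hU.1 fA).mpr
      ⟨e', A, hsA, hm, hgA.imp_right fun h => hτ'.trans h⟩
    have hdeg : (e - e') + unitDim i * (K - A) = 2 * (d - a) := by
      have h' : unitDim i * A ≤ unitDim i * K := Nat.mul_le_mul_left _ hAK
      rw [Nat.mul_sub]
      omega
    have hB' : Real r (⇑(qOn Q (orth Q U))) fB :=
      (real_even_iff X _ (qOn_nondeg (nondegOn_orth hB hU.2.1)) (horth hU.1) fB).mpr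
        ⟨_, _, hsB, hdeg, hgB.imp (fun h => by omega) fun h => hστ.trans h⟩
    obtain ⟨h, hh⟩ := exists_invariant hB X.prime X.ne_two X.ne_char g hg hU.2.1 hA' hB' hfAB
    refine ⟨img h U, typedSub_img h hU, ?_⟩
    rintro _ ⟨w, hw, rfl⟩
    exact hinv (img h U) hh w hw

include hp in
/-- A prime dividing the number of subspaces of one dimension and type. -/
theorem even_nondeg_window {q r i : ℕ} (hq : Fintype.card F = q) (hr : r.Prime) (hr2 : r ≠ 2) (hrp : r ≠ p)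
    (hi : i = orderOf (q : ZMod r)) (hi0 : 0 < i) (hB : Nondeg Q) {d a : ℕ} (hcard : Fintype.card ι = 2 * d)
    (ha : 1 ≤ a) (had : a < d) {σ τ : Prop} (hσ : σ ↔ Iso (⇑Q) (Cfsg.quadFormPlus d F))
    (hN : r ∣ Nat.card {W // TypedSub Q a τ W}) :
    (∃ j, d - a < j ∧ j < d ∧ unitDim i ∣ 2 * j) ∨
      (unitDim i ∣ 2 * d ∧ Sgn σ i (2 * d / unitDim i)) ∨
      (unitDim i ∣ 2 * (d - a) ∧ ¬ Sgn (σ ↔ τ) i (2 * (d - a) / unitDim i)) := by
  classical
  haveI := Fact.mk hr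
  obtain ⟨hrq, hq2⟩ := not_dvd_card (p := p) hq hr hrp
  obtain ⟨x, y, hxy⟩ := RestrictScalars.exists_ab (F := F)
  have hpi : finrank F (ι → F) = 2 * d := by rw [Module.finrank_pi, hcard]
  obtain ⟨U, hU⟩ := exists_typedSub_even hB hpi ha had τ
  have horth : finrank F (orth Q U) = 2 * (d - a) := by
    have := finrank_orth hB U
    rw [hU.1, hpi] at this
    omega
  have hn := nondegOn_orth hB hU.2.1
  have h3 := type_orth hB hpi had.le hU.2.1 hU.1
  rw [← hσ, hU.2.2, isPlusTypeOn_iff hn horth] at h3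
  have hF : Nat.card F = q := by rw [Nat.card_eq_fintype_card, hq]
  have hsq : ∀ n, (q ^ n - 1) * (q ^ n + 1) = q ^ (2 * n) - 1 := fun n => by
    rw [mul_comm 2, pow_mul, ← one_pow 2, Nat.sq_sub_sq, one_pow]
    ring
  have hqd : ∀ n, 0 < n → q ^ n - 1 ≠ 0 := fun n hn =>
    (Nat.sub_pos_of_lt (Nat.one_lt_pow hn.ne' (by omega))).ne'
  have hord : ∀ {κ : Type} [Fintype κ] [DecidableEq κ] (R : QuadraticForm F (κ → F)) (_ : Nondeg R) (n : ℕ)
      (_ : 1 ≤ n) (_ : Fintype.card κ = 2 * n), ∃ X X', X * X' = q ^ (2 * n) - 1 ∧ X ≠ 0 ∧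
      Nat.card (Grp R) = 2 * q ^ (n * (n - 1)) * X * ∏ j ∈ Finset.range (n - 1), (q ^ (2 * (j + 1)) - 1) ∧
      (Iso (⇑R) (Cfsg.quadFormPlus n F) ∧ X = q ^ n - 1 ∧ X' = q ^ n + 1 ∨
        ¬ Iso (⇑R) (Cfsg.quadFormPlus n F) ∧ X = q ^ n + 1 ∧ X' = q ^ n - 1) := by
    intro κ _ _ R hRn n hn hcn
    have hpi' : finrank F (κ → F) = 2 * n := by rw [Module.finrank_pi, hcn]
    rcases classify_even R (bilin_nondeg hRn) hpi' x y hxy with h | ⟨j, rfl, h⟩
    · obtain ⟨P, hP, hPn⟩ := exists_quadForm_plus (F := F) n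
      obtain ⟨e, he⟩ := h
      refine ⟨q ^ n - 1, q ^ n + 1, hsq n, hqd n (by omega), ?_, Or.inl ⟨⟨e, he⟩, rfl, rfl⟩⟩
      rw [card_grp_congr hRn hPn e (fun z => by rw [hP]; exact he z), card_orth_plus n hn hP hPn, hF]
    · obtain ⟨P, hP, hPn⟩ := exists_quadForm_minus j hxy
      obtain ⟨e, he⟩ := h
      have hc : Nat.card (Grp P) = 2 * Nat.card F ^ ((j + 1) * j) * (Nat.card F ^ (j + 1) + 1) *
          ∏ i ∈ Finset.range j, (Nat.card F ^ (2 * (i + 1)) - 1) :=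
        card_orth_minus (j + 1) (by omega) hxy (Q := P) hP hPn
      refine ⟨q ^ (j + 1) + 1, q ^ (j + 1) - 1, (mul_comm _ _).trans (hsq _), by positivity, ?_,
        Or.inr ⟨fun h' => not_plus_minus hxy h' ⟨e, he⟩, rfl, rfl⟩⟩
      rw [card_grp_congr hRn hPn e (fun z => by rw [hP]; exact he z), hc, hF, Nat.add_sub_cancel]
  obtain ⟨κ, _, _, R, hRn, hcR, hR⟩ : ∃ (κ : Type) (_ : Fintype κ) (_ : DecidableEq κ)
      (R : QuadraticForm F (κ → F)), Nondeg R ∧ Fintype.card κ = 2 * (d - a) ∧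
      Iso (⇑R) (⇑(qOn Q (orth Q U))) := by
    rcases classify_even _ (qOn_nondeg hn) horth x y hxy with h | ⟨j, hj, h⟩
    · obtain ⟨R, hR, hRn⟩ := exists_quadForm_plus (F := F) (d - a)
      exact ⟨_, inferInstance, inferInstance, R, hRn, by simp; omega, hR ▸ h.symm⟩
    · obtain ⟨R, hR, hRn⟩ := exists_quadForm_minus j hxy
      exact ⟨_, inferInstance, inferInstance, R, hRn, by simp; omega, hR ▸ h.symm⟩
  obtain ⟨φ, hφ, hfix⟩ := exists_embed hB hn R hR
  have h := card_mul_dvd (TypedSub Q a τ) (fun g W hW => typedSub_img g hW) hU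
    (fun W hW => exists_move hB (iso_of_type hU hW)) φ hφ (hfix U (orth_orth hB U).ge)
  obtain ⟨Y, Y', -, hY0, hYc, hY⟩ := hord Q hB d (by omega) hcard
  obtain ⟨X, X', hX, -, hXc, hX'⟩ := hord R hRn (d - a) (by omega) hcR
  rw [hYc, hXc] at h
  refine exists_window_even hr2 hrq hq2 hi hi0 σ (σ ↔ τ) (by omega) (by omega) hN hX ⟨hY0, fun hd => ?_⟩
    (fun hd => ?_) h
  · rcases hY with ⟨hs, rfl, -⟩ | ⟨hs, rfl, -⟩
    · exact Or.inl ⟨hσ.2 hs, cast_pow_one (by omega) hd⟩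
    · exact Or.inr ⟨fun hc => hs (hσ.1 hc), cast_pow_neg_one hd⟩
  · have hty : Iso (⇑R) (Cfsg.quadFormPlus (d - a) F) ↔ (σ ↔ τ) := by
      have e : Iso (⇑R) (Cfsg.quadFormPlus (d - a) F) ↔ Iso (⇑(qOn Q (orth Q U))) (Cfsg.quadFormPlus (d - a) F) :=
        ⟨fun h => hR.symm.trans h, fun h => hR.trans h⟩
      rw [e]; tauto
    rcases hX' with ⟨hs, -, rfl⟩ | ⟨hs, -, rfl⟩
    · exact Or.inl ⟨hty.1 hs, cast_pow_neg_one hd⟩
    · exact Or.inr ⟨fun hc => hs (hty.2 hc), cast_pow_one (by omega) hd⟩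

end CfsgLib.Derange
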