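import Cfsg.Agent.Lib.Derange.NondegEvenUnip
import Cfsg.Agent.Lib.Derange.EvenParabolicTwo

/-!
Involutions of even-dimensional orthogonal groups in characteristic two and their invariant non-degenerate subspaces.
-/

set_option autoImplicit false
set_option linter.style.haveILetI false

namespace CfsgLib.Derange

open Module CfsgLib.Classical CfsgLib.Classical.OrthModels CfsgLib.Orth
open CfsgLib.Classical.InvolutionOrth (uO uO_apply)

universe u

variable {F : Type u} [Field F] {ι : Type} [Fintype ι] [DecidableEq ι] {Q : QuadraticForm F (ι → F)}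

local notation "B" => QuadraticMap.polar (DFunLike.coe Q)

/-- A linear map behaving like `g - 1` for an involutive isometry in characteristic two. -/
structure InvolN (Q : QuadraticForm F (ι → F)) (N : End F (ι → F)) : Prop where
  two : (2 : F) = 0
  nn : ∀ v, N (N v) = 0
  sym : ∀ u v, QuadraticMap.polar ⇑Q (N u) v = QuadraticMap.polar ⇑Q u (N v)
  qn : ∀ v, Q (N v) = QuadraticMap.polar ⇑Q v (N v)

/-- An invariant non-degenerate subspace. -/
def StableNondeg (Q : QuadraticForm F (ι → F)) (N : End F (ι → F)) (M : Submodule F (ι → F)) : Prop :=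
  NondegOn Q M ∧ ∀ x ∈ M, N x ∈ M

variable {N : End F (ι → F)}

theorem InvolN.add_self (hN : InvolN Q N) (x : F) : x + x = 0 := by rw [← two_mul, hN.two, zero_mul]

theorem InvolN.nn_b (hN : InvolN Q N) (u v : ι → F) : B (N u) (N v) = 0 := by
  rw [hN.sym, hN.nn, b_zero_right]

theorem InvolN.add (hN : InvolN Q N) (u v : ι → F) : B (u + v) (N (u + v)) = B u (N u) + B v (N v) := by
  rw [map_add, b_add_left, b_add_right, b_add_right, show B v (N u) = B u (N v) by rw [b_comm, hN.sym]]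
  linear_combination hN.add_self (B u (N v))

theorem StableNondeg.rest (hB : Nondeg Q) {M U : Submodule F (ι → F)} (hM : StableNondeg Q N M)
    (hU : StableNondeg Q N U) (hUM : U ≤ M) (hN : InvolN Q N) :
    StableNondeg Q N (M ⊓ orth Q U) ∧ U ⊔ (M ⊓ orth Q U) = M ∧
      finrank F U + finrank F ↥(M ⊓ orth Q U) = finrank F M ∧
      finrank F ↥(U.map N) + finrank F ↥((M ⊓ orth Q U).map N) = finrank F ↥(M.map N) := by
  set R := M ⊓ orth Q U with hR
  have hsup : U ⊔ R = M := by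
    rw [hR, inf_comm, ← sup_inf_assoc_of_le _ hUM, sup_orth_eq_top hB hU.1, top_inf_eq]
  have hinf : U ⊓ R = ⊥ := (Submodule.eq_bot_iff _).2 fun x hx => nondeg_inf hU.1 hx.1 hx.2.2
  have hRN : ∀ x ∈ R, N x ∈ R := fun x hx => ⟨hM.2 x hx.1, mem_orth.2 fun u hu => by
    rw [← hN.sym]; exact mem_orth.1 hx.2 _ (hU.2 u hu)⟩
  refine ⟨⟨fun x hx h => hM.1 x hx.1 fun y hy => ?_, hRN⟩, hsup, ?_, ?_⟩
  · rw [← hsup] at hy
    obtain ⟨s, hs, w, hw, rfl⟩ := Submodule.mem_sup.1 hy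
    rw [b_add_right, h w hw, b_comm x s, mem_orth.1 hx.2 s hs, add_zero]
  · have h := Submodule.finrank_sup_add_finrank_inf_eq U R
    rw [hsup, hinf, finrank_bot] at h
    omega
  · have h := Submodule.finrank_sup_add_finrank_inf_eq (U.map N) (R.map N)
    rw [← Submodule.map_sup, hsup, show U.map N ⊓ R.map N = ⊥ from le_bot_iff.1 (hinf ▸ inf_le_inf
      (Submodule.map_le_iff_le_comap.2 hU.2) (Submodule.map_le_iff_le_comap.2 hRN)), finrank_bot] at h
    omega

/-- The sum of two orthogonal invariant subspaces. -/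
theorem StableNondeg.sup [Fintype F] (hB : Nondeg Q) {U W : Submodule F (ι → F)} (hU : StableNondeg Q N U)
    (hW : StableNondeg Q N W) (hperp : W ≤ orth Q U) {a b : ℕ} (ha : finrank F U = 2 * a)
    (hb : finrank F W = 2 * b) :
    StableNondeg Q N (U ⊔ W) ∧ finrank F ↥(U ⊔ W) = 2 * (a + b) ∧
      (Cfsg.Geo.IsPlusTypeOn ⇑Q (U ⊔ W) ↔
        (Cfsg.Geo.IsPlusTypeOn ⇑Q U ↔ Cfsg.Geo.IsPlusTypeOn ⇑Q W)) := by
  classical
  have hd : finrank F ↥(U ⊔ W) = 2 * (a + b) := by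
    have h := Submodule.finrank_sup_add_finrank_inf_eq U W
    rw [show U ⊓ W = ⊥ from (Submodule.eq_bot_iff _).2 fun x hx => nondeg_inf hU.1 hx.1 (hperp hx.2),
      finrank_bot] at h
    omega
  have hn : NondegOn Q (U ⊔ W) := fun x hx h => by
    obtain ⟨u, hu, w, hw, rfl⟩ := Submodule.mem_sup.1 hx
    have hu0 : u = 0 := hU.1 u hu fun y hy => by
      have := h y (Submodule.mem_sup_left hy)
      rwa [b_add_left, b_comm w y, mem_orth.1 (hperp hw) y hy, add_zero] at this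
    have hw0 : w = 0 := hW.1 w hw fun y hy => by
      have := h y (Submodule.mem_sup_right hy)
      rwa [b_add_left, mem_orth.1 (hperp hy) u hu, zero_add] at this
    rw [hu0, hw0, add_zero]
  refine ⟨⟨hn, fun x hx => ?_⟩, hd, ?_⟩
  · obtain ⟨u, hu, w, hw, rfl⟩ := Submodule.mem_sup.1 hx
    rw [map_add]
    exact add_mem (Submodule.mem_sup_left (hU.2 u hu)) (Submodule.mem_sup_right (hW.2 w hw))
  let l : (U × W) →ₗ[F] ↥(U ⊔ W) :=
    LinearMap.coprod (Submodule.inclusion le_sup_left) (Submodule.inclusion le_sup_right)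
  have hiso : Iso (add (⇑(qOn Q U)) (⇑(qOn Q W))) (⇑(qOn Q (U ⊔ W))) := by
    refine iso_of_injective l (fun z hz => ?_) (by rw [Module.finrank_prod, ha, hb, hd]; ring) fun z => ?_
    · have h0 : (z.1 : ι → F) + (z.2 : ι → F) = 0 := congrArg Subtype.val hz
      have h1 : (z.1 : ι → F) = 0 := nondeg_inf hU.1 z.1.2 (by
        rw [eq_neg_of_add_eq_zero_left h0]
        exact (orth Q U).neg_mem (hperp z.2.2))
      rw [h1, zero_add] at h0
      exact Prod.ext (Subtype.ext h1) (Subtype.ext h0)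
    · show Q ((z.1 : ι → F) + (z.2 : ι → F)) = _
      rw [q_add, mem_orth.1 (hperp z.2.2) _ z.1.2, add_zero]
      rfl
  rw [isPlusTypeOn_iff hn hd, isPlusTypeOn_iff hU.1 ha, isPlusTypeOn_iff hW.1 hb,
    ← iso_sum_type _ _ (qOn_nondeg hU.1) (qOn_nondeg hW.1) ha hb]
  exact ⟨fun h => hiso.trans h, fun h => hiso.symm.trans h⟩

/-- A block of two chains. -/
theorem exists_block (hN : InvolN Q N) {M : Submodule F (ι → F)} (hM : StableNondeg Q N M)
    (hψ : ∀ x ∈ M, B x (N x) = 0) {u : ι → F} (hu : u ∈ M) (hNu : N u ≠ 0) :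
    ∃ U ≤ M, StableNondeg Q N U ∧ finrank F U = 2 * 2 ∧ Cfsg.Geo.IsPlusTypeOn ⇑Q U ∧
      finrank F ↥(U.map N) = 2 := by
  classical
  obtain ⟨v₀, hv₀, hv₀'⟩ : ∃ v ∈ M, B (N u) v ≠ 0 := by
    by_contra hc
    push Not at hc
    exact hNu (hM.1 _ (hM.2 u hu) hc)
  obtain ⟨v, hv, huv⟩ : ∃ v ∈ M, B u (N v) = 1 := ⟨(B (N u) v₀)⁻¹ • v₀, M.smul_mem _ hv₀, by
    rw [map_smul, b_smul_right, ← hN.sym, inv_mul_cancel₀ hv₀']⟩
  have hvu : B v (N u) = 1 := by rw [b_comm, hN.sym, huv]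
  have hb : ∀ x y, B (N x) (N y) = 0 := hN.nn_b
  have huu := hψ u hu
  have hvv := hψ v hv
  let G : (Fin 4 → F) →ₗ[F] (ι → F) :=
    Fintype.linearCombination F ![u, v, N u, N v]
  have hG : ∀ c, G c = c 0 • u + c 1 • v + c 2 • N u + c 3 • N v := fun c => by
    simp [G, Fintype.linearCombination_apply, Fin.sum_univ_four]
  have hco : ∀ c, B (G c) (N v) = c 0 ∧ B (G c) (N u) = c 1 ∧
      B (G c) v = c 0 * B u v + c 1 * B v v + c 2 ∧ B (G c) u = c 0 * B u u + c 1 * B v u + c 3 := fun c => by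
    rw [hG]
    simp only [b_add_left, b_smul_left, huv, huu, hvv, hvu, hb, show B (N u) v = 1 by rw [hN.sym, huv],
      show B (N u) u = 0 by rw [hN.sym, huu], show B (N v) v = 0 by rw [hN.sym, hvv],
      show B (N v) u = 1 by rw [hN.sym, hvu]]
    refine ⟨?_, ?_, ?_, ?_⟩ <;> ring
  have hker : ∀ c, (∀ y ∈ LinearMap.range G, B (G c) y = 0) → c = 0 := fun c h => by
    have hmem : ∀ k, ![u, v, N u, N v] k ∈ LinearMap.range G := fun k =>
      ⟨Pi.single k 1, by simp [G]⟩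
    obtain ⟨e0, e1, e2, e3⟩ := hco c
    rw [show B (G c) (N v) = 0 from h _ (hmem 3)] at e0
    rw [show B (G c) (N u) = 0 from h _ (hmem 2)] at e1
    rw [show B (G c) v = 0 from h _ (hmem 1), ← e0, ← e1] at e2
    rw [show B (G c) u = 0 from h _ (hmem 0), ← e0, ← e1] at e3
    simp only [zero_mul, zero_add] at e2 e3
    funext k
    fin_cases k
    exacts [e0.symm, e1.symm, e2.symm, e3.symm]
  have hinj : Function.Injective G := (injective_iff_map_eq_zero G).2 fun c hc => hker c fun y _ => by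
    rw [hc, b_zero_left]
  have hd : finrank F (LinearMap.range G) = 2 * 2 := by
    rw [LinearMap.finrank_range_of_inj hinj, Module.finrank_fin_fun]
  have hUM : LinearMap.range G ≤ M := by
    rintro _ ⟨c, rfl⟩
    rw [hG]
    exact M.add_mem (M.add_mem (M.add_mem (M.smul_mem _ hu) (M.smul_mem _ hv)) (M.smul_mem _ (hM.2 u hu)))
      (M.smul_mem _ (hM.2 v hv))
  have hNG : ∀ c, N (G c) = G ![0, 0, c 0, c 1] := fun c => by
    simp only [hG, map_add, map_smul, hN.nn, smul_zero, add_zero]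
    simp
  let L : (Fin 2 → F) →ₗ[F] (ι → F) := G ∘ₗ
    { toFun := fun c => ![0, 0, c 0, c 1]
      map_add' := fun c c' => by ext k; fin_cases k <;> simp
      map_smul' := fun r c => by ext k; fin_cases k <;> simp }
  have hL : ∀ c, L c = G ![0, 0, c 0, c 1] := fun c => rfl
  have hLi : Function.Injective L := fun c c' h => by
    have h1 := hinj ((hL c).symm.trans (h.trans (hL c')))
    ext k
    fin_cases k
    · exact congrFun h1 2
    · exact congrFun h1 3
  have hmap : (LinearMap.range G).map N = LinearMap.range L := by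
    ext x
    constructor
    · rintro ⟨_, ⟨c, rfl⟩, rfl⟩
      exact ⟨![c 0, c 1], (hL _).trans (by rw [hNG]; simp)⟩
    · rintro ⟨c, rfl⟩
      exact ⟨G ![c 0, c 1, 0, 0], ⟨_, rfl⟩, by rw [hNG, hL]; simp⟩
  have hLs : ∀ x ∈ LinearMap.range L, Q x = 0 := by
    rintro _ ⟨c, rfl⟩
    rw [hL, hG]
    simp [q_add, q_smul, b_smul_left, b_smul_right, hN.qn, huu, hvv, hb]
  have hLd : finrank F (LinearMap.range L) = 2 := by
    rw [LinearMap.finrank_range_of_inj hLi, Module.finrank_fin_fun]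
  refine ⟨LinearMap.range G, hUM, ⟨fun x hx h => ?_, fun x hx => ?_⟩, hd,
    ⟨LinearMap.range L, LinearMap.range_comp_le_range _ _, hLs, by rw [hLd, hd]⟩, by rw [hmap, hLd]⟩
  · obtain ⟨c, rfl⟩ := hx
    rw [hker c h, map_zero]
  · obtain ⟨c, rfl⟩ := hx
    exact ⟨_, (hNG c).symm⟩

variable [Fintype F]

/-- The whole stable subspaces of an involution with singular displacement space. -/
theorem exists_alt_sub (hB : Nondeg Q) (hN : InvolN Q N) : ∀ (t : ℕ) (M : Submodule F (ι → F)) (D : ℕ),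
    StableNondeg Q N M → finrank F M = 2 * D → (∀ x ∈ M, B x (N x) = 0) → finrank F ↥(M.map N) = t →
    Even t ∧ ∀ (k l : ℕ) (τ : Prop), l ≤ k → Even (k - l) → k - l ≤ t → l + t ≤ D → (l = 0 → τ) →
      (l + t = D → (τ ↔ Cfsg.Geo.IsPlusTypeOn ⇑Q M)) →
      ∃ W ≤ M, StableNondeg Q N W ∧ finrank F W = 2 * k ∧ (Cfsg.Geo.IsPlusTypeOn ⇑Q W ↔ τ) := by
  intro t
  induction t using Nat.strong_induction_on with
  | _ t ih =>
    intro M D hM hMd hψ ht
    rcases Nat.eq_zero_or_pos t with rfl | htpos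
    · refine ⟨Even.zero, fun k l τ hlk _ hkl hlD hl0 hlD' => ?_⟩
      obtain rfl : k = l := by omega
      have hN0 : ∀ x ∈ M, N x = 0 := fun x hx => (Submodule.mem_bot F).1
        (Submodule.finrank_eq_zero.1 ht ▸ Submodule.mem_map_of_mem hx)
      rcases Nat.eq_zero_or_pos k with rfl | hk
      · exact ⟨⊥, bot_le, ⟨fun x hx _ => (Submodule.mem_bot F).1 hx, fun x hx => by
          rw [(Submodule.mem_bot F).1 hx, map_zero]; exact zero_mem _⟩, finrank_bot F (ι → F),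
          iff_of_true ⟨⊥, le_rfl, fun w hw => by rw [(Submodule.mem_bot F).1 hw, QuadraticMap.map_zero], by simp⟩
            (hl0 rfl)⟩
      rcases Nat.lt_or_eq_of_le (show k ≤ D by omega) with hkD | rfl
      · obtain ⟨W, hW, hWd, hWn, hWτ⟩ := exists_typedSub_in hB hM.1 hMd hk hkD τ
        exact ⟨W, hW, ⟨hWn, fun x hx => by rw [hN0 x (hW hx)]; exact zero_mem _⟩, hWd, hWτ⟩
      · exact ⟨M, le_rfl, hM, hMd, (hlD' (by omega)).symm⟩
    · obtain ⟨u, hu, hNu⟩ : ∃ u ∈ M, N u ≠ 0 := by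
        by_contra hc
        push Not at hc
        have : M.map N = ⊥ := (Submodule.eq_bot_iff _).2 (by rintro _ ⟨x, hx, rfl⟩; exact hc x hx)
        rw [this, finrank_bot] at ht
        omega
      obtain ⟨U, hUM, hU, hUd, hUp, hUr⟩ := exists_block hN hM hψ hu hNu
      obtain ⟨hR, hsup, hRd, hRr⟩ := hM.rest hB hU hUM hN
      set R := M ⊓ orth Q U
      obtain ⟨D', rfl⟩ : ∃ D', D = 2 + D' := ⟨D - 2, by omega⟩
      obtain ⟨t', rfl⟩ : ∃ t', t = t' + 2 := ⟨t - 2, by omega⟩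
      obtain ⟨hev, hrec⟩ := ih t' (by omega) R D' hR (by omega) (fun x hx => hψ x hx.1) (by omega)
      refine ⟨hev.add even_two, fun k l τ hlk hkl hklt hlD hl0 hlD' => ?_⟩
      have hty : Cfsg.Geo.IsPlusTypeOn ⇑Q M ↔ Cfsg.Geo.IsPlusTypeOn ⇑Q R := by
        have h := (hU.sup hB hR inf_le_right hUd (b := D') (by omega)).2.2
        rw [hsup] at h
        rw [h]
        simp [hUp]
      rcases Nat.eq_or_lt_of_le hlk with rfl | hlt
      · obtain ⟨W, hW, hW'⟩ := hrec l l τ le_rfl (by simp) (by omega) (by omega) hl0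
          fun h => (hlD' (by omega)).trans hty
        exact ⟨W, hW.trans inf_le_left, hW'⟩
      · obtain ⟨z, hz⟩ := hkl
        obtain ⟨W, hW, hWs, hWd, hWτ⟩ := hrec (k - 2) l τ (by omega) ⟨z - 1, by omega⟩ (by omega) (by omega) hl0
          fun h => (hlD' (by omega)).trans hty
        obtain ⟨h1, h3, h4⟩ := hU.sup hB hWs (hW.trans inf_le_right) hUd hWd
        refine ⟨U ⊔ W, sup_le hUM (hW.trans inf_le_left), h1, by rw [h3]; omega, ?_⟩
        rw [h4]
        simp [hUp, hWτ]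

/-- A two-dimensional chain. -/
theorem chain_plane (hN : InvolN Q N) {M : Submodule F (ι → F)} (hM : StableNondeg Q N M) {u : ι → F} (hu : u ∈ M)
    (hψ : B u (N u) ≠ 0) :
    StableNondeg Q N (Submodule.span F {u, N u}) ∧ Submodule.span F {u, N u} ≤ M ∧
      finrank F ↥(Submodule.span F ({u, N u} : Set (ι → F))) = 2 * 1 := by
  classical
  have hPM : Submodule.span F {u, N u} ≤ M := Submodule.span_le.2 (by
    rintro x (rfl | rfl)
    exacts [hu, hM.2 u hu])
  have key : ∀ c e : F, (∀ y ∈ ({u, N u} : Set (ι → F)), B (c • u + e • N u) y = 0) → c = 0 ∧ e = 0 := fun c e h => by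
    have h1 := h (N u) (by simp)
    have h3 := h u (by simp)
    rw [b_add_left, b_smul_left, b_smul_left, hN.nn_b, mul_zero, add_zero, mul_eq_zero, or_iff_left hψ] at h1
    rw [b_add_left, b_smul_left, b_smul_left, h1, zero_mul, zero_add, b_comm (N u), mul_eq_zero,
      or_iff_left hψ] at h3
    exact ⟨h1, h3⟩
  refine ⟨⟨fun x hx h => ?_, fun x hx => ?_⟩, hPM, ?_⟩
  · obtain ⟨c, e, rfl⟩ := Submodule.mem_span_pair.1 hx
    obtain ⟨rfl, rfl⟩ := key c e fun y hy => h y (Submodule.subset_span hy)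
    simp
  · obtain ⟨c, e, rfl⟩ := Submodule.mem_span_pair.1 hx
    rw [map_add, map_smul, map_smul, hN.nn, smul_zero, add_zero]
    exact Submodule.smul_mem _ _ (Submodule.subset_span (by simp))
  · have hli : LinearIndependent F ![u, N u] := LinearIndependent.pair_iff.2 fun c e h =>
      key c e fun y _ => by rw [h, b_zero_left]
    rw [show ({u, N u} : Set (ι → F)) = Set.range ![u, N u] by simp [Matrix.range_cons, Set.pair_comm],
      finrank_span_eq_card hli, Fintype.card_fin]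

/-- A plane can be split off without making the displacement of the rest singular. -/
theorem exists_plane_keep (hB : Nondeg Q) (hN : InvolN Q N) {M : Submodule F (ι → F)} (hM : StableNondeg Q N M)
    {D : ℕ} (hMd : finrank F M = 2 * D) (hD : 2 ≤ D) (hψ : ∃ x ∈ M, B x (N x) ≠ 0) :
    ∃ U ≤ M, StableNondeg Q N U ∧ finrank F U = 2 * 1 ∧ ∃ x ∈ M ⊓ orth Q U, B x (N x) ≠ 0 := by
  classical
  obtain ⟨u, hu, hψu⟩ := hψ
  obtain ⟨hP, hPM, hPd⟩ := chain_plane hN hM hu hψu
  obtain ⟨hR, -, hRd, -⟩ := hM.rest hB hP hPM hN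
  set P := Submodule.span F ({u, N u} : Set (ι → F))
  set R := M ⊓ orth Q P
  by_cases h1 : ∃ x ∈ R, B x (N x) ≠ 0
  · exact ⟨P, hPM, hP, hPd, h1⟩
  push Not at h1
  have huP : u ∈ P := Submodule.subset_span (by simp)
  have hNuP : N u ∈ P := Submodule.subset_span (by simp)
  by_cases h3 : ∃ w ∈ R, N w ≠ 0
  · obtain ⟨w, hw, hNw⟩ := h3
    obtain ⟨z₀, hz₀, hz₀'⟩ : ∃ z ∈ R, B z (N w) ≠ 0 := by
      by_contra hc
      push Not at hc
      exact hNw (hR.1 _ (hR.2 w hw) fun y hy => by rw [b_comm]; exact hc y hy)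
    set z := (B u (N u) * (B z₀ (N w))⁻¹) • z₀ with hz
    have hzR : z ∈ R := R.smul_mem _ hz₀
    have hzw : B z (N w) = B u (N u) := by
      rw [hz, b_smul_left, mul_assoc, inv_mul_cancel₀ hz₀', mul_one]
    have e0 : ∀ a ∈ P, ∀ b ∈ R, B a b = 0 := fun a ha b hb => mem_orth.1 hb.2 a ha
    have hψ' : B (u + w) (N (u + w)) ≠ 0 := by rw [hN.add, h1 w hw, add_zero]; exact hψu
    obtain ⟨hP', hPM', hPd'⟩ := chain_plane hN hM (M.add_mem hu hw.1) hψ'
    set c := B z w * (B u (N u))⁻¹ with hc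
    refine ⟨_, hPM', hP', hPd', u + c • N u + z,
      ⟨M.add_mem (M.add_mem hu (M.smul_mem _ (hM.2 u hu))) hzR.1, mem_orth_span.2 ?_⟩, ?_⟩
    · rintro s (rfl | rfl)
      · have huu : B u u = 0 := by rw [b_self, hN.two, zero_mul]
        rw [b_add_right, b_add_right, b_smul_right, b_add_left u w, b_add_left u w, b_add_left u w, huu,
          b_comm w u, e0 u huP w hw, e0 u huP z hzR, b_comm w (N u), e0 _ hNuP w hw, b_comm w z, hc,
          mul_comm (B z w * _), add_zero, add_zero, zero_add, zero_add, ← mul_assoc, mul_comm (B u (N u)),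
          mul_assoc (B z w), mul_inv_cancel₀ hψu, mul_one]
        exact hN.add_self _
      · rw [map_add, b_add_right, b_add_right, b_smul_right, b_add_left (N u), b_add_left (N u), b_add_left (N u),
          hN.nn_b, b_comm (N u) u, b_comm (N w) u, e0 u huP _ (hR.2 w hw), e0 _ hNuP z hzR,
          b_comm (N w) (N u), hN.nn_b, b_comm (N w) z, hzw]
        simp only [add_zero, mul_zero, zero_add]
        exact hN.add_self _
    · rw [hN.add, hN.add, map_smul, b_smul_right, hN.nn, b_zero_right, mul_zero, h1 z hzR, add_zero, add_zero]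
      exact hψu
  · push Not at h3
    obtain ⟨U, hUR, hUd, hUn, -⟩ : ∃ U ≤ R, finrank F U = 2 * 1 ∧ NondegOn Q U ∧ True := by
      rcases Nat.lt_or_ge 2 D with h | h
      · obtain ⟨U, hU, h', h'', -⟩ := exists_typedSub_in hB hR.1 (D := D - 1) (by omega) (a := 1) le_rfl (by omega) True
        exact ⟨U, hU, h', h'', trivial⟩
      · exact ⟨R, le_rfl, by omega, hR.1, trivial⟩
    refine ⟨U, hUR.trans inf_le_left, ⟨hUn, fun x hx => by rw [h3 x (hUR hx)]; exact zero_mem _⟩, hUd, u,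
      ⟨hu, mem_orth.2 fun s hs => ?_⟩, hψu⟩
    rw [b_comm]
    exact mem_orth.1 (hUR hs).2 u huP

/-- Both types of invariant planes. -/
theorem exists_plane_typed (hB : Nondeg Q) (hN : InvolN Q N) {M : Submodule F (ι → F)} (hM : StableNondeg Q N M)
    {D : ℕ} (hMd : finrank F M = 2 * D) (hD : 2 ≤ D) (hψ : ∃ x ∈ M, B x (N x) ≠ 0) (τ : Prop) :
    ∃ U ≤ M, StableNondeg Q N U ∧ finrank F U = 2 * 1 ∧ (Cfsg.Geo.IsPlusTypeOn ⇑Q U ↔ τ) := by
  classical
  obtain ⟨u, hu, hψu⟩ := hψ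
  obtain ⟨hP, hPM, hPd⟩ := chain_plane hN hM hu hψu
  obtain ⟨hR, -, hRd, -⟩ := hM.rest hB hP hPM hN
  set P := Submodule.span F ({u, N u} : Set (ι → F))
  set R := M ⊓ orth Q P
  obtain ⟨y₀, hy₀, hy₀ψ, hqy₀⟩ : ∃ y ∈ R, B y (N y) = 0 ∧ Q y ≠ 0 := by
    by_cases h1 : ∃ w ∈ R, B w (N w) ≠ 0
    · obtain ⟨w, hw, hψw⟩ := h1
      exact ⟨N w, hR.2 w hw, by rw [hN.nn, b_zero_right], by rw [hN.qn]; exact hψw⟩
    · push Not at h1
      obtain ⟨y, hy, hqy⟩ := exists_aniso_in hR.1 (by omega)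
      exact ⟨y, hy, h1 y hy, hqy⟩
  haveI : CharP F 2 := CharTwo.of_one_ne_zero_of_two_eq_zero one_ne_zero hN.two
  have hshift : ∀ c : F, ∃ u' ∈ M, B u' (N u') = B u (N u) ∧ Q u' = c := fun c => by
    obtain ⟨s, hs⟩ := FiniteField.isSquare_of_char_two (ringChar.eq F 2) ((c + Q u) / Q y₀)
    refine ⟨u + s • y₀, M.add_mem hu (M.smul_mem _ hy₀.1), ?_, ?_⟩
    · rw [hN.add, map_smul, b_smul_left, b_smul_right, hy₀ψ, mul_zero, mul_zero, add_zero]
    · rw [q_add, q_smul, b_smul_right, mem_orth.1 hy₀.2 u (Submodule.subset_span (by simp)), mul_zero, add_zero,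
        ← hs, div_mul_cancel₀ _ hqy₀, add_left_comm, hN.add_self, add_zero]
  obtain ⟨a, b, hab⟩ := RestrictScalars.exists_ab (F := F)
  have ha : a ≠ 0 := fun h => by
    obtain ⟨s, hs⟩ := FiniteField.isSquare_of_char_two (ringChar.eq F 2) b
    refine one_ne_zero (hab s 1 ?_).2
    rw [h, zero_mul, zero_mul, add_zero, one_pow, mul_one, hs, _root_.sq]
    exact hN.add_self _
  by_cases hτ : τ
  · obtain ⟨u', hu', hψ', hq⟩ := hshift 0
    obtain ⟨h1, h3, h4⟩ := chain_plane hN hM hu' (hψ'.symm ▸ hψu)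
    refine ⟨_, h3, h1, h4, iff_of_true ⟨Submodule.span F {u'}, Submodule.span_mono (by simp), ?_, ?_⟩ hτ⟩
    · rintro w hw
      obtain ⟨c, rfl⟩ := Submodule.mem_span_singleton.1 hw
      rw [q_smul, hq, mul_zero]
    · rw [finrank_span_singleton (ne_zero_of_b (hψ'.symm ▸ hψu)), h4]
  · obtain ⟨u', hu', hψ', hq⟩ := hshift (B u (N u) * b / (a * a))
    obtain ⟨h1, h3, h4⟩ := chain_plane hN hM hu' (hψ'.symm ▸ hψu)
    refine ⟨_, h3, h1, h4, iff_of_false ?_ hτ⟩
    rintro ⟨S, hS, hSs, hSd⟩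
    have hne : S ≠ ⊥ := fun h => by rw [h, finrank_bot, h4] at hSd; omega
    obtain ⟨x, hx, hx0⟩ := S.exists_mem_ne_zero_of_ne_bot hne
    obtain ⟨α, β, rfl⟩ := Submodule.mem_span_pair.1 (hS hx)
    have h := hSs _ hx
    rw [q_add, q_smul, q_smul, b_smul_left, b_smul_right, hq, hN.qn, hψ'] at h
    have hz : β ^ 2 + a * β * (α / a) + b * (α / a) ^ 2 = 0 := by
      refine (mul_eq_zero.1 (show B u (N u) * (β ^ 2 + a * β * (α / a) + b * (α / a) ^ 2) = 0 from ?_)).resolve_left hψu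
      rw [← h]; field_simp; ring
    obtain ⟨rfl, hα⟩ := hab _ _ hz
    obtain rfl : α = 0 := by simpa [ha] using hα
    simp at hx0

/-- Planes split off one after another. -/
theorem exists_planes_keep (hB : Nondeg Q) (hN : InvolN Q N) {M : Submodule F (ι → F)} (hM : StableNondeg Q N M)
    {D : ℕ} (hMd : finrank F M = 2 * D) (hψ : ∃ x ∈ M, B x (N x) ≠ 0) : ∀ j : ℕ, j + 2 ≤ D →
    ∃ W ≤ M, StableNondeg Q N W ∧ finrank F W = 2 * j ∧ ∃ x ∈ M ⊓ orth Q W, B x (N x) ≠ 0 := by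
  intro j
  induction j with
  | zero =>
    intro _
    obtain ⟨x, hx, hψx⟩ := hψ
    exact ⟨⊥, bot_le, ⟨fun y hy _ => (Submodule.mem_bot F).1 hy, fun y hy => by
      rw [(Submodule.mem_bot F).1 hy, map_zero]; exact zero_mem _⟩, finrank_bot F (ι → F), x,
      ⟨hx, mem_orth.2 fun s hs => by rw [(Submodule.mem_bot F).1 hs, b_zero_left]⟩, hψx⟩
  | succ j ih =>
    intro hj
    obtain ⟨W, hWM, hW, hWd, hψW⟩ := ih (by omega)
    obtain ⟨hR, -, hRd, -⟩ := hM.rest hB hW hWM hN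
    obtain ⟨U, hUR, hU, hUd, x, hx, hψx⟩ :=
      exists_plane_keep hB hN hR (D := D - j) (by omega) (by omega) hψW
    obtain ⟨h1, h3, -⟩ := hW.sup hB hU (hUR.trans inf_le_right) hWd hUd
    refine ⟨W ⊔ U, sup_le hWM (hUR.trans inf_le_left), h1, h3, x, ⟨hx.1.1, mem_orth.2 fun s hs => ?_⟩, hψx⟩
    obtain ⟨w, hw, v, hv, rfl⟩ := Submodule.mem_sup.1 hs
    rw [b_add_left, mem_orth.1 hx.1.2 w hw, mem_orth.1 hx.2 v hv, add_zero]

theorem involN_of (hB : Nondeg Q) (h2 : (2 : F) = 0) (g : Grp Q) (hgg : g * g = 1) : InvolN Q (uO g) := by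
  have hneg : ∀ x : ι → F, -x = x := fun x => by
    rw [← neg_one_smul F x, show (-1 : F) = 1 by linear_combination -h2, one_smul]
  have hap : ∀ x, ap g (ap g x) = x := fun x => by rw [← ap_mul, hgg, ap_one]
  refine ⟨h2, fun v => ?_, fun u v => ?_, fun v => ?_⟩
  · rw [uO_apply g v, map_sub, uO_apply, uO_apply, hap, ← neg_sub (ap g v) v, hneg, sub_self]
  · rw [uO_apply, uO_apply, b_sub_left, b_sub_right]
    congr 1
    rw [← ap_b g, hap]
  · have h := ap_q g v
    rw [show ap g v = v + uO g v by rw [uO_apply, add_sub_cancel], q_add] at h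
    linear_combination h - B v (uO g v) * h2

/-- Invariant subspaces of an involution in characteristic two. -/
theorem exists_invariant_char2 (hB : Nondeg Q) (h2 : (2 : F) = 0) {d a : ℕ} (hι : Fintype.card ι = 2 * d)
    (ha : 1 ≤ a) (had : a < d) {σ τ : Prop} (hσ : σ ↔ Iso (⇑Q) (Cfsg.quadFormPlus d F))
    (hcond : ∀ t, Even t → t ≤ d → (¬ σ → t < d) → ∃ l, l ≤ a ∧ Even (a - l) ∧ a - l ≤ t ∧ l + t ≤ d ∧
      (l = 0 → τ) ∧ (l + t = d → (τ ↔ σ)))
    (g : Grp Q) (hgg : g * g = 1) :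
    ∃ W : Submodule F (ι → F), TypedSub Q a τ W ∧ W.map (Matrix.toLin' ((g : GL ι F) : Matrix ι ι F)) ≤ W := by
  classical
  have hN := involN_of hB h2 g hgg
  have hfin : finrank F (ι → F) = 2 * d := by rw [Module.finrank_pi, hι]
  set T : Submodule F (ι → F) := ⊤
  have hT : StableNondeg Q (uO g) T := ⟨fun x _ h => hB x fun y => h y trivial, fun _ _ => trivial⟩
  have hTd : finrank F T = 2 * d := by rw [finrank_top, hfin]
  have hfinal : ∀ W, StableNondeg Q (uO g) W → finrank F W = 2 * a → (Cfsg.Geo.IsPlusTypeOn ⇑Q W ↔ τ) →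
      ∃ W : Submodule F (ι → F), TypedSub Q a τ W ∧
        W.map (Matrix.toLin' ((g : GL ι F) : Matrix ι ι F)) ≤ W := fun W hW hWd hWτ => by
    refine ⟨W, ⟨hWd, hW.1, hWτ⟩, ?_⟩
    rintro _ ⟨w, hw, rfl⟩
    have h := W.add_mem hw (hW.2 w hw)
    rw [uO_apply, add_sub_cancel] at h
    exact h
  by_cases hψ : ∃ x ∈ T, B x (uO g x) ≠ 0
  · obtain ⟨W, hWT, hW, hWd, hψW⟩ := exists_planes_keep hB hN hT hTd hψ (a - 1) (by omega)
    obtain ⟨hR, -, hRd, -⟩ := hT.rest hB hW hWT hN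
    obtain ⟨U, hUR, hU, hUd, hUτ⟩ := exists_plane_typed hB hN hR (D := d - (a - 1)) (by omega) (by omega) hψW
      (Cfsg.Geo.IsPlusTypeOn ⇑Q W ↔ τ)
    obtain ⟨h1, h3, h4⟩ := hW.sup hB hU (hUR.trans inf_le_right) hWd hUd
    exact hfinal _ h1 (by rw [h3]; omega) (by rw [h4]; tauto)
  · push Not at hψ
    obtain ⟨hev, hrec⟩ := exists_alt_sub hB hN _ T d hT hTd hψ rfl
    have hS : ∀ x ∈ T.map (uO g), Q x = 0 := by
      rintro _ ⟨x, -, rfl⟩
      rw [hN.qn]; exact hψ x trivial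
    have htop : Cfsg.Geo.IsPlusTypeOn ⇑Q T ↔ σ := by
      rw [hσ, isPlusTypeOn_iff hT.1 hTd]
      have h : Iso (⇑(qOn Q T)) (⇑Q) := ⟨Submodule.topEquiv, fun x => rfl⟩
      exact ⟨fun h' => h.symm.trans h', fun h' => h.trans h'⟩
    obtain ⟨hle, hhalf⟩ := singular_le_half hB hT.1 hTd le_top hS
    obtain ⟨l, h1, h3, h4, h5, h6, h7⟩ := hcond _ hev hle fun hs => lt_of_le_of_ne hle fun he => hs (htop.1 (hhalf he))
    obtain ⟨W, -, hW, hWd, hWτ⟩ := hrec a l τ h1 h3 h4 h5 h6 fun h => (h7 h).trans htop.symm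
    exact hfinal W hW hWd hWτ

/-- The displacement space of an involution with singular one is at most half and even on a stable subspace. -/
theorem rank_part (hB : Nondeg Q) (hN : InvolN Q N) {W : Submodule F (ι → F)} (hW : StableNondeg Q N W) {a : ℕ}
    (hd : finrank F W = 2 * a) (hψ : ∀ x, B x (N x) = 0) :
    Even (finrank F ↥(W.map N)) ∧ finrank F ↥(W.map N) ≤ a ∧
      (finrank F ↥(W.map N) = a → Cfsg.Geo.IsPlusTypeOn ⇑Q W) := by
  refine ⟨(exists_alt_sub hB hN _ W a hW hd (fun x _ => hψ x) rfl).1,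
    singular_le_half hB hW.1 hd (Submodule.map_le_iff_le_comap.2 hW.2) ?_⟩
  rintro _ ⟨x, -, rfl⟩
  rw [hN.qn]; exact hψ x

end CfsgLib.Derange
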