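import Cfsg.Agent.Lib.Derange.SingEven

/-!
Divisors of the number of totally singular subspaces of one dimension in an even-dimensional space.
-/

set_option autoImplicit false
set_option linter.style.haveILetI false

namespace CfsgLib.Derange

open Module CfsgLib.Orth CfsgLib.Classical CfsgLib.Classical.OrthModels

universe u

variable {F : Type u} [Field F]

/-- A prime dividing a quotient of two orders of even orthogonal groups. -/
theorem exists_window_even {q r i : ℕ} [hr : Fact r.Prime] (hr2 : r ≠ 2) (hrq : ¬ r ∣ q) (hq : 2 ≤ q)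
    (hi : i = orderOf (q : ZMod r)) (hi0 : 0 < i) (σ σ' : Prop) {N d b u v : ℕ} (hb : 0 < b) (hbd : b < d) (hN : r ∣ N)
    {X X' Y : ℕ} (hX : X * X' = q ^ (2 * b) - 1) (hY : Y ≠ 0 ∧ (r ∣ Y → (σ ∧ (q : ZMod r) ^ d = 1) ∨ (¬ σ ∧ (q : ZMod r) ^ d = -1)))
    (hX' : r ∣ X' → (σ' ∧ (q : ZMod r) ^ b = -1) ∨ (¬ σ' ∧ (q : ZMod r) ^ b = 1))
    (h : N * (2 * q ^ u * X * ∏ j ∈ Finset.range (b - 1), (q ^ (2 * (j + 1)) - 1)) ∣
      2 * q ^ v * Y * ∏ j ∈ Finset.range (d - 1), (q ^ (2 * (j + 1)) - 1)) :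
    (∃ j, b < j ∧ j < d ∧ unitDim i ∣ 2 * j) ∨ (unitDim i ∣ 2 * d ∧ Sgn σ i (2 * d / unitDim i)) ∨
      (unitDim i ∣ 2 * b ∧ ¬ Sgn σ' i (2 * b / unitDim i)) := by
  set f : ℕ → ℕ := fun j => q ^ (2 * (j + 1)) - 1 with hf
  set P := ∏ j ∈ Finset.range (b - 1), f j with hP
  have hpos : 0 < 2 * X * P := by
    have hpow : ∀ j, 0 < j → 0 < q ^ (2 * j) - 1 := fun j hj => Nat.sub_pos_of_lt (Nat.one_lt_pow (by omega) (by omega))
    have hXp : 0 < X := Nat.pos_of_ne_zero fun h0 => (hpow b hb).ne (by rw [← hX, h0, zero_mul])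
    exact Nat.mul_pos (Nat.mul_pos two_pos hXp) (Finset.prod_pos fun j _ => hpow (j + 1) j.succ_pos)
  have hsplit : ∏ j ∈ Finset.range (d - 1), f j = P * (X * X' * ∏ j ∈ Finset.Ico b (d - 1), f j) := by
    rw [← Finset.prod_range_mul_prod_Ico f (show b ≤ d - 1 by omega), hP]
    conv_lhs => rw [show b = b - 1 + 1 by omega, Finset.prod_range_succ]
    rw [hX, show f (b - 1) = q ^ (2 * b) - 1 by rw [hf]; simp [show b - 1 + 1 = b by omega],
      show b - 1 + 1 = b by omega, mul_assoc]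
  rw [hsplit] at h
  have h' : (2 * X * P) * (N * q ^ u) ∣ (2 * X * P) * (q ^ v * Y * (X' * ∏ j ∈ Finset.Ico b (d - 1), f j)) := by
    convert h using 1 <;> ring
  have hr1 := (hN.trans (dvd_mul_right N _)).trans (Nat.dvd_of_mul_dvd_mul_left hpos h')
  obtain ⟨hY0, hY'⟩ := hY
  rcases (hr.out.dvd_mul).1 hr1 with h1 | h1
  · rcases (hr.out.dvd_mul).1 h1 with h2 | h2
    · exact absurd (hr.out.dvd_of_dvd_pow h2) hrq
    · rcases hY' h2 with ⟨hs, h3⟩ | ⟨hs, h3⟩
      · obtain ⟨e1, e2⟩ := (pow_sign hr2 hi hi0).1 h3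
        exact Or.inr (Or.inl ⟨e1, iff_of_true hs e2⟩)
      · obtain ⟨e1, e2⟩ := (pow_sign hr2 hi hi0).2 h3
        exact Or.inr (Or.inl ⟨e1, iff_of_false hs e2⟩)
  · rcases (hr.out.dvd_mul).1 h1 with h2 | h2
    · rcases hX' h2 with ⟨hs, h3⟩ | ⟨hs, h3⟩
      · obtain ⟨e1, e2⟩ := (pow_sign hr2 hi hi0).2 h3
        exact Or.inr (Or.inr ⟨e1, fun hc => e2 (hc.1 hs)⟩)
      · obtain ⟨e1, e2⟩ := (pow_sign hr2 hi hi0).1 h3
        exact Or.inr (Or.inr ⟨e1, fun hc => hs (hc.2 e2)⟩)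
    · obtain ⟨j, hj, hdvd⟩ := (hr.out.prime.dvd_finset_prod_iff _).mp h2
      rw [Finset.mem_Ico] at hj
      exact Or.inl ⟨j + 1, by omega, by omega, unitDim_dvd_of_pow hi hdvd (by omega)⟩

theorem cast_pow_one {q r j : ℕ} (hq : 0 < q) (h : r ∣ q ^ j - 1) : (q : ZMod r) ^ j = 1 := by
  have h2 : ((q ^ j - 1 : ℕ) : ZMod r) = 0 := (ZMod.natCast_eq_zero_iff _ _).mpr h
  rwa [Nat.cast_sub (Nat.one_le_pow _ _ hq), Nat.cast_pow, Nat.cast_one, sub_eq_zero] at h2

theorem cast_pow_neg_one {q r j : ℕ} (h : r ∣ q ^ j + 1) : (q : ZMod r) ^ j = -1 := by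
  have h2 : ((q ^ j + 1 : ℕ) : ZMod r) = 0 := (ZMod.natCast_eq_zero_iff _ _).mpr h
  rw [Nat.cast_add, Nat.cast_pow, Nat.cast_one] at h2
  linear_combination h2

variable [Fintype F] {p : ℕ} [hp : Fact p.Prime] [CharP F p] {ι : Type} [Fintype ι] [DecidableEq ι]
  {Q : QuadraticForm F (ι → F)}

include hp in
/-- A prime dividing the number of totally singular subspaces of an even-dimensional space. -/
theorem even_singular_window {q r i : ℕ} (hq : Fintype.card F = q) (hr : r.Prime) (hr2 : r ≠ 2) (hrp : r ≠ p)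
    (hi : i = orderOf (q : ZMod r)) (hi0 : 0 < i) (hB : Nondeg Q) {d m : ℕ} (hcard : Fintype.card ι = 2 * d)
    (hm : 1 ≤ m) (hmd : m < d) {σ : Prop} (hσ : σ ↔ Iso (⇑Q) (Cfsg.quadFormPlus d F))
    (hN : r ∣ Nat.card {W : Submodule F (ι → F) // finrank F ↥W = m ∧ ∀ w ∈ W, Q w = 0}) :
    Win σ i m d := by
  classical
  haveI := Fact.mk hr
  obtain ⟨hrq, hq2⟩ := not_dvd_card (p := p) hq hr hrp
  obtain ⟨a, b, hab⟩ := RestrictScalars.exists_ab (F := F)
  have hpi : finrank F (ι → F) = 2 * d := by rw [Module.finrank_pi, hcard]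
  have hsq : ∀ n, (q ^ n - 1) * (q ^ n + 1) = q ^ (2 * n) - 1 := fun n => by
    rw [mul_comm 2, pow_mul, ← one_pow 2, Nat.sq_sub_sq, one_pow]
    ring
  have hqd : ∀ n, 0 < n → q ^ n - 1 ≠ 0 := fun n hn => (Nat.sub_pos_of_lt (Nat.one_lt_pow hn.ne' (by omega))).ne'
  have key : ∀ {κ : Type} [Fintype κ] [DecidableEq κ] (R : QuadraticForm F (κ → F)),
      Iso (add (Cfsg.quadFormPlus m F) ⇑R) (⇑Q) →
      Nat.card {W : Submodule F (ι → F) // finrank F ↥W = m ∧ ∀ w ∈ W, Q w = 0} * Nat.card (Grp R) ∣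
        Nat.card (Grp Q) := by
    intro κ _ _ R h
    obtain ⟨U, hUn, hUd, hUA, hUR⟩ := exists_sub hB h (by simp [Cfsg.quadFormPlus]) (QuadraticMap.map_zero R)
    have hd' : finrank F U = 2 * m := by rw [hUd, Module.finrank_pi]; simp; omega
    obtain ⟨L, hLU, hL, hLd⟩ := (isPlusTypeOn_iff hUn hd').mpr hUA.symm
    obtain ⟨φ, hφ, hfix⟩ := exists_embed hB (nondegOn_orth hB hUn) R hUR
    exact card_mul_dvd (fun W => finrank F ↥W = m ∧ ∀ w ∈ W, Q w = 0) (fun g W hW => singular_img g hW)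
      (W₀ := L) ⟨by omega, hL⟩ (fun W hW => exists_move hB (iso_singular hL (by omega) hW.2 hW.1)) φ hφ
      (hfix L (hLU.trans (orth_orth hB U).ge))
  have hF : Nat.card F = q := by rw [Nat.card_eq_fintype_card, hq]
  by_cases hs : σ
  · obtain ⟨e, he⟩ := hσ.1 hs
    obtain ⟨Qd, hQd, hQdn⟩ := exists_quadForm_plus (F := F) d
    obtain ⟨R, hR, hRn⟩ := exists_quadForm_plus (F := F) (d - m)
    have h := key R (by
      rw [hR]
      refine (plus_plus m (d - m)).trans ?_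
      rw [show m + (d - m) = d by omega]
      exact (hσ.1 hs).symm)
    rw [card_grp_congr hB hQdn e (fun x => by rw [hQd]; exact he x), card_orth_plus d (by omega) hQd hQdn,
      card_orth_plus (d - m) (by omega) hR hRn, hF] at h
    exact exists_window_even hr2 hrq hq2 hi hi0 σ σ (by omega) (by omega) hN (hsq (d - m))
      ⟨hqd d (by omega), fun h => Or.inl ⟨hs, cast_pow_one (by omega) h⟩⟩
      (fun h => Or.inl ⟨hs, cast_pow_neg_one h⟩) h
  · obtain ⟨j, rfl, e, he⟩ := (classify_even Q (bilin_nondeg hB) hpi a b hab).resolve_left fun h => hs (hσ.2 h)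
    obtain ⟨Qd, hQd, hQdn⟩ := exists_quadForm_minus j hab
    obtain ⟨R, hR, hRn⟩ := exists_quadForm_minus (j - m) hab
    have h := key R (by
      rw [hR]
      refine (plus_minus m (j - m) a b).trans ?_
      rw [show m + (j - m) = j by omega]
      exact ⟨e.symm, fun x => by rw [← he, e.apply_symm_apply]⟩)
    have hc : ∀ k (P : QuadraticForm F ((Fin k ⊕ Fin k) ⊕ Fin 2 → F)), ⇑P = Cfsg.quadFormMinus k F a b → Nondeg P →
        Nat.card (Grp P) = 2 * Nat.card F ^ ((k + 1) * k) * (Nat.card F ^ (k + 1) + 1) *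
          ∏ i ∈ Finset.range (k + 1 - 1), (Nat.card F ^ (2 * (i + 1)) - 1) := fun k P hP hPn =>
      card_orth_minus (k + 1) (by omega) hab (Q := P) hP hPn
    rw [card_grp_congr hB hQdn e (fun x => by rw [hQd]; exact he x), hc j Qd hQd hQdn, hc (j - m) R hR hRn, hF] at h
    rw [Win, show j + 1 - m = j - m + 1 by omega]
    exact exists_window_even hr2 hrq hq2 hi hi0 σ σ (by omega) (by omega) hN ((mul_comm _ _).trans (hsq (j - m + 1)))
      ⟨by positivity, fun h => Or.inr ⟨hs, cast_pow_neg_one h⟩⟩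
      (fun h => Or.inr ⟨hs, cast_pow_one (by omega) h⟩) h

end CfsgLib.Derange
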