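import Cfsg.Agent.Lib.Derange.SingEvenTwo
import Cfsg.Agent.Lib.Derange.SingEvenCount

/-!
Even-dimensional orthogonal groups on totally singular subspaces: the prime order rows.
-/

set_option autoImplicit false
set_option linter.style.haveILetI false

namespace CfsgLib.Derange

open Module CfsgLib.Classical CfsgLib.Classical.OrthModels CfsgLib.Orth

universe u

variable {F : Type u} [Field F] [Fintype F] {p : ℕ} [hp : Fact p.Prime] [CharP F p] {ι : Type} [Fintype ι]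
  [DecidableEq ι] {Q : QuadraticForm F (ι → F)}

include hp in
theorem two_ne_zero_iff_char : (2 : F) ≠ 0 ↔ p ≠ 2 := by
  rw [show (2 : F) = ((2 : ℕ) : F) by norm_num, Ne, CharP.cast_eq_zero_iff F p,
    Nat.prime_dvd_prime_iff_eq hp.out Nat.prime_two]

include hp in
/-- The prime order rows. -/
theorem even_singular_main {q : ℕ} (hq : Fintype.card F = q) (hB : Nondeg Q) {d m : ℕ}
    (hι : Fintype.card ι = 2 * d) (hd : 3 ≤ d) (hm : 1 ≤ m) (hmd : m < d) {σ : Prop}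
    (hσ : σ ↔ Iso (⇑Q) (Cfsg.quadFormPlus d F)) {r : ℕ} (hr : r.Prime)
    (hN : r ∣ Nat.card {W : Submodule F (ι → F) // finrank F ↥W = m ∧ ∀ w ∈ W, Q w = 0})
    {i : ℕ} (hi : i = orderOf (q : ZMod r)) :
    (∀ x : GL ι F, x ∈ Cfsg.Geo.omegaGL ⇑Q →
      (∃ z : F, ((x ^ r : GL ι F) : Matrix ι ι F) = z • (1 : Matrix ι ι F)) →
      (∀ z : F, (x : Matrix ι ι F) ≠ z • (1 : Matrix ι ι F)) →
      ∃ W : Submodule F (ι → F), finrank F ↥W = m ∧ (∀ w ∈ W, Q w = 0) ∧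
        W.map (Matrix.toLin' (x : Matrix ι ι F)) ≤ W) ↔
    (r = 2 ∧ p ≠ 2 ∧ (q % 4 = 1 ∨ ((σ → m + 2 ≤ d) ∧ ¬ (DiscSq Q ∧ IsSquare ((2 : F) ^ d) ∧ Odd m)))) ∨
      (r ≠ p ∧ 2 < r ∧
        (i ≤ m ∧ ((Odd i ∧ (2 * (m % i) < (2 * d) % unitDim i ∨ (2 * (m % i) ≤ (2 * d) % unitDim i ∧ σ) ∨
            ((2 * d) % unitDim i = 0 ∧ ¬ σ))) ∨
          (¬ Odd i ∧ (r - 1) / i + 2 * (m / i) ≤ 2 * d / i ∧
            ((2 * (m % i) ≤ i ∧ (2 * d) % i = 0 ∧ ¬ Sgn σ i (2 * d / i) ∧ (r - 1) / i + 2 * (m / i) < 2 * d / i) ∨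
              2 * (m % i) < (2 * d) % i ∨ (2 * (m % i) ≤ (2 * d) % i ∧ Sgn σ i (2 * d / i))))))) := by
  have hrp : r ≠ p := fun h => not_dvd_card_singular (p := p) hB (m := m)
    (by rw [Module.finrank_pi, hι]; omega) (h ▸ hN)
  by_cases hr2 : r = 2
  · subst hr2
    have h2 : (2 : F) ≠ 0 := (two_ne_zero_iff_char (p := p)).2 hrp.symm
    have hq4 : IsSquare (-1 : F) ↔ q % 4 = 1 := by
      rw [FiniteField.isSquare_neg_one_iff, hq]
      have hodd : q % 2 = 1 := by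
        rw [← hq]
        exact Nat.mod_two_ne_zero.1 fun h => h2 (by
          have := FiniteField.cast_card_eq_zero F
          obtain ⟨n, hn⟩ : 2 ∣ Fintype.card F := Nat.dvd_of_mod_eq_zero h
          obtain ⟨k, hk, hkn⟩ := FiniteField.card F p
          rw [hkn] at hn
          have := (Nat.prime_dvd_prime_iff_eq Nat.prime_two hp.out).1 (Nat.prime_two.dvd_of_dvd_pow ⟨n, hn⟩)
          subst this
          exact_mod_cast CharP.cast_eq_zero F 2)
      omega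
    rw [singular_two_iff (p := p) hB h2 hι hd hmd, hq4, hσ]
    simp [hrp.symm]
  obtain ⟨t, D, X⟩ := exists_ctx hq hr hr2 hrp hi
  have h2r : 2 < r := lt_of_le_of_ne hr.two_le (Ne.symm hr2)
  rw [even_singular_iff X hB hd hι hmd hσ, room_iff σ X.i_pos hm hmd X.t_pos
    (even_singular_window hq hr hr2 hrp hi X.i_pos hB hι hm hmd hσ hN)]
  have htr : (r - 1) / i = t := by rw [← X.mul, Nat.mul_div_cancel _ X.i_pos]
  simp [hr2, hrp, h2r, htr]

end CfsgLib.Derange
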