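import Cfsg.Agent.Lib.Derange.NondegEvenTwo
import Cfsg.Agent.Lib.Derange.NondegEvenChar2
import Cfsg.Agent.Lib.Derange.SingEvenMain

/-!
Even-dimensional orthogonal groups on non-degenerate subspaces of even dimension: the prime order rows.
-/

set_option autoImplicit false
set_option linter.style.haveILetI false

namespace CfsgLib.Derange

open Module CfsgLib.Classical CfsgLib.Classical.OrthModels CfsgLib.Orth CfsgLib.Classical.WittBasis
open CfsgLib.Classical.InvolutionOrth (uO uO_apply)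

universe u

variable {F : Type u} [Field F] [Fintype F] {p : ℕ} [hp : Fact p.Prime] [CharP F p] {ι : Type} [Fintype ι]
  [DecidableEq ι] {Q : QuadraticForm F (ι → F)}

omit [Fintype F] hp [CharP F p] [DecidableEq ι] in
theorem exists_hyp_of_plus [DecidableEq ι] {d : ℕ} (hplus : Iso (⇑Q) (Cfsg.quadFormPlus d F)) :
    ∃ e f : Fin d → ι → F, IsHyp Q e f := by
  obtain ⟨l, hl⟩ := hplus
  refine ⟨fun j => l.symm (Pi.single (Sum.inl j) 1), fun j => l.symm (Pi.single (Sum.inr j) 1), ?_⟩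
  have hval : ∀ x, Q (l.symm x) = Cfsg.quadFormPlus d F x := fun x => by rw [← hl, l.apply_symm_apply]
  have hpol : ∀ x y, QuadraticMap.polar ⇑Q (l.symm x) (l.symm y) = QuadraticMap.polar (Cfsg.quadFormPlus d F) x y :=
    fun x y => by simp only [QuadraticMap.polar, ← map_add, hval]
  constructor
  · intro j; rw [hval]; simp [Cfsg.quadFormPlus, Pi.single_apply]
  · intro j; rw [hval]; simp [Cfsg.quadFormPlus, Pi.single_apply]
  · intro j k; rw [hpol]; simp [polar_plus, Pi.single_apply, Finset.sum_add_distrib, eq_comm]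
  · intro j k; rw [hpol]; simp [polar_plus, Pi.single_apply]
  · intro j k; rw [hpol]; simp [polar_plus, Pi.single_apply]

include hp in
/-- Obstructions to invariant subspaces from an involution with singular displacement space. -/
theorem ranks_of_char2 (hB : Nondeg Q) (hp2 : p = 2) {d a s : ℕ} (hι : Fintype.card ι = 2 * d) (hd : 3 ≤ d)
    (had : a ≤ d) (hs : 0 < s) {σ τ : Prop} (hσ : σ ↔ Iso (⇑Q) (Cfsg.quadFormPlus d F))
    {e f : Fin (s + s) → ι → F} (h : IsHyp Q e f)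
    (H : ∀ x : GL ι F, x ∈ Cfsg.Geo.omegaGL ⇑Q →
      (∃ z : F, ((x ^ 2 : GL ι F) : Matrix ι ι F) = z • (1 : Matrix ι ι F)) →
      (∀ z : F, (x : Matrix ι ι F) ≠ z • (1 : Matrix ι ι F)) →
      ∃ W : Submodule F (ι → F), TypedSub Q a τ W ∧ W.map (Matrix.toLin' (x : Matrix ι ι F)) ≤ W) :
    ∃ x y, Even x ∧ Even y ∧ s + s ≤ x + y ∧ x ≤ a ∧ y ≤ d - a ∧ (x = a → τ) ∧ (y = d - a → (σ ↔ τ)) := by
  subst hp2
  have hfin : finrank F (ι → F) = 2 * d := by rw [Module.finrank_pi, hι]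
  have h2 : (2 : F) = 0 := by exact_mod_cast CharP.cast_eq_zero F 2
  obtain ⟨g, hgΩ, hgp, hgs, hrk, hsing⟩ := exists_alt_unip (p := 2) hB (by omega) hs h
  obtain ⟨W, hW, hWg⟩ := H _ hgΩ ⟨1, by rw [← SubmonoidClass.coe_pow, hgp, one_smul]; rfl⟩ hgs
  have hN := involN_of hB h2 g (by rw [← pow_two]; exact hgp)
  have hψ : ∀ x, QuadraticMap.polar ⇑Q x (uO g x) = 0 := fun x => by
    rw [← hN.qn]; exact hsing _ ⟨x, rfl⟩
  have hWg' : ∀ w ∈ W, ap g w ∈ W := fun w hw => hWg (Submodule.mem_map_of_mem hw)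
  obtain ⟨h1, h3, h4⟩ := range_le_split hB g hW.2.1 hWg'
  have horth : finrank F (orth Q W) = 2 * (d - a) := by
    have := finrank_orth hB W
    rw [hW.1, hfin] at this
    omega
  obtain ⟨p1, p2, p3⟩ := rank_part hB hN (W := W) ⟨hW.2.1, fun x hx => h1 (Submodule.mem_map_of_mem hx)⟩ hW.1 hψ
  obtain ⟨q1, q2, q3⟩ := rank_part hB hN (W := orth Q W)
    ⟨nondegOn_orth hB hW.2.1, fun x hx => h3 (Submodule.mem_map_of_mem hx)⟩ horth hψ
  refine ⟨_, _, p1, q1, by omega, p2, q2, fun he => hW.2.2.1 (p3 he), fun he => ?_⟩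
  rw [hσ, type_orth hB hfin had hW.2.1 hW.1, hW.2.2]
  have := q3 he
  tauto

omit hp [CharP F p] in
theorem typedSub_iff {a : ℕ} {τ : Prop} {W : Submodule F (ι → F)} :
    (finrank F ↥W = 2 * a ∧ Cfsg.Geo.IsNondegenerateOn (QuadraticMap.polar ⇑Q) W ∧
      (Cfsg.Geo.IsPlusTypeOn ⇑Q W ↔ τ)) ↔ TypedSub Q a τ W :=
  ⟨fun h => ⟨h.1, nondegOn_of h.2.1, h.2.2⟩, fun h => ⟨h.1, nondegOn_geo h.2.1, h.2.2⟩⟩

include hp in
/-- An odd prime different from the characteristic. -/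
theorem even_nondeg_main {q : ℕ} (hq : Fintype.card F = q) (hB : Nondeg Q) {d a : ℕ}
    (hι : Fintype.card ι = 2 * d) (hd : 3 ≤ d) (ha : 1 ≤ a) (had : a < d) {σ τ : Prop}
    (hσ : σ ↔ Iso (⇑Q) (Cfsg.quadFormPlus d F)) {r : ℕ} (hr : r.Prime) (hr2 : r ≠ 2) (hrp : r ≠ p)
    (hN : r ∣ Nat.card {W // TypedSub Q a τ W}) {i : ℕ} (hi : i = orderOf (q : ZMod r)) :
    (∀ x : GL ι F, x ∈ Cfsg.Geo.omegaGL ⇑Q →
      (∃ z : F, ((x ^ r : GL ι F) : Matrix ι ι F) = z • (1 : Matrix ι ι F)) →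
      (∀ z : F, (x : Matrix ι ι F) ≠ z • (1 : Matrix ι ι F)) →
      ∃ W : Submodule F (ι → F), TypedSub Q a τ W ∧ W.map (Matrix.toLin' (x : Matrix ι ι F)) ≤ W) ↔
    (((2 * d) % unitDim i = 0 ∧ ¬ Sgn σ i (2 * d / unitDim i)) ∨
      (unitDim i ≤ 2 * a ∧ (2 * a) % unitDim i ≤ (2 * d) % unitDim i ∧
        (0 < (2 * a) % unitDim i ∨ Sgn τ i (2 * a / unitDim i)) ∧
        ((2 * a) % unitDim i < (2 * d) % unitDim i ∨
          Sgn (σ ↔ τ) i (2 * d / unitDim i - 2 * a / unitDim i)))) := by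
  obtain ⟨t, D, X⟩ := exists_ctx hq hr hr2 hrp hi
  obtain ⟨hc, hle⟩ := le_of_nondeg_window X.i_pos σ τ (by omega) had
    (even_nondeg_window hq hr hr2 hrp hi X.i_pos hB hι ha had hσ hN)
  rw [even_nondeg_iff X hB hd hι ha had hσ, nondeg_arith X.i_pos σ τ (by omega) (by omega) hc]
  exact or_congr_right ⟨fun h => ⟨hle h.1 h.2.2, h⟩, fun h => h.2⟩

end CfsgLib.Derange
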