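import Cfsg.Agent.Lib.Derange.EvenParabolicMain
import Cfsg.Agent.Lib.Derange.NondegEven
import Cfsg.Agent.Lib.Derange.InvolutionMinus

/-!
Even-dimensional orthogonal groups on non-degenerate subspaces of even dimension: square roots of the scalars `±1`
in odd characteristic.
-/

set_option autoImplicit false
set_option linter.style.haveILetI false

namespace CfsgLib.Derange

open Module QuadraticMap CfsgLib.Classical CfsgLib.Classical.OrthModels CfsgLib.Orth

universe u

variable {F : Type u} [Field F] [Fintype F] {ι : Type} [Fintype ι] [DecidableEq ι] {Q : QuadraticForm F (ι → F)}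

local notation "B" => QuadraticMap.polar (DFunLike.coe Q)

/-- The type of a subspace with an orthogonal frame. -/
theorem plus_iff_frame (h2 : (2 : F) ≠ 0) {W : Submodule F (ι → F)} (hW : NondegOn Q W) {k : ℕ} (hk : 1 ≤ k)
    (hd : finrank F W = 2 * k) {κ : Type*} [Fintype κ] (hκ : Fintype.card κ = 2 * k) (e : κ → ι → F)
    (heW : ∀ x, e x ∈ W) (he : ∀ x, Q (e x) ≠ 0) (hp : ∀ x y, x ≠ y → B (e x) (e y) = 0) :
    Cfsg.Geo.IsPlusTypeOn ⇑Q W ↔ (IsSquare (∏ x, Q (e x)) ↔ IsSquare ((-1 : F) ^ k)) := by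
  classical
  haveI : Nonempty κ := Fintype.card_pos_iff.1 (by omega)
  obtain ⟨a, b, hab⟩ := RestrictScalars.exists_ab (F := F)
  rw [isPlusTypeOn_iff hW hd]
  have key : ∀ {μ : Type} [Fintype μ] [DecidableEq μ] (R : QuadraticForm F (μ → F)),
      Fintype.card μ = 2 * k → Iso (⇑(qOn Q W)) (⇑R) → (DiscSq R ↔ IsSquare (∏ x, Q (e x))) := by
    intro μ _ _ R hμ h
    obtain ⟨l, hl⟩ := h
    have hval : ∀ x, R (l ⟨e x, heW x⟩) = Q (e x) := fun x => hl _
    rw [discSq_iff h2 hκ hμ (fun x => l ⟨e x, heW x⟩) (fun x => by rw [hval]; exact he x) fun x y hxy => by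
      have h1 : R (l ⟨e x, heW x⟩ + l ⟨e y, heW y⟩) = Q (e x + e y) := by
        rw [← map_add]; exact hl _
      simp only [QuadraticMap.polar, hval, h1]
      exact hp x y hxy]
    simp only [hval]
  constructor
  · intro h
    obtain ⟨R, hR, hRn⟩ := exists_quadForm_plus (F := F) k
    obtain ⟨f, hf, hfp, hprod⟩ := frame_plus h2 k hR
    haveI : Nonempty (Fin k ⊕ Fin k) := ⟨Sum.inl ⟨0, by omega⟩⟩
    rw [← key R (by simp; omega) (hR ▸ h),
      discSq_iff h2 (d := k) (by simp; omega) (by simp; omega) f hf hfp, hprod]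
  · intro h
    refine (classify_even _ (qOn_nondeg hW) hd a b hab).resolve_right ?_
    rintro ⟨j, rfl, hj⟩
    obtain ⟨R, hR, hRn⟩ := exists_quadForm_minus j hab
    have h1 := key R (by simp; omega) (hR ▸ hj)
    rw [minus_disc h2 hab hR, h] at h1
    tauto

/-- An isometry with square `-1` rotates a frame inside each invariant non-degenerate subspace. -/
theorem exists_rotFrame_in (hB : Nondeg Q) (h2 : (2 : F) ≠ 0) (g : Grp Q) (hg : ∀ x, ap g (ap g x) = -x)
    {M : Submodule F (ι → F)} (hM : NondegOn Q M) (hMg : ∀ x ∈ M, ap g x ∈ M) {d : ℕ}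
    (hMd : finrank F M = 2 * d) :
    ∃ v : Fin d → ι → F, (∀ j, v j ∈ M) ∧ RotFrame Q v fun j => ap g (v j) := by
  classical
  suffices H : ∀ k ≤ d, ∃ v : Fin k → ι → F, (∀ j, v j ∈ M) ∧ RotFrame Q v fun j => ap g (v j) from H d le_rfl
  intro k
  induction k with
  | zero =>
    exact fun _ => ⟨Fin.elim0, fun j => j.elim0,
      ⟨fun j => j.elim0, fun j => j.elim0, fun i => i.elim0, fun i => i.elim0, fun i => i.elim0⟩⟩
  | succ k ih =>
    intro hk
    obtain ⟨v, hvM, hv⟩ := ih (by omega)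
    obtain ⟨hT, hTd⟩ := frame_orth hB h2 hv.orthogonal.1 hv.orthogonal.2
    rw [Fintype.card_sum, Fintype.card_fin] at hTd
    set S := Submodule.span F (Set.range (Sum.elim v fun j => ap g (v j))) with hS
    have hSM : S ≤ M := Submodule.span_le.2 (by
      rintro _ ⟨j | j, rfl⟩
      exacts [hvM j, hMg _ (hvM j)])
    obtain ⟨u, ⟨huM, hu⟩, hqu⟩ : ∃ u ∈ M ⊓ orth Q S, Q u ≠ 0 := by
      have hSn : NondegOn Q S := orth_orth hB S ▸ nondegOn_orth hB hT
      have hn : NondegOn Q (M ⊓ orth Q S) := fun x hx h => hM x hx.1 fun y hy => by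
        obtain ⟨s, hs, w, hw, rfl⟩ := Submodule.mem_sup.1 (show y ∈ S ⊔ (M ⊓ orth Q S) by
          rw [inf_comm, ← sup_inf_assoc_of_le _ hSM, sup_orth_eq_top hB hSn, top_inf_eq]; exact hy)
        rw [b_add_right, h w hw, b_comm x s, mem_orth.1 hx.2 s hs, add_zero]
      refine exists_aniso_in hn ?_
      have h1 := Submodule.finrank_sup_add_finrank_inf_eq M (orth Q S)
      have h3 := Submodule.finrank_le (M ⊔ orth Q S)
      omega
    replace huM : u ∈ M := huM
    have huv : ∀ j, B (v j) u = 0 := fun j => mem_orth_range hu (Sum.inl j)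
    have huw : ∀ j, B (ap g (v j)) u = 0 := fun j => mem_orth_range hu (Sum.inr j)
    have hneg : ∀ x y, B (ap g x) y = -B x (ap g y) := fun x y => by
      rw [← ap_b g x (ap g y), hg, ← neg_one_smul F y, b_smul_right]; ring
    have huu : B u (ap g u) = 0 := by
      have h1 := hneg u u
      rw [b_comm (ap g u), eq_neg_iff_add_eq_zero, ← two_mul, mul_eq_zero, or_iff_right h2] at h1
      exact h1
    have hvu : ∀ j, B (v j) (ap g u) = 0 := fun j => neg_eq_zero.1 ((hneg _ _).symm.trans (huw j))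
    have hww : ∀ j, B (ap g (v j)) (ap g u) = 0 := fun j => (ap_b g _ _).trans (huv j)
    refine ⟨Fin.snoc v u, fun j => by refine Fin.lastCases ?_ (fun j => ?_) j <;> simp [huM, hvM],
      ⟨fun j => ?_, fun j => ap_q g _, fun i j => ?_, fun i j hij => ?_, fun i j hij => ?_⟩⟩
    · refine Fin.lastCases ?_ (fun j => ?_) j <;> simp [hqu, hv.qv]
    · refine Fin.lastCases ?_ (fun i => ?_) i <;> refine Fin.lastCases ?_ (fun j => ?_) j <;>
        simp only [Fin.snoc_last, Fin.snoc_castSucc]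
      · exact huu
      · exact (b_comm _ _).trans (huw j)
      · exact hvu i
      · exact hv.vw i j
    · revert hij
      refine Fin.lastCases ?_ (fun i => ?_) i <;> refine Fin.lastCases ?_ (fun j => ?_) j <;>
        simp only [Fin.snoc_last, Fin.snoc_castSucc] <;> intro hij
      · exact absurd rfl hij
      · exact (b_comm _ _).trans (huv j)
      · exact huv i
      · exact hv.vv i j fun e => hij (by rw [e])
    · revert hij
      refine Fin.lastCases ?_ (fun i => ?_) i <;> refine Fin.lastCases ?_ (fun j => ?_) j <;>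
        simp only [Fin.snoc_last, Fin.snoc_castSucc] <;> intro hij
      · exact absurd rfl hij
      · exact (b_comm _ _).trans (hww j)
      · exact hww i
      · exact hv.ww i j fun e => hij (by rw [e])

/-- The criterion at two. -/
theorem nondeg_two_iff (hB : Nondeg Q) (h2 : (2 : F) ≠ 0) {d a : ℕ} (hι : Fintype.card ι = 2 * d) (hd : 3 ≤ d)
    (ha : 1 ≤ a) (had : a < d) (τ : Prop) :
    (∀ x : GL ι F, x ∈ Cfsg.Geo.omegaGL ⇑Q →
      (∃ z : F, ((x ^ 2 : GL ι F) : Matrix ι ι F) = z • (1 : Matrix ι ι F)) →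
      (∀ z : F, (x : Matrix ι ι F) ≠ z • (1 : Matrix ι ι F)) →
      ∃ W : Submodule F (ι → F), TypedSub Q a τ W ∧ W.map (Matrix.toLin' (x : Matrix ι ι F)) ≤ W) ↔
    (¬ (DiscSq Q ∧ IsSquare ((2 : F) ^ d)) ∨ (τ ↔ IsSquare ((-1 : F) ^ a))) := by
  classical
  have hfin : finrank F (ι → F) = 2 * d := by rw [Module.finrank_pi, hι]
  have hmap : ∀ (g : Grp Q) (W : Submodule F (ι → F)), (∀ w ∈ W, ap g w ∈ W) →
      W.map (Matrix.toLin' ((g : GL ι F) : Matrix ι ι F)) ≤ W := fun g W h => by
    rintro _ ⟨w, hw, rfl⟩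
    exact h w hw
  have hsq : ∀ (g : Grp Q) {k : ℕ} (v : Fin k → ι → F),
      IsSquare (∏ x, Q (Sum.elim v (fun j => ap g (v j)) x)) := fun g k v =>
    ⟨∏ j, Q (v j), by rw [Fintype.prod_sum_type]; simp [ap_q]⟩
  constructor
  · intro H
    refine or_iff_not_imp_left.2 fun hex => ?_
    obtain ⟨hdisc, hsq2⟩ := not_not.1 hex
    obtain ⟨g, hg, hgg, hgs⟩ := exists_omega_neg_sq hB h2 hι (by omega) hdisc hsq2
    obtain ⟨W, hW, hWg⟩ := H (g : GL ι F) ⟨g, hg, rfl⟩
      ⟨-1, by
        refine Matrix.ext_iff_mulVec.mpr fun x => ?_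
        rw [neg_one_smul, Matrix.neg_mulVec, Matrix.one_mulVec, pow_two, Units.val_mul, ← Matrix.mulVec_mulVec]
        exact hgg x⟩ hgs
    obtain ⟨v, hvW, hv⟩ := exists_rotFrame_in hB h2 g hgg hW.2.1
      (fun w hw => hWg (Submodule.mem_map_of_mem hw)) hW.1
    rw [← hW.2.2, plus_iff_frame h2 hW.2.1 ha hW.1 (by simp; omega) _ (by
      rintro (j | j)
      exacts [hvW j, hWg (Submodule.mem_map_of_mem (hvW j))]) hv.orthogonal.1 hv.orthogonal.2]
    simp only [hsq g v, true_iff]
  · rintro hcase x hxΩ ⟨z, hz⟩ -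
    obtain ⟨g, hgΩ, rfl⟩ := hxΩ
    obtain ⟨v, hv⟩ := exists_aniso hB (by omega)
    have hap : ∀ w, ap g (ap g w) = z • w := fun w => by
      rw [← ap_mul, ← pow_two, ap, SubmonoidClass.coe_pow, show ((g : GL ι F) ^ 2 : GL ι F).1 =
        z • (1 : Matrix ι ι F) from hz, Matrix.smul_mulVec, Matrix.one_mulVec]
    have hzz : z * z = 1 := by
      have h1 := congrArg Q (hap v)
      rw [ap_q, ap_q, q_smul] at h1
      exact mul_right_cancel₀ hv (h1.symm.trans (one_mul _).symm)
    rcases mul_self_eq_one_iff.1 hzz with rfl | rfl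
    · have hgg : g * g = 1 := ext_ap fun w => by rw [ap_mul, hap, one_smul, ap_one]
      by_cases hτ : τ
      · obtain ⟨W, hW, hWd, hWg, hWp⟩ := exists_invariant_plus hB h2 g hgg a fun _ => by omega
        exact ⟨W, ⟨hWd, hW, iff_of_true hWp hτ⟩, hmap g W hWg⟩
      · obtain ⟨a', rfl⟩ : ∃ a', a = a' + 1 := ⟨a - 1, by omega⟩
        obtain ⟨W, hW, hWd, hWg, hWp⟩ := exists_invariant_minus hB h2 g hgg a' (by omega)
        exact ⟨W, ⟨hWd, hW, iff_of_false hWp hτ⟩, hmap g W hWg⟩
    · have hgg : ∀ w, ap g (ap g w) = -w := fun w => by rw [hap, neg_one_smul]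
      have hτ := hcase.resolve_left fun h => h (disc_of_omega_neg_sq hB h2 hι (by omega) g hgΩ hgg)
      obtain ⟨v, hv⟩ := exists_rotFrame hB h2 hfin g hgg
      let v' : Fin a → ι → F := fun j => v (Fin.castLE had.le j)
      have hv' : RotFrame Q v' fun j => ap g (v' j) :=
        ⟨fun j => hv.qv _, fun j => hv.qw _, fun i j => hv.vw _ _,
          fun i j h => hv.vv _ _ fun e => h (Fin.castLE_injective _ e),
          fun i j h => hv.ww _ _ fun e => h (Fin.castLE_injective _ e)⟩
      set e := Sum.elim v' fun j => ap g (v' j) with he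
      set W := Submodule.span F (Set.range e) with hW
      obtain ⟨hT, -⟩ := frame_orth hB h2 hv'.orthogonal.1 hv'.orthogonal.2
      have hWn : NondegOn Q W := orth_orth hB W ▸ nondegOn_orth hB hT
      have hWd : finrank F W = 2 * a := by
        rw [hW, finrank_span_eq_card (linearIndependent_frame h2 e hv'.orthogonal.1 hv'.orthogonal.2)]
        simp; omega
      refine ⟨W, ⟨hWd, hWn, ?_⟩, hmap g W fun w hw => ?_⟩
      · rw [plus_iff_frame h2 hWn ha hWd (by simp; omega) e (fun x => Submodule.subset_span ⟨x, rfl⟩)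
          hv'.orthogonal.1 hv'.orthogonal.2, iff_true_intro (hsq g v'), true_iff]
        exact hτ.symm
      · induction hw using Submodule.span_induction with
        | mem y hy =>
          obtain ⟨j | j, rfl⟩ := hy
          · exact Submodule.subset_span ⟨Sum.inr j, rfl⟩
          · rw [he, Sum.elim_inr, hgg]
            exact W.neg_mem (Submodule.subset_span ⟨Sum.inl j, rfl⟩)
        | zero => rw [ap_zero]; exact W.zero_mem
        | add y w _ _ h1 h3 => rw [ap_add]; exact W.add_mem h1 h3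
        | smul c y _ h1 => rw [ap_smul]; exact W.smul_mem c h1

end CfsgLib.Derange
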