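import Cfsg.Agent.Lib.Derange.InvolutionPlanes

/-!
Involutions of odd-dimensional orthogonal groups and their invariant totally singular subspaces.
-/

set_option autoImplicit false

namespace CfsgLib.Derange

open Module CfsgLib.Orth CfsgLib.Classical.WittBasis

universe u

variable {F : Type u} [Field F] [Fintype F] {ι : Type} [Fintype ι] [DecidableEq ι] {Q : QuadraticForm F (ι → F)}

local notation "B" => QuadraticMap.polar (DFunLike.coe Q)

omit [DecidableEq ι] in
theorem exists_hyp_in {E : Submodule F (ι → F)} (hE : NondegOn Q E) {k : ℕ} (hk : 2 * k + 1 ≤ finrank F E ∨ k = 0) :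
    ∃ e f : Fin k → ι → F, IsHyp Q e f ∧ (∀ j, e j ∈ E) ∧ ∀ j, f j ∈ E := by
  classical
  rcases hk with hk | rfl
  · obtain ⟨e, f, h⟩ := exists_hyp (qOn Q E) (qOn_nondeg hE) k hk
    have hp : ∀ x y : E, QuadraticMap.polar ⇑(qOn Q E) x y = B x y := fun x y => rfl
    exact ⟨fun j => e j, fun j => f j, ⟨h.qe, h.qf, fun a b => (hp _ _).symm.trans (h.ef a b),
      fun a b => (hp _ _).symm.trans (h.ee a b), fun a b => (hp _ _).symm.trans (h.ff a b)⟩,
      fun j => (e j).2, fun j => (f j).2⟩
  · exact ⟨0, 0, ⟨fun i => i.elim0, fun i => i.elim0, fun i => i.elim0, fun i => i.elim0, fun i => i.elim0⟩,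
      fun i => i.elim0, fun i => i.elim0⟩

omit [Fintype F] [DecidableEq ι] in
theorem hyp_span {k : ℕ} {e f : Fin k → ι → F} (h : IsHyp Q e f) :
    finrank F ↥(Submodule.span F (Set.range e)) = k ∧ ∀ w ∈ Submodule.span F (Set.range e), Q w = 0 := by
  have hli : LinearIndependent F e := Fintype.linearIndependent_iff.2 fun g hg j => by
    have h1 := congrArg (QuadraticMap.polarBilin Q · (f j)) hg
    simp only [map_sum, map_smul, LinearMap.sum_apply, LinearMap.smul_apply, QuadraticMap.polarBilin_apply_apply,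
      h.ef, map_zero, LinearMap.zero_apply] at h1
    simpa using h1
  refine ⟨by rw [finrank_span_eq_card hli, Fintype.card_fin], fun w hw => ?_⟩
  induction hw using Submodule.span_induction with
  | mem x hx => obtain ⟨j, rfl⟩ := hx; exact h.qe j
  | zero => exact QuadraticMap.map_zero Q
  | add x y hx' hy' hx hy =>
    have hxy : B x y = 0 := by
      have h0 : Submodule.span F (Set.range e) ≤ orth Q (Submodule.span F (Set.range e)) :=
        Submodule.span_le.2 (by rintro _ ⟨a, rfl⟩; exact mem_orth_span.2 fun s ⟨b, hb⟩ => hb ▸ h.ee b a)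
      exact mem_orth.1 (h0 hy') x hx'
    rw [q_add, hx, hy, hxy, add_zero, add_zero]
  | smul c x _ hx => rw [q_smul, hx, mul_zero]

omit [Fintype F] [DecidableEq ι] in
theorem exists_le_finrank (L : Submodule F (ι → F)) {k : ℕ} (hk : k ≤ finrank F L) :
    ∃ A ≤ L, finrank F A = k := by
  let b := Module.finBasis F L
  refine ⟨(Submodule.span F (Set.range (b ∘ Fin.castLE hk))).map L.subtype, Submodule.map_subtype_le _ _, ?_⟩
  rw [Submodule.finrank_map_subtype_eq,
    finrank_span_eq_card (b.linearIndependent.comp _ (Fin.castLE_injective hk)), Fintype.card_fin]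

omit [Fintype F] in
/-- Eigenvectors spanning a singular space give an invariant singular subspace of every smaller dimension. -/
theorem exists_sub_of_eigen (t : Grp Q) {E E' : Submodule F (ι → F)} (hperp : ∀ u ∈ E, ∀ v ∈ E', B u v = 0)
    (hdisj : E ⊓ E' = ⊥) (hEs : ∀ u ∈ E, ap t u = (1 : F) • u) (hE's : ∀ u ∈ E', ap t u = (-1 : F) • u)
    {L L' : Submodule F (ι → F)} (hL : L ≤ E) (hL' : L' ≤ E') (hLs : ∀ w ∈ L, Q w = 0) (hL's : ∀ w ∈ L', Q w = 0)
    {m : ℕ} (hm : m ≤ finrank F L + finrank F L') :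
    ∃ W : Submodule F (ι → F), finrank F W = m ∧ (∀ w ∈ W, Q w = 0) ∧
      W.map (Matrix.toLin' ((t : GL ι F) : Matrix ι ι F)) ≤ W := by
  obtain ⟨A, hA, hAd⟩ := exists_le_finrank L (min_le_right m (finrank F L))
  obtain ⟨A', hA', hA'd⟩ := exists_le_finrank L' (k := m - min m (finrank F L)) (by omega)
  refine ⟨A ⊔ A', ?_, fun w hw => ?_, ?_⟩
  · have := Submodule.finrank_sup_add_finrank_inf_eq A A'
    rw [show A ⊓ A' = ⊥ from le_bot_iff.1 (hdisj ▸ inf_le_inf (hA.trans hL) (hA'.trans hL')), finrank_bot,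
      add_zero] at this
    omega
  · obtain ⟨a, ha, b, hb, rfl⟩ := Submodule.mem_sup.1 hw
    rw [q_add, hLs a (hA ha), hL's b (hA' hb), hperp a (hL (hA ha)) b (hL' (hA' hb)), add_zero, add_zero]
  · rintro _ ⟨w, hw, rfl⟩
    rw [Matrix.toLin'_apply]
    obtain ⟨a, ha, b, hb, rfl⟩ := Submodule.mem_sup.1 hw
    show ap t (a + b) ∈ A ⊔ A'
    rw [ap_add, hEs a (hL (hA ha)), hE's b (hL' (hA' hb))]
    exact add_mem (Submodule.mem_sup_left (A.smul_mem _ ha)) (Submodule.mem_sup_right (A'.smul_mem _ hb))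

/-- For a square `-1` the `-1`-eigenspace of an involution of `Ω` contains a singular half. -/
theorem exists_half_neg (hB : Nondeg Q) (h2 : (2 : F) ≠ 0) (hn2 : 2 ≤ finrank F (ι → F))
    (hex : finrank F (ι → F) = 4 → Nat.card F ≠ 2) (t : Grp Q) (htΩ : t ∈ Cfsg.Omega F ⇑Q)
    {E E' : Submodule F (ι → F)} (hE' : NondegOn Q E') (hperp : ∀ u ∈ E, ∀ v ∈ E', B u v = 0) (h3 : ⊤ ≤ E ⊔ E')
    (hEs : ∀ u ∈ E, ap t u = (1 : F) • u) (hE's : ∀ u ∈ E', ap t u = (-1 : F) • u) {k : ℕ}
    (hk : finrank F E' = 2 * k) (hsq : IsSquare (-1 : F)) :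
    ∃ L ≤ E', (∀ w ∈ L, Q w = 0) ∧ finrank F L = k := by
  classical
  by_cases hk0 : k = 0
  · exact ⟨⊥, bot_le, fun w hw => by rw [(Submodule.mem_bot F).1 hw, QuadraticMap.map_zero], by
      rw [finrank_bot, hk0]⟩
  have hsp := ((mem_omega_iff hB hn2 hex t).1 htΩ).2
  obtain ⟨e', f', hef', he', hf'⟩ := exists_hyp_in hE' (k := k - 1) (by omega)
  obtain ⟨hLd', hLs'⟩ := hyp_span hef'
  have hLE' : Submodule.span F (Set.range e') ≤ E' := Submodule.span_le.2 (by rintro _ ⟨j, rfl⟩; exact he' j)
  set P := Submodule.span F (Set.range e' ∪ Set.range f') with hP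
  set R := E' ⊓ orth Q P with hR
  have hPE : P ≤ E' := Submodule.span_le.2 (by
    rintro _ (⟨j, rfl⟩ | ⟨j, rfl⟩)
    exacts [he' j, hf' j])
  have hPd : finrank F P ≤ 2 * (k - 1) := by
    have := finrank_span_le_card (R := F) (Set.range e' ∪ Set.range f')
    refine this.trans ((Set.toFinset_card _).le.trans ?_)
    rw [← Nat.card_eq_fintype_card, Nat.card_coe_set_eq]
    refine (Set.ncard_union_le _ _).trans ?_
    have h1 := Set.ncard_image_le (f := e') (s := Set.univ)
    have h4 := Set.ncard_image_le (f := f') (s := Set.univ)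
    rw [Set.image_univ, Set.ncard_univ, Nat.card_eq_fintype_card, Fintype.card_fin] at h1 h4
    omega
  have hRd : 2 ≤ finrank F R := by
    have h1 := Submodule.finrank_sup_add_finrank_inf_eq E' (orth Q P)
    have h4 := finrank_orth hB P
    have h5 := Submodule.finrank_le (E' ⊔ orth Q P)
    rw [← hR] at h1
    omega
  by_cases hsing : ∃ v ∈ R, v ≠ 0 ∧ Q v = 0
  · obtain ⟨v, hv, hv0, hqv⟩ := hsing
    have hvL : v ∉ Submodule.span F (Set.range e') := fun hvL => by
      obtain ⟨c, rfl⟩ := (Submodule.mem_span_range_iff_exists_fun F).1 hvL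
      refine hv0 (Finset.sum_eq_zero fun j _ => ?_)
      have h1 := mem_orth.1 hv.2 (f' j) (Submodule.subset_span (Or.inr ⟨j, rfl⟩))
      rw [← QuadraticMap.polarBilin_apply_apply, map_sum] at h1
      simp only [map_smul, QuadraticMap.polarBilin_apply_apply, QuadraticMap.polar_comm (⇑Q) (f' j), hef'.ef,
        smul_eq_mul, mul_ite, mul_one, mul_zero, Finset.sum_ite_eq', Finset.mem_univ, if_true] at h1
      rw [h1, zero_smul]
    refine ⟨Submodule.span F (Set.range e') ⊔ Submodule.span F {v},
      sup_le hLE' ((Submodule.span_singleton_le_iff_mem _ _).2 hv.1), fun w hw => ?_, ?_⟩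
    · obtain ⟨a, ha, z, hz, rfl⟩ := Submodule.mem_sup.1 hw
      obtain ⟨c, rfl⟩ := Submodule.mem_span_singleton.1 hz
      rw [q_add, hLs' a ha, q_smul, hqv, b_smul_right,
        mem_orth.1 hv.2 a (Submodule.span_mono Set.subset_union_left ha)]
      ring
    · have h1 := Submodule.finrank_sup_add_finrank_inf_eq (Submodule.span F (Set.range e')) (Submodule.span F {v})
      rw [show Submodule.span F (Set.range e') ⊓ Submodule.span F {v} = ⊥ from
        (Submodule.eq_bot_iff _).2 fun x hx => by
          obtain ⟨c, rfl⟩ := Submodule.mem_span_singleton.1 hx.2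
          by_contra hc
          exact hvL ((Submodule.smul_mem_iff _ (fun h => hc (by rw [h, zero_smul]))).1 hx.1),
        finrank_bot, add_zero, finrank_span_singleton hv0] at h1
      omega
  exfalso
  push Not at hsing
  obtain ⟨a, ha, ha0⟩ : ∃ a ∈ R, a ≠ 0 := R.exists_mem_ne_zero_of_ne_bot fun h => by
    rw [h, finrank_bot] at hRd; omega
  have hqa := hsing a ha ha0
  obtain ⟨b, hb, hb0⟩ : ∃ b ∈ R ⊓ orth Q (Submodule.span F {a}), b ≠ 0 :=
    Submodule.exists_mem_ne_zero_of_ne_bot fun h => by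
      have h1 := Submodule.finrank_sup_add_finrank_inf_eq R (orth Q (Submodule.span F {a}))
      have h4 := finrank_orth hB (Submodule.span F {a})
      have h5 := Submodule.finrank_le (R ⊔ orth Q (Submodule.span F {a}))
      rw [h, finrank_bot] at h1
      rw [finrank_span_singleton ha0] at h4
      omega
  have hqb := hsing b hb.1 hb0
  have hab : B a b = 0 := mem_orth.1 hb.2 a (Submodule.mem_span_singleton_self a)
  obtain ⟨g, hge, hgf, hgfix, hgd, hgs⟩ := exists_scale hB hn2 hef' (fun _ => (-1 : F)) (fun _ => neg_ne_zero.2 one_ne_zero)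
  obtain ⟨ra, hra⟩ := exists_refl hB hqa
  obtain ⟨rb, hrb⟩ := exists_refl hB hqb
  have hRfix : ∀ x ∈ R, ap g x = x := fun x hx => hgfix x
    (fun j => mem_orth.1 hx.2 _ (Submodule.subset_span (Or.inl ⟨j, rfl⟩)))
    (fun j => mem_orth.1 hx.2 _ (Submodule.subset_span (Or.inr ⟨j, rfl⟩)))
  have heq : t = g * (ra * rb) := by
    have h2a : ∀ x, B a x = 0 → ap ra x = x := fun x h => by rw [hra.2, h, mul_zero, zero_smul, sub_zero]
    have h2b : ∀ x, B b x = 0 → ap rb x = x := fun x h => by rw [hrb.2, h, mul_zero, zero_smul, sub_zero]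
    have hneg : ∀ (v : ι → F) (r : Grp Q), IsRefl v r → ap r v = -v := fun v r hr => by
      rw [hr.2, b_self, show (Q v)⁻¹ * (2 * Q v) = 2 by
        rw [mul_comm 2, ← mul_assoc, inv_mul_cancel₀ hr.1, one_mul], two_smul]
      abel
    have hab' : B b a = 0 := by rw [b_comm]; exact hab
    have hz : ∀ x ∈ E', ap t x = ap (g * (ra * rb)) x := by
      have hker : P ⊔ Submodule.span F {a, b} = E' := by
        refine Submodule.eq_of_le_of_finrank_le (sup_le hPE (Submodule.span_le.2 (by
          rintro x (rfl | rfl)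
          exacts [ha.1, hb.1.1]))) ?_
        have hli : LinearIndependent F ![a, b] := LinearIndependent.pair_iff.2 fun x y h => by
          have h1 := congrArg (B · a) h
          have h4 := congrArg (B · b) h
          simp only [b_add_left, b_smul_left, hab', hab, b_self, b_zero_left, mul_zero, add_zero, zero_add,
            mul_eq_zero, h2, hqa, hqb, or_false, false_or] at h1 h4
          exact ⟨h1, h4⟩
        have hd2 : finrank F ↥(Submodule.span F ({a, b} : Set (ι → F))) = 2 := by
          rw [show ({a, b} : Set (ι → F)) = Set.range ![a, b] by simp [Matrix.range_cons, Set.pair_comm],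
            finrank_span_eq_card hli, Fintype.card_fin]
        have hPlow : 2 * (k - 1) ≤ finrank F P := by
          have hlp : LinearIndependent F (Sum.elim e' f') := Fintype.linearIndependent_iff.2 fun c hc z => by
            have h1 : ∀ v, B (∑ z, c z • Sum.elim e' f' z) v = 0 := fun v => by rw [hc, b_zero_left]
            rcases z with j | j
            · have := h1 (f' j)
              rw [← QuadraticMap.polarBilin_apply_apply, map_sum] at this
              simpa [Fintype.sum_sum_type, hef'.ef, hef'.ff] using this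
            · have := h1 (e' j)
              rw [← QuadraticMap.polarBilin_apply_apply, map_sum] at this
              simpa [Fintype.sum_sum_type, hef'.ee, QuadraticMap.polar_comm (⇑Q) (f' _) (e' j), hef'.ef] using this
          rw [hP, ← Set.Sum.elim_range, finrank_span_eq_card hlp]
          simp; omega
        have hinf : P ⊓ Submodule.span F {a, b} = ⊥ := (Submodule.eq_bot_iff _).2 fun x hx => by
          obtain ⟨c₁, c₂, rfl⟩ := Submodule.mem_span_pair.1 hx.2
          have h1 := mem_orth.1 ha.2 _ hx.1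
          have h4 := mem_orth.1 hb.1.2 _ hx.1
          simp only [b_add_left, b_smul_left, hab', hab, b_self, mul_zero, add_zero, zero_add,
            mul_eq_zero, h2, hqa, hqb, or_false, false_or] at h1 h4
          simp [h1, h4]
        have h6 := Submodule.finrank_sup_add_finrank_inf_eq P (Submodule.span F {a, b})
        rw [hinf, finrank_bot, add_zero, hd2] at h6
        omega
      have hgP : ∀ y ∈ P, ap g y = -y := fun y hy => by
        induction hy using Submodule.span_induction with
        | mem w hw =>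
          rcases hw with ⟨j, rfl⟩ | ⟨j, rfl⟩
          · rw [hge, neg_one_smul]
          · rw [hgf, inv_neg_one, neg_one_smul]
        | zero => rw [ap_zero, neg_zero]
        | add u v _ _ hu hv => rw [ap_add, hu, hv, neg_add]
        | smul c u _ hu => rw [ap_smul, hu, smul_neg]
      intro x hx
      rw [← hker] at hx
      obtain ⟨y, hy, z, hz, rfl⟩ := Submodule.mem_sup.1 hx
      obtain ⟨c₁, c₂, rfl⟩ := Submodule.mem_span_pair.1 hz
      have hgy : ap g y = -y := hgP y hy
      have hy1 : B a y = 0 := by rw [b_comm]; exact mem_orth.1 ha.2 y hy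
      have hy2 : B b y = 0 := by rw [b_comm]; exact mem_orth.1 hb.1.2 y hy
      have hry : ap (ra * rb) y = y := by rw [ap_mul, h2b y hy2, h2a y hy1]
      have hrA : ap (ra * rb) a = -a := by rw [ap_mul, h2b a hab', hneg a ra hra]
      have hrB : ap (ra * rb) b = -b := by
        rw [ap_mul, hneg b rb hrb, h2a (-b) (by rw [← neg_one_smul F b, b_smul_right, hab, mul_zero])]
      have hnR : ap g (c₁ • -a + c₂ • -b) = c₁ • -a + c₂ • -b :=
        hRfix _ (R.add_mem (R.smul_mem _ (R.neg_mem ha)) (R.smul_mem _ (R.neg_mem hb.1)))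
      rw [ap_mul g (ra * rb)]
      simp only [ap_add (g := t), ap_smul (g := t), hE's y (hPE hy), hE's a ha.1, hE's b hb.1.1,
        ap_add (g := ra * rb), ap_smul (g := ra * rb), hry, hrA, hrB]
      rw [ap_add, hgy, hnR, neg_one_smul, neg_one_smul, neg_one_smul]
    refine ext_ap fun x => ?_
    obtain ⟨u, hu, w, hw, rfl⟩ := Submodule.mem_sup.1 (h3 (Submodule.mem_top (x := x)))
    have hu1 : ap (ra * rb) u = u := by
      rw [ap_mul, h2b u (by rw [b_comm]; exact hperp u hu b hb.1.1), h2a u (by rw [b_comm]; exact hperp u hu a ha.1)]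
    rw [ap_add, hz w hw, ap_add, hEs u hu, one_smul, ap_mul g (ra * rb) u, hu1,
      hgfix u (fun j => by rw [b_comm]; exact hperp u hu _ (he' j)) (fun j => by rw [b_comm]; exact hperp u hu _ (hf' j))]
  have hsq1 : sqc (Q a * Q b) = 1 := by
    have h := hsp h2
    rwa [heq, map_mul, hgs h2, (class_pair hB hn2 hra hrb).2 h2, Finset.prod_const, Finset.card_univ,
      Fintype.card_fin, sqc_eq_one.2 (hsq.pow _), one_mul] at h
  obtain ⟨w, hw⟩ := sqc_eq_one.1 hsq1
  obtain ⟨i₀, hi₀⟩ := hsq
  have hv : Q ((i₀ * Q b) • a + w • b) = 0 := by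
    rw [q_add, q_smul, q_smul, b_smul_left, b_smul_right, hab, mul_zero, mul_zero, add_zero]
    linear_combination (-Q a * Q b * Q b) * hi₀ - Q b * hw
  refine hsing _ (R.add_mem (R.smul_mem _ ha) (R.smul_mem _ hb.1)) ?_ hv
  intro h0
  have h1 := congrArg (B · a) h0
  simp only [b_add_left, b_smul_left, b_zero_left, show B b a = 0 by rw [b_comm]; exact hab, mul_zero, add_zero,
    b_self, mul_eq_zero, h2, hqa, hqb, or_false, false_or] at h1
  rw [h1] at hi₀
  simp at hi₀

/-- An involution of `Ω` in odd dimension stabilises singular subspaces of every dimension below the maximum, and of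
the maximum when `-1` is a square. -/
theorem exists_singular_of_involution (hB : Nondeg Q) (h2 : (2 : F) ≠ 0) {d : ℕ}
    (hfin : finrank F (ι → F) = 2 * d + 1) (hd : 1 ≤ d) (t : Grp Q) (ht : t * t = 1)
    (htΩ : t ∈ Cfsg.Omega F ⇑Q) {m : ℕ} (hm : m < d ∨ (m ≤ d ∧ IsSquare (-1 : F))) :
    ∃ W : Submodule F (ι → F), finrank F W = m ∧ (∀ w ∈ W, Q w = 0) ∧
      W.map (Matrix.toLin' ((t : GL ι F) : Matrix ι ι F)) ≤ W := by
  classical
  obtain ⟨E, E', hE, hE', hperp, -, h3, hEs, hE's⟩ := exists_eigen h2 t ht (M := ⊤)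
    (fun x _ h => hB x fun y => h y trivial) (fun _ _ => trivial)
  have hdisj : E ⊓ E' = ⊥ := (Submodule.eq_bot_iff _).2 fun x hx => hE x hx.1 fun y hy => by
    rw [b_comm]; exact hperp y hy x hx.2
  have hsum : finrank F E + finrank F E' = 2 * d + 1 := by
    have := Submodule.finrank_sup_add_finrank_inf_eq E E'
    rw [hdisj, finrank_bot, add_zero, top_le_iff.1 h3, finrank_top, hfin] at this
    omega
  have hfix : fixSpace t = E := by
    refine le_antisymm (fun x hx => ?_) fun x hx => mem_fixSpace.2 (by rw [hEs x hx, one_smul])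
    obtain ⟨a, ha, b, hb, rfl⟩ := Submodule.mem_sup.1 (h3 (Submodule.mem_top (x := x)))
    have h := mem_fixSpace.1 hx
    rw [ap_add, hEs a ha, hE's b hb, one_smul, add_right_inj] at h
    have : (2 : F) • b = 0 := by
      rw [two_smul]
      nth_rw 1 [← h]
      simp
    rw [(smul_eq_zero.1 this).resolve_left h2, add_zero]
    exact ha
  have hn2 : 2 ≤ finrank F (ι → F) := by omega
  have hex : finrank F (ι → F) = 4 → Nat.card F ≠ 2 := fun h => by omega
  obtain ⟨hdk, hsp⟩ := (mem_omega_iff hB hn2 hex t).1 htΩ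
  obtain ⟨k, hk⟩ : ∃ k, finrank F E' = 2 * k := by
    have h : (-1 : ℤˣ) ^ (finrank F (ι → F) + finrank F (fixSpace t)) = 1 := hdk
    rw [hfix, hfin, neg_one_pow_eq_one_iff_even (by decide)] at h
    obtain ⟨w, hw⟩ := h
    exact ⟨2 * d + 1 - w, by omega⟩
  obtain ⟨e, f, hef, he, hf⟩ := exists_hyp_in hE (k := d - k) (Or.inl (by omega))
  obtain ⟨e', f', hef', he', hf'⟩ := exists_hyp_in hE' (k := k - 1) (by omega)
  obtain ⟨hLd, hLs⟩ := hyp_span hef
  obtain ⟨hLd', hLs'⟩ := hyp_span hef'
  have hLE : Submodule.span F (Set.range e) ≤ E := Submodule.span_le.2 (by rintro _ ⟨j, rfl⟩; exact he j)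
  have hLE' : Submodule.span F (Set.range e') ≤ E' := Submodule.span_le.2 (by rintro _ ⟨j, rfl⟩; exact he' j)
  by_cases hk0 : k = 0
  · exact exists_sub_of_eigen t hperp hdisj hEs hE's hLE hLE' hLs hLs' (by omega)
  rcases hm with hm | ⟨hmd, hsq⟩
  · exact exists_sub_of_eigen t hperp hdisj hEs hE's hLE hLE' hLs hLs' (by omega)
  obtain ⟨L, hL, hLz, hLc⟩ := exists_half_neg hB h2 hn2 hex t htΩ hE' hperp h3 hEs hE's hk hsq
  exact exists_sub_of_eigen t hperp hdisj hEs hE's hLE hL hLs hLz (by omega)

/-- When `-1` is a non-square, two reflections give an involution of `Ω` with an anisotropic plane that is orthogonal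
to every stable singular subspace. -/
theorem exists_pair_involution (hB : Nondeg Q) (h2 : (2 : F) ≠ 0) (hn : 5 ≤ finrank F (ι → F))
    (hns : ¬ IsSquare (-1 : F)) :
    ∃ (g : Grp Q) (P : Submodule F (ι → F)), g ∈ Cfsg.Omega F ⇑Q ∧ g * g = 1 ∧ orderOf (g : GL ι F) = 2 ∧
      finrank F P = 2 ∧ (∀ z ∈ P, Q z = 0 → z = 0) ∧
      ∀ W : Submodule F (ι → F), (∀ w ∈ W, Q w = 0) →
        W.map (Matrix.toLin' ((g : GL ι F) : Matrix ι ι F)) ≤ W → W ≤ orth Q P := by
  classical
  obtain ⟨a, -, hqa⟩ := exists_value (Q := Q) (U := ⊤) (fun x _ h => hB x fun y => h y trivial) h2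
    (by rw [finrank_top]; omega) 1
  have hqa0 : Q a ≠ 0 := by rw [hqa]; exact one_ne_zero
  have ha0 : a ≠ 0 := fun h => hqa0 (by rw [h, QuadraticMap.map_zero])
  have hLn : NondegOn Q (Submodule.span F {a}) := fun x hx h => by
    obtain ⟨c, rfl⟩ := Submodule.mem_span_singleton.1 hx
    have h1 := h a (Submodule.mem_span_singleton_self a)
    rw [b_smul_left, b_self, hqa, mul_one, mul_eq_zero, or_iff_left h2] at h1
    rw [h1, zero_smul]
  obtain ⟨b, hb, hqb⟩ := exists_value (Q := Q) (fun x hx h => nondegOn_orth hB hLn x hx h) h2 (by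
    have := finrank_orth hB (Submodule.span F {a})
    rw [finrank_span_singleton ha0] at this
    omega) 1
  have hab : B a b = 0 := mem_orth.1 hb a (Submodule.mem_span_singleton_self a)
  have hqb0 : Q b ≠ 0 := by rw [hqb]; exact one_ne_zero
  obtain ⟨ra, hra⟩ := exists_refl hB hqa0
  obtain ⟨rb, hrb⟩ := exists_refl hB hqb0
  have hn2 : 2 ≤ finrank F (ι → F) := by omega
  set g := ra * rb
  have hg : ∀ x, ap g x = x - B a x • a - B b x • b := fun x => by
    rw [ap_mul, hrb.2, hra.2, hqa, hqb, inv_one, one_mul, one_mul, b_sub_right, b_smul_right, hab, mul_zero, sub_zero]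
    abel
  have hga : ap g a = -a := by
    rw [hg, b_self, hqa, mul_one, b_comm b a, hab, zero_smul, sub_zero, two_smul]; abel
  have hgb : ap g b = -b := by
    rw [hg, hab, b_self, hqb, mul_one, zero_smul, sub_zero, two_smul]; abel
  have hgg : g * g = 1 := ext_ap fun x => by
    rw [ap_mul, hg x, ap_sub, ap_sub, ap_smul, ap_smul, hga, hgb, hg x, ap_one]
    module
  refine ⟨g, Submodule.span F ({a, b} : Set (ι → F)), (mem_omega_iff hB hn2 (fun h => by omega) g).2 ⟨(class_pair hB hn2 hra hrb).1, fun h => by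
    rw [(class_pair hB hn2 hra hrb).2 h, hqa, hqb, mul_one, sqc_one]⟩, hgg, ?_, ?_, ?_, fun W hW hinv => ?_⟩
  · refine orderOf_eq_prime (p := 2) ?_ fun h => ?_
    · rw [pow_two, ← Subgroup.coe_mul, hgg]; rfl
    · have h1 := hga
      rw [ap, h, Units.val_one, Matrix.one_mulVec] at h1
      have : (2 : F) • a = 0 := by
        rw [two_smul]; nth_rw 1 [h1]; simp
      exact ha0 ((smul_eq_zero.1 this).resolve_left h2)
  · have hli : LinearIndependent F ![a, b] := LinearIndependent.pair_iff.2 fun x y h => by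
      have h1 := congrArg (B · a) h
      have h4 := congrArg (B · b) h
      simp only [b_add_left, b_smul_left, b_comm b a, hab, b_self, b_zero_left, mul_zero, add_zero, zero_add,
        mul_eq_zero, h2, hqa, hqb, one_ne_zero, or_false, false_or] at h1 h4
      exact ⟨h1, h4⟩
    rw [show Submodule.span F ({a, b} : Set (ι → F)) = Submodule.span F (Set.range ![a, b]) by
      simp [Matrix.range_cons, Set.pair_comm], finrank_span_eq_card hli, Fintype.card_fin]
  · intro z hz hqz
    obtain ⟨c₁, c₂, rfl⟩ := Submodule.mem_span_pair.1 hz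
    rw [q_add, q_smul, q_smul, b_smul_left, b_smul_right, hab, hqa, hqb] at hqz
    simp only [mul_one, mul_zero, add_zero] at hqz
    by_cases hc : c₁ = 0
    · simp only [hc, mul_zero, zero_add, mul_self_eq_zero] at hqz
      simp [hc, hqz]
    · exact absurd ⟨c₂ / c₁, by field_simp; linear_combination -hqz⟩ hns
  · set P := Submodule.span F ({a, b} : Set (ι → F))
    have hperp : ∀ w ∈ W, B a w = 0 ∧ B b w = 0 := fun w hw => by
      have hgw : ap g w ∈ W := hinv ⟨w, hw, Matrix.toLin'_apply _ _⟩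
      have hz : B a w • a + B b w • b ∈ W := by
        have h1 := W.sub_mem hw hgw
        rwa [hg, sub_sub, sub_sub_cancel] at h1
      have h4 := hW _ hz
      rw [q_add, q_smul, q_smul, b_smul_left, b_smul_right, hab, hqa, hqb] at h4
      simp only [mul_one, mul_zero, add_zero] at h4
      by_cases hx : B a w = 0
      · rw [hx] at h4; exact ⟨hx, by simpa using h4⟩
      · exact absurd ⟨B b w / B a w, by field_simp; linear_combination -h4⟩ hns
    exact fun w hw => mem_orth_span.2 (by
      rintro x (rfl | rfl)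
      exacts [(hperp w hw).1, (hperp w hw).2])

/-- When `-1` is a non-square some involution of `Ω` fixes no maximal singular subspace. -/
theorem exists_involution_no_maximal (hB : Nondeg Q) (h2 : (2 : F) ≠ 0) {d : ℕ}
    (hfin : finrank F (ι → F) = 2 * d + 1) (hd : 2 ≤ d) (hns : ¬ IsSquare (-1 : F)) :
    ∃ g : Grp Q, g ∈ Cfsg.Omega F ⇑Q ∧ orderOf (g : GL ι F) = 2 ∧
      ∀ W : Submodule F (ι → F), finrank F W = d → (∀ w ∈ W, Q w = 0) →
        ¬ W.map (Matrix.toLin' ((g : GL ι F) : Matrix ι ι F)) ≤ W := by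
  obtain ⟨g, P, hg, -, hg2, hPd, hPa, hperp⟩ := exists_pair_involution hB h2 (by omega) hns
  refine ⟨g, hg, hg2, fun W hWd hW hinv => ?_⟩
  have hle : W ⊔ P ≤ orth Q W :=
    sup_le (le_orth_of_singular hW) ((orth_orth hB P).ge.trans (orth_le (hperp W hW hinv)))
  have hinf : W ⊓ P = ⊥ := (Submodule.eq_bot_iff _).2 fun z hz => hPa z hz.2 (hW z hz.1)
  have h5 := Submodule.finrank_mono hle
  have h6 := Submodule.finrank_sup_add_finrank_inf_eq W P
  rw [hinf, finrank_bot, add_zero, hPd, hWd] at h6
  have h7 := finrank_orth hB W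
  omega

end CfsgLib.Derange
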