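import Cfsg.Agent.Lib.Classical.InvolutionOrth
import Cfsg.Agent.Lib.Derange.NondegEven
import Cfsg.Agent.Lib.Derange.SingInvolution

/-!
Unipotent elements with a totally singular commutator space against non-degenerate subspaces of even dimension.
-/

set_option autoImplicit false
set_option linter.style.haveILetI false

namespace CfsgLib.Derange

open Module CfsgLib.Classical CfsgLib.Classical.OrthModels CfsgLib.Orth CfsgLib.Classical.WittBasis
open CfsgLib.Classical.InvolutionOrth (uO uO_apply)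

universe u

variable {F : Type u} [Field F] {ι : Type} [Fintype ι] [DecidableEq ι] {Q : QuadraticForm F (ι → F)}

local notation "B" => QuadraticMap.polar (DFunLike.coe Q)

/-- Totally singular subspaces of a non-degenerate subspace. -/
theorem singular_le_half (hB : Nondeg Q) {W S : Submodule F (ι → F)} (hW : NondegOn Q W) {a : ℕ}
    (hd : finrank F W = 2 * a) (hSW : S ≤ W) (hS : ∀ x ∈ S, Q x = 0) :
    finrank F S ≤ a ∧ (finrank F S = a → Cfsg.Geo.IsPlusTypeOn ⇑Q W) := by
  refine ⟨?_, fun h => ⟨S, hSW, hS, by omega⟩⟩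
  have h1 := Submodule.finrank_sup_add_finrank_inf_eq W (orth Q S)
  have h3 : W ⊔ orth Q S = ⊤ := top_le_iff.1 (sup_orth_eq_top hB hW ▸ sup_le_sup_left (orth_le hSW) W)
  have h4 := finrank_orth hB S
  have h5 := Submodule.finrank_mono (le_inf hSW (le_orth_of_singular hS))
  rw [h3, finrank_top] at h1
  omega

/-- The displacement space splits along an invariant non-degenerate subspace. -/
theorem range_le_split (hB : Nondeg Q) (g : Grp Q) {W : Submodule F (ι → F)} (hW : NondegOn Q W)
    (hWg : ∀ w ∈ W, ap g w ∈ W) :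
    W.map (uO g) ≤ W ∧ (orth Q W).map (uO g) ≤ orth Q W ∧
      finrank F ↥(LinearMap.range (uO g)) ≤ finrank F ↥(W.map (uO g)) + finrank F ↥((orth Q W).map (uO g)) := by
  refine ⟨?_, ?_, ?_⟩
  · rintro _ ⟨w, hw, rfl⟩
    rw [uO_apply]; exact W.sub_mem (hWg w hw) hw
  · rintro _ ⟨w, hw, rfl⟩
    rw [uO_apply]; exact (orth Q W).sub_mem (invariant_orth g hWg w hw) hw
  · refine le_trans (Submodule.finrank_mono ?_) (Submodule.finrank_add_le_finrank_add_finrank _ _)
    rw [← Submodule.map_sup, sup_orth_eq_top hB hW, Submodule.map_top]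

variable [Fintype F] {p : ℕ} [hp : Fact p.Prime] [CharP F p]

include hp in
/-- An element of `Ω` of order `p` whose displacement space is a given totally singular one of even dimension. -/
theorem exists_alt_unip (hB : Nondeg Q) (hn : 5 ≤ Fintype.card ι) {s : ℕ} (hs : 0 < s)
    {e f : Fin (s + s) → ι → F} (h : IsHyp Q e f) :
    ∃ g : Grp Q, (g : GL ι F) ∈ Cfsg.Geo.omegaGL ⇑Q ∧ g ^ p = 1 ∧
      (∀ z : F, ((g : GL ι F) : Matrix ι ι F) ≠ z • (1 : Matrix ι ι F)) ∧
      finrank F ↥(LinearMap.range (uO g)) = s + s ∧ ∀ x ∈ LinearMap.range (uO g), Q x = 0 := by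
  classical
  let a : Fin s → ι → F := fun j => e (Fin.castAdd s j)
  let b : Fin s → ι → F := fun j => e (Fin.natAdd s j)
  let bf : (ι → F) → (ι → F) →ₗ[F] F := fun w => QuadraticMap.polarBilin Q w
  let N : End F (ι → F) := ∑ j, ((bf (a j)).smulRight (b j) - (bf (b j)).smulRight (a j))
  have hN : ∀ v, N v = ∑ j, (B (a j) v • b j - B (b j) v • a j) := fun v => by
    simp [N, bf, LinearMap.sum_apply]
  obtain ⟨hSd, hSs⟩ := hyp_span h
  have hNS : ∀ v, N v ∈ Submodule.span F (Set.range e) := fun v => by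
    rw [hN]
    exact Submodule.sum_mem _ fun j _ => Submodule.sub_mem _
      (Submodule.smul_mem _ _ (Submodule.subset_span ⟨_, rfl⟩))
      (Submodule.smul_mem _ _ (Submodule.subset_span ⟨_, rfl⟩))
  have hperp : ∀ j, ∀ x ∈ Submodule.span F (Set.range e), B (e j) x = 0 := fun j x hx =>
    mem_orth.1 (le_orth_of_singular hSs hx) _ (Submodule.subset_span ⟨j, rfl⟩)
  have hNN : ∀ v, N (N v) = 0 := fun v => by
    rw [hN (N v)]
    exact Finset.sum_eq_zero fun j _ => by
      rw [show B (a j) (N v) = 0 from hperp _ _ (hNS v), show B (b j) (N v) = 0 from hperp _ _ (hNS v)]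
      simp
  have hvN : ∀ v, B v (N v) = 0 := fun v => by
    rw [hN, ← QuadraticMap.polarBilin_apply_apply, map_sum]
    refine Finset.sum_eq_zero fun j _ => ?_
    rw [map_sub, map_smul, map_smul, QuadraticMap.polarBilin_apply_apply, QuadraticMap.polarBilin_apply_apply,
      b_comm v, b_comm v, smul_eq_mul, smul_eq_mul]
    ring
  obtain ⟨g, hg⟩ := exists_iso hB (LinearMap.id + N) fun v => by
    show Q (v + N v) = Q v
    rw [q_add, hSs _ (hNS v), hvN, add_zero, add_zero]
  have hgv : ∀ v, ap g v = v + N v := hg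
  have hu : uO g = N := LinearMap.ext fun v => by rw [uO_apply, hgv, add_sub_cancel_left]
  have hpow : ∀ (k : ℕ) v, ap (g ^ k) v = v + (k : F) • N v := fun k => by
    induction k with
    | zero => intro v; rw [pow_zero, ap_one]; simp
    | succ k ih =>
      intro v
      rw [pow_succ', ap_mul, ih, hgv, map_add, map_smul, hNN, smul_zero, add_zero, Nat.cast_succ, add_smul, one_smul,
        add_assoc]
  have hgp : g ^ p = 1 := ext_ap fun v => by rw [hpow, CharP.cast_eq_zero, zero_smul, add_zero, ap_one]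
  have hbe : ∀ j k, B (e j) (f k) = if j = k then 1 else 0 := h.ef
  have hcd : ∀ (j k : Fin s), Fin.castAdd s j ≠ Fin.natAdd s k := fun j k he => by
    have := congrArg Fin.val he
    simp at this
    omega
  have hNfa : ∀ k, N (f (Fin.castAdd s k)) = b k := fun k => by
    rw [hN, Finset.sum_eq_single k]
    · simp only [a, b, hbe]; rw [if_pos trivial, if_neg (hcd k k).symm]; simp
    · intro j _ hj
      simp only [a, b, hbe]; rw [if_neg (fun he => hj (Fin.castAdd_inj.1 he)), if_neg (hcd k j).symm]; simp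
    · intro h; exact absurd (Finset.mem_univ k) h
  have hNfb : ∀ k, N (f (Fin.natAdd s k)) = -a k := fun k => by
    rw [hN, Finset.sum_eq_single k]
    · simp only [a, b, hbe]; rw [if_pos trivial, if_neg (hcd k k)]; simp
    · intro j _ hj
      simp only [a, b, hbe]; rw [if_neg (fun he => hj ((Fin.natAdd_inj s).1 he)), if_neg (hcd j k)]; simp
    · intro h; exact absurd (Finset.mem_univ k) h
  have hrange : LinearMap.range (uO g) = Submodule.span F (Set.range e) := by
    rw [hu]
    refine le_antisymm (by rintro _ ⟨v, rfl⟩; exact hNS v) (Submodule.span_le.2 ?_)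
    rintro _ ⟨j, rfl⟩
    refine Fin.addCases (fun k => ?_) (fun k => ?_) j
    · exact ⟨-f (Fin.natAdd s k), by rw [map_neg, hNfb, neg_neg]⟩
    · exact ⟨f (Fin.castAdd s k), hNfa k⟩
  have hrank : finrank F ↥(LinearMap.range (uO g)) = s + s := by rw [hrange, hSd]
  have hΩ : g ∈ Cfsg.Omega F ⇑Q := by
    rcases hp.out.eq_two_or_odd' with rfl | hodd
    · exact (InvolutionOrth.mem_omega_iff hB (by rw [Module.finrank_pi]; omega)
        (by rw [Module.finrank_pi]; intro h; omega) g).2 (hrank ▸ ⟨s, rfl⟩)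
    · exact mem_omega_of_odd hB hn hodd hgp
  refine ⟨g, ⟨g, hΩ, rfl⟩, hgp, fun z hz => ?_, hrank, by rw [hrange]; exact hSs⟩
  let j₀ : Fin s := ⟨0, hs⟩
  have h1 : z • f (Fin.castAdd s j₀) = f (Fin.castAdd s j₀) + b j₀ := by
    rw [← hNfa, ← hgv, ap, hz, Matrix.smul_mulVec, Matrix.one_mulVec]
  have h3 := congrArg (B · (f (Fin.natAdd s j₀))) h1
  simp [b_add_left, b_smul_left, h.ff, b, hbe] at h3

include hp in
/-- The split space has an element of order `p` fixing no elliptic subspace with elliptic orthogonal. -/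
theorem no_minus_of_plus (hB : Nondeg Q) {d a : ℕ} (hd : 3 ≤ d) (hcard : Fintype.card ι = 2 * d) (ha : 1 ≤ a)
    (had : a < d) (hplus : Iso (⇑Q) (Cfsg.quadFormPlus d F)) :
    ¬ ∀ x : GL ι F, x ∈ Cfsg.Geo.omegaGL ⇑Q →
      (∃ z : F, ((x ^ p : GL ι F) : Matrix ι ι F) = z • (1 : Matrix ι ι F)) →
      (∀ z : F, (x : Matrix ι ι F) ≠ z • (1 : Matrix ι ι F)) →
      ∃ W : Submodule F (ι → F), TypedSub Q a False W ∧ W.map (Matrix.toLin' (x : Matrix ι ι F)) ≤ W := by
  classical
  intro H
  have hfin : finrank F (ι → F) = 2 * d := by rw [Module.finrank_pi, hcard]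
  obtain ⟨s, e, f, hs, h⟩ : ∃ (s : ℕ) (e f : Fin (s + s) → ι → F), d ≤ s + s + 1 ∧ IsHyp Q e f := by
    rcases Nat.even_or_odd d with ⟨s, rfl⟩ | ⟨s, rfl⟩
    · obtain ⟨l, hl⟩ := hplus
      refine ⟨s, fun j => l.symm (Pi.single (Sum.inl j) 1), fun j => l.symm (Pi.single (Sum.inr j) 1), by omega, ?_⟩
      have hval : ∀ x, Q (l.symm x) = Cfsg.quadFormPlus (s + s) F x := fun x => by
        rw [← hl, l.apply_symm_apply]
      have hpol : ∀ x y, B (l.symm x) (l.symm y) = QuadraticMap.polar (Cfsg.quadFormPlus (s + s) F) x y :=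
        fun x y => by simp only [QuadraticMap.polar, ← map_add, hval]
      constructor
      · intro j; rw [hval]; simp [Cfsg.quadFormPlus, Pi.single_apply]
      · intro j; rw [hval]; simp [Cfsg.quadFormPlus, Pi.single_apply]
      · intro j k; rw [hpol]; simp [polar_plus, Pi.single_apply, Finset.sum_add_distrib, eq_comm]
      · intro j k; rw [hpol]; simp [polar_plus, Pi.single_apply]
      · intro j k; rw [hpol]; simp [polar_plus, Pi.single_apply]
    · obtain ⟨e, f, h, -, -⟩ := exists_hyp_in (Q := Q) (E := ⊤) (fun x _ h => hB x fun y => h y trivial)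
        (k := s + s) (Or.inl (by rw [finrank_top, hfin]; omega))
      exact ⟨s, e, f, by omega, h⟩
  obtain ⟨g, hgΩ, hgp, hgs, hrk, hsing⟩ := exists_alt_unip (p := p) hB (by omega) (by omega) h
  obtain ⟨W, hW, hWg⟩ := H _ hgΩ ⟨1, by rw [← SubmonoidClass.coe_pow, hgp, one_smul]; rfl⟩ hgs
  obtain ⟨h1, h3, h4⟩ := range_le_split hB g hW.2.1 fun w hw => hWg (Submodule.mem_map_of_mem hw)
  have horth : finrank F (orth Q W) = 2 * (d - a) := by
    have := finrank_orth hB W
    rw [hW.1, hfin] at this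
    omega
  have hsub : ∀ U : Submodule F (ι → F), ∀ x ∈ U.map (uO g), Q x = 0 := fun U x hx => by
    obtain ⟨y, -, rfl⟩ := hx
    exact hsing _ ⟨y, rfl⟩
  obtain ⟨b1, c1⟩ := singular_le_half hB hW.2.1 hW.1 h1 (hsub W)
  obtain ⟨b2, c2⟩ := singular_le_half hB (nondegOn_orth hB hW.2.1) horth h3 (hsub _)
  have hτ : ¬ Cfsg.Geo.IsPlusTypeOn ⇑Q W := fun h => (hW.2.2.1 h)
  have hτ' : ¬ Cfsg.Geo.IsPlusTypeOn ⇑Q (orth Q W) := fun h =>
    hτ (((type_orth hB hfin had.le hW.2.1 hW.1).1 hplus).2 h)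
  have e1 : finrank F ↥(W.map (uO g)) ≠ a := fun h => hτ (c1 h)
  have e2 : finrank F ↥((orth Q W).map (uO g)) ≠ d - a := fun h => hτ' (c2 h)
  omega

end CfsgLib.Derange
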