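import Cfsg.Agent.Lib.Derange.EvenQInvol
import Cfsg.Agent.Lib.Derange.Window

/-!
Prime order elements and non-singular points in characteristic two.
-/

set_option autoImplicit false
set_option linter.style.haveILetI false

namespace CfsgLib.Derange

open Module CfsgLib.Orth
open scoped Matrix

universe u

variable {F : Type u} [Field F] [Fintype F] [CharP F 2] {ι : Type} [Fintype ι] [DecidableEq ι]
  {Q : QuadraticForm F (ι → F)}

omit [Fintype F] in
/-- An element stabilising a non-singular point fixes a vector of it. -/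
theorem fixed_of_stable (x : Grp Q) {W : Submodule F (ι → F)} (hW : finrank F W = 1) {v : ι → F}
    (hv : v ∈ W) (hqv : Q v ≠ 0)
    (h : W.map (Matrix.toLin' ((x : GL ι F) : Matrix ι ι F)) ≤ W) : ap x v = v := by
  have hxv : ap x v ∈ W := h ⟨v, hv, Matrix.toLin'_apply _ _⟩
  obtain ⟨c, hc⟩ := (finrank_eq_one_iff_of_nonzero' (⟨v, hv⟩ : W) (fun h => hqv (by
    rw [show v = 0 from congrArg Subtype.val h, QuadraticMap.map_zero]))).1 hW ⟨ap x v, hxv⟩
  have hc' : c • v = ap x v := congrArg Subtype.val hc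
  have hq := ap_q x v
  rw [← hc', q_smul] at hq
  rw [← hc', eq_of_sq_eq (y := 1) ((mul_right_cancel₀ hqv (hq.trans (one_mul _).symm)).trans (one_mul 1).symm),
    one_smul]

omit [Fintype F] [CharP F 2] in
theorem stable_of_fixed (x : Grp Q) {v : ι → F} (hx : ap x v = v) :
    (Submodule.span F {v}).map (Matrix.toLin' ((x : GL ι F) : Matrix ι ι F)) ≤ Submodule.span F {v} := by
  rw [Submodule.map_span, Set.image_singleton, Matrix.toLin'_apply]
  exact Submodule.span_mono (by rw [show ((x : GL ι F) : Matrix ι ι F) *ᵥ v = v from hx])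

omit [CharP F 2] [DecidableEq ι] in
/-- Non-singular points and singular vectors. -/
theorem card_points (Q : QuadraticForm F (ι → F)) :
    Nat.card {W : Submodule F (ι → F) // finrank F ↥W = 1 ∧ ∃ v ∈ W, Q v ≠ 0} * (Fintype.card F - 1) +
      Nat.card {v : ι → F // Q v = 0} = Fintype.card F ^ Fintype.card ι := by
  classical
  choose w hw hqw using fun W : {W : Submodule F (ι → F) // finrank F ↥W = 1 ∧ ∃ v ∈ W, Q v ≠ 0} => W.2.2
  have hbij : Function.Bijective fun a : {W : Submodule F (ι → F) // finrank F ↥W = 1 ∧ ∃ v ∈ W, Q v ≠ 0} × Fˣ =>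
      (⟨(a.2 : F) • w a.1, by
        rw [q_smul]; exact mul_ne_zero (mul_ne_zero a.2.ne_zero a.2.ne_zero) (hqw _)⟩ : {v : ι → F // ¬ Q v = 0}) := by
    have hspan : ∀ W : {W : Submodule F (ι → F) // finrank F ↥W = 1 ∧ ∃ v ∈ W, Q v ≠ 0},
        Submodule.span F {w W} = W.1 := fun W => Submodule.eq_of_le_of_finrank_eq
      ((Submodule.span_singleton_le_iff_mem _ _).2 (hw W)) (by
        rw [finrank_span_singleton (fun h => hqw W (by rw [h, QuadraticMap.map_zero])), W.2.1])
    constructor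
    · rintro ⟨W, a⟩ ⟨W', a'⟩ h
      have h' : (a : F) • w W = (a' : F) • w W' := congrArg Subtype.val h
      obtain rfl : W = W' := Subtype.ext (by
        rw [← hspan W, ← hspan W', ← Submodule.span_singleton_smul_eq a.isUnit, h',
          Submodule.span_singleton_smul_eq a'.isUnit])
      have hw0 : w W ≠ 0 := fun h0 => hqw W (by rw [h0, QuadraticMap.map_zero])
      exact Prod.ext rfl (Units.ext (smul_left_injective F hw0 h'))
    · rintro ⟨v, hv⟩
      have hv0 : v ≠ 0 := fun h => hv (by rw [h, QuadraticMap.map_zero])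
      let W : {W : Submodule F (ι → F) // finrank F ↥W = 1 ∧ ∃ v ∈ W, Q v ≠ 0} :=
        ⟨Submodule.span F {v}, finrank_span_singleton hv0, v, Submodule.mem_span_singleton_self v, hv⟩
      obtain ⟨c, hc⟩ := Submodule.mem_span_singleton.1 (hw W)
      have hc0 : c ≠ 0 := fun h => hqw W (by rw [← hc, h, zero_smul, QuadraticMap.map_zero])
      refine ⟨⟨W, (Units.mk0 c hc0)⁻¹⟩, Subtype.ext ?_⟩
      show ((Units.mk0 c hc0)⁻¹ : Fˣ).1 • w W = v
      rw [← hc, smul_smul, Units.val_inv_eq_inv_val, Units.val_mk0, inv_mul_cancel₀ hc0, one_smul]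
  have hunits : Nat.card Fˣ = Fintype.card F - 1 := by
    rw [Nat.card_eq_fintype_card, Fintype.card_units]
  rw [← hunits, ← Nat.card_prod, Nat.card_eq_of_bijective _ hbij, add_comm,
    ← Nat.card_sum, Nat.card_congr (Equiv.sumCompl fun v : ι → F => Q v = 0), Nat.card_fun,
    Nat.card_eq_fintype_card, Nat.card_eq_fintype_card]

omit [CharP F 2] [DecidableEq ι] in
/-- The number of non-singular points, from the number of singular vectors. -/
theorem points_mul (Q : QuadraticForm F (ι → F)) {q d : ℕ} {ε : ℤ} (hq : Fintype.card F = q)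
    (hι : Fintype.card ι = 2 * d)
    (h : (q : ℤ) * Nat.card {v : ι → F // Q v = 0} = (q : ℤ) ^ (2 * d) - ε * (q : ℤ) ^ d + ε * (q : ℤ) ^ (d + 1)) :
    (q : ℤ) * Nat.card {W : Submodule F (ι → F) // finrank F ↥W = 1 ∧ ∃ v ∈ W, Q v ≠ 0} =
      (q : ℤ) ^ d * ((q : ℤ) ^ d - ε) := by
  have hc := card_points Q
  have hq2 : 2 ≤ q := hq ▸ Fintype.one_lt_card
  rw [hq, hι] at hc
  have hcZ := congrArg (Nat.cast (R := ℤ)) hc
  push_cast [Nat.cast_sub (by omega : 1 ≤ q)] at hcZ
  refine mul_right_cancel₀ (sub_ne_zero.2 (by omega : (q : ℤ) ≠ 1)) ?_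
  linear_combination (q : ℤ) * hcZ - h

/-- For an odd prime some element has no fixed vector. -/
theorem not_all_fix (hB : Nondeg Q) {d : ℕ} (hι : Fintype.card ι = 2 * d) (hd : 3 ≤ d) {q r : ℕ}
    (hq : Fintype.card F = q) (hr : r.Prime) (hr2 : r ≠ 2) (hdvd : (q : ZMod r) ^ d = 1 ∨ (q : ZMod r) ^ d = -1)
    (hσ : Cfsg.Geo.IsPlusTypeOn ⇑Q ⊤ ↔ (q : ZMod r) ^ d = 1) :
    ¬ ∀ x : GL ι F, x ∈ Cfsg.Geo.omegaGL ⇑Q →
      (∃ z : F, ((x ^ r : GL ι F) : Matrix ι ι F) = z • (1 : Matrix ι ι F)) →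
      (∀ z : F, (x : Matrix ι ι F) ≠ z • (1 : Matrix ι ι F)) →
      ∃ W : Submodule F (ι → F), (finrank F ↥W = 1 ∧ ∃ v ∈ W, Q v ≠ 0) ∧
        W.map (Matrix.toLin' (x : Matrix ι ι F)) ≤ W := by
  intro H
  haveI := Fact.mk hr
  haveI : Fact (Nat.Prime 2) := ⟨Nat.prime_two⟩
  obtain ⟨t, D, X⟩ := exists_ctx (p := 2) hq hr hr2 hr2 (i := orderOf (q : ZMod r)) rfl
  obtain ⟨x, hxr, -, -, hxz, hfree⟩ := exists_free_element hB hι (by omega) X (unitDim_dvd rfl hdvd)
    (hσ.trans (plusFree_iff hr2 (by omega) rfl hdvd))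
  obtain ⟨W, ⟨hW, v, hv, hqv⟩, hWx⟩ := H x ⟨x, mem_omega_of_odd hB (by omega) (hr.odd_of_ne_two hr2) hxr, rfl⟩
    ⟨1, by rw [← SubmonoidClass.coe_pow, hxr, one_smul]; rfl⟩ hxz
  exact hqv (by rw [hfree v (fixed_of_stable x hW hv hqv hWx), QuadraticMap.map_zero])

/-- An involution of the kernel of the Dickson invariant fixing no non-singular vector has singular fixed space of half
dimension, and the half dimension is even. -/
theorem fixed_or_even (hB : Nondeg Q) {d : ℕ} (hι : Fintype.card ι = 2 * d) (hd : 3 ≤ d) (x : Grp Q)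
    (hxΩ : x ∈ Cfsg.Omega F ⇑Q) {z : F}
    (hz : (((x : GL ι F) ^ 2 : GL ι F) : Matrix ι ι F) = z • (1 : Matrix ι ι F)) :
    (∃ W : Submodule F (ι → F), (finrank F ↥W = 1 ∧ ∃ v ∈ W, Q v ≠ 0) ∧
        W.map (Matrix.toLin' ((x : GL ι F) : Matrix ι ι F)) ≤ W) ∨
      (Even d ∧ ∃ K : Submodule F (ι → F), (∀ v ∈ K, Q v = 0) ∧ finrank F K = d) := by
  have hfin : finrank F (ι → F) = 2 * d := by rw [Module.finrank_pi, hι]
  by_cases hc : ∃ v, ap x v = v ∧ Q v ≠ 0
  · obtain ⟨v, hv, hqv⟩ := hc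
    exact Or.inl ⟨_, ⟨finrank_span_singleton (fun h => hqv (by rw [h, QuadraticMap.map_zero])), v,
      Submodule.mem_span_singleton_self v, hqv⟩, stable_of_fixed x hv⟩
  push Not at hc
  refine Or.inr ?_
  obtain ⟨v₀, hv₀⟩ := exists_aniso hB (by omega)
  have hxx : ∀ v, ap x (ap x v) = z • v := fun v => by
    rw [ap, ap, Matrix.mulVec_mulVec, ← Units.val_mul, ← pow_two, hz, Matrix.smul_mulVec, Matrix.one_mulVec]
  have hz1 : z = 1 := by
    have h := (ap_q x (ap x v₀)).trans (ap_q x v₀)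
    rw [hxx, q_smul] at h
    exact eq_of_sq_eq ((mul_right_cancel₀ hv₀ (h.trans (one_mul _).symm)).trans (one_mul 1).symm)
  have hinv : x * x = 1 := ext_ap fun v => by rw [ap_mul, hxx, hz1, one_smul, ap_one]
  have hK : ∀ v ∈ fixSpace x, Q v = 0 := fun v hv => hc v (mem_fixSpace.1 hv)
  have h1 : 2 * finrank F (fixSpace x) ≤ _ := two_mul_finrank_le hB (le_orth_of_singular (Q := Q) hK)
  have h3 := LinearMap.finrank_range_add_finrank_ker (Classical.InvolutionOrth.uO x)
  have h4 := (Classical.InvolutionOrth.nil hinv).two_mul_rank_le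
  rw [← Classical.InvolutionOrth.fixSpace_eq x, hfin] at h3
  rw [hfin] at h1 h4
  have hr : finrank F ↥(LinearMap.range (Classical.InvolutionOrth.uO x)) = d := by omega
  refine ⟨hr ▸ (Classical.InvolutionOrth.mem_omega_iff hB (by omega) (fun h => by omega) x).1 hxΩ, fixSpace x, hK, ?_⟩
  omega

end CfsgLib.Derange
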