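import Cfsg.Agent.Lib.Derange.OrthSplit

/-!
A line added to a hyperbolic subspace, and the square class of an odd-dimensional form.
-/

set_option autoImplicit false

namespace CfsgLib.Derange

open Module QuadraticMap CfsgLib.Classical CfsgLib.Classical.OrthModels CfsgLib.Orth

universe u v

variable {F : Type u} [Field F] [Fintype F]

omit [Fintype F] in
theorem odd_scale_congr {a : ℕ} {l α : F} (hl : l ≠ 0) (hα : α ≠ 0) (h : IsSquare (l * α)) :
    Iso (fun x => l * Cfsg.quadFormOdd a F x) (fun x => α * Cfsg.quadFormOdd a F x) := by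
  obtain ⟨c, hc⟩ := h
  have hc0 : c ≠ 0 := fun h0 => mul_ne_zero hl hα (by rw [hc, h0, zero_mul])
  refine ⟨LinearEquiv.smulOfUnit (Units.mk0 (c / α) (div_ne_zero hc0 hα)), fun x => ?_⟩
  show α * Cfsg.quadFormOdd a F ((c / α) • x) = _
  simp only [Cfsg.quadFormOdd, Pi.smul_apply, smul_eq_mul]
  rw [show ∑ i : Fin a, c / α * x (Sum.inr (Sum.inl i)) * (c / α * x (Sum.inr (Sum.inr i))) =
    (c / α) ^ 2 * ∑ i : Fin a, x (Sum.inr (Sum.inl i)) * x (Sum.inr (Sum.inr i)) by
      rw [Finset.mul_sum]; exact Finset.sum_congr rfl fun i _ => by ring]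
  field_simp
  linear_combination -(x (Sum.inl ()) ^ 2 + ∑ i : Fin a, x (Sum.inr (Sum.inl i)) * x (Sum.inr (Sum.inr i))) * hc

omit [Fintype F] in
/-- The square class of an odd-dimensional form is an invariant. -/
theorem isSquare_of_iso_odd (h2 : (2 : F) ≠ 0) {a : ℕ} {l α : F} (hl : l ≠ 0) (hα : α ≠ 0)
    (h : Iso (fun x => l * Cfsg.quadFormOdd a F x) (fun x => α * Cfsg.quadFormOdd a F x)) :
    IsSquare (l * α) := by
  obtain ⟨R, hR, hRn⟩ := exists_quadForm_odd h2 a
  obtain ⟨e, he⟩ := h
  set P : LinearMap.BilinForm F (Unit ⊕ (Fin a ⊕ Fin a) → F) := polarBilin R with hP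
  set G := LinearMap.toMatrix₂' F P with hG
  set M := LinearMap.toMatrix' e.toLinearMap with hM
  have hdet : G.det ≠ 0 := by
    rw [← LinearMap.nondegenerate_toLinearMap₂'_iff_det_ne_zero, hG, Matrix.toLinearMap₂'_toMatrix']
    exact bilin_nondeg hRn
  have hcomp : l • P = (α • P).compl₁₂ e.toLinearMap e.toLinearMap := by
    refine LinearMap.ext fun x => LinearMap.ext fun y => ?_
    have h1 := he (x + y)
    have h3 := he x
    have h4 := he y
    rw [map_add] at h1
    simp only [← hR] at h1 h3 h4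
    show l * polar (⇑R) x y = α * polar (⇑R) (e x) (e y)
    simp only [QuadraticMap.polar]
    linear_combination h3 + h4 - h1
  have h1 := congrArg (fun B => (LinearMap.toMatrix₂' F B).det) hcomp
  simp only [LinearMap.toMatrix₂'_compl₁₂, map_smul, ← hG, ← hM, Matrix.det_mul, Matrix.det_smul,
    Matrix.det_transpose, Fintype.card_sum, Fintype.card_unit, Fintype.card_fin] at h1
  have hM0 : M.det ≠ 0 := fun h0 => by
    rw [h0, mul_zero, mul_eq_zero] at h1
    exact h1.elim (pow_ne_zero _ hl) hdet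
  rw [show 1 + (a + a) = 2 * a + 1 by ring, pow_succ, pow_succ, pow_mul, pow_mul] at h1
  refine ⟨(α * α ^ a * M.det / l ^ a), ?_⟩
  field_simp
  refine mul_right_cancel₀ hdet ?_
  linear_combination h1

variable {p : ℕ} [hp : Fact p.Prime] [CharP F p] {ι : Type} [Fintype ι] [DecidableEq ι] {Q : QuadraticForm F (ι → F)}

local notation "B" => QuadraticMap.polar (DFunLike.coe Q)

omit hp [CharP F p] in
/-- A hyperbolic subspace extended by an orthogonal anisotropic line. -/
theorem exists_add_line (h2 : (2 : F) ≠ 0) {W : Submodule F (ι → F)} (hW : NondegOn Q W) {a : ℕ}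
    (hd : finrank F W = 2 * a) (hplus : Cfsg.Geo.IsPlusTypeOn ⇑Q W) {v : ι → F} (hv : v ∈ orth Q W) (hqv : Q v ≠ 0) :
    NondegOn Q (W ⊔ Submodule.span F {v}) ∧ finrank F ↥(W ⊔ Submodule.span F {v}) = 2 * a + 1 ∧
      Iso (⇑(qOn Q (W ⊔ Submodule.span F {v}))) (fun x => Q v * Cfsg.quadFormOdd a F x) := by
  classical
  obtain ⟨e, he⟩ := (isPlusTypeOn_iff hW hd).mp hplus
  set U := W ⊔ Submodule.span F {v} with hU
  have hv0 : v ≠ 0 := fun h => hqv (by rw [h, QuadraticMap.map_zero])
  have hWv : ∀ w ∈ W, B w v = 0 := fun w hw => mem_orth.1 hv w hw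
  have hinf : W ⊓ Submodule.span F {v} = ⊥ := (Submodule.eq_bot_iff _).2 fun x hx => by
    obtain ⟨c, rfl⟩ := Submodule.mem_span_singleton.1 hx.2
    exact nondeg_inf hW hx.1 ((orth Q W).smul_mem c hv)
  have hUd : finrank F U = 2 * a + 1 := by
    have := Submodule.finrank_sup_add_finrank_inf_eq W (Submodule.span F {v})
    rwa [hinf, finrank_bot, add_zero, finrank_span_singleton hv0, hd] at this
  refine ⟨fun x hx h => ?_, hUd, Iso.symm ?_⟩
  · obtain ⟨w, hw, z, hz, rfl⟩ := Submodule.mem_sup.1 hx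
    obtain ⟨c, rfl⟩ := Submodule.mem_span_singleton.1 hz
    obtain rfl : w = 0 := hW w hw fun y hy => by
      have := h y (Submodule.mem_sup_left hy)
      rwa [b_add_left, b_smul_left, b_comm v y, hWv y hy, mul_zero, add_zero] at this
    have := h v (Submodule.mem_sup_right (Submodule.mem_span_singleton_self v))
    rw [zero_add, b_smul_left, b_self, mul_eq_zero, or_iff_left (mul_ne_zero h2 hqv)] at this
    rw [this, zero_smul, add_zero]
  · let z : (Unit ⊕ (Fin a ⊕ Fin a) → F) →ₗ[F] (Fin a ⊕ Fin a → F) :=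
      LinearMap.pi (Sum.elim (fun i => Q v • LinearMap.proj (Sum.inr (Sum.inl i)))
        fun i => LinearMap.proj (Sum.inr (Sum.inr i)))
    let f : (Unit ⊕ (Fin a ⊕ Fin a) → F) →ₗ[F] (ι → F) :=
      (LinearMap.proj (Sum.inl ())).smulRight v + W.subtype ∘ₗ e.symm.toLinearMap ∘ₗ z
    have hfU : ∀ x, f x ∈ U := fun x =>
      U.add_mem (Submodule.mem_sup_right (Submodule.smul_mem _ _ (Submodule.mem_span_singleton_self v)))
        (Submodule.mem_sup_left (Subtype.mem _))
    refine iso_of_injective (f.codRestrict U hfU) (fun x hx => ?_) ?_ fun x => ?_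
    · have hx' : x (Sum.inl ()) • v + (e.symm (z x) : ι → F) = 0 := congrArg Subtype.val hx
      have h1 := congrArg (B v) hx'
      rw [b_add_right, b_smul_right, b_self, b_comm v _, hWv _ (Subtype.mem _), b_zero_right, add_zero,
        mul_eq_zero, or_iff_left (mul_ne_zero h2 hqv)] at h1
      rw [h1, zero_smul, zero_add] at hx'
      have hz : z x = 0 := e.symm.injective ((Subtype.ext hx').trans (map_zero e.symm).symm)
      funext s
      rcases s with s | s | s
      · exact h1
      · have := congrFun hz (Sum.inl s)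
        simpa [z, hqv] using this
      · simpa [z] using congrFun hz (Sum.inr s)
    · rw [hUd, Module.finrank_pi]
      simp
      ring
    · show Q (x (Sum.inl ()) • v + (e.symm (z x) : ι → F)) = _
      rw [q_add, q_smul, b_smul_left, b_comm v _, hWv _ (Subtype.mem _), mul_zero, add_zero,
        show Q (e.symm (z x) : ι → F) = qOn Q W (e.symm (z x)) from rfl, ← he, e.apply_symm_apply]
      simp only [Cfsg.quadFormOdd, Cfsg.quadFormPlus, z, LinearMap.pi_apply, Sum.elim_inl, Sum.elim_inr,
        LinearMap.smul_apply, LinearMap.proj_apply, smul_eq_mul, mul_add, Finset.mul_sum]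
      exact congrArg₂ (· + ·) (by ring) (Finset.sum_congr rfl fun i _ => by ring)

omit hp [CharP F p] in
/-- A non-degenerate subspace of odd dimension with its class. -/
theorem exists_class {W : Submodule F (ι → F)} (hW : NondegOn Q W) {a : ℕ} (hd : finrank F W = 2 * a + 1) :
    ∃ l : F, l ≠ 0 ∧ Iso (⇑(qOn Q W)) (fun x => l * Cfsg.quadFormOdd a F x) :=
  classify_odd (qOn Q W) (qOn_nondeg hW) hd

end CfsgLib.Derange
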