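import Cfsg.Agent.Lib.Derange.OrthExtField

/-!
The self-adjoint roots of a non-square form one orbit, and their centralisers.
-/

set_option autoImplicit false
set_option linter.unusedSectionVars false
set_option linter.style.haveILetI false
set_option maxHeartbeats 800000

namespace CfsgLib.Derange.OExt

open Module CfsgLib.Orth CfsgLib.Classical CfsgLib.Classical.OrthModels
open scoped QuadraticAlgebra

universe u

variable {F : Type u} [Field F] [Finite F] {ν : F} [Fact (¬ IsSquare ν)]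
variable {ι : Type} [Fintype ι] [DecidableEq ι] {Q : QuadraticForm F (ι → F)}
variable {J : End F (ι → F)} (hJ : SA Q ν J)

theorem exists_nonsquare_ext (h2 : (2 : F) ≠ 0) : ∃ η : Ext ν, ¬ IsSquare η :=
  FiniteField.exists_nonsquare (fun h => two_ext h2 (by
    have := CharP.cast_eq_zero (Ext ν) (ringChar (Ext ν))
    rwa [h, Nat.cast_ofNat] at this))

theorem aniso_ext {η : Ext ν} (hη : ¬ IsSquare η) :
    ∀ z₁ z₂ : Ext ν, z₁ ^ 2 + 0 * z₁ * z₂ + -η * z₂ ^ 2 = 0 → z₁ = 0 ∧ z₂ = 0 := by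
  intro z₁ z₂ h
  by_cases h2 : z₂ = 0
  · subst h2
    exact ⟨by simpa using h, rfl⟩
  · refine absurd ⟨z₁ / z₂, ?_⟩ hη
    field_simp
    linear_combination -h

/-- The forms over the extension of two roots agree. -/
theorem model_iso (h2 : (2 : F) ≠ 0) (hB : Nondeg Q) {J' : End F (ι → F)} (hJ' : SA Q ν J') :
    Iso (⇑(QL hJ)) (⇑(QL hJ')) := by
  cases nonempty_fintype (Ext ν)
  cases nonempty_fintype F
  obtain ⟨η, hη⟩ := exists_nonsquare_ext (ν := ν) h2
  obtain ⟨a, b, hab⟩ := RestrictScalars.exists_ab (F := F)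
  have hfr : finrank (Ext ν) (KV hJ') = finrank (Ext ν) (KV hJ) := by
    have := finrank_KV hJ
    have := finrank_KV hJ'
    omega
  rcases Nat.even_or_odd' (finrank (Ext ν) (KV hJ)) with ⟨k, hk | hk⟩
  · rw [hk] at hfr
    rcases classify_even (QL hJ) (QL_nondeg hJ h2 hB) hk 0 (-η) (aniso_ext hη) with h | ⟨j, rfl, h⟩ <;>
      rcases classify_even (QL hJ') (QL_nondeg hJ' h2 hB) hfr 0 (-η) (aniso_ext hη) with h' | ⟨j', hj', h'⟩
    · exact h.trans h'.symm
    · subst hj'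
      have hp := plus_of_plus hJ h2 h
      rw [show j' + 1 + (j' + 1) = j' + j' + 1 + 1 by omega] at hp
      exact (not_plus_minus hab hp (minus_of_minus hJ' h2 hη hab h')).elim
    · have hp := plus_of_plus hJ' h2 h'
      rw [show j + 1 + (j + 1) = j + j + 1 + 1 by omega] at hp
      exact (not_plus_minus hab hp (minus_of_minus hJ h2 hη hab h)).elim
    · obtain rfl : j = j' := by omega
      exact h.trans h'.symm
  · rw [hk] at hfr
    obtain ⟨l, hl0, h⟩ := classify_odd (QL hJ) (QL_nondeg hJ h2 hB) hk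
    obtain ⟨l', hl0', h'⟩ := classify_odd (QL hJ') (QL_nondeg hJ' h2 hB) hfr
    have hll : IsSquare (l * l') := by
      rw [CfsgLib.Orth.isSquare_mul_iff hl0]
      refine Or.inr ⟨fun hs => ?_, fun hs => ?_⟩ <;> by_contra hn
      · exact (not_plus_minus hab (plus_of_odd hJ h2 hl0 hs h) (minus_of_odd hJ' h2 hl0' hn hab h')).elim
      · exact (not_plus_minus hab (plus_of_odd hJ' h2 hl0' hs h') (minus_of_odd hJ h2 hl0 hn hab h)).elim
    obtain ⟨s, hs⟩ := hll
    have hs0 : s ≠ 0 := fun e => mul_ne_zero hl0 hl0' (by rw [hs, e, mul_zero])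
    refine h.trans (Iso.trans ⟨LinearEquiv.smulOfNeZero (Ext ν) _ (l / s) (div_ne_zero hl0 hs0), fun v => ?_⟩ h'.symm)
    simp only [LinearEquiv.smulOfNeZero_apply, Cfsg.quadFormOdd, Pi.smul_apply, smul_eq_mul]
    rw [show ∀ t : Ext ν, ∀ f g : Fin k → Ext ν, ∑ i, t * f i * (t * g i) = t * t * ∑ i, f i * g i from
      fun t f g => by rw [Finset.mul_sum]; exact Finset.sum_congr rfl fun i _ => by ring]
    field_simp
    linear_combination (v (.inl ()) ^ 2 + ∑ i, v (.inr (.inl i)) * v (.inr (.inr i))) * hs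

/-- The self-adjoint roots of a non-square form one orbit. -/
theorem exists_conj (h2 : (2 : F) ≠ 0) (hB : Nondeg Q) {J' : End F (ι → F)} (hJ : SA Q ν J) (hJ' : SA Q ν J') :
    ∃ g : Grp Q, ∀ x, ap g (J x) = J' (ap g x) := by
  obtain ⟨e, he⟩ := model_iso hJ h2 hB hJ'
  let f : (ι → F) →ₗ[F] (ι → F) := (e.restrictScalars F).toLinearMap
  obtain ⟨g, hg⟩ := exists_iso hB f fun x => by
    have h1 := congrArg QuadraticAlgebra.im (he (toK hJ x))
    rw [show (QL hJ' (e (toK hJ x))).im = Q (f x) from congrFun (imf_QL hJ' h2) _,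
      show (QL hJ (toK hJ x)).im = Q x from congrFun (imf_QL hJ h2) _] at h1
    exact h1
  refine ⟨g, fun x => ?_⟩
  rw [hg, hg]
  have e1 : toK hJ (J x) = (⟨0, 1⟩ : Ext ν) • toK hJ x := by
    show J x = ofK hJ ((⟨0, 1⟩ : Ext ν) • toK hJ x)
    rw [smul_def]
    simp [toK, ofK]
  have e2 : e (toK hJ (J x)) = (⟨0, 1⟩ : Ext ν) • e (toK hJ x) := by rw [e1, map_smul]
  show ofK hJ' (e (toK hJ (J x))) = J' (ofK hJ' (e (toK hJ x)))
  rw [e2, smul_def]
  simp

include hJ in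
/-- The isometry group of a model of the form over the extension, acting on the space. -/
theorem exists_cent_hom (h2 : (2 : F) ≠ 0) (hB : Nondeg Q) {κ : Type} [Fintype κ] [DecidableEq κ]
    (R : QuadraticForm (Ext ν) (κ → Ext ν)) {c : Ext ν} (hc : c ≠ 0)
    (h : Iso (⇑(QL hJ)) (fun v => c * R v)) :
    ∃ C : Subgroup (Grp Q), (∀ g ∈ C, ∀ x, ap g (J x) = J (ap g x)) ∧ Nat.card C = Nat.card (Grp R) := by
  obtain ⟨e, he⟩ := h
  let T : Grp R → End F (ι → F) := fun g =>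
    (e.symm.toLinearMap.comp ((Matrix.toLin' ((g : GL κ (Ext ν)) : Matrix κ κ (Ext ν))).comp e.toLinearMap)).restrictScalars F
  have hT : ∀ g x, T g x = ofK hJ (e.symm (ap g (e (toK hJ x)))) := fun g x => by
    simp [T, ap, toK, ofK, Matrix.toLin'_apply]
    rfl
  have hQ : ∀ g x, Q (T g x) = Q x := fun g x => by
    rw [hT, ← congrFun (imf_QL hJ h2) (e.symm (ap g (e (toK hJ x))))]
    show _ = Q (ofK hJ (toK hJ x))
    rw [← congrFun (imf_QL hJ h2) (toK hJ x), imf, imf, ← he, ← he, e.apply_symm_apply]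
    simp only [ap_q]
  choose φ hφ using fun g => exists_iso hB (T g) (hQ g)
  have hto : ∀ v : ι → F, ofK hJ (toK hJ v) = v := fun v => rfl
  let ψ : Grp R →* Grp Q :=
    { toFun := φ
      map_one' := ext_ap fun x => by
        rw [hφ, hT, ap_one, e.symm_apply_apply, ap_one]
        rfl
      map_mul' := fun g g' => ext_ap fun x => by
        rw [ap_mul, hφ, hφ, hφ, hT, hT, hT, ap_mul]
        show ofK hJ _ = ofK hJ (e.symm (ap g (e (e.symm _))))
        rw [e.apply_symm_apply] }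
  have hinj : Function.Injective ψ := fun g g' hgg => ext_ap fun v => by
    have h1 := congrArg (fun z => toK hJ (ap z (ofK hJ (e.symm v)))) hgg
    simp only [ψ, MonoidHom.coe_mk, OneHom.coe_mk, hφ, hT] at h1
    have h3 := congrArg e h1
    change e (e.symm (ap g (e (e.symm v)))) = e (e.symm (ap g' (e (e.symm v)))) at h3
    simpa using h3
  refine ⟨ψ.range, ?_, Nat.card_congr (MonoidHom.ofInjective hinj).toEquiv.symm⟩
  rintro _ ⟨g, rfl⟩ x
  show ap (φ g) (J x) = J (ap (φ g) x)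
  rw [hφ, hφ, hT, hT]
  have e1 : toK hJ (J x) = (⟨0, 1⟩ : Ext ν) • toK hJ x := by
    show J x = ofK hJ ((⟨0, 1⟩ : Ext ν) • toK hJ x)
    rw [smul_def]
    simp [toK, ofK]
  rw [e1, map_smul, ap_smul, map_smul, smul_def]
  simp

include hJ in
/-- A subgroup of the centraliser of a root, of known order. -/
theorem exists_cent (h2 : (2 : F) ≠ 0) (hB : Nondeg Q) {d : ℕ} (hd : 1 ≤ d) (hι : Fintype.card ι = 2 * d) :
    ∃ C : Subgroup (Grp Q), (∀ g ∈ C, ∀ x, ap g (J x) = J (ap g x)) ∧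
      ((∃ k, d = 2 * k + 1 ∧ ∏ i ∈ Finset.range k, ((Nat.card F ^ 2) ^ (2 * (i + 1)) - 1) ∣ Nat.card C) ∨
      ∃ k, d = 2 * k ∧ 1 ≤ k ∧
        ((Iso (⇑Q) (Cfsg.quadFormPlus d F) ∧ (Nat.card F ^ d - 1) *
            ∏ i ∈ Finset.range (k - 1), ((Nat.card F ^ 2) ^ (2 * (i + 1)) - 1) ∣ Nat.card C) ∨
         (¬ Iso (⇑Q) (Cfsg.quadFormPlus d F) ∧ (Nat.card F ^ d + 1) *
            ∏ i ∈ Finset.range (k - 1), ((Nat.card F ^ 2) ^ (2 * (i + 1)) - 1) ∣ Nat.card C))) := by
  cases nonempty_fintype (Ext ν)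
  cases nonempty_fintype F
  obtain ⟨η, hη⟩ := exists_nonsquare_ext (ν := ν) h2
  obtain ⟨a, b, hab⟩ := RestrictScalars.exists_ab (F := F)
  have hfr : finrank (Ext ν) (KV hJ) = d := by
    have := finrank_KV hJ
    omega
  rcases Nat.even_or_odd' d with ⟨k, rfl | rfl⟩
  · rcases classify_even (QL hJ) (QL_nondeg hJ h2 hB) hfr 0 (-η) (aniso_ext hη) with h | ⟨j, rfl, h⟩
    · obtain ⟨R, hR, hRn⟩ := exists_quadForm_plus (F := Ext ν) k
      obtain ⟨C, hC, hcard⟩ := exists_cent_hom hJ h2 hB R one_ne_zero (by simpa [hR] using h)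
      refine ⟨C, hC, Or.inr ⟨k, rfl, by omega, Or.inl ⟨by rw [two_mul]; exact plus_of_plus hJ h2 h, ?_⟩⟩⟩
      rw [hcard, card_orth_plus k (by omega) hR hRn, card_ext, pow_mul]
      exact ⟨2 * (Nat.card F ^ 2) ^ (k * (k - 1)), by ring⟩
    · obtain ⟨R, hR, hRn⟩ := exists_quadForm_minus (F := Ext ν) j (aniso_ext hη)
      obtain ⟨C, hC, hcard⟩ := exists_cent_hom hJ h2 hB R one_ne_zero (by simpa [hR] using h)
      refine ⟨C, hC, Or.inr ⟨j + 1, rfl, by omega, Or.inr ⟨fun hp => ?_, ?_⟩⟩⟩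
      · rw [show 2 * (j + 1) = j + j + 1 + 1 by omega] at hp
        exact not_plus_minus hab hp (minus_of_minus hJ h2 hη hab h)
      · have hc : Nat.card (Grp R) = _ := card_orth_minus (j + 1) (by omega) (aniso_ext hη) (Q := R) hR hRn
        rw [hcard, hc, card_ext, pow_mul]
        exact ⟨2 * (Nat.card F ^ 2) ^ ((j + 1) * (j + 1 - 1)), by ring⟩
  · obtain ⟨l, hl0, h⟩ := classify_odd (QL hJ) (QL_nondeg hJ h2 hB) hfr
    obtain ⟨R, hR, hRn⟩ := exists_quadForm_odd (two_ext (ν := ν) h2) k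
    obtain ⟨C, hC, hcard⟩ := exists_cent_hom hJ h2 hB R hl0 (by simpa [hR] using h)
    refine ⟨C, hC, Or.inl ⟨k, rfl, ?_⟩⟩
    rw [hcard, card_orth_odd (two_ext h2) k hR hRn, card_ext]
    exact dvd_mul_left _ _

end CfsgLib.Derange.OExt
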