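import Cfsg.Agent.Lib.Derange.OrthExtIndex
import Cfsg.Agent.Lib.Derange.OrthExist
import Cfsg.Agent.Lib.Derange.Cases
import Cfsg.Agent.Lib.Classical.OrthDickson
import Cfsg.Agent.Lib.Classical.OrthOmega

/-!
Isometries of odd order commuting with a self-adjoint root move a multiple of four dimensions; sample
elements moving twice an odd number of dimensions.
-/

set_option autoImplicit false
set_option linter.unusedSectionVars false
set_option linter.style.haveILetI false
set_option maxHeartbeats 800000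

namespace CfsgLib.Derange.OExt

open Module Polynomial CfsgLib.Orth CfsgLib.Classical CfsgLib.Classical.OrthModels

universe u

variable {F : Type u} [Field F] [Fintype F] {ν : F}
variable {ι : Type} [Fintype ι] [DecidableEq ι] {Q : QuadraticForm F (ι → F)}

local notation "B'" => QuadraticMap.polar (DFunLike.coe Q)

theorem odd_order_dickson {K : Type*} [Field K] {κ : Type} [Fintype κ] [DecidableEq κ]
    {R : QuadraticForm K (κ → K)} (hR : Nondeg R) (g : Grp R) {r : ℕ} (hr : Odd r) (hg : g ^ r = 1) :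
    Even (finrank K (κ → K) + finrank K (fixSpace g)) := by
  have h : dickson hR g ^ r = 1 := by rw [← map_pow, hg, map_one]
  obtain ⟨k, rfl⟩ := hr
  rw [pow_succ, pow_mul, Int.units_sq, one_pow, one_mul] at h
  by_contra hne
  have h' : (-1 : ℤˣ) ^ (finrank K (κ → K) + finrank K (fixSpace g)) = 1 := h
  rw [(Nat.not_even_iff_odd.1 hne).neg_one_pow] at h'
  exact absurd h' (by decide)

/-- Odd order isometries commuting with a root move a multiple of four dimensions. -/
theorem four_dvd [Fact (¬ IsSquare ν)] {J : End F (ι → F)} (hJ : SA Q ν J) (h2 : (2 : F) ≠ 0) (hB : Nondeg Q)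
    (g : Grp Q) (hg : ∀ x, ap g (J x) = J (ap g x)) {r : ℕ} (hr : Odd r) (hgr : g ^ r = 1) :
    ∃ m, finrank F (fixSpace g) + 4 * m = Fintype.card ι := by
  let b := finBasis (Ext ν) (KV hJ)
  let R : QuadraticForm (Ext ν) (Fin (finrank (Ext ν) (KV hJ)) → Ext ν) := (QL hJ).comp b.equivFun.symm.toLinearMap
  have hR : Nondeg R := fun x hx => by
    have h0 : b.equivFun.symm x = 0 :=
      (LinearMap.separatingLeft_iff_linear_nontrivial.1 (QL_nondeg hJ h2 hB).1) _ (LinearMap.ext fun z => by
        obtain ⟨y, rfl⟩ := b.equivFun.symm.surjective z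
        show QuadraticMap.polar (⇑(QL hJ)) (b.equivFun.symm x) (b.equivFun.symm y) = 0
        have h := hx y
        simpa only [R, QuadraticMap.polar, QuadraticMap.comp_apply, LinearEquiv.coe_coe, map_add] using h)
    have h1 := congrArg b.equivFun h0
    rwa [b.equivFun.apply_symm_apply, map_zero] at h1
  -- the map over the extension
  let T : KV hJ →ₗ[Ext ν] KV hJ :=
    { toFun := fun x => toK hJ (ap g (ofK hJ x))
      map_add' := fun x y => ap_add g _ _
      map_smul' := fun c x => by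
        show ap g (ofK hJ (c • x)) = ofK hJ (c • toK hJ (ap g (ofK hJ x)))
        rw [smul_def, smul_def, ap_add, ap_smul, ap_smul, hg]
        rfl }
  have hT : ∀ x, QL hJ (T x) = QL hJ x := fun x => by
    show (⟨_, _⟩ : Ext ν) = ⟨_, _⟩
    have e1 : ofK hJ (T x) = ap g (ofK hJ x) := rfl
    rw [e1, ← hg, ap_b, ap_b]
  obtain ⟨g', hg'⟩ := exists_iso hR (b.equivFun.toLinearMap ∘ₗ T ∘ₗ b.equivFun.symm.toLinearMap) (fun x => by
    show QL hJ (b.equivFun.symm (b.equivFun (T (b.equivFun.symm x)))) = QL hJ (b.equivFun.symm x)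
    rw [b.equivFun.symm_apply_apply, hT])
  have hpow : ∀ (k : ℕ) x, ap (g' ^ k) x = b.equivFun (toK hJ (ap (g ^ k) (ofK hJ (b.equivFun.symm x)))) := by
    intro k
    induction k with
    | zero => intro x; rw [pow_zero, pow_zero, ap_one, ap_one]; exact (b.equivFun.apply_symm_apply x).symm
    | succ k ih =>
      intro x
      rw [pow_succ', ap_mul, ih, hg', pow_succ' g, ap_mul]
      show b.equivFun (T (b.equivFun.symm (b.equivFun _))) = _
      rw [b.equivFun.symm_apply_apply]
      rfl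
  have hg1 : g' ^ r = 1 := ext_ap fun x => by
    rw [hpow, hgr, ap_one, ap_one]
    exact b.equivFun.apply_symm_apply x
  have heven := odd_order_dickson hR g' hr hg1
  let S : Submodule (Ext ν) (KV hJ) := LinearMap.ker (T - LinearMap.id)
  have hS : (fixSpace g' : Submodule (Ext ν) _) = S.map b.equivFun.toLinearMap := by
    ext x
    rw [mem_fixSpace, hg', Submodule.mem_map]
    simp only [S, LinearMap.mem_ker, LinearMap.sub_apply, LinearMap.id_apply, sub_eq_zero, LinearMap.comp_apply,
      LinearEquiv.coe_coe]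
    constructor
    · intro h
      exact ⟨_, b.equivFun.injective (h.trans (b.equivFun.apply_symm_apply x).symm), b.equivFun.apply_symm_apply x⟩
    · rintro ⟨y, hy, rfl⟩
      rw [b.equivFun.symm_apply_apply, hy]
  have e2 : finrank F (fixSpace g) = finrank F S :=
    LinearEquiv.finrank_eq
      { toFun := fun x => ⟨toK hJ x.1, LinearMap.mem_ker.2 (sub_eq_zero.2 (show ap g x.1 = x.1 from x.2))⟩
        invFun := fun y => ⟨ofK hJ y.1, show ap g (ofK hJ y.1) = ofK hJ y.1 from sub_eq_zero.1 (LinearMap.mem_ker.1 y.2)⟩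
        left_inv := fun x => rfl
        right_inv := fun y => rfl
        map_add' := fun x y => rfl
        map_smul' := fun c x => rfl }
  rw [hS, LinearEquiv.finrank_map_eq, Module.finrank_fin_fun] at heven
  have e3 := Module.finrank_mul_finrank F (Ext ν) S
  rw [QuadraticAlgebra.finrank_eq_two] at e3
  have hd := finrank_KV hJ
  have hle := Submodule.finrank_le S
  obtain ⟨m, hm⟩ := heven
  exact ⟨finrank (Ext ν) (KV hJ) - m, by omega⟩

variable {K : Subalgebra F (Matrix ι ι F)}

/-- The derangement criterion. -/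
theorem not_normalizer [Nonempty ι] (h2 : (2 : F) ≠ 0) (hB : Nondeg Q) (hK : Cfsg.Geo.IsFieldSubalgebra 2 K)
    (hKf : Cfsg.Geo.IsSelfAdjointFor (QuadraticMap.polar ⇑Q) K) {r : ℕ} (hr : Odd r) (x : Grp Q) (hx : x ^ r = 1)
    (hfix : ∀ m, finrank F (fixSpace x) + 4 * m ≠ Fintype.card ι) {g : GL ι F} (hg : g ∈ Cfsg.Geo.omegaGL ⇑Q) :
    g⁻¹ * (x : GL ι F) * g ∉ Cfsg.Geo.subalgebraNormalizer K := by
  intro hmem
  obtain ⟨j, hjK, ν, hν, hjj, hjs⟩ := exists_gen hK h2
  haveI : Fact (¬ IsSquare ν) := ⟨hν⟩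
  have hν0 : ν ≠ 0 := fun h => hν (h ▸ IsSquare.zero)
  obtain ⟨g, -, rfl⟩ := hg
  set y : Grp Q := g⁻¹ * x * g with hy
  have hyr : y ^ r = 1 := by rw [hy, show g⁻¹ * x * g = g⁻¹ * x * (g⁻¹)⁻¹ by rw [inv_inv], conj_pow, hx, mul_one, mul_inv_cancel]
  have hyM : ((y : GL ι F) : Matrix ι ι F) ^ r = 1 := by
    rw [← Units.val_pow_eq_pow_val, ← SubmonoidClass.coe_pow, hyr]; rfl
  have hsemi := semi_comm_of_pow h2 hr hyM (semi_of_mem_normalizer hK hjK hjs hν0 h2 hjj (y : GL ι F) hmem)
  have hcomm : ∀ v, ap y (Matrix.toLin' j v) = Matrix.toLin' j (ap y v) := fun v => by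
    simp [ap, Matrix.toLin'_apply, Matrix.mulVec_mulVec, hsemi]
  obtain ⟨m, hm⟩ := four_dvd (sa_of_mem hjK hKf hjj) h2 hB y hcomm hr hyr
  refine hfix m ?_
  rw [← hm]
  congr 1
  exact LinearEquiv.finrank_eq
    { toFun := fun v => ⟨ap g⁻¹ v.1, mem_fixSpace.2 (by rw [hy, ap_mul, ap_mul, ap_ap_inv, mem_fixSpace.1 v.2])⟩
      invFun := fun w => ⟨ap g w.1, mem_fixSpace.2 (by
        have h : ap (g⁻¹ * x * g) w.1 = w.1 := mem_fixSpace.1 w.2
        rw [ap_mul, ap_mul] at h
        have h' := congrArg (ap g) h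
        rwa [ap_ap_inv] at h')⟩
      left_inv := fun v => Subtype.ext (ap_ap_inv g v.1)
      right_inv := fun w => Subtype.ext (ap_inv_ap g w.1)
      map_add' := fun v w => Subtype.ext (ap_add _ _ _)
      map_smul' := fun c v => Subtype.ext (ap_smul _ _ _) }

theorem nonscalar_of_fix (hB : Nondeg Q) [Nonempty ι] {r : ℕ} (hr : Odd r) (x : Grp Q) (hx : x ^ r = 1)
    (hfix : finrank F (fixSpace x) ≠ Fintype.card ι) (z : F) :
    ((x : GL ι F) : Matrix ι ι F) ≠ z • (1 : Matrix ι ι F) := by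
  intro hz
  obtain ⟨v, hv⟩ := exists_aniso hB (by rw [Module.finrank_pi]; exact Fintype.card_pos)
  have hap : ∀ w, ap x w = z • w := fun w => by rw [ap, hz, Matrix.smul_mulVec, Matrix.one_mulVec]
  have h1 := ap_q x v
  rw [hap, q_smul] at h1
  have hsq : z * z = 1 := mul_right_cancel₀ hv (h1.trans (one_mul _).symm)
  have hpow : ∀ k : ℕ, ap (x ^ k) v = z ^ k • v := by
    intro k
    induction k with
    | zero => simp
    | succ k ih => rw [pow_succ', ap_mul, ih, ap_smul, hap, smul_smul, pow_succ]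
  have h3 := hpow r
  rw [hx, ap_one] at h3
  have hv0 : v ≠ 0 := fun e => hv (by rw [e, QuadraticMap.map_zero])
  have hz1 : z ^ r = 1 := smul_left_injective F hv0 (h3.symm.trans (one_smul F v).symm)
  obtain ⟨k, hk⟩ := hr
  rw [hk, pow_succ, pow_mul, _root_.sq, hsq, one_pow, one_mul] at hz1
  refine hfix ?_
  rw [show fixSpace x = ⊤ from eq_top_iff.2 fun w _ => mem_fixSpace.2 (by rw [hap, hz1, one_smul]), finrank_top,
    Module.finrank_pi]

variable {p : ℕ} [hp : Fact p.Prime] [CharP F p]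

include hp in
theorem fix_of_shaped {q r i t : ℕ} {D : Finset F[X]} (X' : Ctx F p q r i t D) (x : Grp Q) (hx : x ^ r = 1)
    {f : F[X]} {e k : ℕ} (hf : Shaped i D f e k) (hc : cp x = f) : finrank F (fixSpace x) = e := by
  set T : End F (ι → F) := Matrix.toLin' ((x : GL ι F) : Matrix ι ι F)
  have hT : T ^ r = (1 : F) • 1 := by rw [one_smul]; exact pow_toLin x hx
  have hss := semisimple_of_pow_smul (p := p) T X'.prime X'.ne_char one_ne_zero hT
  have h1 : fixSpace x = T.eigenspace 1 := by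
    ext v
    rw [mem_fixSpace, Module.End.mem_eigenspace_iff, one_smul]
    exact Iff.rfl
  rw [h1, ← hss.isFinitelySemisimple.maxGenEigenspace_eq_eigenspace, LinearMap.finrank_maxGenEigenspace_eq,
    Matrix.charpoly_toLin', show ((x : GL ι F) : Matrix ι ι F).charpoly = f from hc]
  obtain ⟨g, rfl, hg, -⟩ := hf
  have hg1 := hg.eval_one X'.facts
  rw [rootMultiplicity_mul (mul_ne_zero (pow_ne_zero _ (by rw [← map_one C]; exact X_sub_C_ne_zero 1))
    (fun h => hg1 (by rw [h, eval_zero]))), rootMultiplicity_eq_zero (p := g) (by simpa [IsRoot.def] using hg1), add_zero,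
    ← map_one C, rootMultiplicity_X_sub_C_pow]

include hp in
/-- The sample elements. -/
theorem exists_sample (hB : Nondeg Q) {q d : ℕ} (hq : Fintype.card F = q) (hodd : Odd q) (hd : 3 ≤ d)
    (hι : Fintype.card ι = 2 * d) (hK : Cfsg.Geo.IsFieldSubalgebra 2 K)
    (hKf : Cfsg.Geo.IsSelfAdjointFor (QuadraticMap.polar ⇑Q) K) {r : ℕ} (hr : r.Prime) (hr2 : r ≠ 2)
    (hΩ : r ∣ (Cfsg.Geo.subalgebraNormalizer K).relIndex (Cfsg.Geo.omegaGL ⇑Q)) :
    ∃ x : Grp Q, (x : GL ι F) ∈ Cfsg.Geo.omegaGL ⇑Q ∧ x ^ r = 1 ∧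
      ∀ m, finrank F (fixSpace x) + 4 * m ≠ Fintype.card ι := by
  classical
  haveI : Nonempty ι := Fintype.card_pos_iff.1 (by omega)
  have hro := hr.odd_of_ne_two hr2
  have hn : 5 ≤ Fintype.card ι := by omega
  have hfr : 5 ≤ finrank F (ι → F) := by rw [Module.finrank_pi]; omega
  by_cases hrp : r = p
  · subst hrp
    obtain ⟨u, hu, hu0⟩ := exists_nonzero_singular (Q := Q) hfr
    obtain ⟨v, hv, hvu, hvs⟩ : ∃ v, Q v = 0 ∧ B' u v = 0 ∧ v ∉ Submodule.span F {u} := by
      obtain ⟨w, hwu⟩ : ∃ w, B' u w ≠ 0 := by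
        by_contra hall
        push Not at hall
        exact hu0 (hB u hall)
      obtain ⟨v, hv, hv0, huv, hwv⟩ := exists_singular_perp hB hfr u w
      refine ⟨v, hv, huv, fun hmem => ?_⟩
      obtain ⟨c, rfl⟩ := Submodule.mem_span_singleton.1 hmem
      rw [b_smul_right, b_comm w u, mul_eq_zero] at hwv
      exact hv0 (by rw [hwv.resolve_right hwu, zero_smul])
    obtain ⟨s, hs⟩ := exists_siegel hB hu hvu
    have hsu : ap s u = u := by rw [hs.2.2, b_self_zero hu, hvu]; simp
    have hsv : ap s v = v := by rw [hs.2.2, b_comm v u, hvu, b_self_zero hv, hv]; simp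
    have key : ∀ (k : ℕ) x, ap (s ^ k) x = x + (k : F) • (B' x u • v - B' x v • u) := by
      intro k
      induction k with
      | zero => intro x; simp
      | succ k ih =>
        intro x
        rw [pow_succ', ap_mul, ih, ap_add, ap_smul, ap_sub, ap_smul, ap_smul, hsu, hsv, hs.2.2, hv, zero_mul, zero_smul,
          sub_zero, Nat.cast_succ, add_smul, one_smul]
        abel
    have hsp : s ^ r = 1 := ext_ap fun x => by rw [key, CharP.cast_eq_zero, zero_smul, add_zero, ap_one]
    refine ⟨s, ⟨s, mem_omega_of_odd hB hn hro hsp, rfl⟩, hsp, fun m hm => ?_⟩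
    have hfix : fixSpace s = orth Q (Submodule.span F (Set.range ![u, v])) := by
      ext x
      rw [mem_fixSpace, hs.2.2, hv, zero_mul, zero_smul, sub_zero, mem_orth_span]
      constructor
      · intro h
        rw [add_sub_assoc, add_eq_left] at h
        have hli : ∀ a c : F, a • v - c • u = 0 → a = 0 ∧ c = 0 := fun a c h => by
          have ha : a = 0 := by
            by_contra ha
            exact hvs (Submodule.mem_span_singleton.2 ⟨a⁻¹ * c, by
              rw [mul_smul, ← sub_eq_zero.1 h, inv_smul_smul₀ ha]⟩)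
          rw [ha, zero_smul, zero_sub, neg_eq_zero, smul_eq_zero] at h
          exact ⟨ha, h.resolve_right hu0⟩
        obtain ⟨h1, h3⟩ := hli _ _ h
        rintro y ⟨i, rfl⟩
        fin_cases i
        · simpa [b_comm u x] using h1
        · simpa [b_comm v x] using h3
      · intro h
        have h1 := h u ⟨0, rfl⟩
        have h3 := h v ⟨1, rfl⟩
        rw [b_comm x u, b_comm x v, h1, h3]
        simp
    have hdim := finrank_orth hB (Submodule.span F (Set.range ![u, v]))
    rw [finrank_span_eq_card ((LinearIndependent.pair_iff' hu0).2 fun a ha =>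
      hvs (Submodule.mem_span_singleton.2 ⟨a, ha⟩)), Fintype.card_fin, Module.finrank_pi] at hdim
    rw [hfix] at hm
    omega
  haveI := Fact.mk hr
  obtain ⟨t, D, X'⟩ := exists_ctx (p := p) hq hr hr2 hrp rfl
  set i := orderOf (q : ZMod r)
  have hdata := index_data (p := p) hB hq hodd (by omega : 2 ≤ d) hι hK hKf hr hr2 hrp hΩ
  obtain ⟨f, hf⟩ := exists_of_shape X'.facts X'.t_pos (2 * d - unitDim i) 1
  have hu : unitDim i % 4 = 2 ∧ unitDim i ≤ 2 * d ∧ (unitDim i = 2 * d →
      (Iso (⇑Q) (Cfsg.quadFormPlus d F) ↔ PlusFree i 1)) := by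
    rcases hdata with ⟨ho, h⟩ | ⟨h4, h⟩
    · rw [unitDim_odd ho]
      obtain ⟨s, hs⟩ := ho
      refine ⟨by omega, by rcases h with h | ⟨h, -⟩ <;> omega, fun he => ?_⟩
      exact iff_of_true (h.resolve_left (by omega)).2 (Or.inl ⟨s, hs⟩)
    · have hev : ¬ Odd i := fun ⟨s, hs⟩ => by omega
      rw [unitDim_even hev]
      refine ⟨h4, by rcases h with h | ⟨h, -⟩ <;> omega, fun he => ?_⟩
      exact iff_of_false (h.resolve_left (by omega)).2 fun hpf => hpf.elim hev (fun h1 => absurd h1 (by decide))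
  have hreal : OrthPrimeReal.Real r (⇑Q) f := (real_even_iff X' Q (bilin_nondeg hB) (k := d)
    (by rw [Module.finrank_pi]; exact hι) f).2 ⟨_, 1, hf, by omega, by
      rcases Nat.eq_zero_or_pos (2 * d - unitDim i) with h | h
      · exact Or.inr (hu.2.2 (by omega))
      · exact Or.inl h⟩
  obtain ⟨x, hxΩ, hxr, hxc, -, -⟩ := exists_element hB hn X' one_pos hf hreal
  refine ⟨x, hxΩ, hxr, fun m hm => ?_⟩
  rw [fix_of_shaped X' x hxr hf hxc] at hm
  omega

end CfsgLib.Derange.OExt
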