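import Cfsg.Agent.Lib.Derange.Window

/-!
Divisors of the number of totally singular subspaces of one dimension.
-/

set_option autoImplicit false
set_option linter.style.haveILetI false

namespace CfsgLib.Derange

open Module CfsgLib.Orth CfsgLib.Classical.OrthModels

universe u v

variable {F : Type u} [Field F] [Fintype F] {p : ℕ} [hp : Fact p.Prime] [CharP F p]
  {ι : Type} [Fintype ι] [DecidableEq ι] {Q : QuadraticForm F (ι → F)}

include hp in
/-- Chevalley–Warning for quadratic forms in three or more variables. -/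
theorem dvd_card_zeros {V : Type v} [AddCommGroup V] [Module F V] [FiniteDimensional F V] (q : QuadraticForm F V)
    (h : 3 ≤ finrank F V) : p ∣ Nat.card {v : V // q v = 0} := by
  classical
  let b := Module.finBasis F V
  set M := q.toBilin b
  let f : MvPolynomial (Fin (finrank F V)) F :=
    ∑ i, ∑ j, MvPolynomial.C (M (b i) (b j)) * (MvPolynomial.X i * MvPolynomial.X j)
  have hdeg : f.totalDegree ≤ 2 := by
    refine MvPolynomial.totalDegree_finsetSum_le fun i _ => MvPolynomial.totalDegree_finsetSum_le fun j _ => ?_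
    refine (MvPolynomial.totalDegree_mul _ _).trans ?_
    rw [MvPolynomial.totalDegree_C, zero_add]
    refine (MvPolynomial.totalDegree_mul _ _).trans ?_
    rw [MvPolynomial.totalDegree_X, MvPolynomial.totalDegree_X]
  have heval : ∀ x : Fin (finrank F V) → F, MvPolynomial.eval x f = q (b.equivFun.symm x) := fun x => by
    conv_rhs => rw [← QuadraticMap.toQuadraticMap_toBilin q b, LinearMap.BilinMap.toQuadraticMap_apply,
      Basis.equivFun_symm_apply]
    simp only [f, map_sum, map_mul, MvPolynomial.eval_C, MvPolynomial.eval_X, LinearMap.sum_apply, map_smul,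
      LinearMap.smul_apply, smul_eq_mul, Finset.mul_sum, M]
    rw [Finset.sum_comm]
    exact Finset.sum_congr rfl fun i _ => Finset.sum_congr rfl fun j _ => by ring
  have hdvd := char_dvd_card_solutions p (f := f) (by rw [Fintype.card_fin]; omega)
  rw [← Nat.card_eq_fintype_card] at hdvd
  refine hdvd.trans (dvd_of_eq (Nat.card_congr (b.equivFun.symm.toEquiv.subtypeEquiv fun x => ?_)))
  rw [heval]; rfl

include hp in
/-- A subgroup of order a power of `p` fixing a singular subspace fixes a larger one. -/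
theorem exists_fixed_larger {P : Subgroup (Grp Q)} (hP : IsPGroup p P) (hB : Nondeg Q) {S : Submodule F (ι → F)}
    (hS : ∀ s ∈ S, Q s = 0) (hfix : ∀ g ∈ P, img g S = S)
    (hd : 2 * finrank F S + 3 ≤ finrank F (ι → F)) :
    ∃ W : Submodule F (ι → F), (∀ s ∈ W, Q s = 0) ∧ finrank F W = finrank F S + 1 ∧ ∀ g ∈ P, img g W = W := by
  classical
  obtain ⟨C, hC⟩ := Submodule.exists_isCompl S
  set M := orth Q S ⊓ C with hM
  have hSo : S ≤ orth Q S := le_orth_of_singular hS
  have hsup : S ⊔ M = orth Q S := by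
    rw [hM, inf_comm, ← sup_inf_assoc_of_le C hSo, hC.sup_eq_top, top_inf_eq]
  have hSM : S ⊓ M = ⊥ := le_bot_iff.1 (hC.disjoint.eq_bot ▸ inf_le_inf_left S inf_le_right)
  have hMd : 3 ≤ finrank F M := by
    have h1 := Submodule.finrank_sup_add_finrank_inf_eq S M
    rw [hsup, hSM, finrank_bot] at h1
    have := finrank_orth hB S
    omega
  have hQadd : ∀ s ∈ S, ∀ m ∈ M, Q (s + m) = Q m := fun s hs m hm => by
    rw [q_add, hS s hs, zero_add, mem_orth.1 (inf_le_left (b := C) hm) s hs, add_zero]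
  let T := {W : Submodule F (ι → F) // S ≤ W ∧ (∀ s ∈ W, Q s = 0) ∧ finrank F W = finrank F S + 1}
  have hline : ∀ v ∈ M, v ≠ 0 → Q v = 0 → finrank F ↥(S ⊔ Submodule.span F {v}) = finrank F S + 1 ∧
      ∀ s ∈ S ⊔ Submodule.span F {v}, Q s = 0 := fun v hv hv0 hqv => by
    refine ⟨?_, fun s hs => ?_⟩
    · have h1 := Submodule.finrank_sup_add_finrank_inf_eq S (Submodule.span F {v})
      rwa [show S ⊓ Submodule.span F {v} = ⊥ from le_bot_iff.1 (hSM ▸ inf_le_inf_left S
        ((Submodule.span_singleton_le_iff_mem _ _).2 hv)), finrank_bot, add_zero, finrank_span_singleton hv0] at h1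
    · obtain ⟨a, ha, z, hz, rfl⟩ := Submodule.mem_sup.1 hs
      obtain ⟨c, rfl⟩ := Submodule.mem_span_singleton.1 hz
      rw [hQadd a ha _ (M.smul_mem c hv), q_smul, hqv, mul_zero]
  have hrep : ∀ W : T, ∃ v, v ∈ M ∧ v ∈ W.1 ∧ v ≠ 0 ∧ S ⊔ Submodule.span F {v} = W.1 := fun W => by
    obtain ⟨hSW, hW, hWd⟩ := W.2
    have hWo : W.1 ≤ S ⊔ M := hsup.symm ▸ (le_orth_of_singular hW).trans (orth_le hSW)
    obtain ⟨w, hw, hwS⟩ : ∃ w ∈ W.1, w ∉ S := SetLike.not_le_iff_exists.1 fun h => by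
      have := Submodule.finrank_mono h; omega
    obtain ⟨s, hs, v, hv, rfl⟩ := Submodule.mem_sup.1 (hWo hw)
    have hvW : v ∈ W.1 := by simpa using W.1.sub_mem hw (hSW hs)
    have hv0 : v ≠ 0 := fun h => hwS (by rw [h, add_zero]; exact hs)
    refine ⟨v, hv, hvW, hv0, Submodule.eq_of_le_of_finrank_eq
      (sup_le hSW ((Submodule.span_singleton_le_iff_mem _ _).2 hvW)) ?_⟩
    rw [hWd, (hline v hv hv0 (hW v hvW)).1]
  choose w hwM hwW hw0 hwspan using hrep
  have hbij : Function.Bijective fun a : T × Fˣ => (⟨⟨(a.2 : F) • w a.1, M.smul_mem _ (hwM _)⟩,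
      show Q ((a.2 : F) • w a.1) = 0 by rw [q_smul, a.1.2.2.1 _ (hwW _), mul_zero],
      fun h => smul_ne_zero a.2.ne_zero (hw0 _) (congrArg Subtype.val h)⟩ :
        {v : M // Q (v : ι → F) = 0 ∧ v ≠ 0}) := by
    constructor
    · rintro ⟨W, a⟩ ⟨W', a'⟩ h
      have h' : (a : F) • w W = (a' : F) • w W' := congrArg (fun z => ((z.1 : M) : ι → F)) h
      obtain rfl : W = W' := Subtype.ext (by
        rw [← hwspan W, ← hwspan W', ← Submodule.span_singleton_smul_eq a.isUnit (w W), h',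
          Submodule.span_singleton_smul_eq a'.isUnit])
      exact Prod.ext rfl (Units.ext (smul_left_injective F (hw0 W) h'))
    · rintro ⟨⟨v, hv⟩, hqv, hv0⟩
      have hv0' : v ≠ 0 := fun h => hv0 (Subtype.ext h)
      let W : T := ⟨S ⊔ Submodule.span F {v}, le_sup_left, (hline v hv hv0' hqv).2, (hline v hv hv0' hqv).1⟩
      obtain ⟨s, hs, z, hz, hsz⟩ := Submodule.mem_sup.1 (hwW W)
      obtain ⟨c, rfl⟩ := Submodule.mem_span_singleton.1 hz
      have hs0 : s = 0 := (Submodule.mem_bot F).1 (hSM ▸ ⟨hs, by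
        rw [← add_sub_cancel_right s (c • v), hsz]; exact M.sub_mem (hwM W) (M.smul_mem c hv)⟩)
      rw [hs0, zero_add] at hsz
      have hc : c ≠ 0 := fun h => hw0 W (by rw [← hsz, h, zero_smul])
      refine ⟨⟨W, (Units.mk0 c hc)⁻¹⟩, Subtype.ext (Subtype.ext ?_)⟩
      show ((Units.mk0 c hc)⁻¹ : Fˣ).1 • w W = v
      rw [← hsz, smul_smul, Units.val_inv_eq_inv_val, Units.val_mk0, inv_mul_cancel₀ hc, one_smul]
  have hcard : Nat.card T * (Fintype.card F - 1) + 1 = Nat.card {v : M // Q (v : ι → F) = 0} := by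
    rw [← Fintype.card_units, ← Nat.card_eq_fintype_card, ← Nat.card_prod, Nat.card_eq_of_bijective _ hbij,
      Nat.card_congr (Equiv.subtypeSubtypeEquivSubtypeInter (fun v : M => Q (v : ι → F) = 0) fun v => v ≠ 0).symm]
    rw [Nat.card_eq_fintype_card, Nat.card_eq_fintype_card, Fintype.card_subtype_compl,
      show Fintype.card {x : {v : M // Q (v : ι → F) = 0} // (x : M) = 0} = 1 from
        Fintype.card_eq_one_iff.2 ⟨⟨⟨0, QuadraticMap.map_zero Q⟩, rfl⟩, fun x => Subtype.ext (Subtype.ext x.2)⟩]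
    have : 0 < Fintype.card {v : M // Q (v : ι → F) = 0} :=
      Fintype.card_pos_iff.2 ⟨⟨0, QuadraticMap.map_zero Q⟩⟩
    omega
  have hT : ¬ p ∣ Nat.card T := fun h => hp.out.one_lt.not_ge (Nat.le_of_dvd one_pos
    ((Nat.dvd_add_right (h.mul_right _)).1 (hcard ▸ dvd_card_zeros (Q.comp M.subtype) hMd)))
  letI : MulAction P T :=
    { smul := fun g W => ⟨img g.1 W.1, by
        conv_lhs => rw [← hfix g.1 g.2]
        exact Submodule.map_mono W.2.1, fun s hs => by
        rw [mem_img] at hs; rw [← ap_q g.1⁻¹ s]; exact W.2.2.1 _ hs, (finrank_img _ _).trans W.2.2.2⟩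
      one_smul := fun W => Subtype.ext (img_one W.1)
      mul_smul := fun a b W => Subtype.ext (img_mul a.1 b.1 W.1) }
  obtain ⟨W, hW⟩ := hP.nonempty_fixed_point_of_prime_not_dvd_card T hT
  exact ⟨W.1, W.2.2.1, W.2.2.2, fun g hg => congrArg Subtype.val (hW ⟨g, hg⟩)⟩

omit hp [CharP F p] in
theorem iso_singular {m : ℕ} {U W : Submodule F (ι → F)} (hU : ∀ w ∈ U, Q w = 0) (hUd : finrank F U = m)
    (hW : ∀ w ∈ W, Q w = 0) (hWd : finrank F W = m) : Iso (⇑(qOn Q U)) (⇑(qOn Q W)) :=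
  ⟨LinearEquiv.ofFinrankEq U W (hUd.trans hWd.symm), fun u => (hW _ (Subtype.mem _)).trans (hU _ u.2).symm⟩

omit hp [CharP F p] in
theorem singular_img {m : ℕ} (g : Grp Q) {W : Submodule F (ι → F)} (hW : finrank F W = m ∧ ∀ w ∈ W, Q w = 0) :
    finrank F (img g W) = m ∧ ∀ w ∈ img g W, Q w = 0 :=
  ⟨(finrank_img g W).trans hW.1, fun w hw => by rw [mem_img] at hw; rw [← ap_q g⁻¹ w]; exact hW.2 _ hw⟩

include hp in
/-- The characteristic divides no number of totally singular subspaces. -/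
theorem not_dvd_card_singular (hB : Nondeg Q) {m : ℕ} (hm : 2 * m + 1 ≤ finrank F (ι → F)) :
    ¬ p ∣ Nat.card {W : Submodule F (ι → F) // finrank F ↥W = m ∧ ∀ w ∈ W, Q w = 0} := by
  classical
  haveI : Finite (GL ι F) := inferInstance
  let P : Sylow p (Grp Q) := default
  have key : ∀ k ≤ m, ∃ W : Submodule F (ι → F), (∀ s ∈ W, Q s = 0) ∧ finrank F W = k ∧
      ∀ g ∈ (P : Subgroup (Grp Q)), img g W = W := by
    intro k
    induction k with
    | zero =>
      exact fun _ => ⟨⊥, fun s hs => by rw [(Submodule.mem_bot F).1 hs, QuadraticMap.map_zero],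
        finrank_bot F (ι → F), fun g _ => Submodule.map_bot _⟩
    | succ k ih =>
      intro hk
      obtain ⟨S, hS, hSd, hSf⟩ := ih (by omega)
      obtain ⟨W, h1, h3, h4⟩ := exists_fixed_larger (p := p) P.2 hB hS hSf (by omega)
      exact ⟨W, h1, by omega, h4⟩
  obtain ⟨W₀, hW₀, hW₀d, hfix⟩ := key m le_rfl
  intro hdvd
  have h := card_mul_dvd (fun W => finrank F ↥W = m ∧ ∀ w ∈ W, Q w = 0) (fun g W hW => singular_img g hW)
    ⟨hW₀d, hW₀⟩ (fun W hW => exists_move hB (iso_singular hW₀ hW₀d hW.2 hW.1))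
    (P : Subgroup (Grp Q)).subtype Subtype.val_injective (fun h => hfix h.1 h.2)
  rw [← Subgroup.index_mul_card (P : Subgroup (Grp Q))] at h
  exact P.not_dvd_index (hdvd.trans (Nat.dvd_of_mul_dvd_mul_right Nat.card_pos h))

omit hp in
/-- A prime dividing the number of totally singular subspaces of an odd-dimensional space. -/
theorem odd_singular_window {q r i : ℕ} [Fact p.Prime] (hq : Fintype.card F = q) (hr : r.Prime) (hrp : r ≠ p)
    (hi : i = orderOf (q : ZMod r)) (h2 : (2 : F) ≠ 0) {d m : ℕ} (hmd : m ≤ d)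
    {Q : QuadraticForm F (Unit ⊕ (Fin d ⊕ Fin d) → F)} (hQ : ⇑Q = Cfsg.quadFormOdd d F) (hB : Nondeg Q)
    (hN : r ∣ Nat.card {W : Submodule F (Unit ⊕ (Fin d ⊕ Fin d) → F) // finrank F ↥W = m ∧ ∀ w ∈ W, Q w = 0}) :
    ∃ j, d - m < j ∧ j ≤ d ∧ unitDim i ∣ 2 * j := by
  classical
  have hpi : finrank F (Unit ⊕ (Fin d ⊕ Fin d) → F) = 2 * d + 1 := by
    rw [Module.finrank_pi]; simp; omega
  obtain ⟨b, rfl⟩ : ∃ b, d = m + b := ⟨d - m, by omega⟩
  have h : Iso (add (Cfsg.quadFormPlus m F) (Cfsg.quadFormOdd b F)) (⇑Q) := by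
    rw [hQ]
    exact (((Iso.refl _).sum (odd_def b).symm).trans (Iso.sum_assoc _ _ _).symm).trans
      (((plus_plus m b).sum (Iso.refl _)).trans (odd_def (m + b)))
  obtain ⟨U, hUn, hUd, hUA, -⟩ := exists_sub hB h (by simp [Cfsg.quadFormPlus]) (by simp [Cfsg.quadFormOdd])
  have hd' : finrank F U = 2 * m := by rw [hUd, Module.finrank_pi]; simp; omega
  obtain ⟨L, hLU, hL, hLd⟩ := (isPlusTypeOn_iff hUn hd').mpr hUA.symm
  have horth : finrank F (orth Q U) = 2 * b + 1 := by
    have := finrank_orth hB U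
    omega
  obtain ⟨R, φ, hφ, hR, hRn, hfix⟩ := exists_embed_odd hB h2 (nondegOn_orth hB hUn) horth
  have h := card_mul_dvd (fun W => finrank F ↥W = m ∧ ∀ w ∈ W, Q w = 0) (fun g W hW => singular_img g hW)
    (W₀ := L) ⟨by omega, hL⟩ (fun W hW => exists_move hB (iso_singular hL (by omega) hW.2 hW.1)) φ hφ
    (hfix L (hLU.trans (orth_orth hB U).ge))
  rw [card_orth_odd h2 b hR hRn, card_orth_odd h2 (m + b) hQ hB, Nat.card_eq_fintype_card (α := F), hq] at h
  obtain ⟨hrq, hq2⟩ := not_dvd_card (p := p) hq hr hrp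
  obtain ⟨j, hj, hjd, hdvd⟩ := exists_window hr hrq hq2 hi two_pos (by omega) hN h
  exact ⟨j, by omega, hjd, hdvd⟩

end CfsgLib.Derange
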