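import Cfsg.Agent.Lib.Classical.OrthPrimeFactors
import Cfsg.Agent.Lib.Derange.Shape

/-!
Self-reciprocal polynomials with allowed factors: the multiplicity of the root `1` and the number of further units.
-/

set_option autoImplicit false

namespace CfsgLib.Derange

open Polynomial UniqueFactorizationMonoid CfsgLib.Classical.UnitaryTwistPoly CfsgLib.Classical.OrthPrimeFactors
open CfsgLib.Classical CfsgLib.Classical.PrimeOrderCount

universe u

variable {F : Type u} [Field F] [Fintype F] {r i t : ℕ} {D : Finset F[X]}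

local notation "τ" => tw (RingHom.id F)

/-- The degree of a self-reciprocal unit. -/
def unitDim (i : ℕ) : ℕ := if Even i then i else 2 * i

theorem unitDim_pos (hi : 0 < i) : 0 < unitDim i := by unfold unitDim; split_ifs <;> omega

theorem unitDim_even (hi : ¬ Odd i) : unitDim i = i := if_pos (Nat.not_odd_iff_even.mp hi)

theorem unitDim_odd (hi : Odd i) : unitDim i = 2 * i := if_neg (Nat.not_even_iff_odd.mpr hi)

theorem even_unitDim : Even (unitDim i) := by
  unfold unitDim; split_ifs with h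
  · exact h
  · exact even_two_mul i

/-- Self-reciprocal, all factors in `D`. -/
structure Free (D : Finset F[X]) (g : F[X]) : Prop where
  monic : g.Monic
  fixed : τ g = g
  factors : ∀ P : F[X], Irreducible P → P.Monic → P ∣ g → P ∈ D

theorem Free.one : Free D (1 : F[X]) :=
  ⟨monic_one, TwistPairCount.tw_one _, fun _ hi _ hd => absurd (isUnit_of_dvd_one hd) hi.not_isUnit⟩

theorem Free.mul {g h : F[X]} (hg : Free D g) (hh : Free D h) : Free D (g * h) := by
  refine ⟨hg.monic.mul hh.monic, by rw [tw_mul, hg.fixed, hh.fixed], fun P hi hm hd => ?_⟩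
  rcases hi.prime.dvd_or_dvd hd with hd | hd
  exacts [hg.factors P hi hm hd, hh.factors P hi hm hd]

theorem Free.prod {S : Multiset F[X]} (h : ∀ u ∈ S, Free D u) : Free D S.prod :=
  Multiset.prod_induction (Free D) S (fun _ _ => Free.mul) Free.one h

theorem Free.eval_one (hD : Facts r i t D) {g : F[X]} (hg : Free D g) : g.eval 1 ≠ 0 := fun h => by
  have hd : X - 1 ∣ g := by rw [← map_one C, dvd_iff_isRoot]; exact h
  exact hD.one (hg.factors _ (by simpa using irreducible_X_sub_C (1 : F)) (by simpa using monic_X_sub_C (1 : F)) hd)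

/-- A free polynomial is a product of units of degree `unitDim i`. -/
theorem Free.exists_units (hD : Facts r i t D) {g : F[X]} (hg : Free D g) :
    ∃ S : Multiset F[X], g = S.prod ∧ ∀ u ∈ S, Free D u ∧ u.natDegree = unitDim i := by
  classical
  have hirr : ∀ {P Q : F[X]}, Irreducible Q → Q.Monic → P ∈ D → Q ∣ P → Q = P := fun {P Q} hQ hQm hP hd =>
    eq_of_monic_of_associated hQm (hD.mem P hP).1 (hQ.associated_of_dvd (hD.mem P hP).2.1 hd)
  by_cases hodd : Odd i
  · obtain ⟨g₁, hm1, -, he, -, -⟩ := exists_half hD hodd hg.monic hg.fixed hg.factors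
    have hmem : ∀ P ∈ normalizedFactors g₁, P ∈ D := fun P hP =>
      hg.factors P (irreducible_of_normalized_factor P hP) (normalizedFactor_monic hm1.ne_zero hP)
        (he ▸ dvd_mul_of_dvd_left (dvd_of_mem_normalizedFactors hP) _)
    refine ⟨(normalizedFactors g₁).map fun P => P * τ P, ?_, fun u hu => ?_⟩
    · rw [Multiset.prod_map_mul, Multiset.map_id', TwistPairCount.prod_nf hm1, ← TwistPairCount.tw_prod,
        TwistPairCount.prod_nf hm1]
      exact he
    · obtain ⟨P, hP, rfl⟩ := Multiset.mem_map.mp hu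
      obtain ⟨hτ, hττ⟩ := hD.tmem P (hmem P hP)
      obtain ⟨hPm, -, hPd⟩ := hD.mem P (hmem P hP)
      obtain ⟨hTm, -, hTd⟩ := hD.mem _ hτ
      refine ⟨⟨hPm.mul hTm, by rw [tw_mul, hττ, mul_comm], fun Q hQ hQm hd => ?_⟩, ?_⟩
      · rcases hQ.prime.dvd_or_dvd hd with hd | hd
        exacts [hirr hQ hQm (hmem P hP) hd ▸ hmem P hP, hirr hQ hQm hτ hd ▸ hτ]
      · rw [hPm.natDegree_mul hTm, hPd, hTd, unitDim_odd hodd]; ring
  · refine ⟨normalizedFactors g, (TwistPairCount.prod_nf hg.monic).symm, fun P hP => ?_⟩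
    have hPD := hg.factors P (irreducible_of_normalized_factor P hP) (normalizedFactor_monic hg.monic.ne_zero hP)
      (dvd_of_mem_normalizedFactors hP)
    exact ⟨⟨(hD.mem P hPD).1, (hD.self P hPD).mpr hodd,
      fun Q hQ hQm hd => hirr hQ hQm hPD hd ▸ hPD⟩, by rw [(hD.mem P hPD).2.2, unitDim_even hodd]⟩

/-- `f` has `e` roots `1` and `K` units. -/
def Shaped (i : ℕ) (D : Finset F[X]) (f : F[X]) (e K : ℕ) : Prop :=
  ∃ g : F[X], f = (X - 1) ^ e * g ∧ Free D g ∧ g.natDegree = unitDim i * K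

theorem Shaped.mul {f f' : F[X]} {e e' K K' : ℕ} (h : Shaped i D f e K) (h' : Shaped i D f' e' K') :
    Shaped i D (f * f') (e + e') (K + K') := by
  obtain ⟨g, rfl, hg, hd⟩ := h
  obtain ⟨g', rfl, hg', hd'⟩ := h'
  exact ⟨g * g', by rw [pow_add]; ring, hg.mul hg', by rw [hg.monic.natDegree_mul hg'.monic, hd, hd', mul_add]⟩

theorem Shaped.eval_one_eq_zero_iff (hD : Facts r i t D) {f : F[X]} {e K : ℕ} (h : Shaped i D f e K) :
    f.eval 1 = 0 ↔ 0 < e := by
  obtain ⟨g, rfl, hg, -⟩ := h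
  have := hg.eval_one hD
  rcases e with _ | e <;> simp [this]

theorem Shaped.natDegree {f : F[X]} {e K : ℕ} (h : Shaped i D f e K) : f.natDegree = e + unitDim i * K := by
  obtain ⟨g, rfl, hg, hd⟩ := h
  have hX1 : (X - 1 : F[X]).Monic := by simpa using monic_X_sub_C (1 : F)
  rw [(hX1.pow e).natDegree_mul hg.monic, natDegree_pow, hd,
    show (X - 1 : F[X]).natDegree = 1 by simpa using natDegree_X_sub_C (1 : F), mul_one]

theorem Shaped.isT {f : F[X]} {e K : ℕ} (h : Shaped i D f e K) : IsT D (e + unitDim i * K) f := by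
  have hd := h.natDegree
  obtain ⟨g, rfl, hg, -⟩ := h
  have hX1 : (X - 1 : F[X]).Monic := by simpa using monic_X_sub_C (1 : F)
  refine ⟨(hX1.pow e).mul hg.monic, hd, ?_, fun P hi hm hdvd => ?_⟩
  · rw [tw_mul, hg.fixed]
    congr 1
    clear hd
    induction e with
    | zero => rw [pow_zero, TwistPairCount.tw_one]
    | succ e ih => rw [pow_succ, tw_mul, ih, TwistPairCount.tw_X_sub_one]
  · rcases hi.prime.dvd_or_dvd hdvd with h1 | h1
    · exact Or.inl (eq_of_monic_of_associated hm hX1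
        (hi.associated_of_dvd (by simpa using irreducible_X_sub_C (1 : F)) (hi.prime.dvd_of_dvd_pow h1)))
    · exact Or.inr (hg.factors P hi hm h1)

theorem exists_shaped (hD : Facts r i t D) {d : ℕ} {f : F[X]} (hf : IsT D d f) :
    ∃ e K, Shaped i D f e K ∧ e + unitDim i * K = d := by
  obtain ⟨c, g, rfl, hgm, hd, hgt, -, hgP⟩ := exists_split_one hD hf
  have hg : Free D g := ⟨hgm, hgt, hgP⟩
  obtain ⟨S, hS, hu⟩ := hg.exists_units hD
  have hdeg : g.natDegree = unitDim i * Multiset.card S := by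
    rw [hS, natDegree_prod_const S (unitDim i) (fun u h => (hu u h).1.monic) fun u h => (hu u h).2, mul_comm]
  exact ⟨c, Multiset.card S, ⟨g, rfl, hg, hdeg⟩, hdeg ▸ hd⟩

/-- Some polynomial of the given shape. -/
theorem exists_of_shape (hD : Facts r i t D) (ht : 0 < t) (e K : ℕ) : ∃ f, Shaped i D f e K := by
  classical
  obtain ⟨P, hP⟩ : D.Nonempty := Finset.card_pos.mp (hD.card.symm ▸ ht)
  obtain ⟨hτ, hττ⟩ := hD.tmem P hP
  obtain ⟨hPm, hPi, hPd⟩ := hD.mem P hP
  obtain ⟨hTm, hTi, hTd⟩ := hD.mem _ hτ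
  obtain ⟨u, hu, hud⟩ : ∃ u, Free D u ∧ u.natDegree = unitDim i := by
    by_cases hodd : Odd i
    · refine ⟨P * τ P, ⟨hPm.mul hTm, by rw [tw_mul, hττ, mul_comm], fun Q hQ hQm hd => ?_⟩, ?_⟩
      · rcases hQ.prime.dvd_or_dvd hd with hd | hd
        · exact eq_of_monic_of_associated hQm hPm (hQ.associated_of_dvd hPi hd) ▸ hP
        · exact eq_of_monic_of_associated hQm hTm (hQ.associated_of_dvd hTi hd) ▸ hτ
      · rw [hPm.natDegree_mul hTm, hPd, hTd, unitDim_odd hodd]; ring
    · exact ⟨P, ⟨hPm, (hD.self P hP).mpr hodd, fun Q hQ hQm hd =>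
        eq_of_monic_of_associated hQm hPm (hQ.associated_of_dvd hPi hd) ▸ hP⟩, by rw [hPd, unitDim_even hodd]⟩
  refine ⟨_, (Multiset.replicate K u).prod, rfl, Free.prod fun v hv => Multiset.eq_of_mem_replicate hv ▸ hu, ?_⟩
  rw [natDegree_prod_const _ (unitDim i) (fun v hv => Multiset.eq_of_mem_replicate hv ▸ hu.monic)
    (fun v hv => Multiset.eq_of_mem_replicate hv ▸ hud), Multiset.card_replicate, mul_comm]

/-- Shapes split. -/
theorem Shaped.split (hD : Facts r i t D) {f : F[X]} {e K e' A : ℕ} (h : Shaped i D f e K) (he : e' ≤ e)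
    (hA : A ≤ K) : ∃ f₁ f₂, f = f₁ * f₂ ∧ Shaped i D f₁ e' A ∧ Shaped i D f₂ (e - e') (K - A) := by
  classical
  obtain ⟨g, rfl, hg, hd⟩ := h
  obtain ⟨S, hS, hu⟩ := hg.exists_units hD
  have hcard : Multiset.card S = K := by
    rw [hS, natDegree_prod_const S (unitDim i) (fun u h => (hu u h).1.monic) (fun u h => (hu u h).2),
      mul_comm] at hd
    exact Nat.eq_of_mul_eq_mul_left (unitDim_pos hD.pos) hd
  obtain ⟨S₁, hle, hc1⟩ := exists_le_card_eq S (hcard.symm ▸ hA)
  obtain ⟨S₂, rfl⟩ := Multiset.le_iff_exists_add.mp hle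
  rw [Multiset.card_add] at hcard
  refine ⟨(X - 1) ^ e' * S₁.prod, (X - 1) ^ (e - e') * S₂.prod, ?_, ⟨_, rfl, Free.prod fun u h =>
    (hu u (Multiset.mem_add.mpr (Or.inl h))).1, ?_⟩, ⟨_, rfl, Free.prod fun u h =>
    (hu u (Multiset.mem_add.mpr (Or.inr h))).1, ?_⟩⟩
  · rw [hS, Multiset.prod_add]
    conv_lhs => rw [← Nat.add_sub_cancel' he, pow_add]
    ring
  · rw [natDegree_prod_const _ (unitDim i) (fun u h => (hu u (Multiset.mem_add.mpr (Or.inl h))).1.monic)
      (fun u h => (hu u (Multiset.mem_add.mpr (Or.inl h))).2), hc1, mul_comm]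
  · rw [natDegree_prod_const _ (unitDim i) (fun u h => (hu u (Multiset.mem_add.mpr (Or.inr h))).1.monic)
      (fun u h => (hu u (Multiset.mem_add.mpr (Or.inr h))).2), mul_comm]
    congr 1
    omega

/-- The shape is determined. -/
theorem Shaped.unique (hD : Facts r i t D) {f : F[X]} {e K e' K' : ℕ} (h : Shaped i D f e K)
    (h' : Shaped i D f e' K') : e = e' ∧ K = K' := by
  classical
  have key : ∀ {e K : ℕ}, Shaped i D f e K → f.rootMultiplicity 1 = e := fun {e K} hh => by
    obtain ⟨g, rfl, hg, -⟩ := hh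
    have hne : (X - 1 : F[X]) ^ e * g ≠ 0 :=
      mul_ne_zero (pow_ne_zero _ (by simpa using X_sub_C_ne_zero (1 : F))) hg.monic.ne_zero
    rw [rootMultiplicity_mul hne, rootMultiplicity_eq_zero (hg.eval_one hD), add_zero, ← map_one C,
      rootMultiplicity_X_sub_C_pow]
  have he := (key h).symm.trans (key h')
  have hd := h.natDegree.symm.trans h'.natDegree
  subst he
  exact ⟨rfl, Nat.eq_of_mul_eq_mul_left (unitDim_pos hD.pos) (by omega)⟩

end CfsgLib.Derange
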