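import Cfsg.Agent.Lib.Classical.OrthPrimeCount
import Cfsg.Agent.Lib.Derange.Profile

/-!
Which shapes occur in a given quadratic space.
-/

set_option autoImplicit false
set_option linter.style.haveILetI false

namespace CfsgLib.Derange

open Polynomial Module QuadraticMap CfsgLib.Classical CfsgLib.Classical.OrthModels
open CfsgLib.Classical.OrthPrimeReal CfsgLib.Classical.OrthPrimeFactors CfsgLib.Classical.OrthPrimeCount

universe u v

variable {F : Type u} [Field F] [Fintype F] {p : ℕ} [hp : Fact p.Prime] [CharP F p] {q r i t : ℕ}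
  {D : Finset F[X]}

/-- The standing data of an odd prime `r` different from the characteristic. -/
structure Ctx (F : Type u) [Field F] [Fintype F] (p q r i t : ℕ) (D : Finset F[X]) : Prop where
  card : Fintype.card F = q
  prime : r.Prime
  ne_two : r ≠ 2
  ne_char : r ≠ p
  ord : i = orderOf (q : ZMod r)
  mul : t * i = r - 1
  facts : Facts r i t D

include hp in
theorem exists_ctx (hF : Fintype.card F = q) (hr : r.Prime) (hr2 : r ≠ 2) (hrp : r ≠ p)
    (hi : i = orderOf (q : ZMod r)) : ∃ t, ∃ D : Finset F[X], Ctx F p q r i t D := by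
  haveI := Fact.mk hr
  have hdvd : i ∣ r - 1 := by
    rw [hi]
    refine ZMod.orderOf_dvd_card_sub_one ?_
    rw [Ne, ZMod.natCast_eq_zero_iff]
    intro h
    obtain ⟨k, -, hk⟩ := FiniteField.card F p
    rw [← hF, hk] at h
    exact hrp ((Nat.prime_dvd_prime_iff_eq hr hp.out).mp (hr.dvd_of_dvd_pow h))
  obtain ⟨t, ht⟩ := hdvd
  obtain ⟨D, hD⟩ := exists_facts (p := p) hF r i t hr hr2 hrp hi (by rw [ht, mul_comm])
  exact ⟨t, D, hF, hr, hr2, hrp, hi, by rw [ht, mul_comm], hD⟩

theorem Ctx.t_pos (X : Ctx F p q r i t D) : 0 < t := (X.facts.t_pos X.prime X.ne_two X.mul).1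

theorem Ctx.i_pos (X : Ctx F p q r i t D) : 0 < i := X.facts.pos

/-- The units make a split space. -/
def PlusFree (i K : ℕ) : Prop := Odd i ∨ Even K

omit [CharP F p] in
theorem real_of_scale_back {V : Type v} [AddCommGroup V] [Module F V] [FiniteDimensional F V] {Q : V → F}
    (l : F) {f : F[X]} (h : Real r Q f) : Real r (fun x => l * Q x) f := by
  obtain ⟨T, hT, hr, hc⟩ := h
  exact ⟨T, fun x => by show l * _ = l * _; rw [hT], hr, hc⟩

include hp in
/-- Odd dimension. -/
theorem real_odd_iff (X : Ctx F p q r i t D) (h2 : (2 : F) ≠ 0) {V : Type v} [AddCommGroup V] [Module F V]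
    [FiniteDimensional F V] (Q : QuadraticForm F V) (hQ : (polarBilin Q).Nondegenerate) {k : ℕ}
    (hd : finrank F V = 2 * k + 1) (f : F[X]) :
    Real r (⇑Q) f ↔ IsT D (2 * k + 1) f := by
  classical
  obtain ⟨l, hl, hiso⟩ := classify_odd Q hQ hd
  obtain ⟨R, hR, hRn⟩ := CfsgLib.Orth.exists_quadForm_odd h2 k
  constructor
  · intro h
    have h' := Real.of_scale hl (h.of_iso hiso)
    rw [← hR] at h'
    have := isT_of_real X.facts X.prime.pos R hRn h'
    rwa [Fintype.card_sum, Fintype.card_sum, Fintype.card_unit, Fintype.card_fin,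
      show 1 + (k + k) = 2 * k + 1 by ring] at this
  · intro h
    exact (real_of_scale_back l (real_odd_dim hp.out X.facts X.prime X.ne_two h2 h)).of_iso hiso.symm

include hp in
/-- The split space. -/
theorem real_plus_iff (X : Ctx F p q r i t D) (k : ℕ) (f : F[X]) :
    Real r (Cfsg.quadFormPlus k F) f ↔
      ∃ e K, Shaped i D f e K ∧ e + unitDim i * K = 2 * k ∧ (0 < e ∨ PlusFree i K) := by
  classical
  haveI := Fact.mk X.prime
  obtain ⟨a, b, hab⟩ := RestrictScalars.exists_ab (F := F)
  obtain ⟨Q, hQ, hQn⟩ := CfsgLib.Orth.exists_quadForm_plus (F := F) k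
  have hT : Real r (Cfsg.quadFormPlus k F) f → IsT D (2 * k) f := fun h => by
    rw [← hQ] at h
    have := isT_of_real X.facts X.prime.pos Q hQn h
    rwa [Fintype.card_sum, Fintype.card_fin, ← two_mul] at this
  constructor
  · intro h
    obtain ⟨e, K, hs, hd⟩ := exists_shaped X.facts (hT h)
    refine ⟨e, K, hs, hd, ?_⟩
    rcases Nat.eq_zero_or_pos e with rfl | he
    · by_cases ho : Odd i
      · exact Or.inr (Or.inl ho)
      rcases Nat.eq_zero_or_pos K with rfl | hK
      · exact Or.inr (Or.inr Even.zero)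
      refine Or.inr (Or.inr (Nat.not_odd_iff_even.mp fun hN => ?_))
      have h1 : f.eval 1 ≠ 0 := fun h1 => lt_irrefl 0 ((hs.eval_one_eq_zero_iff X.facts).mp h1)
      rw [unitDim_even ho, zero_add] at hd
      obtain ⟨hsgn, hne⟩ := sign_mod X.prime X.ne_two X.ord X.i_pos ho (m := k) ⟨K, hd.symm⟩
      have hpar := plus_parity X.prime h h1
      rw [X.card, hsgn, show 2 * k / i = K by rw [← hd, Nat.mul_div_cancel_left _ X.i_pos], hN.neg_one_pow] at hpar
      exact hne (by linear_combination -hpar)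
    · exact Or.inl he
  · rintro ⟨e, K, hs, hd, hsign⟩
    rcases k with _ | k
    · have hf : f = (Polynomial.X - 1) ^ (2 * 0) := by
        obtain ⟨g, rfl, hg, hgd⟩ := hs
        rw [eq_one_of_monic_natDegree_zero hg.monic (by omega), show e = 0 by omega]
        simp
      rw [hf]
      exact real_one_plus 0
    have hT' : IsT D (2 * (k + 1)) f := hd ▸ hs.isT
    obtain ⟨h1, h2, h3⟩ := real_plus_of_root hp.out X.facts X.prime X.ne_two a b hab hT'
    rcases hsign with he | ho | hK
    · exact (h1 ((hs.eval_one_eq_zero_iff X.facts).mpr he)).1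
    · exact h2 ho
    · by_cases he : f.eval 1 = 0
      · exact (h1 he).1
      by_cases ho : Odd i
      · exact h2 ho
      refine h3.resolve_right fun hm => ?_
      have he0 : e = 0 := Nat.eq_zero_of_not_pos fun h => he ((hs.eval_one_eq_zero_iff X.facts).mpr h)
      rw [he0, unitDim_even ho, zero_add] at hd
      obtain ⟨hsgn, hne⟩ := sign_mod X.prime X.ne_two X.ord X.i_pos ho (m := k + 1) ⟨K, hd.symm⟩
      have hpar := minus_parity X.prime a b hab hm he
      rw [X.card, hsgn, show 2 * (k + 1) / i = K by rw [← hd, Nat.mul_div_cancel_left _ X.i_pos],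
        hK.neg_one_pow] at hpar
      exact hne (by linear_combination -hpar)

include hp in
/-- The elliptic space. -/
theorem real_minus_iff (X : Ctx F p q r i t D) (j : ℕ) (a b : F)
    (hab : ∀ z₁ z₂ : F, z₁ ^ 2 + a * z₁ * z₂ + b * z₂ ^ 2 = 0 → z₁ = 0 ∧ z₂ = 0) (f : F[X]) :
    Real r (Cfsg.quadFormMinus j F a b) f ↔
      ∃ e K, Shaped i D f e K ∧ e + unitDim i * K = 2 * (j + 1) ∧ (0 < e ∨ ¬ PlusFree i K) := by
  classical
  obtain ⟨Q, hQ, hQn⟩ := CfsgLib.Orth.exists_quadForm_minus j hab
  have hr' : ¬ p ∣ r := fun h => X.ne_char ((Nat.prime_dvd_prime_iff_eq hp.out X.prime).mp h).symm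
  constructor
  · intro h
    have hT : IsT D (2 * (j + 1)) f := by
      rw [← hQ] at h
      have := isT_of_real X.facts X.prime.pos Q hQn h
      rwa [Fintype.card_sum, Fintype.card_sum, Fintype.card_fin, Fintype.card_fin,
        show j + j + 2 = 2 * (j + 1) by ring] at this
    obtain ⟨e, K, hs, hd⟩ := exists_shaped X.facts hT
    refine ⟨e, K, hs, hd, or_iff_not_imp_left.mpr fun he hK => ?_⟩
    exact not_both (p := p) (X.prime.odd_of_ne_two X.ne_two) a b hab hr'
      ((real_plus_iff X (j + 1) f).mpr ⟨e, K, hs, hd, Or.inr hK⟩) h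
      fun h1 => he ((hs.eval_one_eq_zero_iff X.facts).mp h1)
  · rintro ⟨e, K, hs, hd, hsign⟩
    have hT' : IsT D (2 * (j + 1)) f := hd ▸ hs.isT
    obtain ⟨h1, -, h3⟩ := real_plus_of_root hp.out X.facts X.prime X.ne_two a b hab hT'
    by_cases he : f.eval 1 = 0
    · exact (h1 he).2
    refine h3.resolve_left fun hpl => ?_
    obtain ⟨e', K', hs', -, h'⟩ := (real_plus_iff X (j + 1) f).mp hpl
    obtain ⟨rfl, rfl⟩ := hs.unique X.facts hs'
    have he0 : ¬ 0 < e := fun h => he ((hs.eval_one_eq_zero_iff X.facts).mpr h)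
    exact hsign.resolve_left he0 (h'.resolve_left he0)

include hp in
/-- Any space of even dimension: the shapes with a root `1`, and the sign otherwise. -/
theorem real_even_iff (X : Ctx F p q r i t D) {V : Type v} [AddCommGroup V] [Module F V]
    [FiniteDimensional F V] (Q : QuadraticForm F V) (hQ : (polarBilin Q).Nondegenerate) {k : ℕ}
    (hd : finrank F V = 2 * k) (f : F[X]) :
    Real r (⇑Q) f ↔ ∃ e K, Shaped i D f e K ∧ e + unitDim i * K = 2 * k ∧
      (0 < e ∨ (Iso (⇑Q) (Cfsg.quadFormPlus k F) ↔ PlusFree i K)) := by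
  classical
  obtain ⟨a, b, hab⟩ := RestrictScalars.exists_ab (F := F)
  by_cases hp1 : Iso (⇑Q) (Cfsg.quadFormPlus k F)
  · simp only [hp1, true_iff]
    exact ⟨fun h => (real_plus_iff X k f).mp (h.of_iso hp1), fun h => ((real_plus_iff X k f).mpr h).of_iso hp1.symm⟩
  · obtain ⟨j, rfl, hm⟩ := (classify_even Q hQ hd a b hab).resolve_left hp1
    simp only [hp1, false_iff]
    exact ⟨fun h => (real_minus_iff X j a b hab f).mp (h.of_iso hm),
      fun h => ((real_minus_iff X j a b hab f).mpr h).of_iso hm.symm⟩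

end CfsgLib.Derange
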