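import Cfsg.Agent.Lib.Derange.SingArith
import Cfsg.Agent.Lib.Derange.OrthReal

/-!
When does every shape of an even-dimensional orthogonal space of a given type contain enough pairs?
-/

set_option autoImplicit false

namespace CfsgLib.Derange

/-- `K` units alone make a space of the given type. -/
def Sgn (σ : Prop) (i K : ℕ) : Prop := σ ↔ PlusFree i K

theorem sgn_odd {σ : Prop} {i K : ℕ} (h : Odd i) : Sgn σ i K ↔ σ := by
  simp [Sgn, PlusFree, h]

theorem sgn_congr {σ : Prop} {i K K' : ℕ} (h : Even K ↔ Even K') : Sgn σ i K ↔ Sgn σ i K' := by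
  simp only [Sgn, PlusFree, h]

theorem sgn_flip {σ : Prop} {i K : ℕ} (hi : ¬ Odd i) : Sgn σ i (K + 1) ↔ ¬ Sgn σ i K := by
  simp only [Sgn, PlusFree, hi, false_or, Nat.even_add_one]
  tauto

theorem sgn_sub_pairs {σ : Prop} {i K A : ℕ} (hA : pairUnits i * A ≤ K) :
    Sgn σ i (K - pairUnits i * A) ↔ Sgn σ i K := by
  by_cases h : Odd i
  · rw [sgn_odd h, sgn_odd h]
  · refine sgn_congr ?_
    rw [pairUnits, if_neg h] at hA ⊢
    rw [Nat.even_sub hA]
    simp

/-- The shape `(e, K)` leaves room for `m`. -/
def Room (σ : Prop) (i t m e K : ℕ) : Prop :=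
  ∃ e' A, e' + i * A = m ∧ A ≤ avail i t K ∧ (2 * e' < e ∨ (2 * e' = e ∧ Sgn σ i K))

/-- What a prime divisor of the number of singular subspaces gives. -/
def Win (σ : Prop) (i m d : ℕ) : Prop :=
  (∃ j, d - m < j ∧ j < d ∧ unitDim i ∣ 2 * j) ∨ (unitDim i ∣ 2 * d ∧ Sgn σ i (2 * d / unitDim i)) ∨
    (unitDim i ∣ 2 * (d - m) ∧ ¬ Sgn σ i (2 * (d - m) / unitDim i))

/-- The criterion in numbers. -/
theorem room_iff (σ : Prop) {i t m d : ℕ} (hi : 0 < i) (hm : 1 ≤ m) (hmd : m < d) (ht : 1 ≤ t)
    (hwin : Win σ i m d) :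
    (∀ e K, 0 < K → e + unitDim i * K = 2 * d → (0 < e ∨ Sgn σ i K) → Room σ i t m e K) ↔
      i ≤ m ∧ ((Odd i ∧ (2 * (m % i) < (2 * d) % unitDim i ∨ (2 * (m % i) ≤ (2 * d) % unitDim i ∧ σ) ∨
          ((2 * d) % unitDim i = 0 ∧ ¬ σ))) ∨
        (¬ Odd i ∧ t + 2 * (m / i) ≤ 2 * d / i ∧
          ((2 * (m % i) ≤ i ∧ (2 * d) % i = 0 ∧ ¬ Sgn σ i (2 * d / i) ∧ t + 2 * (m / i) < 2 * d / i) ∨
            2 * (m % i) < (2 * d) % i ∨ (2 * (m % i) ≤ (2 * d) % i ∧ Sgn σ i (2 * d / i))))) := by
  classical
  have hM := Nat.mod_add_div m i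
  have hμi := Nat.mod_lt m hi
  constructor
  · intro H
    have him : i ≤ m := by
      by_contra hlt
      have hroom : ∀ e K, 0 < K → e + unitDim i * K = 2 * d → (0 < e ∨ Sgn σ i K) →
          2 * m < e ∨ (2 * m = e ∧ Sgn σ i K) := fun e K hK he hel => by
        obtain ⟨e', A, h1, -, h3⟩ := H e K hK he hel
        have hA : A = 0 := by
          by_contra hA
          have := Nat.le_mul_of_pos_right i (Nat.pos_of_ne_zero hA)
          omega
        subst hA
        obtain rfl : e' = m := by simpa using h1
        exact h3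
      unfold Win at hwin
      set c := unitDim i with hc
      have hc0 : 0 < c := unitDim_pos hi
      rcases hwin with ⟨j, hj, hjd, hdvd⟩ | ⟨⟨l, hl⟩, hsg⟩ | ⟨⟨l, hl⟩, hsg⟩
      · obtain ⟨l, hl⟩ := hdvd
        have hN := Nat.mod_add_div (2 * d) c
        have hρ : (2 * d) % c ≤ 2 * (d - j) := by
          rw [show 2 * d = 2 * (d - j) + c * l by omega, Nat.add_mul_mod_self_left]; exact Nat.mod_le _ _
        have hcl : c ≤ 2 * j := Nat.le_of_dvd (by omega) ⟨l, hl⟩
        have hN0 : 0 < 2 * d / c := Nat.div_pos (by omega) hc0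
        rcases Nat.eq_zero_or_pos ((2 * d) % c) with h0 | h0
        · by_cases hsg : Sgn σ i (2 * d / c)
          · rcases hroom 0 (2 * d / c) hN0 (by omega) (Or.inr hsg) with h | ⟨h, -⟩ <;> omega
          · have hc2 : c ≤ 2 * (d - j) := by
              refine Nat.le_of_dvd (by omega) ?_
              rw [show 2 * (d - j) = 2 * d - 2 * j by omega]
              exact Nat.dvd_sub (Nat.dvd_of_mod_eq_zero h0) ⟨l, hl⟩
            have hN2 : 2 ≤ 2 * d / c := (Nat.le_div_iff_mul_le hc0).2 (by omega)
            have h1 : c * (2 * d / c - 1) + c = c * (2 * d / c) := by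
              rw [← Nat.mul_succ]; congr 1; omega
            rcases hroom c (2 * d / c - 1) (by omega) (by omega) (Or.inl hc0) with h | ⟨h, -⟩ <;> omega
        · rcases hroom _ (2 * d / c) hN0 hN (Or.inl h0) with h | ⟨h, -⟩ <;> omega
      · have hdl : 2 * d / c = l := by rw [hl, Nat.mul_div_cancel_left _ hc0]
        rw [hdl] at hsg
        have hl0 : 0 < l := Nat.pos_of_ne_zero fun h => by simp [h] at hl; omega
        rcases hroom 0 l hl0 (by omega) (Or.inr hsg) with h | ⟨h, -⟩ <;> omega
      · have hdl : 2 * (d - m) / c = l := by rw [hl, Nat.mul_div_cancel_left _ hc0]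
        rw [hdl] at hsg
        have hl0 : 0 < l := Nat.pos_of_ne_zero fun h => by simp [h] at hl; omega
        by_cases h2m : 2 * m < c
        · rcases hroom (2 * m) l hl0 (by omega) (Or.inl (by omega)) with h | ⟨-, h⟩
          · omega
          · exact hsg h
        · have h1 : c * (l + 1) = c * l + c := Nat.mul_succ _ _
          have hel : 0 < 2 * m - c ∨ Sgn σ i (l + 1) := by
            by_cases h0 : 2 * m = c
            · refine Or.inr ?_
              by_cases hodd : Odd i
              · rw [hc, unitDim_odd hodd] at h0; omega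
              · exact (sgn_flip hodd).2 hsg
            · exact Or.inl (by omega)
          rcases hroom (2 * m - c) (l + 1) (by omega) (by omega) hel with h | ⟨h, -⟩ <;> omega
    refine ⟨him, ?_⟩
    by_cases hodd : Odd i
    · refine Or.inl ⟨hodd, ?_⟩
      have hc : unitDim i = 2 * i := unitDim_odd hodd
      rw [hc]
      have hN := Nat.mod_add_div (2 * d) (2 * i)
      have hN0 : 0 < 2 * d / (2 * i) := Nat.div_pos (by omega) (by omega)
      by_cases hel : 0 < (2 * d) % (2 * i) ∨ σ
      · obtain ⟨e', A, h1, -, h3⟩ := H _ (2 * d / (2 * i)) hN0 (by rw [hc]; exact hN) (hel.imp_right (sgn_odd hodd).2)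
        have hμ : m % i ≤ e' := by rw [← h1, Nat.add_mul_mod_self_left]; exact Nat.mod_le _ _
        rcases h3 with h3 | ⟨h3, h4⟩
        · exact Or.inl (by omega)
        · exact Or.inr (Or.inl ⟨by omega, (sgn_odd hodd).1 h4⟩)
      · push Not at hel
        exact Or.inr (Or.inr ⟨by omega, hel.2⟩)
    · refine Or.inr ⟨hodd, ?_⟩
      have hc : unitDim i = i := unitDim_even hodd
      rw [hc] at H
      set N := 2 * d / i with hNdef
      set ρ := (2 * d) % i with hρdef
      have hN : ρ + i * N = 2 * d := Nat.mod_add_div (2 * d) i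
      have hρi : ρ < i := Nat.mod_lt _ hi
      have hN2 : 2 ≤ N := (Nat.le_div_iff_mul_le hi).2 (by omega)
      have hmulsub : ∀ k ≤ N, i * (N - k) + i * k = i * N := fun k hk => by
        rw [← Nat.mul_add]; congr 1; omega
      -- what a room at few units gives
      have bound : ∀ k ≤ N - 1, (0 < ρ + i * k ∨ Sgn σ i (N - k)) → ∃ e' A, e' + i * A = m ∧
          A ≤ avail i t (N - k) ∧ (2 * e' < ρ + i * k ∨ (2 * e' = ρ + i * k ∧ Sgn σ i (N - k))) := fun k hk hel =>
        H (ρ + i * k) (N - k) (by omega) (by have := hmulsub k (by omega); omega) hel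
      have hM0 : 1 ≤ m / i := Nat.div_pos him hi
      have hiM : i * (m / i) ≥ i := Nat.le_mul_of_pos_right i hM0
      have hroom : t + 2 * (m / i) ≤ N := by
        by_contra hlt
        have hlt' : i * (N + 1) ≤ i * (t + 2 * (m / i)) := Nat.mul_le_mul_left i (by omega)
        rw [mul_add, mul_add, mul_one, mul_left_comm] at hlt'
        obtain ⟨k, hk1, hkel, hkpar⟩ : ∃ k ≤ 1, (0 < ρ + i * k ∨ Sgn σ i (N - k)) ∧
            ((N - k) % 2 = t % 2 ∨ (ρ = 0 ∧ k = 1)) := by
          by_cases hpar : N % 2 = t % 2
          · by_cases hel : 0 < ρ ∨ Sgn σ i N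
            · exact ⟨0, by omega, by simpa using hel, Or.inl (by simpa using hpar)⟩
            · exact ⟨1, le_rfl, Or.inl (by omega), Or.inr ⟨Nat.eq_zero_of_not_pos fun h => hel (Or.inl h), rfl⟩⟩
          · exact ⟨1, le_rfl, Or.inl (by omega), Or.inl (by omega)⟩
        obtain ⟨e', A, h1, h2, h3⟩ := bound k (by omega) hkel
        have h3' : 2 * e' ≤ ρ + i * k := by rcases h3 with h3 | ⟨h3, -⟩ <;> omega
        have hik := hmulsub k (by omega)
        rw [avail, if_neg hodd] at h2
        rcases Nat.eq_zero_or_pos A with rfl | hA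
        · have : i * k ≤ i * 1 := Nat.mul_le_mul_left i hk1
          omega
        rcases hkpar with hp | ⟨hρ0, rfl⟩
        · have h4 : i * (t + 2 * A) ≤ i * (N - k) := Nat.mul_le_mul_left i (by omega)
          rw [mul_add, mul_left_comm] at h4
          omega
        · have h4 : i * (t + 2 * A) ≤ i * N := Nat.mul_le_mul_left i (by omega)
          rw [mul_add, mul_left_comm] at h4
          by_cases hN1 : t + 2 * (m / i) = N + 1
          · have h5 : i * (t + 2 * A) ≤ i * (N - 1) := Nat.mul_le_mul_left i (by omega)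
            rw [mul_add, mul_left_comm] at h5
            omega
          · have h5 : i * (N + 2) ≤ i * (t + 2 * (m / i)) := Nat.mul_le_mul_left i (by omega)
            rw [mul_add, mul_add, mul_left_comm] at h5
            omega
      refine ⟨hroom, ?_⟩
      by_cases hel : 0 < ρ ∨ Sgn σ i N
      · obtain ⟨e', A, h1, -, h3⟩ := bound 0 (by omega) (by simpa using hel)
        simp only [mul_zero, add_zero, Nat.sub_zero] at h3
        have hμ : m % i ≤ e' := by rw [← h1, Nat.add_mul_mod_self_left]; exact Nat.mod_le _ _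
        rcases h3 with h3 | ⟨h3, h4⟩
        · exact Or.inr (Or.inl (by omega))
        · exact Or.inr (Or.inr ⟨by omega, h4⟩)
      · push Not at hel
        have hρ0 : ρ = 0 := by omega
        refine Or.inl ⟨?_, hρ0, hel.2, ?_⟩
        · obtain ⟨e', A, h1, -, h3⟩ := bound 1 (by omega) (Or.inl (by omega))
          have hμ : m % i ≤ e' := by rw [← h1, Nat.add_mul_mod_self_left]; exact Nat.mod_le _ _
          rcases h3 with h3 | ⟨h3, -⟩ <;> omega
        · by_contra hge
          have heq : N = t + 2 * (m / i) := by omega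
          obtain ⟨e', A, h1, h2, h3⟩ := bound 2 (by omega) (Or.inl (by omega))
          rw [avail, if_neg hodd] at h2
          have hns : ¬ Sgn σ i (N - 2) := fun h => hel.2 ((sgn_congr (by rw [Nat.even_sub (by omega)]; simp)).1 h)
          have h4 : i * (A + 1) ≤ i * (m / i) := Nat.mul_le_mul_left i (by omega)
          rw [mul_add] at h4
          rcases h3 with h3 | ⟨-, h3⟩
          · omega
          · exact hns h3
  · rintro ⟨him, hcond⟩ e K hK he hel
    by_cases hodd : Odd i
    · have hc : unitDim i = 2 * i := unitDim_odd hodd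
      rw [hc] at he
      obtain ⟨-, hcond⟩ := hcond.resolve_right fun h => h.1 hodd
      rw [hc] at hcond
      rcases le_or_gt (m / i) K with hle | hlt
      · refine ⟨m % i, m / i, hM, by rw [avail, if_pos hodd]; exact hle, ?_⟩
        set N := 2 * d / (2 * i)
        have hN : (2 * d) % (2 * i) + 2 * i * N = 2 * d := Nat.mod_add_div _ _
        have hKN : K ≤ N := (Nat.le_div_iff_mul_le (by omega)).2 (by rw [mul_comm]; omega)
        rcases Nat.lt_or_eq_of_le hKN with hKN | rfl
        · have : 2 * i * (K + 1) ≤ 2 * i * N := Nat.mul_le_mul_left _ hKN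
          rw [Nat.mul_succ] at this
          exact Or.inl (by omega)
        · have heρ : e = (2 * d) % (2 * i) := by omega
          rw [sgn_odd hodd] at hel ⊢
          rcases hcond with h | ⟨h, hσ⟩ | ⟨h, hσ⟩
          · exact Or.inl (by omega)
          · rcases Nat.lt_or_eq_of_le h with h | h
            · exact Or.inl (by omega)
            · exact Or.inr ⟨by omega, hσ⟩
          · rcases hel with h' | h'
            · omega
            · exact absurd h' hσ
      · have : i * (K + 1) ≤ i * (m / i) := Nat.mul_le_mul_left i hlt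
        rw [Nat.mul_succ] at this
        refine ⟨m - i * K, K, by omega, by rw [avail, if_pos hodd], Or.inl ?_⟩
        rw [mul_assoc] at he
        omega
    · have hc : unitDim i = i := unitDim_even hodd
      rw [hc] at he
      obtain ⟨-, hroom, hcond⟩ := hcond.resolve_left fun h => hodd h.1
      set N := 2 * d / i with hNdef
      set ρ := (2 * d) % i with hρdef
      have hN : ρ + i * N = 2 * d := Nat.mod_add_div (2 * d) i
      have hρi : ρ < i := Nat.mod_lt _ hi
      have hKN : K ≤ N := (Nat.le_div_iff_mul_le hi).2 (by rw [mul_comm]; omega)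
      have hiKN : i * K ≤ i * N := Nat.mul_le_mul_left i hKN
      rcases le_or_gt (m / i) (avail i t K) with hle | hlt
      · refine ⟨m % i, m / i, hM, hle, ?_⟩
        rcases Nat.lt_or_eq_of_le hKN with hKN' | rfl
        · have h1 : i * (K + 1) ≤ i * N := Nat.mul_le_mul_left i hKN'
          rw [Nat.mul_succ] at h1
          rcases hcond with ⟨h, hρ, hns, -⟩ | h | ⟨h, -⟩
          · rcases Nat.lt_or_ge (2 * (m % i)) e with hlt' | hge
            · exact Or.inl hlt'
            · have hiK : i * (K + 1) = i * N := by rw [Nat.mul_succ]; omega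
              have hKeq : K + 1 = N := Nat.eq_of_mul_eq_mul_left hi hiK
              refine Or.inr ⟨by omega, ?_⟩
              by_contra hsK
              exact hns (hKeq ▸ (sgn_flip hodd).2 hsK)
          · exact Or.inl (by omega)
          · exact Or.inl (by omega)
        · have heρ : e = ρ := by omega
          rcases hcond with ⟨-, hρ, hns, -⟩ | h | ⟨h, hs⟩
          · rcases hel with h' | h'
            · omega
            · exact absurd h' hns
          · exact Or.inl (by omega)
          · rcases Nat.lt_or_eq_of_le h with h | h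
            · exact Or.inl (by omega)
            · exact Or.inr ⟨by omega, hs⟩
      · set A := avail i t K with hAdef
        have hKt : K ≤ t + 2 * A := le_avail_or hodd
        have h1 : i * K ≤ i * (t + 2 * A) := Nat.mul_le_mul_left i hKt
        have h2 : i * (A + 1) ≤ i * (m / i) := Nat.mul_le_mul_left i hlt
        rw [mul_add, mul_left_comm] at h1
        rw [Nat.mul_succ] at h2
        refine ⟨m - i * A, A, by omega, le_rfl, ?_⟩
        rcases Nat.lt_or_ge (2 * (m - i * A)) e with h | hge
        · exact Or.inl h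
        rcases hcond with ⟨h, hρ, hns, hstr⟩ | h | ⟨h, hs⟩
        · have h3 : i * (t + 2 * (m / i) + 1) ≤ i * N := Nat.mul_le_mul_left i hstr
          rw [mul_add, mul_add, mul_one, mul_left_comm] at h3
          have e1 : i * K = i * (t + 2 * A) := by rw [mul_add, mul_left_comm]; omega
          have e2 : i * (t + 2 * (m / i) + 1) = i * N := by rw [mul_add, mul_add, mul_one, mul_left_comm]; omega
          have hK' := Nat.eq_of_mul_eq_mul_left hi e1
          have hN' := Nat.eq_of_mul_eq_mul_left hi e2
          refine Or.inr ⟨by omega, ?_⟩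
          by_contra hsK
          refine hns ((sgn_congr (K := K + 1) (K' := N) ?_).1 ((sgn_flip hodd).2 hsK))
          rw [Nat.even_iff, Nat.even_iff]
          omega
        · have h3 : i * (t + 2 * (m / i)) ≤ i * N := Nat.mul_le_mul_left i hroom
          rw [mul_add, mul_left_comm] at h3
          omega
        · have h3 : i * (t + 2 * (m / i)) ≤ i * N := Nat.mul_le_mul_left i hroom
          rw [mul_add, mul_left_comm] at h3
          have e1 : i * K = i * (t + 2 * A) := by rw [mul_add, mul_left_comm]; omega
          have e2 : i * (t + 2 * (m / i)) = i * N := by rw [mul_add, mul_left_comm]; omega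
          have hK' := Nat.eq_of_mul_eq_mul_left hi e1
          have hN' := Nat.eq_of_mul_eq_mul_left hi e2
          refine Or.inr ⟨by omega, (sgn_congr (K := N) (K' := K) ?_).1 hs⟩
          rw [Nat.even_iff, Nat.even_iff]
          omega

end CfsgLib.Derange
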