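import Cfsg.Agent.Lib.Derange.SingSub
import Cfsg.Agent.Lib.Derange.SingCount
import Cfsg.Agent.Lib.Derange.SingEvenArith

/-!
Even-dimensional orthogonal groups on totally singular subspaces: elements of prime order different from the
characteristic.
-/

set_option autoImplicit false
set_option linter.style.haveILetI false

namespace CfsgLib.Derange

open Polynomial Module CfsgLib.Classical CfsgLib.Classical.OrthModels CfsgLib.Orth
open CfsgLib.Classical.OrthPrimeReal CfsgLib.Classical.OrthPrimeFactors CfsgLib.Classical.UnitaryTwistPoly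

universe u v w

variable {F : Type u} [Field F]

/-- The two types differ. -/
theorem not_plus_minus [Finite F] {V : Type v} [AddCommGroup V] [Module F V] {Qf : V → F} {k : ℕ} {a b : F}
    (hab : ∀ z₁ z₂ : F, z₁ ^ 2 + a * z₁ * z₂ + b * z₂ ^ 2 = 0 → z₁ = 0 ∧ z₂ = 0)
    (h : Iso Qf (Cfsg.quadFormPlus (k + 1) F)) (h' : Iso Qf (Cfsg.quadFormMinus k F a b)) : False := by
  classical
  obtain ⟨e, he⟩ := h.symm.trans h'
  obtain ⟨Qm, hQm, hBm⟩ := exists_quadForm_minus k hab
  let f : (Fin (k + 1) → F) →ₗ[F] (Fin (k + 1) ⊕ Fin (k + 1) → F) :=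
    (LinearEquiv.sumArrowLequivProdArrow _ _ F F).symm.toLinearMap ∘ₗ LinearMap.inl F _ _
  have hf : Function.Injective (e.toLinearMap ∘ₗ f) := fun x y hxy => funext fun j => by
    have := congrFun (e.injective hxy) (Sum.inl j)
    simpa [f, arrow_symm] using this
  refine minus_no_half k hab hQm hBm (LinearMap.range (e.toLinearMap ∘ₗ f)) ⟨?_, ?_⟩
  · rintro _ ⟨x, rfl⟩
    rw [hQm]
    show Cfsg.quadFormMinus k F a b (e (f x)) = 0
    rw [he]
    simp [f, Cfsg.quadFormPlus, arrow_symm]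
  · rw [LinearMap.finrank_range_of_inj hf]
    simp
    omega

/-- The sign of a power of `q` modulo `r`. -/
theorem pow_sign {q r i j : ℕ} [Fact r.Prime] (hr2 : r ≠ 2) (hi : i = orderOf (q : ZMod r)) (hi0 : 0 < i) :
    ((q : ZMod r) ^ j = 1 → unitDim i ∣ 2 * j ∧ PlusFree i (2 * j / unitDim i)) ∧
    ((q : ZMod r) ^ j = -1 → unitDim i ∣ 2 * j ∧ ¬ PlusFree i (2 * j / unitDim i)) := by
  haveI : Fact (2 < r) := ⟨lt_of_le_of_ne (Fact.out (p := r.Prime)).two_le (Ne.symm hr2)⟩
  refine ⟨fun h => ?_, fun h => ?_⟩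
  · obtain ⟨l, rfl⟩ : i ∣ j := hi ▸ orderOf_dvd_of_pow_eq_one h
    by_cases ho : Odd i
    · exact ⟨by rw [unitDim_odd ho, ← mul_assoc]; exact dvd_mul_right _ _, Or.inl ho⟩
    · rw [unitDim_even ho]
      refine ⟨⟨2 * l, by ring⟩, Or.inr ?_⟩
      rw [show 2 * (i * l) = i * (2 * l) by ring, Nat.mul_div_cancel_left _ hi0]
      exact even_two_mul l
  · have hne : ¬ i ∣ j := fun hd => ZMod.neg_one_ne_one (n := r)
      (h.symm.trans (orderOf_dvd_iff_pow_eq_one.1 (hi ▸ hd)))
    have h2 : i ∣ 2 * j := hi ▸ orderOf_dvd_of_pow_eq_one (by rw [mul_comm, pow_mul, h, neg_one_sq])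
    have ho : ¬ Odd i := fun ho => hne ((Nat.coprime_two_right.2 ho).dvd_of_dvd_mul_left h2)
    obtain ⟨l, hl⟩ := h2
    rw [unitDim_even ho, hl, Nat.mul_div_cancel_left _ hi0]
    refine ⟨dvd_mul_right _ _, ?_⟩
    rintro (h' | ⟨w, rfl⟩)
    · exact ho h'
    · exact hne ⟨w, by linarith⟩

variable [Fintype F] {p : ℕ} [hp : Fact p.Prime] [CharP F p] {ι : Type} [Fintype ι] [DecidableEq ι]
  {Q : QuadraticForm F (ι → F)}

omit hp [CharP F p] in
/-- A split piece leaves a complement of the same type. -/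
theorem iso_plus_complement {d m : ℕ} (hmd : m < d) (a b : F)
    (hab : ∀ z₁ z₂ : F, z₁ ^ 2 + a * z₁ * z₂ + b * z₂ ^ 2 = 0 → z₁ = 0 ∧ z₂ = 0) (hB : Nondeg Q)
    (hd : finrank F (ι → F) = 2 * d) {R : Type v} [AddCommGroup R] [Module F R] {QR : R → F}
    (h : Iso (add (Cfsg.quadFormPlus m F) QR) (⇑Q))
    (hR : Iso QR (Cfsg.quadFormPlus (d - m) F) ∨ Iso QR (Cfsg.quadFormMinus (d - m - 1) F a b)) :
    Iso QR (Cfsg.quadFormPlus (d - m) F) ↔ Iso (⇑Q) (Cfsg.quadFormPlus d F) := by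
  constructor
  · intro hR'
    have := h.symm.trans (((Iso.refl _).sum hR').trans (plus_plus m (d - m)))
    rwa [show m + (d - m) = d by omega] at this
  · intro hQ
    refine hR.resolve_right fun hR' => ?_
    have := h.symm.trans (((Iso.refl _).sum hR').trans (plus_minus m (d - m - 1) a b))
    refine not_plus_minus hab ?_ this
    rwa [show m + (d - m - 1) + 1 = d by omega]

omit [Fintype F] hp [CharP F p] in
/-- A space is the sum of a non-degenerate subspace and its orthogonal. -/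
theorem iso_split (hB : Nondeg Q) {U : Submodule F (ι → F)} (hU : NondegOn Q U) :
    Iso (add (⇑(qOn Q U)) (⇑(qOn Q (orth Q U)))) (⇑Q) :=
  ⟨Submodule.prodEquivOfIsCompl U (orth Q U) ⟨Submodule.disjoint_def.2 fun y hy hy' => nondeg_inf hU hy hy',
    codisjoint_iff.2 (sup_orth_eq_top hB hU)⟩, fun z => by
    show Q ((z.1 : ι → F) + (z.2 : ι → F)) = _
    rw [q_add, mem_orth.1 z.2.2 _ z.1.2, add_zero]; rfl⟩

omit [Fintype F] hp [CharP F p] in
/-- An element with scalar `r`th power, up to sign, has `r`th power one. -/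
theorem exists_normal_odd (hB : Nondeg Q) (hn : 1 ≤ finrank F (ι → F)) {r : ℕ} (hr : Odd r) (g : Grp Q) {z : F}
    (hz : (((g : GL ι F) ^ r : GL ι F) : Matrix ι ι F) = z • (1 : Matrix ι ι F))
    (hxs : ∀ z : F, ((g : GL ι F) : Matrix ι ι F) ≠ z • (1 : Matrix ι ι F)) :
    ∃ h : Grp Q, h ^ r = 1 ∧ h ≠ 1 ∧ ∀ W : Submodule F (ι → F), (∀ w ∈ W, ap h w ∈ W) →
      ∀ w ∈ W, ap g w ∈ W := by
  obtain ⟨v, hv⟩ := exists_aniso hB hn
  have hapz : ∀ w, ap (g ^ r) w = z • w := fun w => by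
    rw [ap, SubmonoidClass.coe_pow, hz, Matrix.smul_mulVec, Matrix.one_mulVec]
  have hzz : z * z = 1 := by
    have h1 := ap_q (g ^ r) v
    rw [hapz, q_smul] at h1
    exact mul_right_cancel₀ hv (h1.trans (one_mul _).symm)
  rcases mul_self_eq_one_iff.1 hzz with rfl | rfl
  · exact ⟨g, ext_ap fun w => by rw [hapz, one_smul, ap_one], fun h => hxs 1 (by rw [h, one_smul]; rfl),
      fun W hW => hW⟩
  · let n : Grp Q := ⟨-1, fun u _ => by
      show Q (((-1 : GL ι F) : Matrix ι ι F).mulVec u) = Q u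
      rw [Units.val_neg, Units.val_one, Matrix.neg_mulVec, Matrix.one_mulVec, ← neg_one_smul F u, q_smul]
      ring⟩
    have hn : ∀ w, ap n w = -w := fun w => by
      show ((-1 : GL ι F) : Matrix ι ι F).mulVec w = -w
      rw [Units.val_neg, Units.val_one, Matrix.neg_mulVec, Matrix.one_mulVec]
    have hcomm : Commute n g := ext_ap fun w => by
      rw [ap_mul, ap_mul, hn, hn, ← neg_one_smul F w, ap_smul, neg_one_smul]
    have hnn : n * n = 1 := ext_ap fun w => by rw [ap_mul, hn, hn, neg_neg, ap_one]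
    have hnr : n ^ r = n := by
      obtain ⟨l, rfl⟩ := hr
      rw [pow_succ, pow_mul, pow_two, hnn, one_pow, one_mul]
    refine ⟨n * g, ext_ap fun w => ?_, fun h => hxs (-1) ?_, fun W hW w hw => ?_⟩
    · rw [hcomm.mul_pow, hnr, ap_mul, hapz, hn, neg_one_smul, neg_neg, ap_one]
    · refine Matrix.ext_iff_mulVec.mpr fun w => ?_
      rw [neg_one_smul, Matrix.neg_mulVec, Matrix.one_mulVec]
      have h1 := congrArg (fun u => -ap u w) h
      simp only [ap_mul, hn, neg_neg, ap_one] at h1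
      exact h1
    · have h1 := W.neg_mem (hW w hw)
      rwa [ap_mul, hn, neg_neg] at h1

include hp in
/-- The criterion. -/
theorem even_singular_iff {q r i t : ℕ} {D : Finset F[X]} (X : Ctx F p q r i t D) (hB : Nondeg Q) {d m : ℕ}
    (hd : 3 ≤ d) (hcard : Fintype.card ι = 2 * d) (hmd : m < d) {σ : Prop}
    (hσ : σ ↔ Iso (⇑Q) (Cfsg.quadFormPlus d F)) :
    (∀ x : GL ι F, x ∈ Cfsg.Geo.omegaGL ⇑Q →
      (∃ z : F, ((x ^ r : GL ι F) : Matrix ι ι F) = z • (1 : Matrix ι ι F)) →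
      (∀ z : F, (x : Matrix ι ι F) ≠ z • (1 : Matrix ι ι F)) →
      ∃ W : Submodule F (ι → F), finrank F ↥W = m ∧ (∀ w ∈ W, Q w = 0) ∧
        W.map (Matrix.toLin' (x : Matrix ι ι F)) ≤ W) ↔
    (∀ e K, 0 < K → e + unitDim i * K = 2 * d → (0 < e ∨ Sgn σ i K) → Room σ i t m e K) := by
  classical
  obtain ⟨a, b, hab⟩ := RestrictScalars.exists_ab (F := F)
  have hpi : finrank F (ι → F) = 2 * d := by rw [Module.finrank_pi, hcard]
  constructor
  · intro H e K hK he hsgn
    obtain ⟨f, hf, hworst⟩ := exists_worst X.facts X.t_pos e K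
    have hreal : Real r (⇑Q) f := (real_even_iff X Q (bilin_nondeg hB) hpi f).mpr
      ⟨e, K, hf, he, hsgn.imp_right fun h => hσ.symm.trans h⟩
    obtain ⟨x, hxΩ, hx, hxc, -, hxs⟩ := exists_element hB (by omega) X hK hf hreal
    obtain ⟨W, hWd, hW, hWx⟩ := H x hxΩ ⟨1, by rw [← SubmonoidClass.coe_pow, hx, one_smul]; rfl⟩ hxs
    obtain ⟨h, g, U, hm, hdeg, hUn, hUd, hUp, hg, hcp⟩ :=
      exists_pair_of_singular (p := p) hB X.prime X.ne_char x hx hW fun w hw =>
        hWx ⟨w, hw, Matrix.toLin'_apply _ _⟩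
    rw [hxc] at hcp
    obtain ⟨e', A, hh⟩ := exists_half_of_factors (D := D) hm fun P hPi hPm hPd =>
      (hf.isT).2.2.2 P hPi hPm (hcp ▸ dvd_mul_of_dvd_left (dvd_mul_of_dvd_left hPd _) _)
    have hdeg' := (hh.facts X.facts).2.1
    have horth : finrank F (orth Q U) = 2 * (d - m) := by
      have := finrank_orth hB U
      omega
    have hn : NondegOn Q (orth Q U) := nondegOn_orth hB hUn
    obtain ⟨e₂, K₂, hgs, -, hs⟩ := (real_even_iff X _ (qOn_nondeg hn) horth g).mp hg
    have hty : Iso (⇑(qOn Q (orth Q U))) (Cfsg.quadFormPlus (d - m) F) ↔ σ := by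
      rw [hσ]
      refine iso_plus_complement hmd a b hab hB hpi
        (((((isPlusTypeOn_iff hUn (k := m) (by omega)).mp hUp).symm).sum (Iso.refl _)).trans (iso_split hB hUn)) ?_
      refine (classify_even _ (qOn_nondeg hn) horth a b hab).imp_right ?_
      rintro ⟨j, hj, h'⟩
      rwa [hj, Nat.add_sub_cancel]
    obtain ⟨he2, hK2⟩ := hf.unique X.facts (hcp ▸ (hh.facts X.facts).2.2.2.2.mul hgs)
    refine ⟨e', A, by omega, hworst h g e' A e₂ K₂ hcp hh hgs, ?_⟩
    rcases Nat.eq_zero_or_pos e₂ with he0 | he0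
    · refine Or.inr ⟨by omega, ?_⟩
      have h1 : Sgn σ i K₂ := hty.symm.trans (hs.resolve_left (by omega))
      have h3 : K - pairUnits i * A = K₂ := by omega
      rw [← h3, sgn_sub_pairs (by omega)] at h1
      exact h1
    · exact Or.inl (by omega)
  · rintro H x hxΩ ⟨z, hz⟩ hxs
    obtain ⟨g₀, -, rfl⟩ := hxΩ
    obtain ⟨g, hg, hne, hinv⟩ := exists_normal_odd hB (by omega) (X.prime.odd_of_ne_two X.ne_two) g₀ hz hxs
    obtain ⟨e, K, hs, hsum, hsgn⟩ := (real_even_iff X Q (bilin_nondeg hB) hpi (cp g)).mp (real_of_grp g hg)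
    obtain ⟨e', A, hm, hA, he'⟩ := H e K (units_pos hB X hg hne hs) hsum (hsgn.imp_right fun h => hσ.trans h)
    have he2 : 2 * e' ≤ e := by rcases he' with h | ⟨h, -⟩ <;> omega
    obtain ⟨h, f₂, hf, hh, hs₂⟩ := hs.exists_pair X.facts he2 hA
    obtain ⟨hhm, hhd, hh0, hhP, hhs⟩ := hh.facts X.facts
    have hAK : pairUnits i * A ≤ K := by
      unfold avail at hA
      unfold pairUnits
      split_ifs at hA ⊢ with ho <;> have := X.t_pos <;> omega
    have hdeg : e - 2 * e' + unitDim i * (K - pairUnits i * A) = 2 * (d - m) := by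
      have h1 := hs₂.natDegree
      have h3 := congrArg natDegree hf
      rw [hs.natDegree, (hhs.isT).1.natDegree_mul (hs₂.isT).1, hhs.natDegree, hs₂.natDegree,
        unitDim_mul_pairUnits] at h3
      omega
    have hsgn₂ : 0 < e - 2 * e' ∨ Sgn σ i (K - pairUnits i * A) := by
      rcases he' with h | ⟨-, h⟩
      · exact Or.inl (by omega)
      · exact Or.inr ((sgn_sub_pairs hAK).2 h)
    obtain ⟨W, hWd, hW, hWx⟩ : ∃ W : Submodule F (ι → F), finrank F W = m ∧ (∀ w ∈ W, Q w = 0) ∧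
        W.map (Matrix.toLin' ((g : GL ι F) : Matrix ι ι F)) ≤ W := by
      by_cases hs' : σ
      · have hR : Real r (Cfsg.quadFormPlus (d - m) F) f₂ :=
          (real_plus_iff X (d - m) f₂).mpr ⟨_, _, hs₂, hdeg, hsgn₂.imp_right fun h => h.1 hs'⟩
        refine exists_singular_invariant (p := p) hB X.prime X.ne_two X.ne_char g hg hhm (hhd.trans hm) hh0 hhP
          (by simp [Cfsg.quadFormPlus]) hR ?_ hf
        refine (plus_plus m (d - m)).trans ?_
        rw [show m + (d - m) = d by omega]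
        exact (hσ.1 hs').symm
      · obtain ⟨j, hj, hm'⟩ := (classify_even Q (bilin_nondeg hB) hpi a b hab).resolve_left fun h => hs' (hσ.2 h)
        have hR : Real r (Cfsg.quadFormMinus (d - m - 1) F a b) f₂ :=
          (real_minus_iff X (d - m - 1) a b hab f₂).mpr ⟨_, _, hs₂, by omega,
            hsgn₂.imp_right fun h h' => hs' (h.2 h')⟩
        refine exists_singular_invariant (p := p) hB X.prime X.ne_two X.ne_char g hg hhm (hhd.trans hm) hh0 hhP
          (by simp [Cfsg.quadFormMinus]) hR ?_ hf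
        refine (plus_minus m (d - m - 1) a b).trans ?_
        rw [show m + (d - m - 1) = j by omega]
        exact hm'.symm
    refine ⟨W, hWd, hW, ?_⟩
    rintro _ ⟨w, hw, rfl⟩
    exact hinv W (fun w hw => hWx (Submodule.mem_map_of_mem hw)) w hw

end CfsgLib.Derange
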