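import Cfsg.Agent.Lib.Classical.OrthModels
import Cfsg.Agent.Lib.Classical.OrthOrderStd
import Cfsg.Agent.Lib.Classical.OrthSpinor
import Cfsg.Agent.Lib.Classical.OrthForms
import Cfsg.Agent.Lib.Derange.SingEven
import Mathlib.Algebra.QuadraticAlgebra.Basic

/-!
Self-adjoint square roots of a non-square in a quadratic space: the space over the quadratic extension,
its quadratic form, and the classification of these roots.
-/

set_option autoImplicit false
set_option linter.unusedSectionVars false
set_option linter.style.haveILetI false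
set_option maxHeartbeats 800000

namespace CfsgLib.Derange.OExt

open Module CfsgLib.Orth CfsgLib.Classical CfsgLib.Classical.OrthModels
open scoped QuadraticAlgebra

universe u v

variable {F : Type u} [Field F] {ν : F}

/-- The quadratic extension by a root of `ν`. -/
abbrev Ext (ν : F) : Type u := QuadraticAlgebra F ν 0

instance fact_root [hν : Fact (¬ IsSquare ν)] : Fact (∀ c : F, c ^ 2 ≠ ν + 0 * c) :=
  ⟨fun c h => hν.out ⟨c, by rw [← sq, h]; ring⟩⟩

variable [Fact (¬ IsSquare ν)]

instance [Finite F] : Finite (Ext ν) := Finite.of_equiv _ (QuadraticAlgebra.equivProd ν 0).symm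

theorem card_ext [Finite F] : Nat.card (Ext ν) = Nat.card F ^ 2 := by
  rw [Nat.card_congr (QuadraticAlgebra.equivProd ν 0), Nat.card_prod, sq]

theorem two_ext (h2 : (2 : F) ≠ 0) : (2 : Ext ν) ≠ 0 := fun h => h2 (by
  have := congrArg QuadraticAlgebra.re h
  simpa [← one_add_one_eq_two] using this)

/-- The scalars of the base are squares in the extension. -/
theorem isSquare_base [Finite F] (c : F) : IsSquare (⟨c, 0⟩ : Ext ν) := by
  have hν := (Fact.out : ¬ IsSquare ν)
  by_cases hc : IsSquare c
  · obtain ⟨s, rfl⟩ := hc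
    exact ⟨⟨s, 0⟩, by ext <;> simp⟩
  · have hν0 : ν ≠ 0 := fun h => hν (h ▸ IsSquare.zero)
    obtain ⟨s, hs⟩ : IsSquare (ν * c) := (CfsgLib.Orth.isSquare_mul_iff hν0).2 (Or.inr (iff_of_false hν hc))
    exact ⟨⟨0, s / ν⟩, by
      ext
      · simp; field_simp; linear_combination hs
      · simp⟩

theorem isSquare_neg_one [Finite F] : IsSquare (-1 : Ext ν) := by
  have := isSquare_base (ν := ν) (-1)
  convert this using 1
  ext <;> simp

/-- The binary form of a line. -/
def line (l : Ext ν) (z : Ext ν) : Ext ν := l * z * z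

/-- The imaginary part of a form over the extension. -/
def imf {M : Type v} (R : M → Ext ν) (x : M) : F := (R x).im

theorem imf_iso {M : Type v} {N : Type*} [AddCommGroup M] [Module F M] [Module (Ext ν) M] [IsScalarTower F (Ext ν) M]
    [AddCommGroup N] [Module F N] [Module (Ext ν) N] [IsScalarTower F (Ext ν) N]
    {R : M → Ext ν} {R' : N → Ext ν} (h : Iso R R') : Iso (imf R) (imf R') := by
  obtain ⟨e, he⟩ := h
  exact ⟨e.restrictScalars F, fun x => congrArg QuadraticAlgebra.im (he x)⟩

theorem imf_add {M : Type v} {N : Type*} (R : M → Ext ν) (R' : N → Ext ν) :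
    imf (add R R') = add (imf R) (imf R') := funext fun x => QuadraticAlgebra.im_add _ _

/-- The split space over the extension. -/
theorem imf_plus (k : ℕ) : Iso (imf (Cfsg.quadFormPlus k (Ext ν))) (Cfsg.quadFormPlus (k + k) F) := by
  refine Iso.trans (Q' := add (Cfsg.quadFormPlus k F) (Cfsg.quadFormPlus k F)) ⟨?_, fun v => ?_⟩ (plus_plus k k)
  · exact
      { toFun := fun v => (Sum.elim (fun i => (v (.inl i)).re) (fun i => (v (.inr i)).im),
          Sum.elim (fun i => (v (.inl i)).im) (fun i => (v (.inr i)).re))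
        invFun := fun w => Sum.elim (fun i => ⟨w.1 (.inl i), w.2 (.inl i)⟩) (fun i => ⟨w.2 (.inr i), w.1 (.inr i)⟩)
        left_inv := fun v => funext fun i => by rcases i with i | i <;> rfl
        right_inv := fun w => Prod.ext (funext fun i => by rcases i with i | i <;> rfl)
          (funext fun i => by rcases i with i | i <;> rfl)
        map_add' := fun v w => Prod.ext (funext fun i => by rcases i with i | i <;> simp)
          (funext fun i => by rcases i with i | i <;> simp)
        map_smul' := fun c v => Prod.ext (funext fun i => by rcases i with i | i <;> simp)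
          (funext fun i => by rcases i with i | i <;> simp) }
  · simp only [add, imf, Cfsg.quadFormPlus, LinearEquiv.coe_mk, Sum.elim_inl, Sum.elim_inr]
    rw [← Finset.sum_add_distrib]
    have : ∀ f : Fin k → Ext ν, (∑ i, f i).im = ∑ i, (f i).im := fun f =>
      map_sum (AddMonoidHom.mk' (fun z : Ext ν => z.im) QuadraticAlgebra.im_add) f Finset.univ
    rw [this]
    exact Finset.sum_congr rfl fun i _ => by simp

theorem imf_line_square (h2 : (2 : F) ≠ 0) {l : Ext ν} (hl0 : l ≠ 0) (hl : IsSquare l) :
    Iso (imf (line l)) (Cfsg.quadFormPlus 1 F) := by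
  obtain ⟨s, rfl⟩ := hl
  have hs : s ≠ 0 := fun h => hl0 (by rw [h, mul_zero])
  let e : Ext ν ≃ₗ[F] (Fin 1 ⊕ Fin 1 → F) :=
    ((LinearEquiv.smulOfNeZero (Ext ν) (Ext ν) s hs).restrictScalars F).trans
      { toFun := fun z => Sum.elim (fun _ => 2 * z.re) (fun _ => z.im)
        invFun := fun w => ⟨w (.inl 0) / 2, w (.inr 0)⟩
        left_inv := fun z => by ext <;> simp [h2]
        right_inv := fun w => funext fun i => by
          rcases i with i | i <;> simp [Subsingleton.elim i 0] <;> field_simp
        map_add' := fun z w => funext fun i => by rcases i with i | i <;> simp [mul_add]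
        map_smul' := fun c z => funext fun i => by rcases i with i | i <;> simp [mul_left_comm] }
  refine ⟨e, fun z => ?_⟩
  simp only [e, Cfsg.quadFormPlus, LinearEquiv.trans_apply, LinearEquiv.restrictScalars_apply, LinearEquiv.coe_mk,
    LinearEquiv.smulOfNeZero_apply, Fin.sum_univ_one, Sum.elim_inl, Sum.elim_inr, imf, line, smul_eq_mul]
  simp
  ring

/-- The imaginary part. -/
def imLin : Ext ν →ₗ[F] F where
  toFun z := z.im
  map_add' := QuadraticAlgebra.im_add
  map_smul' c z := by simp

/-- The quadratic form of a line over the base. -/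
noncomputable def lineForm (l : Ext ν) : QuadraticForm F (Ext ν) :=
  LinearMap.compQuadraticMap imLin ((l • QuadraticMap.sq (R := Ext ν)).restrictScalars (S := F))

theorem lineForm_apply (l z : Ext ν) : lineForm l z = imf (line l) z := by
  simp [lineForm, imLin, imf, line, mul_assoc]

theorem imf_line_nonsquare [Finite F] (h2 : (2 : F) ≠ 0) {l : Ext ν} (hl : ¬ IsSquare l) (a b : F)
    (hab : ∀ z₁ z₂ : F, z₁ ^ 2 + a * z₁ * z₂ + b * z₂ ^ 2 = 0 → z₁ = 0 ∧ z₂ = 0) :
    Iso (imf (line l)) (bin a b) := by
  have haniso : ∀ z, lineForm l z = 0 → z = 0 := by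
    intro z hz
    rw [lineForm_apply, imf, line, mul_assoc] at hz
    by_contra hz0
    obtain ⟨s, hs⟩ := isSquare_base (ν := ν) (l * (z * z)).re
    refine hl ⟨s * z⁻¹, ?_⟩
    have e : l * (z * z) = s * s := by rw [← hs]; exact QuadraticAlgebra.ext rfl hz
    field_simp
    linear_combination e
  have hnd : (QuadraticMap.polarBilin (lineForm l)).Nondegenerate := by
    refine (LinearMap.IsRefl.nondegenerate_iff_separatingLeft
      (fun x y h => by rwa [QuadraticMap.polarBilin_apply_apply, QuadraticMap.polar_comm] at h)).2 fun z hz => ?_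
    refine haniso z ?_
    have := hz z
    rw [QuadraticMap.polarBilin_apply_apply, QuadraticMap.polar_self, nsmul_eq_mul] at this
    exact (mul_eq_zero.1 this).resolve_left (by exact_mod_cast h2)
  have hlf : ⇑(lineForm l) = imf (line l) := funext (lineForm_apply l)
  cases nonempty_fintype F
  rcases classify_even (lineForm l) hnd (k := 1) (QuadraticAlgebra.finrank_eq_two ν 0) a b hab with h | ⟨j, hj, h⟩
  · obtain ⟨e, he⟩ := h
    exfalso
    let w : Fin 1 ⊕ Fin 1 → F := Sum.elim 1 0
    have h0 := haniso (e.symm w) (by rw [← he, e.apply_symm_apply]; simp [w, Cfsg.quadFormPlus])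
    have := congrFun (e.symm.injective (h0.trans (map_zero e.symm).symm)) (Sum.inl 0)
    simp [w] at this
  · obtain rfl : j = 0 := by omega
    rw [← hlf]
    refine h.trans ((minus_def 0 a b).symm.trans ⟨{
      toFun := fun x => x.2, invFun := fun z => (0, z),
      left_inv := fun x => Prod.ext (funext fun i => i.elim (fun i => i.elim0) fun i => i.elim0) rfl,
      right_inv := fun z => rfl, map_add' := fun x y => rfl, map_smul' := fun c x => rfl }, fun x => ?_⟩)
    simp [add, Cfsg.quadFormPlus]

/-- A scalar multiple of a split space is split. -/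
theorem plus_scale {M : Type*} [Field M] (k : ℕ) {l : M} (hl : l ≠ 0) :
    Iso (fun v => l * Cfsg.quadFormPlus k M v) (Cfsg.quadFormPlus k M) := by
  refine ⟨{ toFun := fun v => Sum.elim (fun i => l * v (.inl i)) (fun i => v (.inr i))
            invFun := fun v => Sum.elim (fun i => l⁻¹ * v (.inl i)) (fun i => v (.inr i))
            left_inv := fun v => funext fun i => by rcases i with i | i <;> simp [hl]
            right_inv := fun v => funext fun i => by rcases i with i | i <;> simp [hl]
            map_add' := fun v w => funext fun i => by rcases i with i | i <;> simp [mul_add]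
            map_smul' := fun c v => funext fun i => by rcases i with i | i <;> simp [mul_left_comm] }, fun v => ?_⟩
  simp [Cfsg.quadFormPlus, Finset.mul_sum, mul_assoc]

theorem odd_split {M : Type*} [Field M] (k : ℕ) {l : M} (hl : l ≠ 0) :
    Iso (fun v => l * Cfsg.quadFormOdd k M v) (add (Cfsg.quadFormPlus k M) (fun z : M => l * z * z)) := by
  obtain ⟨e, he⟩ := plus_scale k hl
  let f : (Unit ⊕ (Fin k ⊕ Fin k) → M) ≃ₗ[M] ((Fin k ⊕ Fin k → M) × M) :=
    { toFun := fun v => (fun i => v (.inr i), v (.inl ()))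
      invFun := fun w => Sum.elim (fun _ => w.2) w.1
      left_inv := fun v => funext fun i => by rcases i with i | i <;> rfl
      right_inv := fun w => rfl
      map_add' := fun v w => rfl
      map_smul' := fun c v => rfl }
  refine ⟨f.trans (e.prodCongr (LinearEquiv.refl M M)), fun v => ?_⟩
  show Cfsg.quadFormPlus k M (e fun i => v (.inr i)) + l * v (.inl ()) * v (.inl ()) = _
  rw [he]
  simp [Cfsg.quadFormOdd, Cfsg.quadFormPlus]
  ring

theorem minus_split {M : Type*} [Field M] (j : ℕ) (η : M) :
    Iso (Cfsg.quadFormMinus j M 0 (-η))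
      (add (Cfsg.quadFormPlus j M) (add (fun z : M => 1 * z * z) (fun z : M => -η * z * z))) := by
  refine ⟨{ toFun := fun v => (fun i => v (.inl i), v (.inr 0), v (.inr 1))
            invFun := fun w => Sum.elim w.1 ![w.2.1, w.2.2]
            left_inv := fun v => funext fun i => by
              rcases i with i | i
              · rfl
              · fin_cases i <;> rfl
            right_inv := fun w => rfl
            map_add' := fun v w => rfl
            map_smul' := fun c v => rfl }, fun v => ?_⟩
  show Cfsg.quadFormPlus j M (fun i => v (.inl i)) +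
    (1 * v (.inr 0) * v (.inr 0) + -η * v (.inr 1) * v (.inr 1)) = _
  simp [Cfsg.quadFormMinus, Cfsg.quadFormPlus]
  ring

/-! ### The space over the extension -/

variable {ι : Type} [Fintype ι] [DecidableEq ι] {Q : QuadraticForm F (ι → F)}

local notation "B" => QuadraticMap.polar (DFunLike.coe Q)

/-- A self-adjoint root of `ν`. -/
structure SA (Q : QuadraticForm F (ι → F)) (ν : F) (J : End F (ι → F)) : Prop where
  adj : ∀ x y, QuadraticMap.polar ⇑Q (J x) y = QuadraticMap.polar ⇑Q x (J y)
  sq : ∀ x, J (J x) = ν • x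

variable {J : End F (ι → F)}

/-- The space as a space over the extension. -/
def KV (_ : SA Q ν J) : Type u := ι → F

variable (hJ : SA Q ν J)

instance : AddCommGroup (KV hJ) := inferInstanceAs (AddCommGroup (ι → F))
instance instModF : Module F (KV hJ) := inferInstanceAs (Module F (ι → F))
instance : Module.Finite F (KV hJ) := inferInstanceAs (Module.Finite F (ι → F))

/-- The action of the extension. -/
noncomputable def act : Ext ν →ₐ[F] End F (KV hJ) :=
  QuadraticAlgebra.lift ⟨(show End F (KV hJ) from J), LinearMap.ext fun x => by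
    show J (J x) = (ν • (1 : End F (KV hJ)) + (0 : F) • (show End F (KV hJ) from J)) x
    rw [zero_smul, add_zero]
    exact hJ.sq x⟩

noncomputable instance instModE : Module (Ext ν) (KV hJ) := Module.compHom (KV hJ) (act hJ).toRingHom

/-- Vectors as elements of the space over the extension. -/
def toK (x : ι → F) : KV hJ := x

/-- Elements of the space over the extension as vectors. -/
def ofK (x : KV hJ) : ι → F := x

theorem smul_def (z : Ext ν) (x : KV hJ) : ofK hJ (z • x) = z.re • ofK hJ x + z.im • J (ofK hJ x) := rfl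

instance : IsScalarTower F (Ext ν) (KV hJ) :=
  ⟨fun c z x => by
    show ofK hJ ((c • z) • x) = c • ofK hJ (z • x)
    rw [smul_def, smul_def]
    simp [mul_smul]⟩

instance : Module.Finite (Ext ν) (KV hJ) := Module.Finite.of_restrictScalars_finite F (Ext ν) (KV hJ)

theorem finrank_KV : 2 * finrank (Ext ν) (KV hJ) = Fintype.card ι := by
  have h := Module.finrank_mul_finrank F (Ext ν) (KV hJ)
  rw [QuadraticAlgebra.finrank_eq_two] at h
  rw [h]
  exact Module.finrank_pi F

/-- The bilinear form over the extension. -/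
noncomputable def bh : LinearMap.BilinForm (Ext ν) (KV hJ) :=
  LinearMap.mk₂ (Ext ν) (fun x y => ⟨B (J (ofK hJ x)) (ofK hJ y) / 2, B (ofK hJ x) (ofK hJ y) / 2⟩)
    (fun x y z => by
      show _ = (⟨_, _⟩ : Ext ν) + ⟨_, _⟩
      rw [show ofK hJ (x + y) = ofK hJ x + ofK hJ y from rfl, map_add]
      ext <;> simp [b_add_left, add_div])
    (fun c x y => by
      rw [smul_eq_mul, smul_def, map_add, map_smul, map_smul, hJ.sq]
      ext <;> simp [b_add_left, b_smul_left] <;> ring)
    (fun x y z => by
      show _ = (⟨_, _⟩ : Ext ν) + ⟨_, _⟩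
      rw [show ofK hJ (y + z) = ofK hJ y + ofK hJ z from rfl]
      ext <;> simp [b_add_right, add_div])
    (fun c x y => by
      rw [smul_eq_mul, smul_def]
      ext <;> simp [b_add_right, b_smul_right, ← hJ.adj, hJ.sq, b_smul_left] <;> ring)

/-- The quadratic form over the extension. -/
noncomputable def QL : QuadraticForm (Ext ν) (KV hJ) := (bh hJ).toQuadraticMap

theorem QL_apply (x : KV hJ) : QL hJ x = ⟨B (J (ofK hJ x)) (ofK hJ x) / 2, B (ofK hJ x) (ofK hJ x) / 2⟩ := rfl

theorem imf_QL (h2 : (2 : F) ≠ 0) : imf (⇑(QL hJ)) = fun x => Q (ofK hJ x) := funext fun x => by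
  show B (ofK hJ x) (ofK hJ x) / 2 = _
  rw [b_self, mul_div_cancel_left₀ _ h2]

theorem q_iso (h2 : (2 : F) ≠ 0) : Iso (⇑Q) (imf (⇑(QL hJ))) :=
  ⟨LinearEquiv.refl F (KV hJ), fun x => congrFun (imf_QL hJ h2) x⟩

theorem QL_nondeg (h2 : (2 : F) ≠ 0) (hB : Nondeg Q) : (QuadraticMap.polarBilin (QL hJ)).Nondegenerate := by
  refine (LinearMap.IsRefl.nondegenerate_iff_separatingLeft
    (fun x y h => by rwa [QuadraticMap.polarBilin_apply_apply, QuadraticMap.polar_comm] at h)).2 fun x hx => ?_
  refine hB (ofK hJ x) fun y => ?_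
  have := hx (toK hJ y)
  rw [QL, QuadraticMap.polarBilin_apply_apply, LinearMap.BilinMap.polar_toQuadraticMap] at this
  have h := congrArg QuadraticAlgebra.im this
  have hc : B y (ofK hJ x) = B (ofK hJ x) y := b_comm _ _
  change B (ofK hJ x) y / 2 + B y (ofK hJ x) / 2 = 0 at h
  rw [hc, ← two_mul] at h
  field_simp at h
  exact h

variable [Finite F]

/-- The split space over the extension gives the split space. -/
theorem plus_of_plus (h2 : (2 : F) ≠ 0) {k : ℕ} (h : Iso (⇑(QL hJ)) (Cfsg.quadFormPlus k (Ext ν))) :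
    Iso (⇑Q) (Cfsg.quadFormPlus (k + k) F) :=
  (q_iso hJ h2).trans ((imf_iso h).trans (imf_plus k))

theorem minus_of_minus (h2 : (2 : F) ≠ 0) {j : ℕ} {η : Ext ν} (hη : ¬ IsSquare η) {a b : F}
    (hab : ∀ z₁ z₂ : F, z₁ ^ 2 + a * z₁ * z₂ + b * z₂ ^ 2 = 0 → z₁ = 0 ∧ z₂ = 0)
    (h : Iso (⇑(QL hJ)) (Cfsg.quadFormMinus j (Ext ν) 0 (-η))) :
    Iso (⇑Q) (Cfsg.quadFormMinus (j + j + 1) F a b) := by
  have hη' : ¬ IsSquare (-η) := fun hs => hη (by
    have := (isSquare_neg_one (ν := ν)).mul hs
    simpa using this)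
  refine (q_iso hJ h2).trans ((imf_iso (h.trans (minus_split j η))).trans ?_)
  rw [imf_add, imf_add]
  refine Iso.trans ((imf_plus j).sum ((imf_line_square h2 (l := (1 : Ext ν)) one_ne_zero ⟨1, (mul_one 1).symm⟩).sum
    (imf_line_nonsquare h2 hη' a b hab))) ?_
  exact (Iso.sum_assoc _ _ _).symm.trans (((plus_plus (j + j) 1).sum (Iso.refl _)).trans (minus_def _ a b))

theorem plus_of_odd (h2 : (2 : F) ≠ 0) {k : ℕ} {l : Ext ν} (hl0 : l ≠ 0) (hl : IsSquare l)
    (h : Iso (⇑(QL hJ)) (fun v => l * Cfsg.quadFormOdd k (Ext ν) v)) :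
    Iso (⇑Q) (Cfsg.quadFormPlus (k + k + 1) F) := by
  refine (q_iso hJ h2).trans ((imf_iso (h.trans (odd_split k hl0))).trans ?_)
  rw [imf_add]
  exact ((imf_plus k).sum (imf_line_square h2 hl0 hl)).trans (plus_plus _ 1)

theorem minus_of_odd (h2 : (2 : F) ≠ 0) {k : ℕ} {l : Ext ν} (hl0 : l ≠ 0) (hl : ¬ IsSquare l) {a b : F}
    (hab : ∀ z₁ z₂ : F, z₁ ^ 2 + a * z₁ * z₂ + b * z₂ ^ 2 = 0 → z₁ = 0 ∧ z₂ = 0)
    (h : Iso (⇑(QL hJ)) (fun v => l * Cfsg.quadFormOdd k (Ext ν) v)) :
    Iso (⇑Q) (Cfsg.quadFormMinus (k + k) F a b) := by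
  refine (q_iso hJ h2).trans ((imf_iso (h.trans (odd_split k hl0))).trans ?_)
  rw [imf_add]
  exact ((imf_plus k).sum (imf_line_nonsquare h2 hl a b hab)).trans (minus_def _ a b)

end CfsgLib.Derange.OExt
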