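import Cfsg.Agent.Lib.Derange.OrthExtConj
import Cfsg.Agent.Lib.Classical.RestrictScalars

/-!
Quadratic self-adjoint subfields: generators, normalisers, and the primes dividing the index of the
normaliser in the orthogonal group.
-/

set_option autoImplicit false
set_option linter.unusedSectionVars false
set_option linter.style.haveILetI false
set_option maxHeartbeats 800000

namespace CfsgLib.Derange.OExt

open Module CfsgLib.Orth CfsgLib.Classical CfsgLib.Classical.OrthModels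

universe u

variable {F : Type u} [Field F] {ι : Type} [Fintype ι] [DecidableEq ι]

local notation "Mat" => Matrix ι ι F

/-- Commuting or anticommuting. -/
def Semi (x j : Mat) : Prop := x * j = j * x ∨ x * j = -(j * x)

variable {K : Subalgebra F (Matrix ι ι F)}

theorem exists_span_gen [Nonempty ι] (hK : Cfsg.Geo.IsFieldSubalgebra 2 K) {j : Mat} (hj : j ∈ K)
    (hjs : ∀ c : F, j ≠ c • (1 : Mat)) {k : Mat} (hk : k ∈ K) : ∃ u w : F, k = u • (1 : Mat) + w • j := by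
  have hli : LinearIndependent F ![(1 : Mat), j] :=
    (LinearIndependent.pair_iff' one_ne_zero).mpr fun a ha => hjs a ha.symm
  have heq : Submodule.span F (Set.range ![(1 : Mat), j]) = K.toSubmodule := by
    refine Submodule.eq_of_le_of_finrank_eq (Submodule.span_le.mpr ?_) ?_
    · rintro _ ⟨i, rfl⟩
      fin_cases i
      · exact K.one_mem
      · exact hj
    · rw [finrank_span_eq_card hli, Fintype.card_fin]
      exact hK.finrank_eq.symm
  have hk' : k ∈ Submodule.span F (Set.range ![(1 : Mat), j]) := heq ▸ hk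
  rw [Submodule.mem_span_range_iff_exists_fun] at hk'
  obtain ⟨c, hc⟩ := hk'
  exact ⟨c 0, c 1, by rw [← hc, Fin.sum_univ_two]; rfl⟩

/-- A quadratic field has a square root of a non-square as generator. -/
theorem exists_gen [Nonempty ι] (hK : Cfsg.Geo.IsFieldSubalgebra 2 K) (h2 : (2 : F) ≠ 0) :
    ∃ j ∈ K, ∃ ν : F, ¬ IsSquare ν ∧ j * j = ν • (1 : Mat) ∧ ∀ c : F, j ≠ c • (1 : Mat) := by
  obtain ⟨k, hk, hks⟩ : ∃ k ∈ K, ∀ c : F, k ≠ c • (1 : Mat) := by
    by_contra hc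
    push Not at hc
    have hle : K.toSubmodule ≤ Submodule.span F {(1 : Mat)} := fun k hk => by
      obtain ⟨c, rfl⟩ := hc k hk
      exact Submodule.smul_mem _ _ (Submodule.mem_span_singleton_self _)
    have := Submodule.finrank_mono hle
    rw [finrank_span_singleton one_ne_zero] at this
    have h := hK.finrank_eq
    change finrank F K.toSubmodule = 2 at h
    omega
  obtain ⟨a, b, hab⟩ := exists_span_gen hK hk hks (K.mul_mem hk hk)
  set j : Mat := k - (b / 2) • (1 : Mat) with hjdef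
  have hjs : ∀ c : F, j ≠ c • (1 : Mat) := fun c hc => hks (c + b / 2) (by
    rw [add_smul, ← hc, hjdef, sub_add_cancel])
  have hjK : j ∈ K := K.sub_mem hk (K.smul_mem K.one_mem _)
  have hsq : j * j = (a + b * b / 4) • (1 : Mat) := by
    simp only [hjdef, sub_mul, mul_sub, smul_mul_assoc, mul_smul_comm, one_mul, mul_one, hab, smul_smul, smul_sub]
    have h4 : (4 : F) ≠ 0 := by rw [show (4 : F) = 2 * 2 by norm_num]; exact mul_ne_zero h2 h2
    match_scalars <;> field_simp <;> ring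
  refine ⟨j, hjK, _, ?_, hsq, hjs⟩
  rintro ⟨s, hs⟩
  have hz : (j - s • (1 : Mat)) * (j + s • (1 : Mat)) = 0 := by
    simp only [sub_mul, mul_add, smul_mul_assoc, mul_smul_comm, one_mul, mul_one, hsq, hs, smul_smul]
    module
  obtain ⟨y, -, hy⟩ := hK.inv _ (K.sub_mem hjK (K.smul_mem K.one_mem s)) (fun h => hjs s (sub_eq_zero.1 h))
  have hyy : y * (j - s • (1 : Mat)) = 1 := mul_eq_one_comm.1 hy
  have := congrArg (fun z => y * z) hz
  simp only [← mul_assoc, hyy, one_mul, mul_zero] at this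
  exact hjs (-s) (by rw [neg_smul]; exact eq_neg_of_add_eq_zero_left this)

theorem mem_normalizer_of_semi [Nonempty ι] (hK : Cfsg.Geo.IsFieldSubalgebra 2 K) {j : Mat} (hj : j ∈ K)
    (hjs : ∀ c : F, j ≠ c • (1 : Mat)) (g : GL ι F) (h : Semi (g : Mat) j) :
    g ∈ Cfsg.Geo.subalgebraNormalizer K := by
  have key : ∀ g : GL ι F, Semi (g : Mat) j → ∀ k ∈ K, (g : Mat) * k * ((g⁻¹ : GL ι F) : Mat) ∈ K := by
    intro g hg k hk
    obtain ⟨a, b, rfl⟩ := exists_span_gen hK hj hjs hk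
    rw [mul_add, mul_smul_comm, mul_smul_comm, mul_one]
    rcases hg with hg | hg <;> rw [hg, add_mul, smul_mul_assoc, smul_mul_assoc, Units.mul_inv]
    · rw [mul_assoc, Units.mul_inv, mul_one]
      exact hk
    · rw [neg_mul, mul_assoc, Units.mul_inv, mul_one]
      exact K.add_mem (K.smul_mem K.one_mem _) (K.smul_mem (K.neg_mem hj) _)
  have hinv : Semi ((g⁻¹ : GL ι F) : Mat) j := by
    rcases h with h | h
    · exact Or.inl (Commute.units_inv_left h)
    · refine Or.inr ?_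
      have h1 := congrArg (fun z => ((g⁻¹ : GL ι F) : Mat) * z * ((g⁻¹ : GL ι F) : Mat)) h
      simp only [mul_neg, neg_mul, ← mul_assoc, Units.inv_mul, one_mul] at h1
      rw [mul_assoc _ (g : Mat), Units.mul_inv, mul_one] at h1
      rw [h1, neg_neg]
  intro k
  refine ⟨key g h k, fun hk => ?_⟩
  simpa [mul_assoc] using key g⁻¹ hinv _ hk

theorem semi_of_mem_normalizer [Nonempty ι] (hK : Cfsg.Geo.IsFieldSubalgebra 2 K) {j : Mat} (hj : j ∈ K)
    (hjs : ∀ c : F, j ≠ c • (1 : Mat)) {ν : F} (hν : ν ≠ 0) (h2 : (2 : F) ≠ 0) (hjj : j * j = ν • (1 : Mat))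
    (g : GL ι F) (h : g ∈ Cfsg.Geo.subalgebraNormalizer K) : Semi (g : Mat) j := by
  obtain ⟨a, b, hab⟩ := exists_span_gen hK hj hjs ((h j).1 hj)
  have hgj : (g : Mat) * j = a • (g : Mat) + b • (j * g) := by
    have := congrArg (fun z => z * (g : Mat)) hab
    simpa [mul_assoc, add_mul, smul_mul_assoc] using this
  have hsq : ((g : Mat) * j * ((g⁻¹ : GL ι F) : Mat)) * ((g : Mat) * j * ((g⁻¹ : GL ι F) : Mat)) = ν • (1 : Mat) := by
    rw [show (g : Mat) * j * ((g⁻¹ : GL ι F) : Mat) * ((g : Mat) * j * ((g⁻¹ : GL ι F) : Mat)) =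
        (g : Mat) * (j * j) * ((g⁻¹ : GL ι F) : Mat) by simp [mul_assoc], hjj,
      mul_smul_comm, mul_one, smul_mul_assoc, Units.mul_inv]
  rw [hab] at hsq
  have hlin : (2 * a * b) • j = (ν - a * a - b * b * ν) • (1 : Mat) := by
    simp only [add_mul, mul_add, smul_mul_assoc, mul_smul_comm, one_mul, mul_one, hjj, smul_smul] at hsq
    linear_combination (norm := module) hsq
  by_cases hb : b = 0
  · exfalso
    rw [hb, zero_smul, add_zero] at hgj
    refine hjs a ?_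
    have h1 := congrArg (fun z => ((g⁻¹ : GL ι F) : Mat) * z) hgj
    simpa [← mul_assoc, mul_smul_comm] using h1
  have ha : a = 0 := by
    by_contra ha
    refine hjs ((2 * a * b)⁻¹ * (ν - a * a - b * b * ν)) ?_
    rw [mul_smul, ← hlin, inv_smul_smul₀ (mul_ne_zero (mul_ne_zero h2 ha) hb)]
  simp only [ha, mul_zero, zero_mul, zero_smul, sub_zero] at hlin
  rw [eq_comm, smul_eq_zero] at hlin
  have hb2 : b * b = 1 := mul_right_cancel₀ hν (by linear_combination -(hlin.resolve_right one_ne_zero))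
  rw [ha, zero_smul, zero_add] at hgj
  rcases mul_self_eq_one_iff.1 hb2 with h1 | h1
  · exact Or.inl (by rw [hgj, h1, one_smul])
  · exact Or.inr (by rw [hgj, h1, neg_smul, one_smul])

theorem semi_comm_of_pow (h2 : (2 : F) ≠ 0) {r : ℕ} (hr : Odd r) {x j : Mat} (hx : x ^ r = 1) (h : Semi x j) :
    x * j = j * x := by
  rcases h with h | h
  · exact h
  have key : ∀ k : ℕ, x ^ k * j = (-1 : F) ^ k • (j * x ^ k) := by
    intro k
    induction k with
    | zero => simp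
    | succ k ih =>
      rw [pow_succ, mul_assoc, h, mul_neg, ← mul_assoc, ih, smul_mul_assoc, mul_assoc, pow_succ,
        mul_neg_one, neg_smul]
  have h1 := key r
  rw [hx, one_mul, mul_one, hr.neg_one_pow, neg_smul, one_smul] at h1
  have hj : j = 0 := by
    have h3 : (2 : F) • j = 0 := by rw [two_smul]; nth_rw 2 [h1]; exact add_neg_cancel j
    exact (smul_eq_zero.1 h3).resolve_left h2
  rw [hj, mul_zero, zero_mul]

variable {Q : QuadraticForm F (ι → F)}

theorem sa_of_mem {j : Mat} (hj : j ∈ K) (hKf : Cfsg.Geo.IsSelfAdjointFor (QuadraticMap.polar ⇑Q) K) {ν : F}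
    (hjj : j * j = ν • (1 : Mat)) : SA Q ν (Matrix.toLin' j) :=
  ⟨fun x y => by simpa [Matrix.toLin'_apply] using hKf j hj x y, fun x => by
    simp [Matrix.toLin'_apply, Matrix.mulVec_mulVec, hjj, Matrix.smul_mulVec]⟩

theorem mat_comm_of_ap {j : Mat} {g : Grp Q}
    (h : ∀ x, ap g (Matrix.toLin' j x) = Matrix.toLin' j (ap g x)) : ((g : GL ι F) : Mat) * j = j * (g : GL ι F) :=
  Matrix.ext_iff_mulVec.2 fun x => by simpa [ap, Matrix.toLin'_apply, Matrix.mulVec_mulVec] using h x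

theorem prod_parity (f : ℕ → ℕ) (k : ℕ) : ∏ i ∈ Finset.range (2 * k), f i =
    (∏ i ∈ Finset.range k, f (2 * i + 1)) * ∏ i ∈ Finset.range k, f (2 * i) := by
  induction k with
  | zero => simp
  | succ k ih =>
    rw [show 2 * (k + 1) = 2 * k + 1 + 1 by ring, Finset.prod_range_succ, Finset.prod_range_succ,
      Finset.prod_range_succ, Finset.prod_range_succ, ih]
    ring

variable [Fintype F] {p : ℕ} [hp : Fact p.Prime] [CharP F p]

/-- The order of the orthogonal group. -/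
theorem card_grp (hB : Nondeg Q) {d : ℕ} (hd : 1 ≤ d) (hι : Fintype.card ι = 2 * d) :
    ∃ a, (Iso (⇑Q) (Cfsg.quadFormPlus d F) ∧ Nat.card (Grp Q) = 2 * Nat.card F ^ a * (Nat.card F ^ d - 1) *
        ∏ i ∈ Finset.range (d - 1), (Nat.card F ^ (2 * (i + 1)) - 1)) ∨
      (¬ Iso (⇑Q) (Cfsg.quadFormPlus d F) ∧ Nat.card (Grp Q) = 2 * Nat.card F ^ a * (Nat.card F ^ d + 1) *
        ∏ i ∈ Finset.range (d - 1), (Nat.card F ^ (2 * (i + 1)) - 1)) := by
  obtain ⟨a, b, hab⟩ := RestrictScalars.exists_ab (F := F)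
  refine ⟨d * (d - 1), ?_⟩
  by_cases hp' : Iso (⇑Q) (Cfsg.quadFormPlus d F)
  · left
    obtain ⟨R, hR, hRn⟩ := exists_quadForm_plus (F := F) d
    obtain ⟨e, he⟩ := hp'
    exact ⟨⟨e, he⟩, by rw [card_grp_congr hB hRn e (fun x => by rw [hR, he]), card_orth_plus d hd hR hRn]⟩
  · right
    refine ⟨hp', ?_⟩
    obtain ⟨j, rfl, e, he⟩ := (classify_even Q (bilin_nondeg hB) (k := d) (by rw [Module.finrank_pi]; exact hι) a b hab).resolve_left hp'
    obtain ⟨R, hR, hRn⟩ := exists_quadForm_minus (F := F) j hab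
    have hc : Nat.card (Grp R) = _ := card_orth_minus (j + 1) (by omega) hab (Q := R) hR hRn
    rw [card_grp_congr hB hRn e (fun x => by rw [hR, he]), hc]

include hp in
/-- The shapes attached to the primes dividing the index. -/
theorem index_data (hB : Nondeg Q) {q d : ℕ} (hq : Fintype.card F = q) (hodd : Odd q) (hd : 2 ≤ d)
    (hι : Fintype.card ι = 2 * d) (hK : Cfsg.Geo.IsFieldSubalgebra 2 K)
    (hKf : Cfsg.Geo.IsSelfAdjointFor (QuadraticMap.polar ⇑Q) K) {r : ℕ} (hr : r.Prime) (hr2 : r ≠ 2) (hrp : r ≠ p)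
    (hΩ : r ∣ (Cfsg.Geo.subalgebraNormalizer K).relIndex (Cfsg.Geo.omegaGL ⇑Q)) :
    (Odd (orderOf (q : ZMod r)) ∧ (orderOf (q : ZMod r) < d ∨
        (orderOf (q : ZMod r) = d ∧ Iso (⇑Q) (Cfsg.quadFormPlus d F)))) ∨
      (orderOf (q : ZMod r) % 4 = 2 ∧ (orderOf (q : ZMod r) < 2 * d ∨
        (orderOf (q : ZMod r) = 2 * d ∧ ¬ Iso (⇑Q) (Cfsg.quadFormPlus d F)))) := by
  haveI := Fact.mk hr
  haveI : Nonempty ι := Fintype.card_pos_iff.1 (by omega)
  have hrq : ¬ r ∣ q := fun h => hrp (by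
    obtain ⟨k, -, hk⟩ := FiniteField.card F p
    rw [hq] at hk
    rw [hk] at h
    exact (Nat.prime_dvd_prime_iff_eq hr hp.out).1 (hr.dvd_of_dvd_pow h))
  have h2 : (2 : F) ≠ 0 := fun h0 => by
    have hp2 : p = 2 := (Nat.prime_dvd_prime_iff_eq hp.out Nat.prime_two).1
      ((CharP.cast_eq_zero_iff F p 2).1 (by exact_mod_cast h0))
    obtain ⟨k, -, hk⟩ := FiniteField.card F p
    rw [hq, hp2] at hk
    exact Nat.not_even_iff_odd.2 hodd (hk ▸ Nat.even_pow.2 ⟨even_two, k.2.ne'⟩)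
  obtain ⟨j, hjK, ν, hν, hjj, hjs⟩ := exists_gen hK h2
  haveI : Fact (¬ IsSquare ν) := ⟨hν⟩
  obtain ⟨C, hC, hcard⟩ := exists_cent (sa_of_mem hjK hKf hjj) h2 hB (by omega : 1 ≤ d) hι
  set N := Cfsg.Geo.subalgebraNormalizer K
  set Ω := Cfsg.Omega F ⇑Q
  have hfr : 2 ≤ Module.finrank F (ι → F) := by rw [Module.finrank_pi]; omega
  obtain ⟨hΩker, hpsi, -⟩ := omega_eq_ker_psi hB h2 hfr (one_ne_zero (α := F))
  have hidx : Ω.index = 4 := by
    rw [show Ω = _ from hΩker, Subgroup.index_ker, hpsi]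
    simp
  haveI : Ω.Normal := by rw [show Ω = _ from hΩker]; infer_instance
  have h1 : Nat.card C ∣ Nat.card (Ω.subgroupOf C) * 4 := by
    rw [← hidx]
    exact (Subgroup.card_mul_index (Ω.subgroupOf C)).symm.dvd.trans
      (Nat.mul_dvd_mul_left _ (Subgroup.relIndex_dvd_index_of_normal Ω C))
  let φ : Ω.subgroupOf C →* N.subgroupOf (Cfsg.Geo.omegaGL ⇑Q) :=
    (((Cfsg.isometryGroup F ⇑Q).subtype.comp (C.subtype.comp (Ω.subgroupOf C).subtype)).codRestrict
      (Cfsg.Geo.omegaGL ⇑Q) fun g => by exact ⟨((g : C) : Grp Q), g.2, rfl⟩).codRestrict _ fun g =>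
      mem_normalizer_of_semi hK hjK hjs _ (Or.inl (mat_comm_of_ap (hC _ (g : C).2)))
  have h3 : Nat.card (Ω.subgroupOf C) ∣ Nat.card (N.subgroupOf (Cfsg.Geo.omegaGL ⇑Q)) :=
    Subgroup.card_dvd_of_injective φ fun a b h => Subtype.ext (Subtype.ext (Subtype.ext
      (congrArg (fun z : N.subgroupOf (Cfsg.Geo.omegaGL ⇑Q) => z.1.1) h)))
  have h4 : r * Nat.card (N.subgroupOf (Cfsg.Geo.omegaGL ⇑Q)) ∣ Nat.card (Cfsg.Geo.omegaGL ⇑Q) := by
    rw [← Subgroup.card_mul_index (N.subgroupOf (Cfsg.Geo.omegaGL ⇑Q)), mul_comm r]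
    exact Nat.mul_dvd_mul_left _ hΩ
  have h5 : Nat.card (Cfsg.Geo.omegaGL ⇑Q) ∣ Nat.card (Grp Q) := by
    rw [show Cfsg.Geo.omegaGL ⇑Q = Ω.map (Cfsg.isometryGroup F ⇑Q).subtype from rfl,
      Subgroup.card_map_of_injective Subtype.val_injective]
    exact Subgroup.card_subgroup_dvd_card Ω
  have hmain : r * Nat.card C ∣ Nat.card (Grp Q) * 4 := by
    refine (Nat.mul_dvd_mul_left r h1).trans ?_
    rw [← mul_assoc]
    exact Nat.mul_dvd_mul_right (((Nat.mul_dvd_mul_left r h3).trans h4).trans h5) 4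
  -- arithmetic
  have hqF : Nat.card F = q := by rw [Nat.card_eq_fintype_card, hq]
  rw [hqF] at hcard
  obtain ⟨a, hG⟩ := card_grp (F := F) hB (by omega : 1 ≤ d) hι
  rw [hqF] at hG
  have hq2 : 2 ≤ q := hq ▸ Fintype.one_lt_card
  have hpos : ∀ k : ℕ, 0 < ∏ i ∈ Finset.range k, ((q ^ 2) ^ (2 * (i + 1)) - 1) := fun k =>
    Finset.prod_pos fun i _ => Nat.sub_pos_of_lt (Nat.one_lt_pow (by omega) (Nat.one_lt_pow two_ne_zero hq2))
  have hqd : ∀ e, 1 ≤ q ^ e := fun e => Nat.one_le_pow _ _ (by omega)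
  set i := orderOf (q : ZMod r) with hi
  have hpr : Prime r := hr.prime
  have clean : ∀ A, r ∣ 2 * q ^ a * A * 4 → r ∣ A := fun A h => by
    rcases hr.dvd_mul.1 h with h | h
    · rcases hr.dvd_mul.1 h with h | h
      · rcases hr.dvd_mul.1 h with h | h
        · exact absurd ((Nat.prime_dvd_prime_iff_eq hr Nat.prime_two).1 h) hr2
        · exact absurd (hr.dvd_of_dvd_pow h) hrq
      · exact h
    · exact absurd ((Nat.prime_dvd_prime_iff_eq hr Nat.prime_two).1 (hr.dvd_of_dvd_pow (show r ∣ 2 ^ 2 from h))) hr2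
  have hsq1 : ∀ t, Odd t → t < d → r ∣ q ^ (2 * t) - 1 → (Odd i ∧ i < d) ∨ (i % 4 = 2 ∧ i < 2 * d) := by
    intro t ht htd h
    have h' : (q : ZMod r) ^ (2 * t) = 1 := by
      have h0 := (ZMod.natCast_eq_zero_iff _ _).2 h
      rwa [Nat.cast_sub (hqd _), Nat.cast_pow, Nat.cast_one, sub_eq_zero] at h0
    have hdvd : i ∣ 2 * t := orderOf_dvd_of_pow_eq_one h'
    by_cases ho : Odd i
    · have := Nat.le_of_dvd (by obtain ⟨s, rfl⟩ := ht; omega) ((Nat.coprime_two_right.2 ho).dvd_of_dvd_mul_left hdvd)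
      exact Or.inl ⟨ho, by omega⟩
    · obtain ⟨s, hs⟩ := (Nat.not_odd_iff_even.1 ho)
      have hst : s ∣ t := Nat.dvd_of_mul_dvd_mul_left two_pos (by rwa [show 2 * s = i by omega])
      obtain ⟨w, hw⟩ := Odd.of_dvd_nat ht hst
      have := Nat.le_of_dvd (by obtain ⟨s', rfl⟩ := ht; omega) hdvd
      exact Or.inr ⟨by omega, by omega⟩
  have finish : ∀ k, (∀ c, c < k → 2 * c + 1 < d) → r ∣ ∏ c ∈ Finset.range k, (q ^ (2 * (2 * c + 1)) - 1) →
      (Odd i ∧ i < d) ∨ (i % 4 = 2 ∧ i < 2 * d) := by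
    intro k hk h
    obtain ⟨c, hc, hdiv⟩ := (Prime.dvd_finsetProd_iff hpr _).1 h
    exact hsq1 (2 * c + 1) ⟨c, rfl⟩ (hk c (Finset.mem_range.1 hc)) hdiv
  have wrap : (Odd i ∧ i < d) ∨ (i % 4 = 2 ∧ i < 2 * d) →
      (Odd i ∧ (i < d ∨ (i = d ∧ Iso (⇑Q) (Cfsg.quadFormPlus d F)))) ∨
      (i % 4 = 2 ∧ (i < 2 * d ∨ (i = 2 * d ∧ ¬ Iso (⇑Q) (Cfsg.quadFormPlus d F)))) :=
    Or.imp (And.imp_right Or.inl) (And.imp_right Or.inl)
  have hpow : ∀ c, q ^ (2 * (2 * c + 1 + 1)) = (q ^ 2) ^ (2 * (c + 1)) := fun c => by rw [← pow_mul]; congr 1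
  rcases hcard with ⟨k, hk, hdiv⟩ | ⟨k, hk, hk1, hdiv⟩
  · obtain ⟨C', hC'⟩ := hdiv
    have hsplit : ∏ c ∈ Finset.range (d - 1), (q ^ (2 * (c + 1)) - 1) =
        (∏ c ∈ Finset.range k, ((q ^ 2) ^ (2 * (c + 1)) - 1)) * ∏ c ∈ Finset.range k, (q ^ (2 * (2 * c + 1)) - 1) := by
      rw [show d - 1 = 2 * k by omega, prod_parity]
      simp only [hpow]
    rcases hG with ⟨hiso, hG⟩ | ⟨hiso, hG⟩ <;> rw [hC', hG, hsplit] at hmain
    · have hr' := clean _ (Nat.dvd_of_mul_dvd_mul_left (hpos k) (dvd_trans ⟨C', by ring⟩ (hmain.trans (dvd_of_eq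
        (show _ = (∏ c ∈ Finset.range k, ((q ^ 2) ^ (2 * (c + 1)) - 1)) * (2 * q ^ a * ((q ^ d - 1) *
          ∏ c ∈ Finset.range k, (q ^ (2 * (2 * c + 1)) - 1)) * 4) by ring)))))
      rcases hr.dvd_mul.1 hr' with h | h
      · have h0 := (ZMod.natCast_eq_zero_iff _ _).2 h
        rw [Nat.cast_sub (hqd _), Nat.cast_pow, Nat.cast_one, sub_eq_zero] at h0
        have hdvd : i ∣ d := orderOf_dvd_of_pow_eq_one h0
        have hio : Odd i := Odd.of_dvd_nat ⟨k, hk⟩ hdvd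
        have := Nat.le_of_dvd (by omega) hdvd
        exact Or.inl ⟨hio, by rcases this.lt_or_eq with h | h; exacts [Or.inl h, Or.inr ⟨h, hiso⟩]⟩
      · exact wrap (finish k (fun c hc => by omega) h)
    · have hr' := clean _ (Nat.dvd_of_mul_dvd_mul_left (hpos k) (dvd_trans ⟨C', by ring⟩ (hmain.trans (dvd_of_eq
        (show _ = (∏ c ∈ Finset.range k, ((q ^ 2) ^ (2 * (c + 1)) - 1)) * (2 * q ^ a * ((q ^ d + 1) *
          ∏ c ∈ Finset.range k, (q ^ (2 * (2 * c + 1)) - 1)) * 4) by ring)))))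
      rcases hr.dvd_mul.1 hr' with h | h
      · have h0 := (ZMod.natCast_eq_zero_iff _ _).2 h
        rw [Nat.cast_add, Nat.cast_pow, Nat.cast_one] at h0
        have h0' := eq_neg_of_add_eq_zero_left h0
        haveI : Fact (2 < r) := ⟨lt_of_le_of_ne hr.two_le (Ne.symm hr2)⟩
        have hndvd : ¬ i ∣ d := fun hd' => ZMod.neg_one_ne_one (h0'.symm.trans (orderOf_dvd_iff_pow_eq_one.1 hd'))
        have hdvd : i ∣ 2 * d := orderOf_dvd_of_pow_eq_one (by rw [mul_comm, pow_mul, h0', neg_one_sq])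
        have hev : ¬ Odd i := fun ho => hndvd ((Nat.coprime_two_right.2 ho).dvd_of_dvd_mul_left hdvd)
        obtain ⟨s, hs⟩ := Nat.not_odd_iff_even.1 hev
        have hsd : s ∣ d := Nat.dvd_of_mul_dvd_mul_left two_pos (by rwa [show 2 * s = i by omega])
        obtain ⟨w, hw⟩ := Odd.of_dvd_nat ⟨k, hk⟩ hsd
        have := Nat.le_of_dvd (by omega) hdvd
        exact Or.inr ⟨by omega, by rcases this.lt_or_eq with h | h; exacts [Or.inl h, Or.inr ⟨h, hiso⟩]⟩
      · exact wrap (finish k (fun c hc => by omega) h)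
  · have hsplit : ∏ c ∈ Finset.range (d - 1), (q ^ (2 * (c + 1)) - 1) =
        (∏ c ∈ Finset.range (k - 1), ((q ^ 2) ^ (2 * (c + 1)) - 1)) * ∏ c ∈ Finset.range k, (q ^ (2 * (2 * c + 1)) - 1) := by
      obtain ⟨k', rfl⟩ : ∃ k', k = k' + 1 := ⟨k - 1, by omega⟩
      rw [show d - 1 = 2 * k' + 1 by omega, Finset.prod_range_succ, prod_parity, Finset.prod_range_succ,
        Nat.add_sub_cancel]
      simp only [hpow]
      ring
    refine wrap (finish k (fun c hc => by omega) ?_)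
    rcases hdiv with ⟨hiso, C', hC'⟩ | ⟨hiso, C', hC'⟩ <;>
      rcases hG with ⟨hiso', hG⟩ | ⟨hiso', hG⟩ <;>
      first
        | exact absurd hiso hiso'
        | exact absurd hiso' hiso
        | rw [hC', hG, hsplit] at hmain
    · refine clean _ (Nat.dvd_of_mul_dvd_mul_left (Nat.mul_pos (Nat.sub_pos_of_lt (Nat.one_lt_pow (by omega) hq2))
        (hpos (k - 1))) (dvd_trans ⟨C', by ring⟩ (hmain.trans (dvd_of_eq
        (show _ = ((q ^ d - 1) * ∏ c ∈ Finset.range (k - 1), ((q ^ 2) ^ (2 * (c + 1)) - 1)) * (2 * q ^ a *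
          (∏ c ∈ Finset.range k, (q ^ (2 * (2 * c + 1)) - 1)) * 4) by ring)))))
    · refine clean _ (Nat.dvd_of_mul_dvd_mul_left (Nat.mul_pos (show 0 < q ^ d + 1 by omega)
        (hpos (k - 1))) (dvd_trans ⟨C', by ring⟩ (hmain.trans (dvd_of_eq
        (show _ = ((q ^ d + 1) * ∏ c ∈ Finset.range (k - 1), ((q ^ 2) ^ (2 * (c + 1)) - 1)) * (2 * q ^ a *
          (∏ c ∈ Finset.range k, (q ^ (2 * (2 * c + 1)) - 1)) * 4) by ring)))))

end CfsgLib.Derange.OExt
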