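import Cfsg.Agent.Lib.Derange.OrthExtTwo
import Cfsg.Agent.Lib.Derange.OrthExtDerange

/-!
Elements of prime order of orthogonal groups and the normalisers of self-adjoint quadratic subfields.
-/

set_option autoImplicit false
set_option linter.unusedSectionVars false
set_option linter.style.haveILetI false

namespace CfsgLib.Derange.OExt

open Module CfsgLib.Orth

universe u

variable {F : Type u} [Field F] [Fintype F] {p : ℕ} [hp : Fact p.Prime] [CharP F p]
variable {ι : Type} [Fintype ι] [DecidableEq ι] {Q : QuadraticForm F (ι → F)}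

include hp in
/-- Every element of order `r` has a conjugate normalising the field exactly for `r = 2`. -/
theorem main (hB : Nondeg Q) {q d : ℕ} (hq : Fintype.card F = q) (hodd : Odd q) (hd : 4 ≤ d)
    (hι : Fintype.card ι = 2 * d) {K : Subalgebra F (Matrix ι ι F)} (hK : Cfsg.Geo.IsFieldSubalgebra 2 K)
    (hKf : Cfsg.Geo.IsSelfAdjointFor (QuadraticMap.polar ⇑Q) K) (r : ℕ) [Fact r.Prime]
    (hΩ : r ∣ (Cfsg.Geo.subalgebraNormalizer K).relIndex (Cfsg.Geo.omegaGL ⇑Q)) :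
    (∀ x ∈ Cfsg.Geo.omegaGL ⇑Q, (∃ z : F, ((x ^ r : GL ι F) : Matrix ι ι F) = z • (1 : Matrix ι ι F)) →
      (∀ z : F, (x : Matrix ι ι F) ≠ z • (1 : Matrix ι ι F)) →
      ∃ g ∈ Cfsg.Geo.omegaGL ⇑Q, g⁻¹ * x * g ∈ Cfsg.Geo.subalgebraNormalizer K) ↔ r = 2 := by
  have hr := (Fact.out : r.Prime)
  haveI : Nonempty ι := Fintype.card_pos_iff.1 (by omega)
  have h2 : (2 : F) ≠ 0 := fun h0 => by
    have hp2 : p = 2 := (Nat.prime_dvd_prime_iff_eq hp.out Nat.prime_two).1
      ((CharP.cast_eq_zero_iff F p 2).1 (by exact_mod_cast h0))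
    obtain ⟨k, -, hk⟩ := FiniteField.card F p
    rw [hq, hp2] at hk
    exact Nat.not_even_iff_odd.2 hodd (hk ▸ Nat.even_pow.2 ⟨even_two, k.2.ne'⟩)
  constructor
  · intro hall
    by_contra hr2
    obtain ⟨x, hxΩ, hxr, hfix⟩ := exists_sample (p := p) hB hq hodd (by omega : 3 ≤ d) hι hK hKf hr hr2 hΩ
    have hne : finrank F (fixSpace x) ≠ Fintype.card ι := fun h => hfix 0 (by omega)
    obtain ⟨g, hg, hgx⟩ := hall _ hxΩ ⟨1, by rw [one_smul, ← SubmonoidClass.coe_pow, hxr]; rfl⟩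
      (nonscalar_of_fix hB (hr.odd_of_ne_two hr2) x hxr hne)
    exact not_normalizer h2 hB hK hKf (hr.odd_of_ne_two hr2) x hxr hfix hg hgx
  · rintro rfl _ ⟨x, hxΩ, rfl⟩ ⟨z, hz⟩ -
    refine exists_conj_normalizer hB h2 (by omega : 1 ≤ d) hι hK hKf x hxΩ (z := z) fun v => ?_
    show ((x : GL ι F) : Matrix ι ι F).mulVec (((x : GL ι F) : Matrix ι ι F).mulVec v) = _
    rw [Matrix.mulVec_mulVec, ← _root_.sq, ← Units.val_pow_eq_pow_val]
    exact (congrArg (fun M : Matrix ι ι F => M.mulVec v) hz).trans (by rw [Matrix.smul_mulVec, Matrix.one_mulVec])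

end CfsgLib.Derange.OExt
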