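import Cfsg.Agent.Lib.Derange.OrthExtIndex
import Cfsg.Agent.Lib.Classical.OrthDickson
import Cfsg.Agent.Lib.Classical.OmegaApps

/-!
Elements with scalar square normalise some conjugate of a self-adjoint quadratic subfield.
-/

set_option autoImplicit false
set_option linter.unusedSectionVars false
set_option linter.style.haveILetI false
set_option maxHeartbeats 800000

namespace CfsgLib.Derange.OExt

open Module CfsgLib.Orth CfsgLib.Classical

universe u

variable {F : Type u} [Field F] [Fintype F]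
variable {ι : Type} [Fintype ι] [DecidableEq ι] {Q : QuadraticForm F (ι → F)}

local notation "B'" => QuadraticMap.polar (DFunLike.coe Q)
local notation "V" => (ι → F)

/-- An orthogonal basis cut into planes, on which `x` is scalar, or a quarter turn throughout. -/
structure Planes (Q : QuadraticForm F (ι → F)) (x : Grp Q) (κ : Type) where
  b : Basis (κ × Fin 2) F (ι → F)
  orth : ∀ s t, s ≠ t → QuadraticMap.polar ⇑Q (b s) (b t) = 0
  act : (∃ c : κ → F, ∀ s, ap x (b s) = c s.1 • b s) ∨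
    ∀ k, ap x (b (k, 0)) = b (k, 1) ∧ ap x (b (k, 1)) = -b (k, 0)

theorem aniso_of_orth_basis (hB : Nondeg Q) {α : Type*} (b : Basis α F (ι → F))
    (h : ∀ s t, s ≠ t → B' (b s) (b t) = 0) (s : α) : B' (b s) (b s) ≠ 0 := by
  intro h0
  refine b.ne_zero s (hB _ fun y => ?_)
  have : QuadraticMap.polarBilin Q (b s) = 0 := b.ext fun t => by
    rw [QuadraticMap.polarBilin_apply_apply, LinearMap.zero_apply]
    rcases eq_or_ne s t with rfl | hne
    · exact h0
    · exact h s t hne
  exact LinearMap.congr_fun this y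

theorem exists_planes_invol (hB : Nondeg Q) (h2 : (2 : F) ≠ 0) (x : Grp Q) (hx : ∀ v, ap x (ap x v) = v)
    (hd : dickson hB x = 1) {d : ℕ} (hι : Fintype.card ι = 2 * d) :
    ∃ κ : Type, ∃ _ : Fintype κ, Fintype.card κ = d ∧ Nonempty (Planes Q x κ) := by
  classical
  set T : End F (ι → F) := Matrix.toLin' ((x : GL ι F) : Matrix ι ι F)
  have hT : ∀ v, T v = ap x v := fun v => Matrix.toLin'_apply _ v
  set P := T.eigenspace 1
  set N := T.eigenspace (-1)
  have hP : ∀ v ∈ P, ap x v = v := fun v hv => by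
    rw [← hT, Module.End.mem_eigenspace_iff.1 hv, one_smul]
  have hN : ∀ v ∈ N, ap x v = -v := fun v hv => by
    rw [← hT, Module.End.mem_eigenspace_iff.1 hv, neg_one_smul]
  have hc : IsCompl P N := by
    refine IsCompl.of_eq ((Submodule.eq_bot_iff _).2 fun v hv => ?_) (eq_top_iff.2 fun v _ => ?_)
    · have h := (hP v hv.1).symm.trans (hN v hv.2)
      exact (smul_eq_zero.1 (show (2 : F) • v = 0 by rw [two_smul]; nth_rw 2 [h]; exact add_neg_cancel v)).resolve_left h2
    · refine Submodule.mem_sup.2 ⟨(2 : F)⁻¹ • (v + ap x v), ?_, (2 : F)⁻¹ • (v - ap x v), ?_, ?_⟩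
      · rw [Module.End.mem_eigenspace_iff, hT, ap_smul, ap_add, hx, one_smul, add_comm]
      · rw [Module.End.mem_eigenspace_iff, hT, ap_smul, ap_sub, hx, neg_one_smul, ← smul_neg, neg_sub]
      · match_scalars <;> field_simp <;> ring
  have hPN : ∀ u ∈ P, ∀ v ∈ N, B' u v = 0 := fun u hu v hv => by
    have h := ap_b x u v
    rw [hP u hu, hN v hv, ← neg_one_smul F v, b_smul_right] at h
    exact (mul_eq_zero.1 (show (2 : F) * B' u v = 0 by linear_combination -h)).resolve_left h2
  have hfix : fixSpace x = P := Submodule.ext fun v => ⟨fun h => by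
    rw [Module.End.mem_eigenspace_iff, hT, one_smul]; exact h, hP v⟩
  have hdim : finrank F P + finrank F N = 2 * d := by
    rw [Submodule.finrank_add_eq_of_isCompl hc, Module.finrank_pi, hι]
  have hev : Even (finrank F P) := by
    by_contra ho
    have h : (-1 : ℤˣ) ^ (finrank F (ι → F) + finrank F (fixSpace x)) = 1 := hd
    rw [hfix, Module.finrank_pi, hι, (Even.add_odd (even_two_mul d) (Nat.not_even_iff_odd.1 ho)).neg_one_pow] at h
    exact absurd h (by decide)
  obtain ⟨a, ha⟩ := hev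
  obtain ⟨c, hcN⟩ : ∃ c, finrank F N = c + c := ⟨d - a, by omega⟩
  haveI : Invertible (2 : F) := invertibleOfNonzero h2
  have hobasis : ∀ U : Submodule F (ι → F), ∃ w : Basis (Fin (finrank F U)) F U,
      ∀ i j, i ≠ j → B' (w i : V) (w j : V) = 0 := fun U => by
    obtain ⟨w, hw⟩ := LinearMap.BilinForm.exists_orthogonal_basis
      (B := (QuadraticMap.polarBilin Q).compl₁₂ U.subtype U.subtype)
      ⟨fun u v => by
        show B' (u : V) v = B' (v : V) u
        exact b_comm _ _⟩
    exact ⟨w, fun i j hij => hw hij⟩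
  obtain ⟨wP, hwP⟩ := hobasis P
  obtain ⟨wN, hwN⟩ := hobasis N
  let e : (Fin a ⊕ Fin c) × Fin 2 ≃ Fin (finrank F P) ⊕ Fin (finrank F N) :=
    (Equiv.sumProdDistrib _ _ _).trans (Equiv.sumCongr (finProdFinEquiv.trans (finCongr (by omega)))
      (finProdFinEquiv.trans (finCongr (by omega))))
  refine ⟨Fin a ⊕ Fin c, inferInstance, by simp; omega,
    ⟨⟨((wP.prod wN).map (Submodule.prodEquivOfIsCompl P N hc)).reindex e.symm, fun s t hst => ?_,
      Or.inl ⟨Sum.elim (fun _ => 1) fun _ => -1, fun s => ?_⟩⟩⟩⟩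
  · have hne := e.injective.ne hst
    simp only [Basis.reindex_apply, Equiv.symm_symm, Basis.map_apply]
    generalize e s = i at hne ⊢
    generalize e t = j at hne ⊢
    rcases i with i | i <;> rcases j with j | j <;> simp [Basis.prod_apply]
    · exact hwP i j fun h => hne (by rw [h])
    · exact hPN _ (wP i).2 _ (wN j).2
    · rw [b_comm]; exact hPN _ (wP j).2 _ (wN i).2
    · exact hwN i j fun h => hne (by rw [h])
  · rcases s with ⟨i | i, t⟩ <;>
      simp only [Basis.reindex_apply, Equiv.symm_symm, Basis.map_apply, Sum.elim_inl, Sum.elim_inr] <;>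
      simp [e, Basis.prod_apply]
    · exact hP _ (wP _).2
    · exact hN _ (wN _).2

theorem exists_planes_turn (hB : Nondeg Q) (h2 : (2 : F) ≠ 0) (x : Grp Q) (hx : ∀ v, ap x (ap x v) = -v)
    {d : ℕ} (hd : 0 < d) (hι : Fintype.card ι = 2 * d) : Nonempty (Planes Q x (Fin d)) := by
  classical
  have hskew : ∀ v, B' v (ap x v) = 0 := fun v => by
    have h := ap_b x v (ap x v)
    rw [hx, ← neg_one_smul F v, b_smul_right, b_comm (ap x v)] at h
    exact (mul_eq_zero.1 (show (2 : F) * B' v (ap x v) = 0 by linear_combination -h)).resolve_left h2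
  have hxx : ∀ u v, B' (ap x u) v = -B' u (ap x v) := fun u v => by
    have h := ap_b x u (ap x v)
    rw [hx, ← neg_one_smul F v, b_smul_right] at h
    linear_combination -h
  let w : ∀ {k : ℕ}, (Fin k → V) → Fin k × Fin 2 → V := fun v s => if s.2 = 0 then v s.1 else ap x (v s.1)
  have key : ∀ k ≤ d, ∃ v : Fin k → V, (∀ i, B' (v i) (v i) ≠ 0) ∧
      ∀ s t : Fin k × Fin 2, s ≠ t → B' (w v s) (w v t) = 0 := by
    intro k
    induction k with
    | zero => exact fun _ => ⟨fun i => i.elim0, fun i => i.elim0, fun s => s.1.elim0⟩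
    | succ k ih =>
      intro hk
      obtain ⟨v, hva, hvo⟩ := ih (by omega)
      set S := Submodule.span F (Set.range (w v))
      have hdiag : ∀ s, B' (w v s) (w v s) ≠ 0 := fun s => by
        simp only [w]; split
        · exact hva _
        · rw [ap_b]; exact hva _
      have hdim : finrank F (orth Q S) ≠ 0 := fun h0 => by
        have h1 := finrank_orth hB S
        have h3 : finrank F S ≤ k * 2 := (finrank_range_le_card (R := F) (w v)).trans_eq (by simp)
        rw [Module.finrank_pi, h0] at h1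
        omega
      obtain ⟨u, hu, hu0⟩ := Submodule.exists_mem_ne_zero_of_ne_bot (p := orth Q S) fun hb => hdim (by rw [hb, finrank_bot])
      obtain ⟨y, hy, hy0⟩ : ∃ y ∈ orth Q S, B' y y ≠ 0 := by
        by_contra hall
        push Not at hall
        refine hu0 (hB u fun z => ?_)
        have hproj : z - ∑ s, (B' (w v s) z / B' (w v s) (w v s)) • w v s ∈ orth Q S := by
          refine mem_orth_span.2 ?_
          rintro _ ⟨t, rfl⟩
          rw [b_sub_right, show B' (w v t) (∑ s, (B' (w v s) z / B' (w v s) (w v s)) • w v s) =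
              ∑ s, B' (w v t) ((B' (w v s) z / B' (w v s) (w v s)) • w v s) from
              map_sum (QuadraticMap.polarBilin Q (w v t)) _ _,
            Finset.sum_eq_single t (fun s _ hs => by rw [b_smul_right, hvo t s (Ne.symm hs), mul_zero]) (by simp),
            b_smul_right, div_mul_cancel₀ _ (hdiag t), sub_self]
        set z' := z - ∑ s, (B' (w v s) z / B' (w v s) (w v s)) • w v s
        have h1 := hall _ (add_mem hu hproj)
        rw [b_add_left, b_add_right, b_add_right, hall u hu, hall z' hproj, b_comm z' u] at h1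
        have h3 : B' u z' = 0 :=
          (mul_eq_zero.1 (show (2 : F) * B' u z' = 0 by linear_combination h1)).resolve_left h2
        rw [b_sub_right, show B' u (∑ s, (B' (w v s) z / B' (w v s) (w v s)) • w v s) =
              ∑ s, B' u ((B' (w v s) z / B' (w v s) (w v s)) • w v s) from
              map_sum (QuadraticMap.polarBilin Q u) _ _,
          Finset.sum_eq_zero fun s _ => by
            rw [b_smul_right, b_comm u, show B' (w v s) u = 0 from mem_orth_span.1 hu _ ⟨s, rfl⟩, mul_zero],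
          sub_zero] at h3
        exact h3
      refine ⟨Fin.cons y v, fun i => Fin.cases (by simpa using hy0) (fun i => by simpa using hva i) i, ?_⟩
      have hyo : ∀ s, B' (w v s) y = 0 := fun s => mem_orth_span.1 hy _ ⟨s, rfl⟩
      have hyo1 : ∀ i, B' (v i) y = 0 := fun i => by simpa [w] using hyo (i, 0)
      have hyo2 : ∀ i, B' (ap x (v i)) y = 0 := fun i => by simpa [w] using hyo (i, 1)
      have hc : ∀ (i : Fin k) (t : Fin 2), B' (w (Fin.cons y v : Fin (k + 1) → V) (i.succ, t)) y = 0 ∧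
          B' (w (Fin.cons y v : Fin (k + 1) → V) (i.succ, t)) (ap x y) = 0 := fun i t => by
        simp only [w, Fin.cons_succ]
        split
        · exact ⟨hyo1 i, by rw [← neg_eq_zero, ← hxx]; exact hyo2 i⟩
        · exact ⟨hyo2 i, by rw [ap_b]; exact hyo1 i⟩
      rintro ⟨i, a⟩ ⟨j, c⟩ hst
      induction i using Fin.cases with
      | zero =>
        induction j using Fin.cases with
        | zero =>
          fin_cases a <;> fin_cases c <;> simp [w] at hst ⊢
          · exact hskew y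
          · rw [b_comm]; exact hskew y
        | succ j =>
          rw [b_comm]
          fin_cases a
          · simpa [w] using (hc j c).1
          · simpa [w] using (hc j c).2
      | succ i =>
        induction j using Fin.cases with
        | zero =>
          fin_cases c
          · simpa [w] using (hc i a).1
          · simpa [w] using (hc i a).2
        | succ j =>
          have hne : (i, a) ≠ (j, c) := fun h => hst (by simp only [Prod.ext_iff] at h ⊢; exact ⟨by rw [h.1], h.2⟩)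
          simpa [w] using hvo (i, a) (j, c) hne
  obtain ⟨v, hva, hvo⟩ := key d le_rfl
  have hdiag : ∀ s, B' (w v s) (w v s) ≠ 0 := fun s => by
    simp only [w]; split
    · exact hva _
    · rw [ap_b]; exact hva _
  have hli : LinearIndependent F (w v) := by
    rw [Fintype.linearIndependent_iff]
    intro g hg t
    have h1 := congrArg (QuadraticMap.polarBilin Q (w v t)) hg
    rw [map_sum, map_zero, Finset.sum_eq_single t (fun s _ hs => by
      rw [map_smul, smul_eq_mul, QuadraticMap.polarBilin_apply_apply, hvo t s (Ne.symm hs), mul_zero]) (by simp),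
      map_smul, smul_eq_mul, QuadraticMap.polarBilin_apply_apply, mul_eq_zero] at h1
    exact h1.resolve_right (hdiag t)
  haveI : Nonempty (Fin d × Fin 2) := ⟨(⟨0, hd⟩, 0)⟩
  refine ⟨⟨basisOfLinearIndependentOfCardEqFinrank hli (by rw [Module.finrank_pi, hι]; simp [mul_comm]),
    fun s t hst => ?_, Or.inr fun k => ⟨?_, ?_⟩⟩⟩
  · simp only [coe_basisOfLinearIndependentOfCardEqFinrank]; exact hvo s t hst
  · simp [coe_basisOfLinearIndependentOfCardEqFinrank, w]
  · simp [coe_basisOfLinearIndependentOfCardEqFinrank, w, hx]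

/-! ### A root adapted to the planes -/

variable {x : Grp Q} {κ : Type} {ν : F}

/-- The span of a plane. -/
def Planes.plane (P : Planes Q x κ) (k : κ) : Submodule F (ι → F) := Submodule.span F {P.b (k, 0), P.b (k, 1)}

theorem exists_sol (h2 : (2 : F) ≠ 0) {ρ : F} (hρ : ρ ≠ 0) (ν : F) : ∃ a c : F, a * a + ρ * (c * c) = ν := by
  have hchar : ringChar F ≠ 2 := fun h => h2 (by
    have := CharP.cast_eq_zero F (ringChar F)
    rwa [h, Nat.cast_ofNat] at this)
  obtain ⟨a, c, h⟩ := FiniteField.exists_root_sum_quadratic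
    (f := Polynomial.X ^ 2 - Polynomial.C ν) (g := Polynomial.C ρ * Polynomial.X ^ 2)
    (Polynomial.degree_X_pow_sub_C two_pos _) (Polynomial.degree_C_mul_X_pow 2 hρ)
    (FiniteField.odd_card_of_char_ne_two hchar)
  simp only [Polynomial.eval_sub, Polynomial.eval_pow, Polynomial.eval_X, Polynomial.eval_C, Polynomial.eval_mul] at h
  exact ⟨a, c, by linear_combination h⟩

/-- A root of `ν` adapted to the planes, semicommuting with everything of the same shape. -/
theorem exists_adapted (hB : Nondeg Q) (h2 : (2 : F) ≠ 0) (P : Planes Q x κ) (ν : F) :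
    ∃ J : End F (ι → F), SA Q ν J ∧ ∀ (e : κ → F) (T : End F (ι → F)),
      (∀ s, T (P.b s) = e s.1 • ap x (P.b s)) →
      (∀ v, T (J v) = J (T v)) ∨ ∀ v, T (J v) = -J (T v) := by
  classical
  have hβ : ∀ s, B' (P.b s) (P.b s) ≠ 0 := aniso_of_orth_basis hB P.b P.orth
  choose a c hac using fun k => exists_sol h2 (div_ne_zero (hβ (k, 1)) (hβ (k, 0))) ν
  let J : End F (ι → F) := P.b.constr ℕ fun s => if s.2 = 0 then a s.1 • P.b (s.1, 0) + c s.1 • P.b (s.1, 1)
    else (B' (P.b (s.1, 1)) (P.b (s.1, 1)) / B' (P.b (s.1, 0)) (P.b (s.1, 0)) * c s.1) • P.b (s.1, 0) -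
      a s.1 • P.b (s.1, 1)
  have hJ0 : ∀ k, J (P.b (k, 0)) = a k • P.b (k, 0) + c k • P.b (k, 1) := fun k => by
    simp [J, Basis.constr_basis]
  have hJ1 : ∀ k, J (P.b (k, 1)) = (B' (P.b (k, 1)) (P.b (k, 1)) / B' (P.b (k, 0)) (P.b (k, 0)) * c k) • P.b (k, 0) -
      a k • P.b (k, 1) := fun k => by
    simp [J, Basis.constr_basis]
  have hgram : ∀ s t, B' (J (P.b s)) (P.b t) = B' (P.b s) (J (P.b t)) := by
    rintro ⟨k, u⟩ ⟨l, w⟩
    rcases eq_or_ne k l with rfl | hkl
    · have h01 : B' (P.b (k, 0)) (P.b (k, 1)) = 0 := P.orth _ _ (by simp)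
      have h10 : B' (P.b (k, 1)) (P.b (k, 0)) = 0 := P.orth _ _ (by simp)
      fin_cases u <;> fin_cases w <;>
        simp [-QuadraticMap.polar_self, hJ0, hJ1, b_add_left, b_add_right, b_sub_left, b_sub_right, b_smul_left, b_smul_right, h01, h10]
      all_goals (have hb := hβ (k, 0); generalize B' (P.b (k, 0)) (P.b (k, 0)) = β at hb ⊢; generalize B' (P.b (k, 1)) (P.b (k, 1)) = γ; field_simp)
    · have h0 : ∀ i j, B' (P.b (k, i)) (P.b (l, j)) = 0 := fun i j => P.orth _ _ (by simp [hkl])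
      fin_cases u <;> fin_cases w <;>
        simp [-QuadraticMap.polar_self, hJ0, hJ1, b_add_left, b_add_right, b_sub_left, b_sub_right, b_smul_left, b_smul_right, h0]
  refine ⟨J, ⟨fun u v => ?_, fun v => ?_⟩, fun e T hT => ?_⟩
  · have : (QuadraticMap.polarBilin Q).compl₁₂ J LinearMap.id = (QuadraticMap.polarBilin Q).compl₁₂ LinearMap.id J :=
      LinearMap.BilinForm.ext_basis P.b fun s t => by
        simpa [LinearMap.compl₁₂_apply] using hgram s t
    simpa [LinearMap.compl₁₂_apply] using congrArg (fun M : LinearMap.BilinForm F (ι → F) => M u v) this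
  · have : J.comp J = ν • LinearMap.id := P.b.ext fun s => by
      obtain ⟨k, u⟩ := s
      have hk := hac k
      fin_cases u
      · simp [-QuadraticMap.polar_self, hJ0, hJ1, map_add, map_smul, smul_smul, smul_add, smul_sub]
        match_scalars
        · linear_combination hk
        · ring
      · simp [-QuadraticMap.polar_self, hJ0, hJ1, map_sub, map_smul, smul_smul, smul_add, smul_sub]
        match_scalars
        · ring
        · linear_combination hk
    exact LinearMap.congr_fun this v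
  · have reduce : ∀ ε : F, (∀ s, T (J (P.b s)) = ε • J (T (P.b s))) → ∀ v, T (J v) = ε • J (T v) := fun ε h v =>
      LinearMap.congr_fun (P.b.ext (f₁ := T.comp J) (f₂ := ε • J.comp T) fun s => h s) v
    rcases P.act with ⟨cx, hx⟩ | hx
    · left
      intro v
      rw [reduce 1 (fun s => ?_) v, one_smul]
      obtain ⟨k, u⟩ := s
      fin_cases u <;> simp [-QuadraticMap.polar_self, hJ0, hJ1, hT, hx, map_add, map_sub, map_smul, smul_smul, smul_add, smul_sub] <;> module
    · right
      intro v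
      rw [reduce (-1) (fun s => ?_) v, neg_one_smul]
      obtain ⟨k, u⟩ := s
      have hβe : B' (P.b (k, 1)) (P.b (k, 1)) = B' (P.b (k, 0)) (P.b (k, 0)) := by rw [← (hx k).1, ap_b]
      fin_cases u <;>
        simp [-QuadraticMap.polar_self, hJ0, hJ1, hT, (hx k).1, (hx k).2, hβe, hβ (k, 0), map_add, map_sub, map_smul, map_neg, smul_smul,
          smul_add, smul_sub] <;> module

/-- Compatibility with the turn on one plane. -/
def Adj (P : Planes Q x κ) (k₀ : κ) (h : Grp Q) : Prop :=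
  (∀ k, k ≠ k₀ → ∀ t, ap h (P.b (k, t)) = P.b (k, t)) ∧
    ∃ ε : F, ε * ε = 1 ∧ ∀ p ∈ P.plane k₀, ap h p ∈ P.plane k₀ ∧ ap h (ap x p) = ε • ap x (ap h p)

theorem adj_one (P : Planes Q x κ) (k₀ : κ) : Adj P k₀ 1 :=
  ⟨fun k _ t => ap_one _, 1, one_mul 1, fun p hp => by simp [hp]⟩

theorem adj_mul {P : Planes Q x κ} {k₀ : κ} {h h' : Grp Q} (H : Adj P k₀ h) (H' : Adj P k₀ h') :
    Adj P k₀ (h * h') := by
  obtain ⟨h1, ε, hε, h3⟩ := H
  obtain ⟨h1', ε', hε', h3'⟩ := H'
  refine ⟨fun k hk t => by rw [ap_mul, h1' k hk, h1 k hk], ε * ε', by linear_combination ε' * ε' * hε + hε',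
    fun p hp => ?_⟩
  obtain ⟨ha, hb⟩ := h3' p hp
  obtain ⟨hc, hd⟩ := h3 _ ha
  exact ⟨by rw [ap_mul]; exact hc, by rw [ap_mul, hb, ap_smul, hd, smul_smul, mul_comm ε' ε, ← ap_mul h h' p]⟩

theorem adj_refl (h2 : (2 : F) ≠ 0) (P : Planes Q x κ) (k₀ : κ) {u : ι → F}
    (hu : u ∈ P.plane k₀) {r : Grp Q} (hr : IsRefl u r) : Adj P k₀ r := by
  obtain ⟨a, c, rfl⟩ := Submodule.mem_span_pair.1 hu
  set v := P.b (k₀, 0)
  set w := P.b (k₀, 1)
  refine ⟨fun k hk t => ?_, ?_⟩
  · rw [hr.2, b_add_left, b_smul_left, b_smul_left, P.orth _ _ (by simp [Ne.symm hk]),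
      P.orth _ _ (by simp [Ne.symm hk]), mul_zero, mul_zero, add_zero, mul_zero, zero_smul, sub_zero]
  have hmemv : ap r v ∈ P.plane k₀ := by
    rw [hr.2]; exact sub_mem (Submodule.subset_span (by simp [v])) (Submodule.smul_mem _ _ hu)
  have hmemw : ap r w ∈ P.plane k₀ := by
    rw [hr.2]; exact sub_mem (Submodule.subset_span (by simp [w])) (Submodule.smul_mem _ _ hu)
  suffices h : ∃ ε : F, ε * ε = 1 ∧ ap r (ap x v) = ε • ap x (ap r v) ∧ ap r (ap x w) = ε • ap x (ap r w) by
    obtain ⟨ε, hε, hv, hw⟩ := h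
    refine ⟨ε, hε, fun p hp => ?_⟩
    obtain ⟨α, β, rfl⟩ := Submodule.mem_span_pair.1 hp
    constructor
    · rw [ap_add, ap_smul, ap_smul]
      exact add_mem (Submodule.smul_mem _ _ hmemv) (Submodule.smul_mem _ _ hmemw)
    · simp only [ap_add, ap_smul, smul_add, smul_comm ε]
      rw [← hv, ← hw]
  rcases P.act with ⟨cx, hx⟩ | hx
  · refine ⟨1, one_mul 1, ?_, ?_⟩
    all_goals
      rw [one_smul, hx, ap_smul, hr.2, ap_sub, ap_smul, ap_add, ap_smul, ap_smul, hx, hx]
      module
  · have hxv : ap x v = w := (hx k₀).1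
    have hxw : ap x w = -v := (hx k₀).2
    refine ⟨-1, by ring, ?_⟩
    have hvw : B' v w = 0 := P.orth _ _ (by simp)
    have hwv : B' w v = 0 := P.orth _ _ (by simp)
    have hγ : B' w w = B' v v := by rw [← hxv, ap_b]
    have hQ : 2 * Q (a • v + c • w) = (a * a + c * c) * B' v v := by
      rw [← b_self]
      simp only [b_add_left, b_add_right, b_smul_left, b_smul_right, hvw, hwv, hγ, mul_zero, add_zero, zero_add]
      ring
    have hu0 := hr.1
    have hfa : ∀ t, (Q (a • v + c • w))⁻¹ * t = 2 * t / ((a * a + c * c) * B' v v) := fun t => by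
      rw [← hQ, mul_div_mul_left _ _ h2, div_eq_inv_mul]
    have hne : (a * a + c * c) * B' v v ≠ 0 := hQ ▸ mul_ne_zero h2 hu0
    obtain ⟨hn1, hn2⟩ := mul_ne_zero_iff.1 hne
    have hn1' : a ^ 2 + c ^ 2 ≠ 0 := by rw [_root_.sq, _root_.sq]; exact hn1
    have hn1'' : c ^ 2 + a ^ 2 ≠ 0 := by rwa [add_comm]
    constructor
    · rw [neg_one_smul, hxv, hr.2, hr.2, ap_sub, ap_smul, ap_add, ap_smul, ap_smul, hxv, hxw, hfa, hfa]
      simp only [b_add_left, b_smul_left, hvw, hwv, hγ, mul_zero, add_zero, zero_add]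
      match_scalars <;> field_simp [hn1, hn1', hn1'', hn2] <;> ring
    · rw [neg_one_smul, hxw, ← neg_one_smul F v, ap_smul, hr.2, hr.2, ap_sub, ap_smul, ap_add, ap_smul, ap_smul, hxv,
        hxw, hfa, hfa]
      simp only [b_add_left, b_smul_left, hvw, hwv, hγ, mul_zero, add_zero, zero_add]
      match_scalars <;> field_simp [hn1, hn1', hn1'', hn2] <;> ring

/-- Elements of the plane group of every class modulo `Ω`. -/
theorem exists_adj_psi (hB : Nondeg Q) (h2 : (2 : F) ≠ 0) (hn : 2 ≤ finrank F (ι → F)) (P : Planes Q x κ) (k₀ : κ)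
    (z : ℤˣ × ℤˣ) : ∃ h, Adj P k₀ h ∧ psi hB (1 : F) h = z := by
  obtain ⟨-, -, hcls⟩ := omega_eq_ker_psi hB h2 hn (one_ne_zero (α := F))
  set v := P.b (k₀, 0)
  set w := P.b (k₀, 1)
  have hvw : B' v w = 0 := P.orth _ _ (by simp)
  have hwv : B' w v = 0 := P.orth _ _ (by simp)
  have hβv : B' v v ≠ 0 := aniso_of_orth_basis hB P.b P.orth _
  have hβw : B' w w ≠ 0 := aniso_of_orth_basis hB P.b P.orth _
  have hU : ∀ p ∈ P.plane k₀, (∀ y ∈ P.plane k₀, B' p y = 0) → p = 0 := by
    intro p hp hy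
    obtain ⟨a, c, rfl⟩ := Submodule.mem_span_pair.1 hp
    have h1 := hy v (Submodule.subset_span (by simp [v]))
    have h3 := hy w (Submodule.subset_span (by simp [w]))
    rw [b_add_left, b_smul_left, b_smul_left, hwv, mul_zero, add_zero, mul_eq_zero] at h1
    rw [b_add_left, b_smul_left, b_smul_left, hvw, mul_zero, zero_add, mul_eq_zero] at h3
    rw [h1.resolve_right hβv, h3.resolve_right hβw]
    simp
  have hdim : 2 ≤ finrank F (P.plane k₀) := by
    have hli : LinearIndependent F (fun t : Fin 2 => P.b (k₀, t)) :=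
      P.b.linearIndependent.comp _ fun s t h => (Prod.ext_iff.1 h).2
    have hle : Submodule.span F (Set.range fun t : Fin 2 => P.b (k₀, t)) ≤ P.plane k₀ := by
      rw [Submodule.span_le]
      rintro _ ⟨t, rfl⟩
      fin_cases t <;> exact Submodule.subset_span (by simp)
    have := Submodule.finrank_mono hle
    rwa [finrank_span_eq_card hli, Fintype.card_fin] at this
  obtain ⟨η, hη⟩ := FiniteField.exists_nonsquare (F := F) (fun h => h2 (by
    have := CharP.cast_eq_zero F (ringChar F)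
    rwa [h, Nat.cast_ofNat] at this))
  obtain ⟨u₁, hu₁, hq₁⟩ := exists_value hU h2 hdim 1
  obtain ⟨u₂, hu₂, hq₂⟩ := exists_value hU h2 hdim η
  have hη0 : η ≠ 0 := fun h => hη (h ▸ IsSquare.zero)
  obtain ⟨r₁, hr₁⟩ := exists_refl hB (v := u₁) (by rw [hq₁]; exact one_ne_zero)
  obtain ⟨r₂, hr₂⟩ := exists_refl hB (v := u₂) (by rw [hq₂]; exact hη0)
  have hne : spinor Q (1 : F) r₁ ≠ spinor Q (1 : F) r₂ := fun h => hη (by
    have := (hcls u₁ u₂ r₁ r₂ hr₁ hr₂).1 h
    rwa [hq₁, hq₂, one_mul] at this)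
  have e1 : psi hB (1 : F) r₁ = (-1, spinor Q 1 r₁) := Prod.ext (dickson_refl hB hr₁) rfl
  have e2 : psi hB (1 : F) r₂ = (-1, spinor Q 1 r₂) := Prod.ext (dickson_refl hB hr₂) rfl
  have a1 := adj_refl h2 P k₀ hu₁ hr₁
  have a2 := adj_refl h2 P k₀ hu₂ hr₂
  have hz : z = 1 ∨ z = psi hB 1 r₁ ∨ z = psi hB 1 r₂ ∨ z = psi hB 1 (r₁ * r₂) := by
    rw [map_mul, e1, e2]
    obtain ⟨z1, z2⟩ := z
    rcases Int.units_eq_one_or (spinor Q (1 : F) r₁) with h | h <;>
      rcases Int.units_eq_one_or (spinor Q (1 : F) r₂) with h' | h' <;>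
      rcases Int.units_eq_one_or z1 with rfl | rfl <;>
      rcases Int.units_eq_one_or z2 with rfl | rfl <;> simp [h, h'] at hne ⊢
  rcases hz with rfl | rfl | rfl | rfl
  · exact ⟨1, adj_one P k₀, map_one _⟩
  · exact ⟨r₁, a1, rfl⟩
  · exact ⟨r₂, a2, rfl⟩
  · exact ⟨_, adj_mul a1 a2, rfl⟩

/-- Elements with scalar square are conjugate under `Ω` into the normaliser. -/
theorem exists_conj_normalizer {K : Subalgebra F (Matrix ι ι F)} (hB : Nondeg Q) (h2 : (2 : F) ≠ 0) {d : ℕ}
    (hd : 1 ≤ d) (hι : Fintype.card ι = 2 * d) (hK : Cfsg.Geo.IsFieldSubalgebra 2 K)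
    (hKf : Cfsg.Geo.IsSelfAdjointFor (QuadraticMap.polar ⇑Q) K) (x : Grp Q) (hxΩ : x ∈ Cfsg.Omega F ⇑Q) {z : F}
    (hz : ∀ v, ap x (ap x v) = z • v) :
    ∃ g ∈ Cfsg.Geo.omegaGL ⇑Q, g⁻¹ * (x : GL ι F) * g ∈ Cfsg.Geo.subalgebraNormalizer K := by
  classical
  haveI : Nonempty ι := Fintype.card_pos_iff.1 (by omega)
  have hn : 2 ≤ finrank F (ι → F) := by rw [Module.finrank_pi]; omega
  obtain ⟨j, hjK, ν, hν, hjj, hjs⟩ := exists_gen hK h2
  haveI : Fact (¬ IsSquare ν) := ⟨hν⟩
  obtain ⟨hker, -, -⟩ := omega_eq_ker_psi hB h2 hn (one_ne_zero (α := F))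
  obtain ⟨v₀, hv₀⟩ := exists_aniso hB (by omega : 1 ≤ finrank F (ι → F))
  have hz1 : z * z = 1 := by
    have h := ap_q x (ap x v₀)
    rw [hz, q_smul, ap_q] at h
    exact mul_right_cancel₀ hv₀ (h.trans (one_mul _).symm)
  obtain ⟨κ, hκf, hκ, ⟨P⟩⟩ : ∃ κ : Type, ∃ _ : Fintype κ, Fintype.card κ = d ∧ Nonempty (Planes Q x κ) := by
    rcases mul_self_eq_one_iff.1 hz1 with rfl | rfl
    · refine exists_planes_invol hB h2 x (fun v => (hz v).trans (one_smul F v)) ?_ hι
      have : psi hB (1 : F) x = 1 := by rw [← MonoidHom.mem_ker, ← hker]; exact hxΩ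
      exact congrArg Prod.fst this
    · exact ⟨Fin d, inferInstance, Fintype.card_fin d,
        exists_planes_turn hB h2 x (fun v => (hz v).trans (neg_one_smul F v)) hd hι⟩
  obtain ⟨k₀⟩ : Nonempty κ := Fintype.card_pos_iff.1 (by omega)
  obtain ⟨J, hJ, hsemi⟩ := exists_adapted hB h2 P ν
  obtain ⟨g₁, hg₁⟩ := exists_conj h2 hB (sa_of_mem hjK hKf hjj) hJ
  obtain ⟨h, ⟨hfix, ε, hε, hplane⟩, hpsi⟩ := exists_adj_psi hB h2 hn P k₀ (psi hB (1 : F) g₁)⁻¹
  have hg : h * g₁ ∈ Cfsg.Omega F ⇑Q := by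
    rw [hker, MonoidHom.mem_ker, map_mul, hpsi, inv_mul_cancel]
  refine ⟨((h * g₁ : Grp Q) : GL ι F), ⟨h * g₁, hg, rfl⟩, ?_⟩
  set x' : Grp Q := h⁻¹ * x * h with hx'
  -- the action of the twisted element
  let T : End F (ι → F) := Matrix.toLin' ((x' : GL ι F) : Matrix ι ι F)
  have hT : ∀ v, T v = ap x' v := fun v => Matrix.toLin'_apply _ v
  let e : κ → F := fun k => if k = k₀ then ε else 1
  have hTb : ∀ s, T (P.b s) = e s.1 • ap x (P.b s) := by
    rintro ⟨k, t⟩
    rw [hT, hx', ap_mul, ap_mul]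
    by_cases hk : k = k₀
    · subst hk
      have hmem : P.b (k, t) ∈ P.plane k := by fin_cases t <;> exact Submodule.subset_span (by simp)
      obtain ⟨-, h3⟩ := hplane _ hmem
      simp only [e, if_true]
      have h4 : ap x (ap h (P.b (k, t))) = ε • ap h (ap x (P.b (k, t))) := by rw [h3, smul_smul, hε, one_smul]
      rw [h4, ap_smul, ap_inv_ap]
    · simp only [e, if_neg hk, one_smul]
      rw [hfix k hk]
      have hinv : ∀ t, ap h⁻¹ (P.b (k, t)) = P.b (k, t) := fun t => by
        conv_lhs => rw [← hfix k hk t]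
        rw [ap_inv_ap]
      rcases P.act with ⟨cx, hcx⟩ | hcx
      · rw [hcx, ap_smul, hinv]
      · fin_cases t
        · simp [(hcx k).1, hinv]
        · simp only [Fin.mk_one]
          rw [(hcx k).2, ← neg_one_smul F, ap_smul, hinv]
  set y : Grp Q := g₁⁻¹ * x' * g₁ with hy
  have hmat : (((h * g₁ : Grp Q) : GL ι F))⁻¹ * (x : GL ι F) * ((h * g₁ : Grp Q) : GL ι F) = (y : GL ι F) := by
    rw [← Subgroup.coe_inv, ← Subgroup.coe_mul, ← Subgroup.coe_mul]
    congr 1
    rw [hy, hx', _root_.mul_inv_rev]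
    group
  rw [hmat]
  refine mem_normalizer_of_semi hK hjK hjs _ ?_
  have hj' : ∀ v, Matrix.toLin' j v = ap g₁⁻¹ (J (ap g₁ v)) := fun v => by rw [← hg₁, ap_inv_ap]
  rcases hsemi e T hTb with hc | hc
  · refine Or.inl (Matrix.ext_iff_mulVec.2 fun v => ?_)
    rw [← Matrix.mulVec_mulVec, ← Matrix.mulVec_mulVec]
    show ap y (j.mulVec v) = j.mulVec (ap y v)
    simp only [← Matrix.toLin'_apply, hj', hy, ap_mul, ap_ap_inv, ← hT]
    rw [hc]
  · refine Or.inr (Matrix.ext_iff_mulVec.2 fun v => ?_)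
    rw [Matrix.neg_mulVec, ← Matrix.mulVec_mulVec, ← Matrix.mulVec_mulVec]
    show ap y (j.mulVec v) = -(j.mulVec (ap y v))
    simp only [← Matrix.toLin'_apply, hj', hy, ap_mul, ap_ap_inv, ← hT]
    rw [hc, ← neg_one_smul F, ap_smul, neg_one_smul]

end CfsgLib.Derange.OExt
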