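import Cfsg.Agent.Lib.Derange.OrthReal
import Cfsg.Agent.Lib.Derange.Invariant
import Cfsg.Agent.Lib.Classical.OrthNondegMax
import Cfsg.Agent.Lib.Classical.OrthDisc
import Cfsg.Agent.Lib.Classical.OmegaTests
import Cfsg.Agent.Lib.Classical.WittExtension

/-!
Invariant subspaces of isometries of odd prime order, through the shapes of the parts.
-/

set_option autoImplicit false
set_option linter.style.haveILetI false

namespace CfsgLib.Derange

open Polynomial Module QuadraticMap CfsgLib.Classical CfsgLib.Classical.OrthModels CfsgLib.Orth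
open CfsgLib.Classical.OrthPrimeReal CfsgLib.Classical.OrthPrimeFactors CfsgLib.Classical.OrthPrimeCount

universe u v

variable {F : Type u} [Field F] {ι : Type} [Fintype ι] [DecidableEq ι] {Q : QuadraticForm F (ι → F)}

/-- The restriction of the form. -/
noncomputable def qOn (Q : QuadraticForm F (ι → F)) (W : Submodule F (ι → F)) : QuadraticForm F W := Q.comp W.subtype

omit [Fintype ι] [DecidableEq ι] in
theorem qOn_nondeg {W : Submodule F (ι → F)} (hW : NondegOn Q W) : (polarBilin (qOn Q W)).Nondegenerate := by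
  have h : (polarBilin (qOn Q W)).SeparatingLeft := fun x hx => Subtype.ext (hW x x.2 fun y hy => by
    have := hx ⟨y, hy⟩
    rw [polarBilin_apply_apply] at this
    simpa [qOn, QuadraticMap.polar] using this)
  exact ⟨h, fun y hy => h y fun x => (QuadraticMap.polar_comm _ _ _).trans (hy x)⟩

/-- The characteristic polynomial of an element. -/
noncomputable abbrev cp (x : Grp Q) : F[X] := ((x : GL ι F) : Matrix ι ι F).charpoly

theorem pow_toLin (x : Grp Q) {r : ℕ} (hx : x ^ r = 1) :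
    Matrix.toLin' ((x : GL ι F) : Matrix ι ι F) ^ r = 1 := by
  rw [← Matrix.toLin'_pow, ← Units.val_pow_eq_pow_val, ← SubmonoidClass.coe_pow, hx]
  exact Matrix.toLin'_one

theorem invariant_orth (x : Grp Q) {W : Submodule F (ι → F)} (hinv : ∀ w ∈ W, ap x w ∈ W) :
    ∀ w ∈ orth Q W, ap x w ∈ orth Q W := fun w hw => mem_orth.2 fun u hu => by
  let T : W →ₗ[F] W := (Matrix.toLin' ((x : GL ι F) : Matrix ι ι F)).restrict fun w hw => hinv w hw
  have hinj : Function.Injective T := fun a b h => Subtype.ext (ap_inj x (congrArg Subtype.val h))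
  obtain ⟨u₀, hu₀⟩ := (LinearMap.injective_iff_surjective.mp hinj) ⟨u, hu⟩
  have e : ap x (u₀ : ι → F) = u := congrArg Subtype.val hu₀
  rw [← e, ap_b]
  exact mem_orth.1 hw _ u₀.2

/-- The parts of an isometry on an invariant non-degenerate subspace and its orthogonal. -/
theorem real_restrict [Fintype F] (hB : Nondeg Q) {r : ℕ} (x : Grp Q) (hx : x ^ r = 1) {W : Submodule F (ι → F)}
    (hW : NondegOn Q W) (hinv : ∀ w ∈ W, ap x w ∈ W) :
    ∃ fA fB, Real r (⇑(qOn Q W)) fA ∧ Real r (⇑(qOn Q (orth Q W))) fB ∧ cp x = fA * fB := by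
  set T := Matrix.toLin' ((x : GL ι F) : Matrix ι ι F) with hT
  have h1 : ∀ w ∈ W, T w ∈ W := hinv
  have h2 : ∀ w ∈ orth Q W, T w ∈ orth Q W := invariant_orth x hinv
  have hc : IsCompl W (orth Q W) := ⟨Submodule.disjoint_def.2 fun y hy hy' => nondeg_inf hW hy hy',
    codisjoint_iff.2 (sup_orth_eq_top hB hW)⟩
  have hp : ∀ (U : Submodule F (ι → F)) (hU : ∀ w ∈ U, T w ∈ U), (T.restrict hU) ^ r = 1 := fun U hU => by
    refine LinearMap.ext fun y => Subtype.ext ?_
    rw [Module.End.pow_restrict]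
    show (T ^ r) y = y
    rw [pow_toLin x hx]; rfl
  refine ⟨_, _, ⟨T.restrict h1, fun y => ap_q x y, hp W h1, rfl⟩, ⟨T.restrict h2, fun y => ap_q x y, hp _ h2, rfl⟩, ?_⟩
  rw [cp, ← Matrix.charpoly_toLin']
  exact charpoly_of_isCompl T h1 h2 hc

variable [Fintype F] {p : ℕ} [hp : Fact p.Prime] [CharP F p]

include hp in
/-- Semisimple isometries of odd order with one characteristic polynomial are conjugate. -/
theorem isConj_of_cp (hB : Nondeg Q) {r : ℕ} (hr : r.Prime) (hr2 : r ≠ 2) (hrp : r ≠ p) (g h : Grp Q)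
    (hg : g ^ r = 1) (hh : h ^ r = 1) (hc : cp g = cp h) : IsConj g h := by
  have hss : ∀ g : Grp Q, g ^ r = 1 → Module.End.IsSemisimple (Matrix.toLin' ((g : GL ι F) : Matrix ι ι F)) :=
    fun g hg => SemisimpleDet.isSemisimple_of_pow p _ (k := r)
      (fun h => hrp ((Nat.prime_dvd_prime_iff_eq hp.out hr).mp h).symm) (pow_toLin g hg)
  obtain ⟨e, he⟩ := SemisimpleClasses.exists_conj_aux _ _ _ (Matrix.toLin' ((g : GL ι F) : Matrix ι ι F))
    (Matrix.toLin' ((h : GL ι F) : Matrix ι ι F)) rfl (hss g hg) (hss h hh)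
    (by rw [Matrix.charpoly_toLin', Matrix.charpoly_toLin']; exact hc)
  have hdvd := orderOf_dvd_of_pow_eq_one hg
  exact OrthSemisimple.isConj_of_linear (p := p) Q (bilin_nondeg hB) g h
    ((hr.odd_of_ne_two hr2).of_dvd_nat hdvd)
    (Nat.Coprime.coprime_dvd_left hdvd ((Nat.coprime_primes hr hp.out).mpr hrp)) e he

include hp in
/-- An invariant copy of `U`, from the shapes. -/
theorem exists_invariant (hB : Nondeg Q) {r : ℕ} (hr : r.Prime) (hr2 : r ≠ 2) (hrp : r ≠ p) (x : Grp Q)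
    (hx : x ^ r = 1) {U : Submodule F (ι → F)} (hU : NondegOn Q U) {fA fB : F[X]}
    (hA : Real r (⇑(qOn Q U)) fA) (hB' : Real r (⇑(qOn Q (orth Q U))) fB) (hf : cp x = fA * fB) :
    ∃ g : Grp Q, ∀ w ∈ img g U, ap x w ∈ img g U := by
  obtain ⟨TA, hTA, hTAr, hTAc⟩ := hA
  obtain ⟨TB, hTB, hTBr, hTBc⟩ := hB'
  have hc : IsCompl U (orth Q U) := ⟨Submodule.disjoint_def.2 fun y hy hy' => nondeg_inf hU hy hy',
    codisjoint_iff.2 (sup_orth_eq_top hB hU)⟩
  let e := Submodule.prodEquivOfIsCompl U (orth Q U) hc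
  let T : Module.End F (ι → F) := e.conj (LinearMap.prodMapRingHom F U (orth Q U) (TA, TB))
  have hTe : ∀ z, T (e z) = e (TA z.1, TB z.2) := fun z => by
    simp [T, LinearEquiv.conj_apply]
  have hQe : ∀ z, Q (e z) = qOn Q U z.1 + qOn Q (orth Q U) z.2 := fun z => by
    show Q ((z.1 : ι → F) + (z.2 : ι → F)) = _
    rw [q_add, mem_orth.1 z.2.2 _ z.1.2, add_zero]; rfl
  obtain ⟨y, hy⟩ := exists_iso hB T fun v => by
    obtain ⟨z, rfl⟩ := e.surjective v
    rw [hTe, hQe, hQe, hTA, hTB]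
  have hy' : Matrix.toLin' ((y : GL ι F) : Matrix ι ι F) = T := LinearMap.ext hy
  have hTr : T ^ r = 1 := by
    show (e.conj _) ^ r = 1
    rw [show e.conj (LinearMap.prodMapRingHom F U (orth Q U) (TA, TB)) ^ r =
      e.conj ((LinearMap.prodMapRingHom F U (orth Q U) (TA, TB)) ^ r) from (map_pow e.conjRingEquiv _ r).symm,
      ← map_pow, show (TA, TB) ^ r = 1 from Prod.ext hTAr hTBr, map_one]
    exact map_one e.conjRingEquiv
  have hyr : y ^ r = 1 := by
    refine ext_ap fun v => ?_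
    show (((y ^ r : Grp Q) : GL ι F) : Matrix ι ι F).mulVec v = ap 1 v
    rw [ap_one, ← Matrix.toLin'_apply, SubmonoidClass.coe_pow, Units.val_pow_eq_pow_val, Matrix.toLin'_pow, hy', hTr]
    rfl
  have hyc : cp y = fA * fB := by
    rw [cp, ← Matrix.charpoly_toLin', hy', LinearEquiv.charpoly_conj, LinearMap.prodMapRingHom_apply,
      LinearMap.charpoly_prodMap, hTAc, hTBc]
  obtain ⟨g, hg⟩ := isConj_iff.mp (isConj_of_cp (p := p) hB hr hr2 hrp y x hyr hx (hyc.trans hf.symm))
  refine ⟨g, fun w hw => ?_⟩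
  rw [mem_img] at hw ⊢
  have e1 : ap g⁻¹ (ap x w) = ap y (ap g⁻¹ w) := by
    rw [← hg, ← ap_mul, ← ap_mul, mul_assoc, inv_mul_cancel_left]
  have hz : ap g⁻¹ w = e (⟨_, hw⟩, 0) := by simp [e]
  rw [e1, hz, hy, hTe]
  simp [e]

/-- Odd order elements lie in `Ω`. -/
theorem mem_omega_of_odd (hB : Nondeg Q) (hn : 5 ≤ Fintype.card ι) {r : ℕ} (hr : Odd r) {g : Grp Q}
    (hg : g ^ r = 1) : g ∈ Cfsg.Omega F ⇑Q := by
  have h1 : ∀ f : Grp Q →* ℤˣ, f g = 1 := fun f => by
    rcases Int.units_eq_one_or (f g) with h | h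
    · exact h
    · have := congrArg f hg
      rw [map_pow, map_one, h, hr.neg_one_pow] at this
      exact h.trans this
  exact (mem_omega_iff hB (by rw [Module.finrank_pi]; omega) (by rw [Module.finrank_pi]; intro h; omega) g).2
    ⟨h1 _, fun _ => h1 _⟩

omit [Fintype F] hp [CharP F p] in
/-- Transitivity and a subgroup of the stabiliser bound the number of subspaces. -/
theorem card_mul_dvd [Finite F] (P : Submodule F (ι → F) → Prop) (hP : ∀ (g : Grp Q) W, P W → P (img g W))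
    {W₀ : Submodule F (ι → F)} (hW₀ : P W₀) (htrans : ∀ W, P W → ∃ g : Grp Q, img g W₀ = W)
    {H : Type*} [Group H] (φ : H →* Grp Q) (hinj : Function.Injective φ) (hfix : ∀ h, img (φ h) W₀ = W₀) :
    Nat.card {W // P W} * Nat.card H ∣ Nat.card (Grp Q) := by
  let S : Subgroup (Grp Q) :=
    { carrier := {g | img g W₀ = W₀}
      one_mem' := img_one W₀
      mul_mem' := fun {a b} (ha : img a W₀ = W₀) (hb : img b W₀ = W₀) => by
        show img (a * b) W₀ = W₀; rw [img_mul, hb, ha]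
      inv_mem' := fun {a} (ha : img a W₀ = W₀) => by
        show img a⁻¹ W₀ = W₀
        conv_lhs => rw [← ha, ← img_mul, inv_mul_cancel, img_one] }
  have hcard : Nat.card {W // P W} = Nat.card (Grp Q ⧸ S) := by
    refine Nat.card_congr (Equiv.ofBijective (fun c : Grp Q ⧸ S => Quotient.liftOn' c
      (fun g => (⟨img g W₀, hP g W₀ hW₀⟩ : {W // P W})) fun a b hab => Subtype.ext ?_) ⟨?_, fun W => ?_⟩).symm
    · have h : img (a⁻¹ * b) W₀ = W₀ := QuotientGroup.leftRel_apply.1 hab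
      show img a W₀ = img b W₀
      rw [← mul_inv_cancel_left a b, img_mul, h]
    · intro c c'
      refine Quotient.inductionOn₂' c c' fun a b h => Quotient.sound' (QuotientGroup.leftRel_apply.2 ?_)
      have h' : img a W₀ = img b W₀ := congrArg Subtype.val h
      show img (a⁻¹ * b) W₀ = W₀
      rw [img_mul, ← h', ← img_mul, inv_mul_cancel, img_one]
    · obtain ⟨g, hg⟩ := htrans W.1 W.2
      exact ⟨QuotientGroup.mk g, Subtype.ext hg⟩
  rw [hcard, Subgroup.card_eq_card_quotient_mul_card_subgroup S]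
  refine mul_dvd_mul_left _ ?_
  have hle : φ.range ≤ S := by rintro _ ⟨h, rfl⟩; exact hfix h
  rw [Nat.card_congr (MonoidHom.ofInjective hinj).toEquiv]
  exact Subgroup.card_dvd_of_le hle

omit [Fintype F] hp [CharP F p] in
/-- Isometries of a non-degenerate subspace extend by the identity. -/
theorem exists_embed (hB : Nondeg Q) {U : Submodule F (ι → F)} (hU : NondegOn Q U) {κ : Type} [Fintype κ]
    [DecidableEq κ] (R : QuadraticForm F (κ → F)) (hR : Iso (⇑R) (⇑(qOn Q U))) :
    ∃ φ : Grp R →* Grp Q, Function.Injective φ ∧ ∀ W ≤ orth Q U, ∀ h, img (φ h) W = W := by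
  obtain ⟨l, hl⟩ := hR
  have hc : IsCompl U (orth Q U) := ⟨Submodule.disjoint_def.2 fun y hy hy' => nondeg_inf hU hy hy',
    codisjoint_iff.2 (sup_orth_eq_top hB hU)⟩
  let e := Submodule.prodEquivOfIsCompl U (orth Q U) hc
  have hQe : ∀ z, Q (e z) = qOn Q U z.1 + qOn Q (orth Q U) z.2 := fun z => by
    show Q ((z.1 : ι → F) + (z.2 : ι → F)) = _
    rw [q_add, mem_orth.1 z.2.2 _ z.1.2, add_zero]; rfl
  let T : Grp R → Module.End F (ι → F) := fun h =>
    e.toLinearMap ∘ₗ ((l.toLinearMap ∘ₗ Matrix.toLin' ((h : GL κ F) : Matrix κ κ F) ∘ₗ l.symm.toLinearMap).prodMap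
      LinearMap.id) ∘ₗ e.symm.toLinearMap
  have hT : ∀ h u w, T h (e (u, w)) = e (l (ap h (l.symm u)), w) := fun h u w => by
    simp [T, ap]
  choose y hy using fun h => exists_iso hB (T h) fun v => by
    obtain ⟨⟨u, w⟩, rfl⟩ := e.surjective v
    rw [hT, hQe, hQe, hl, ap_q, ← hl, l.apply_symm_apply]
  let φ : Grp R →* Grp Q := MonoidHom.mk' y fun a b => ext_ap fun v => by
    obtain ⟨⟨u, w⟩, rfl⟩ := e.surjective v
    rw [ap_mul, hy, hy, hy, hT, hT, hT, l.symm_apply_apply, ap_mul]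
  refine ⟨φ, fun a b hab => ext_ap fun v => ?_, fun W hW h => ?_⟩
  · have h := congrArg (fun g : Grp Q => ap g (e (l v, 0))) hab
    simp only [φ, MonoidHom.mk'_apply, hy, hT, l.symm_apply_apply] at h
    have := congrArg Prod.fst (e.injective h)
    exact l.injective this
  · have hfix : ∀ w ∈ W, ap (φ h) w = w := fun w hw => by
      have hz : w = e (0, ⟨w, hW hw⟩) := by simp [e]
      rw [hz]
      show ap (y h) _ = _
      rw [hy, hT, map_zero, ap_zero, map_zero]
    refine Submodule.eq_of_le_of_finrank_eq ?_ (finrank_img _ W)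
    rintro v hv
    rw [mem_img] at hv
    rw [← ap_ap_inv (φ h) v, hfix _ hv]
    exact hv

omit [Fintype F] hp [CharP F p] in
/-- Isometric subspaces are moved onto each other. -/
theorem exists_move [Finite F] (hB : Nondeg Q) {U W : Submodule F (ι → F)} (h : Iso (⇑(qOn Q U)) (⇑(qOn Q W))) :
    ∃ g : Grp Q, img g U = W := by
  obtain ⟨e, he⟩ := h
  haveI := Fintype.ofFinite F
  obtain ⟨g, hg, hgX⟩ := Classical.Witt.witt_quadratic Q (bilin_nondeg hB) U W e he
  obtain ⟨y, hy⟩ := exists_iso hB g.toLinearMap hg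
  refine ⟨y, ?_⟩
  ext v
  rw [mem_img]
  constructor
  · intro hv
    have := hgX ⟨_, hv⟩
    rw [show g (ap y⁻¹ v) = v from (hy _).symm.trans (ap_ap_inv y v)] at this
    exact this ▸ Subtype.mem _
  · intro hv
    have e1 : ap y (e.symm ⟨v, hv⟩ : ι → F) = v := by
      rw [hy]; exact (hgX _).trans (by rw [e.apply_symm_apply])
    rw [← e1, ap_inv_ap]
    exact Subtype.mem _

omit [Fintype F] hp [CharP F p] [DecidableEq ι] in
theorem nondegOn_geo {W : Submodule F (ι → F)} (hW : NondegOn Q W) :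
    Cfsg.Geo.IsNondegenerateOn (QuadraticMap.polar ⇑Q) W := fun w hw hw0 => by
  obtain ⟨y, hy, hwy⟩ : ∃ y ∈ W, QuadraticMap.polar ⇑Q w y ≠ 0 := by
    by_contra hc
    push Not at hc
    exact hw0 (hW w hw hc)
  exact ⟨⟨y, hy, by rwa [QuadraticMap.polar_comm]⟩, y, hy, hwy⟩

omit hp [CharP F p] in
/-- Plus type and the split model. -/
theorem isPlusTypeOn_iff {W : Submodule F (ι → F)} (hW : NondegOn Q W) {k : ℕ} (hd : finrank F W = 2 * k) :
    Cfsg.Geo.IsPlusTypeOn ⇑Q W ↔ Iso (⇑(qOn Q W)) (Cfsg.quadFormPlus k F) := by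
  classical
  constructor
  · rintro ⟨U, hUW, hU, hUd⟩
    obtain ⟨a, b, hab⟩ := RestrictScalars.exists_ab (F := F)
    refine (classify_even (qOn Q W) (qOn_nondeg hW) hd a b hab).resolve_right ?_
    rintro ⟨j, rfl, e, he⟩
    obtain ⟨R, hR, hRn⟩ := exists_quadForm_minus j hab
    refine minus_no_half j hab hR hRn ((U.comap W.subtype).map e.toLinearMap) ⟨?_, ?_⟩
    · rintro _ ⟨w, hw, rfl⟩
      rw [hR, LinearEquiv.coe_coe, he]
      exact hU _ hw
    · rw [LinearEquiv.finrank_map_eq, (Submodule.comapSubtypeEquivOfLe hUW).finrank_eq, hUd, hd,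
        Module.finrank_pi, Fintype.card_sum, Fintype.card_sum, Fintype.card_fin, Fintype.card_fin]
      omega
  · rintro ⟨e, he⟩
    let f : (Fin k → F) →ₗ[F] (Fin k ⊕ Fin k → F) :=
      (LinearEquiv.sumArrowLequivProdArrow (Fin k) (Fin k) F F).symm.toLinearMap ∘ₗ LinearMap.inl F _ _
    have hf : Function.Injective f := fun a b h => funext fun j => by simpa [f] using congrFun h (Sum.inl j)
    refine ⟨(LinearMap.range f).map (W.subtype ∘ₗ e.symm.toLinearMap), ?_, ?_, ?_⟩
    · rintro _ ⟨z, -, rfl⟩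
      exact Subtype.mem _
    · rintro _ ⟨_, ⟨z, rfl⟩, rfl⟩
      show qOn Q W (e.symm (f z)) = 0
      rw [← he, e.apply_symm_apply]
      simp [f, Cfsg.quadFormPlus]
    · rw [← LinearMap.range_comp, LinearMap.finrank_range_of_inj
        ((W.injective_subtype.comp e.symm.injective).comp hf), Module.finrank_fin_fun, hd]

end CfsgLib.Derange
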