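import Mathlib
import Cfsg.Agent.Lib.Derange.Count
import Cfsg.Agent.Lib.Classical.NilpotentClasses

/-!
Complementary pairs: counting, and invariant pairs of nilpotent endomorphisms.
-/

set_option autoImplicit false
set_option linter.style.haveILetI false

namespace CfsgLib.Derange

open Module

universe u v

variable {F : Type u} [Field F]

theorem exists_le_map {α β : Type*} {f : α → β} (ν : Multiset β) :
    ∀ t : Multiset α, ν ≤ t.map f → ∃ s ≤ t, ν = s.map f := by
  classical
  induction ν using Multiset.induction with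
  | empty => exact fun t _ => ⟨0, Multiset.zero_le t, (Multiset.map_zero f).symm⟩
  | cons a ν ih =>
    intro t ht
    obtain ⟨x, hx, rfl⟩ := Multiset.mem_map.mp (Multiset.mem_of_le ht (Multiset.mem_cons_self _ _))
    obtain ⟨t', rfl⟩ := Multiset.exists_cons_of_mem hx
    rw [Multiset.map_cons, Multiset.cons_le_cons_iff] at ht
    obtain ⟨s, hs, rfl⟩ := ih t' ht
    exact ⟨x ::ₘ s, Multiset.cons_le_cons x hs, (Multiset.map_cons f x s).symm⟩

/-- Chain lengths and invariant complementary pairs. -/
theorem exists_pair_iff {V : Type v} [AddCommGroup V] [Module F V] [FiniteDimensional F V] (N : End F V)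
    {ι : Type} [Fintype ι] {μ : ι → ℕ} (hμ : ∀ i, 0 < μ i) (C : CfsgLib.NilClasses.Chains N μ)
    (hN : IsNilpotent N) (m : ℕ) :
    (∃ U W : Submodule F V, IsCompl U W ∧ finrank F U = m ∧ (∀ x ∈ U, N x ∈ U) ∧ ∀ x ∈ W, N x ∈ W) ↔
      ∃ ν : Multiset ℕ, ν ≤ Finset.univ.val.map μ ∧ ν.sum = m := by
  classical
  constructor
  · rintro ⟨U, W, hc, hUm, hU, hW⟩
    obtain ⟨κ, _, ν, hν, ⟨D⟩⟩ := CfsgLib.NilClasses.exists_chains _ (N.restrict hU : End F U) rfl
      (Module.End.isNilpotent.restrict hU hN)
    obtain ⟨lam, _, ω, hω, ⟨E⟩⟩ := CfsgLib.NilClasses.exists_chains _ (N.restrict hW : End F W) rfl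
      (Module.End.isNilpotent.restrict hW hN)
    have hrank : ∀ k, finrank F (LinearMap.range (N ^ k)) = ∑ i, (ν i - k) + ∑ i, (ω i - k) := by
      intro k
      rw [← D.finrank_range_pow k, ← E.finrank_range_pow k, Module.End.pow_restrict k hU,
        Module.End.pow_restrict k hW]
      set A : End F U := (N ^ k).restrict (p := U) (q := U) (Module.End.pow_apply_mem_of_forall_mem k hU) with hA
      set B : End F W := (N ^ k).restrict (p := W) (q := W) (Module.End.pow_apply_mem_of_forall_mem k hW) with hB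
      let Φ := Submodule.prodEquivOfIsCompl U W hc
      have hcomm : (N ^ k) ∘ₗ (Φ : (U × W) →ₗ[F] V) = (Φ : (U × W) →ₗ[F] V) ∘ₗ A.prodMap B := by
        refine LinearMap.ext fun x => ?_
        simp [Φ, A, B, map_add]
      have h1 : LinearMap.range (N ^ k) = (LinearMap.range (A.prodMap B)).map (Φ : (U × W) →ₗ[F] V) := by
        rw [← LinearMap.range_comp, ← hcomm, LinearMap.range_comp, LinearEquiv.range, Submodule.map_top]
      rw [h1, LinearEquiv.finrank_map_eq, LinearMap.range_prodMap]
      let eq : ((LinearMap.range A).prod (LinearMap.range B)) ≃ₗ[F] LinearMap.range A × LinearMap.range B :=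
        { toFun := fun x => (⟨x.1.1, x.2.1⟩, ⟨x.1.2, x.2.2⟩)
          map_add' := fun _ _ => rfl
          map_smul' := fun _ _ => rfl
          invFun := fun x => ⟨(x.1.1, x.2.1), x.1.2, x.2.2⟩
          left_inv := fun _ => rfl
          right_inv := fun _ => rfl }
      rw [eq.finrank_eq, Module.finrank_prod]
    have heq : Finset.univ.val.map μ = Finset.univ.val.map ν + Finset.univ.val.map ω := by
      refine CfsgLib.NilClasses.multiset_eq_of_sums (fun x hx => ?_) (fun x hx => ?_) fun k => ?_
      · obtain ⟨i, -, rfl⟩ := Multiset.mem_map.mp hx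
        exact hμ i
      · rcases Multiset.mem_add.mp hx with hx | hx <;> obtain ⟨i, -, rfl⟩ := Multiset.mem_map.mp hx
        · exact hν i
        · exact hω i
      · rw [Multiset.map_add, Multiset.sum_add, Multiset.map_map, Multiset.map_map, Multiset.map_map,
          ← Finset.sum_eq_multiset_sum, ← Finset.sum_eq_multiset_sum, ← Finset.sum_eq_multiset_sum]
        exact (C.finrank_range_pow k).symm.trans (hrank k)
    refine ⟨Finset.univ.val.map ν, ?_, ?_⟩
    · rw [heq]
      exact Multiset.le_add_right _ _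
    · rw [← Finset.sum_eq_multiset_sum, ← hUm, Module.finrank_eq_card_basis D.b, Fintype.card_sigma]
      simp
  · rintro ⟨ν, hν, rfl⟩
    obtain ⟨S, hS⟩ : ∃ S : Finset ι, ν = S.val.map μ := by
      obtain ⟨t, ht, rfl⟩ := exists_le_map ν _ hν
      exact ⟨⟨t, Multiset.nodup_of_le ht Finset.univ.nodup⟩, rfl⟩
    let U := Submodule.span F (C.b '' {a | a.1 ∈ S})
    let W := Submodule.span F (C.b '' {a | a.1 ∉ S})
    have hinv : ∀ (P : ι → Prop), ∀ x ∈ Submodule.span F (C.b '' {a | P a.1}),
        N x ∈ Submodule.span F (C.b '' {a | P a.1}) := by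
      intro P x hx
      induction hx using Submodule.span_induction with
      | mem y hy =>
        obtain ⟨⟨i, j⟩, hi, rfl⟩ := hy
        rw [C.shift]
        split_ifs with h
        · exact Submodule.subset_span ⟨⟨i, ⟨_, h⟩⟩, hi, rfl⟩
        · exact Submodule.zero_mem _
      | zero => rw [map_zero]; exact Submodule.zero_mem _
      | add a b _ _ ha hb => rw [map_add]; exact Submodule.add_mem _ ha hb
      | smul c a _ ha => rw [map_smul]; exact Submodule.smul_mem _ c ha
    refine ⟨U, W, ?_, ?_, hinv (· ∈ S), hinv (· ∉ S)⟩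
    · constructor
      · exact C.b.linearIndependent.disjoint_span_image (Set.disjoint_left.mpr fun a ha ha' => ha' ha)
      · rw [codisjoint_iff, eq_top_iff, ← C.b.span_eq, Submodule.span_le]
        rintro _ ⟨a, rfl⟩
        by_cases ha : a.1 ∈ S
        · exact Submodule.mem_sup_left (Submodule.subset_span ⟨a, ha, rfl⟩)
        · exact Submodule.mem_sup_right (Submodule.subset_span ⟨a, ha, rfl⟩)
    · let e : (Σ i : S, Fin (μ i)) → Σ i, Fin (μ i) := fun a => ⟨a.1.1, a.2⟩
      have he : Function.Injective e := by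
        rintro ⟨⟨i, hi⟩, j⟩ ⟨⟨i', hi'⟩, j'⟩ h
        simp only [e, Sigma.mk.inj_iff] at h
        obtain ⟨rfl, h⟩ := h
        rw [eq_of_heq h]
      have hU : U = Submodule.span F (Set.range (C.b ∘ e)) := by
        show Submodule.span F _ = _
        congr 1
        ext v
        constructor
        · rintro ⟨⟨i, j⟩, hi, rfl⟩
          exact ⟨⟨⟨i, hi⟩, j⟩, rfl⟩
        · rintro ⟨⟨⟨i, hi⟩, j⟩, rfl⟩
          exact ⟨⟨i, j⟩, hi, rfl⟩
      rw [hU, finrank_span_eq_card (C.b.linearIndependent.comp e he), Fintype.card_sigma, hS]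
      simp only [Fintype.card_fin]
      exact (Finset.sum_coe_sort S μ).trans (Finset.sum_eq_multiset_sum _ _)

variable {F : Type u} [Field F] [Fintype F] {V : Type v} [AddCommGroup V] [Module F V] [Finite V]

/-- The number of complementary pairs is a number of subspaces times a number with the prime `p` only. -/
theorem exists_card_pairs {q : ℕ} (hq : Fintype.card F = q) (k : ℕ) :
    ∃ a : ℕ, a ∣ q ^ (finrank F V * k) ∧
      Nat.card {P : Submodule F V × Submodule F V // IsCompl P.1 P.2 ∧ finrank F P.1 = k} =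
        Nat.card {W : Submodule F V // finrank F W = k} * a := by
  classical
  haveI : FiniteDimensional F V := Module.Finite.of_finite
  haveI : Finite (Submodule F V) :=
    Finite.of_injective (fun W : Submodule F V => (W : Set V)) SetLike.coe_injective
  let e : {P : Submodule F V × Submodule F V // IsCompl P.1 P.2 ∧ finrank F P.1 = k} ≃
      Σ U : {U : Submodule F V // finrank F U = k}, {W : Submodule F V // IsCompl U.1 W} :=
    { toFun := fun P => ⟨⟨P.1.1, P.2.2⟩, ⟨P.1.2, P.2.1⟩⟩
      invFun := fun s => ⟨(s.1.1, s.2.1), s.2.2, s.1.2⟩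
      left_inv := fun P => rfl
      right_inv := fun s => rfl }
  have key : ∀ U : {U : Submodule F V // finrank F U = k}, ∃ a, a * q ^ (k * k) = q ^ (finrank F V * k) ∧
      Nat.card {W : Submodule F V // IsCompl U.1 W} = a := by
    rintro ⟨U, hU⟩
    refine ⟨_, ?_, rfl⟩
    rw [Nat.card_congr (Submodule.isComplEquivProj U)]
    let R : (V →ₗ[F] U) →ₗ[F] (U →ₗ[F] U) := LinearMap.lcomp F U U.subtype
    obtain ⟨W, hW⟩ := U.exists_isCompl
    let P₀ : V →ₗ[F] U := Submodule.projectionOnto U W hW
    have hP₀ : ∀ x : U, P₀ x = x := fun x => Submodule.projectionOnto_apply_left hW x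
    have hfib : Nat.card {f : V →ₗ[F] U // ∀ x : U, f x = x} = Nat.card (LinearMap.ker R) := by
      refine Nat.card_congr ⟨fun f => ⟨f.1 - P₀, LinearMap.mem_ker.mpr (LinearMap.ext fun x => by
        simp [R, f.2 x, hP₀ x])⟩, fun g => ⟨g.1 + P₀, fun x => by
          have := LinearMap.congr_fun (LinearMap.mem_ker.mp g.2) x
          simp only [R, LinearMap.lcomp_apply, LinearMap.zero_apply] at this
          rw [LinearMap.add_apply, show g.1 (x : V) = 0 from this, hP₀ x, zero_add]⟩,
        fun f => Subtype.ext (sub_add_cancel _ _), fun g => Subtype.ext (add_sub_cancel_right _ _)⟩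
    rw [hfib]
    have hR : LinearMap.range R = ⊤ := LinearMap.range_eq_top.mpr fun g =>
      ⟨g ∘ₗ P₀, LinearMap.ext fun x => by simp [R, hP₀ x]⟩
    have hrn := R.finrank_range_add_finrank_ker
    rw [hR, finrank_top, Module.finrank_linearMap, Module.finrank_linearMap, hU] at hrn
    rw [Module.natCard_eq_pow_finrank (K := F), Nat.card_eq_fintype_card, hq, ← pow_add, add_comm, hrn]
  have hpos : 0 < q ^ (k * k) := pow_pos (hq ▸ Fintype.card_pos) _
  haveI := Fintype.ofFinite {U : Submodule F V // finrank F U = k}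
  rcases isEmpty_or_nonempty {U : Submodule F V // finrank F U = k} with h | ⟨⟨U₀⟩⟩
  · refine ⟨1, one_dvd _, ?_⟩
    rw [Nat.card_congr e, Nat.card_sigma, Finset.univ_eq_empty, Finset.sum_empty, Nat.card_of_isEmpty, zero_mul]
  · obtain ⟨a, ha, hca⟩ := key U₀
    refine ⟨a, ⟨_, ha.symm⟩, ?_⟩
    rw [Nat.card_congr e, Nat.card_sigma, Finset.sum_congr rfl fun U _ => ?_, Finset.sum_const, Finset.card_univ,
      smul_eq_mul, ← Nat.card_eq_fintype_card]
    obtain ⟨b, hb, hcb⟩ := key U
    rw [hcb]
    exact Nat.eq_of_mul_eq_mul_right hpos (hb.trans ha.symm)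

end CfsgLib.Derange
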