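import Cfsg.Agent.Lib.Derange.SingProfile

/-!
When does every shape of a space contain enough pairs?
-/

set_option autoImplicit false

namespace CfsgLib.Derange

theorem le_avail_or {i t K : ℕ} (hev : ¬ Odd i) : K ≤ t + 2 * avail i t K := by
  rw [avail, if_neg hev]; omega

/-- Every shape of an odd-dimensional space has room for `m`. -/
theorem pairs_odd_iff {i t m d : ℕ} (hi : 0 < i) (ht : 0 < t) (hmd : m ≤ d) (hc : unitDim i ≤ 2 * d + 1)
    (hwin : (2 * d + 1) % unitDim i < 2 * m) :
    (∀ e K, 0 < K → e + unitDim i * K = 2 * d + 1 →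
        ∃ e' A, e' + i * A = m ∧ 2 * e' ≤ e ∧ A ≤ avail i t K) ↔
      i ≤ m ∧ 2 * (m % i) < (2 * d + 1) % unitDim i ∧ (Odd i ∨ t + 2 * (m / i) ≤ (2 * d + 1) / i) := by
  set n := 2 * d + 1 with hn
  set c := unitDim i with hcdef
  have hc0 : 0 < c := unitDim_pos hi
  obtain ⟨w, hw⟩ : Even c := even_unitDim
  have hN := Nat.mod_add_div n c
  have hM := Nat.mod_add_div m i
  have hρ : (n % c) % 2 = 1 := by
    have : c * (n / c) = 2 * (w * (n / c)) := by rw [hw]; ring
    omega
  constructor
  · intro H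
    obtain ⟨e', A, hm, he, -⟩ := H (n % c) (n / c) (Nat.div_pos hc hc0) hN
    have him : i ≤ m := by
      by_contra h
      have : A = 0 := by
        by_contra hA
        have := Nat.le_mul_of_pos_right i (Nat.pos_of_ne_zero hA)
        omega
      subst this
      omega
    have hμ : m % i ≤ e' := by
      rw [← hm, Nat.add_mul_mod_self_left]; exact Nat.mod_le _ _
    refine ⟨him, by omega, ?_⟩
    by_contra hc'
    push Not at hc'
    obtain ⟨hev, hlt⟩ := hc'
    have hci : c = i := unitDim_even hev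
    rw [hci] at hN
    by_cases htN : t ≤ n / i
    · obtain ⟨K, hKt, hKN, hpar⟩ : ∃ K, t ≤ K ∧ K ≤ n / i ∧ ∃ u, K = t + 2 * u := by
        exact ⟨t + 2 * ((n / i - t) / 2), by omega, by omega, _, rfl⟩
      have hiK : i * K ≤ i * (n / i) := Nat.mul_le_mul_left i hKN
      obtain ⟨e₁, A₁, hm₁, he₁, hA₁⟩ := H (n - i * K) K (by omega) (by rw [hci]; omega)
      obtain ⟨u, hu⟩ := hpar
      rw [avail, if_neg hev] at hA₁
      have h2 : i * (t + 2 * A₁) ≤ i * K := Nat.mul_le_mul_left i (by omega)
      have h3 : i * (n / i + 1) ≤ i * (t + 2 * (m / i)) := Nat.mul_le_mul_left i (by omega)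
      have h4 := Nat.mod_lt n hi
      rw [mul_add, mul_add, mul_one, mul_left_comm] at h3
      rw [mul_add, mul_left_comm] at h2
      omega
    · obtain ⟨e₁, A₁, hm₁, he₁, hA₁⟩ := H (n % i) (n / i) (Nat.div_pos (hci ▸ hc) hi) (by rw [hci]; omega)
      rw [avail, if_neg hev] at hA₁
      obtain rfl : A₁ = 0 := by omega
      rw [hci] at hwin
      omega
  · rintro ⟨him, hμ, hroom⟩ e K hK he
    have hKN : K ≤ n / c := (Nat.le_div_iff_mul_le hc0).2 (by rw [mul_comm]; omega)
    have hcK : c * K ≤ c * (n / c) := Nat.mul_le_mul_left c hKN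
    by_cases ha : m / i ≤ avail i t K
    · exact ⟨m % i, m / i, hM, by omega, ha⟩
    push Not at ha
    have hia : i * (avail i t K + 1) ≤ i * (m / i) := Nat.mul_le_mul_left i ha
    rw [mul_add, mul_one] at hia
    refine ⟨m - i * avail i t K, avail i t K, by omega, ?_, le_rfl⟩
    by_cases hodd : Odd i
    · rw [avail, if_pos hodd] at *
      rw [hcdef, unitDim_odd hodd, mul_assoc] at he
      omega
    · have hroom' := hroom.resolve_left hodd
      have hci : c = i := unitDim_even hodd
      have h1 : i * K ≤ i * (t + 2 * avail i t K) := Nat.mul_le_mul_left i (le_avail_or hodd)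
      have h2 : i * (t + 2 * (m / i)) ≤ i * (n / i) := Nat.mul_le_mul_left i hroom'
      rw [mul_add, mul_left_comm] at h1 h2
      rw [hci] at he hN hμ
      omega

end CfsgLib.Derange
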