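import Cfsg.Agent.Lib.Derange.EvenParabolicTwo
import Cfsg.Agent.Lib.Derange.SingInvolution
import Cfsg.Agent.Lib.Derange.SingCount
import Cfsg.Agent.Lib.Derange.InvolutionMinus
import Cfsg.Agent.Lib.Derange.SingEven

/-!
Even-dimensional orthogonal groups on totally singular subspaces: square roots of the scalars `±1`.
-/

set_option autoImplicit false
set_option linter.style.haveILetI false

namespace CfsgLib.Derange

open Module CfsgLib.Classical CfsgLib.Classical.OrthModels CfsgLib.Orth CfsgLib.Classical.WittBasis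

universe u

variable {F : Type u} [Field F] [Fintype F] {p : ℕ} [hp : Fact p.Prime] [CharP F p]
  {ι : Type} [Fintype ι] [DecidableEq ι] {Q : QuadraticForm F (ι → F)}

local notation "B" => QuadraticMap.polar (DFunLike.coe Q)

omit hp [CharP F p] in
/-- Half of a plus-type eigenspace and nearly half of the other. -/
theorem exists_singular_eigen (hB : Nondeg Q) (t : Grp Q) {E E' : Submodule F (ι → F)} (hE : NondegOn Q E)
    (hperp : ∀ u ∈ E, ∀ v ∈ E', B u v = 0) (hEs : ∀ u ∈ E, ap t u = (1 : F) • u)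
    (hE's : ∀ u ∈ E', ap t u = (-1 : F) • u) {L L' : Submodule F (ι → F)} (hL : L ≤ E) (hL' : L' ≤ E')
    (hLs : ∀ w ∈ L, Q w = 0) (hL's : ∀ w ∈ L', Q w = 0) {m : ℕ} (hm : m ≤ finrank F L + finrank F L') :
    ∃ W : Submodule F (ι → F), finrank F W = m ∧ (∀ w ∈ W, Q w = 0) ∧
      W.map (Matrix.toLin' ((t : GL ι F) : Matrix ι ι F)) ≤ W :=
  exists_sub_of_eigen t hperp ((Submodule.eq_bot_iff _).2 fun x hx => hE x hx.1 fun y hy => by
    rw [b_comm]; exact hperp y hy x hx.2) hEs hE's hL hL' hLs hL's hm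

omit hp [CharP F p] in
/-- An involution of `Ω` in even dimension. -/
theorem exists_singular_of_involution_even (hB : Nondeg Q) (h2 : (2 : F) ≠ 0) {d : ℕ}
    (hι : Fintype.card ι = 2 * d) (hd : 3 ≤ d) (t : Grp Q) (ht : t * t = 1) (htΩ : t ∈ Cfsg.Omega F ⇑Q)
    (hts : ∀ z : F, ((t : GL ι F) : Matrix ι ι F) ≠ z • (1 : Matrix ι ι F)) {m : ℕ} (hmd : m < d)
    (hm : m + 2 ≤ d ∨ ¬ Iso (⇑Q) (Cfsg.quadFormPlus d F) ∨ IsSquare (-1 : F)) :
    ∃ W : Submodule F (ι → F), finrank F W = m ∧ (∀ w ∈ W, Q w = 0) ∧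
      W.map (Matrix.toLin' ((t : GL ι F) : Matrix ι ι F)) ≤ W := by
  classical
  have hfin : finrank F (ι → F) = 2 * d := by rw [Module.finrank_pi, hι]
  have hn2 : 2 ≤ finrank F (ι → F) := by omega
  have hex : finrank F (ι → F) = 4 → Nat.card F ≠ 2 := fun h => by omega
  obtain ⟨E, E', hE, hE', hperp, -, h3, hEs, hE's⟩ := exists_eigen h2 t ht (M := ⊤)
    (fun x _ h => hB x fun y => h y trivial) (fun _ _ => trivial)
  have hdisj : E ⊓ E' = ⊥ := (Submodule.eq_bot_iff _).2 fun x hx => hE x hx.1 fun y hy => by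
    rw [b_comm]; exact hperp y hy x hx.2
  have hsum : finrank F E + finrank F E' = 2 * d := by
    have := Submodule.finrank_sup_add_finrank_inf_eq E E'
    rw [hdisj, finrank_bot, add_zero, top_le_iff.1 h3, finrank_top, hfin] at this
    omega
  have hfix : fixSpace t = E := by
    refine le_antisymm (fun x hx => ?_) fun x hx => mem_fixSpace.2 (by rw [hEs x hx, one_smul])
    obtain ⟨a, ha, b, hb, rfl⟩ := Submodule.mem_sup.1 (h3 (Submodule.mem_top (x := x)))
    have h := mem_fixSpace.1 hx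
    rw [ap_add, hEs a ha, hE's b hb, one_smul, add_right_inj] at h
    have : (2 : F) • b = 0 := by
      rw [two_smul]
      nth_rw 1 [← h]
      simp
    rw [(smul_eq_zero.1 this).resolve_left h2, add_zero]
    exact ha
  have hscal : ∀ (M : Submodule F (ι → F)) (s : F), (∀ u ∈ M, ap t u = s • u) → M ≠ ⊤ := fun M s hs hM => by
    refine hts s (Matrix.ext_iff_mulVec.mpr fun x => ?_)
    rw [Matrix.smul_mulVec, Matrix.one_mulVec]
    exact hs x (hM ▸ trivial)
  have htop : ∀ M : Submodule F (ι → F), finrank F M = 2 * d → M = ⊤ := fun M h =>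
    Submodule.eq_top_of_finrank_eq (h.trans hfin.symm)
  have hE0 : finrank F E' ≠ 2 * d := fun h => hscal E' (-1) hE's (htop E' h)
  have hE'0 : finrank F E ≠ 2 * d := fun h => hscal E 1 hEs (htop E h)
  obtain ⟨hdk, -⟩ := (mem_omega_iff hB hn2 hex t).1 htΩ
  obtain ⟨k, hk⟩ : ∃ k, finrank F E' = 2 * k := by
    have h : (-1 : ℤˣ) ^ (finrank F (ι → F) + finrank F (fixSpace t)) = 1 := hdk
    rw [hfix, hfin, neg_one_pow_eq_one_iff_even (by decide)] at h
    obtain ⟨w, hw⟩ := h
    exact ⟨2 * d - w, by omega⟩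
  have hk' : finrank F E = 2 * (d - k) := by omega
  obtain ⟨e, f, hef, he, -⟩ := exists_hyp_in hE (k := d - k - 1) (Or.inl (by omega))
  obtain ⟨e', f', hef', he', -⟩ := exists_hyp_in hE' (k := k - 1) (Or.inl (by omega))
  obtain ⟨hLd, hLs⟩ := hyp_span hef
  obtain ⟨hLd', hLs'⟩ := hyp_span hef'
  have hLE : Submodule.span F (Set.range e) ≤ E := Submodule.span_le.2 (by rintro _ ⟨j, rfl⟩; exact he j)
  have hLE' : Submodule.span F (Set.range e') ≤ E' := Submodule.span_le.2 (by rintro _ ⟨j, rfl⟩; exact he' j)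
  rcases Nat.lt_or_ge (m + 1) d with hlt | hge
  · exact exists_singular_eigen hB t hE hperp hEs hE's hLE hLE' hLs hLs' (by omega)
  rcases hm.resolve_left (by omega) with hQ | hsq
  · obtain ⟨a, b, hab⟩ := RestrictScalars.exists_ab (F := F)
    by_cases hp1 : Cfsg.Geo.IsPlusTypeOn ⇑Q E
    · obtain ⟨L, hL, hLz, hLc⟩ := hp1
      exact exists_singular_eigen hB t hE hperp hEs hE's hL hLE' hLz hLs' (by omega)
    by_cases hp2 : Cfsg.Geo.IsPlusTypeOn ⇑Q E'
    · obtain ⟨L, hL, hLz, hLc⟩ := hp2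
      exact exists_singular_eigen hB t hE hperp hEs hE's hLE hL hLs hLz (by omega)
    exfalso
    rw [isPlusTypeOn_iff hE hk'] at hp1
    rw [isPlusTypeOn_iff hE' hk] at hp2
    obtain ⟨j₁, hj₁, h1⟩ := (classify_even _ (qOn_nondeg hE) hk' a b hab).resolve_left hp1
    obtain ⟨j₂, hj₂, h2'⟩ := (classify_even _ (qOn_nondeg hE') hk a b hab).resolve_left hp2
    refine hQ ?_
    have horth : orth Q E = E' := by
      refine (Submodule.eq_of_le_of_finrank_eq (fun v hv => mem_orth.2 fun u hu => hperp u hu v hv) ?_).symm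
      have := finrank_orth hB E
      omega
    have h := (iso_split hB hE).symm
    rw [horth] at h
    have h' := h.trans ((h1.sum h2').trans (minus_minus j₁ j₂ a b hab))
    rwa [show j₁ + j₂ + 2 = d by omega] at h'
  · obtain ⟨L, hL, hLz, hLc⟩ := exists_half_neg hB h2 hn2 hex t htΩ hE' hperp h3 hEs hE's hk hsq
    exact exists_singular_eigen hB t hE hperp hEs hE's hLE hL hLs hLz (by omega)

omit hp [CharP F p] in
/-- In the split space with `-1` a non-square an involution of `Ω` fixes no subspace of dimension one below the half. -/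
theorem exists_involution_no_submax (hB : Nondeg Q) (h2 : (2 : F) ≠ 0) {d : ℕ} (hι : Fintype.card ι = 2 * d)
    (hd : 3 ≤ d) (hplus : Iso (⇑Q) (Cfsg.quadFormPlus d F)) (hns : ¬ IsSquare (-1 : F)) :
    ∃ g : Grp Q, g ∈ Cfsg.Omega F ⇑Q ∧ g * g = 1 ∧
      (∀ z : F, ((g : GL ι F) : Matrix ι ι F) ≠ z • (1 : Matrix ι ι F)) ∧
      ∀ W : Submodule F (ι → F), finrank F W = d - 1 → (∀ w ∈ W, Q w = 0) →
        ¬ W.map (Matrix.toLin' ((g : GL ι F) : Matrix ι ι F)) ≤ W := by
  classical
  have hfin : finrank F (ι → F) = 2 * d := by rw [Module.finrank_pi, hι]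
  obtain ⟨g, P, hg, hgg, hg2, hPd, hPa, hperp⟩ := exists_pair_involution hB h2 (by omega) hns
  have hPn : NondegOn Q P := fun x hx h => hPa x hx (by
    have h1 := h x hx
    rw [b_self] at h1
    exact (mul_eq_zero.1 h1).resolve_left h2)
  have hM : finrank F (orth Q P) = 2 * (d - 1) := by
    have := finrank_orth hB P
    omega
  obtain ⟨e, he⟩ := hplus
  let l : (Fin d → F) →ₗ[F] (ι → F) := e.symm.toLinearMap ∘ₗ
    (LinearEquiv.sumArrowLequivProdArrow _ _ F F).symm.toLinearMap ∘ₗ LinearMap.inl F _ _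
  have hl : Function.Injective l := fun x y h => funext fun j => by
    have := congrFun (e.symm.injective h) (Sum.inl j)
    simpa [arrow_symm] using this
  have hS : ∀ x ∈ LinearMap.range l, Q x = 0 := by
    rintro _ ⟨x, rfl⟩
    show Q (e.symm _) = 0
    rw [← he, e.apply_symm_apply]
    simp [Cfsg.quadFormPlus, arrow_symm]
  have hno : ∀ W : Submodule F (ι → F), finrank F W = d - 1 → (∀ w ∈ W, Q w = 0) →
      ¬ W ≤ orth Q P := fun W hWd hW hle => by
    have h1 := not_plus_of_anisotropic hB (nondegOn_orth hB hPn) hle hW (by omega) (orth_orth hB P).ge hPa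
      (S := LinearMap.range l) (by rw [sup_comm, sup_orth_eq_top hB hPn]; exact le_top) hS
    rw [LinearMap.finrank_range_of_inj hl, Module.finrank_fin_fun] at h1
    omega
  refine ⟨g, hg, hgg, fun z hz => ?_, fun W hWd hW hinv => hno W hWd hW (hperp W hW hinv)⟩
  obtain ⟨A, hA, hAd⟩ := exists_le_finrank (LinearMap.range l) (k := d - 1) (by
    rw [LinearMap.finrank_range_of_inj hl, Module.finrank_fin_fun]; omega)
  refine hno A hAd (fun w hw => hS w (hA hw)) (hperp A (fun w hw => hS w (hA hw)) ?_)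
  rintro _ ⟨w, hw, rfl⟩
  rw [hz, Matrix.toLin'_apply, Matrix.smul_mulVec, Matrix.one_mulVec]
  exact A.smul_mem _ hw

omit hp [CharP F p] in
/-- Square roots of `-1` when `-1` is a square. -/
theorem exists_singular_of_split_root (h2 : (2 : F) ≠ 0) {d m : ℕ} (hι : Fintype.card ι = 2 * d) (hmd : m ≤ d)
    (g : Grp Q) (hgg : ∀ x, ap g (ap g x) = -x) (hsq : IsSquare (-1 : F)) :
    ∃ W : Submodule F (ι → F), finrank F W = m ∧ (∀ w ∈ W, Q w = 0) ∧
      W.map (Matrix.toLin' ((g : GL ι F) : Matrix ι ι F)) ≤ W := by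
  classical
  obtain ⟨s, hs⟩ := hsq
  let E : F → Submodule F (ι → F) := fun c =>
    LinearMap.ker (Matrix.toLin' ((g : GL ι F) : Matrix ι ι F) - c • LinearMap.id)
  have hEs : ∀ c u, u ∈ E c → ap g u = c • u := fun c u hu => sub_eq_zero.1 hu
  have hz : ∀ c, c * c = -1 → ∀ u ∈ E c, Q u = 0 := fun c hc u hu => by
    have h := ap_q g u
    rw [hEs c u hu, q_smul, hc] at h
    have : (2 : F) * Q u = 0 := by linear_combination -h
    exact (mul_eq_zero.1 this).resolve_left h2
  have hsplit : (⊤ : Submodule F (ι → F)) ≤ E s ⊔ E (-s) := fun x _ => by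
    have h1 : ∀ c : F, c * c = -1 → x - c • ap g x ∈ E c := fun c hc => by
      show ap g _ - c • (x - c • ap g x) = 0
      rw [ap_sub, ap_smul, hgg, smul_sub, smul_smul, hc, neg_one_smul]
      module
    have h3 := add_mem (Submodule.mem_sup_left (T := E (-s)) (h1 s hs.symm))
      (Submodule.mem_sup_right (S := E s) (h1 (-s) (by rw [neg_mul_neg, hs])))
    rw [show x - s • ap g x + (x - -s • ap g x) = (2 : F) • x by module] at h3
    exact (Submodule.smul_mem_iff _ h2).1 h3
  have hdim : d ≤ finrank F (E s) ∨ d ≤ finrank F (E (-s)) := by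
    have h4 := Submodule.finrank_mono hsplit
    have h5 := Submodule.finrank_add_le_finrank_add_finrank (E s) (E (-s))
    rw [finrank_top, Module.finrank_pi, hι] at h4
    omega
  obtain ⟨c, hc, hcd⟩ : ∃ c : F, c * c = -1 ∧ d ≤ finrank F (E c) := by
    rcases hdim with h | h
    · exact ⟨s, hs.symm, h⟩
    · exact ⟨-s, by rw [neg_mul_neg, hs], h⟩
  obtain ⟨A, hA, hAd⟩ := exists_le_finrank (E c) (hmd.trans hcd)
  refine ⟨A, hAd, fun w hw => hz c hc w (hA hw), ?_⟩
  rintro _ ⟨w, hw, rfl⟩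
  show ap g w ∈ A
  rw [hEs c w (hA hw)]
  exact A.smul_mem _ hw

include hp in
/-- Square roots of `-1` fix singular subspaces of every small even dimension. -/
theorem exists_singular_of_root (hB : Nondeg Q) (h2 : (2 : F) ≠ 0) {d : ℕ} (hι : Fintype.card ι = 2 * d)
    (g : Grp Q) (hgg : ∀ x, ap g (ap g x) = -x) (hns : ¬ IsSquare (-1 : F)) (k : ℕ) :
    (k = 0 ∨ 2 * k < d) → ∃ W : Submodule F (ι → F), finrank F W = 2 * k ∧ (∀ w ∈ W, Q w = 0) ∧
      ∀ w ∈ W, ap g w ∈ W := by
  classical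
  have hfin : finrank F (ι → F) = 2 * d := by rw [Module.finrank_pi, hι]
  induction k with
  | zero =>
    exact fun _ => ⟨⊥, by simp, fun w hw => by rw [(Submodule.mem_bot F).1 hw, QuadraticMap.map_zero],
      fun w hw => by rw [(Submodule.mem_bot F).1 hw, ap_zero]; exact Submodule.zero_mem _⟩
  | succ k ih =>
    intro hk
    obtain ⟨W, hWd, hW, hWg⟩ := ih (Or.inr (by omega))
    obtain ⟨C, hC⟩ := Submodule.exists_isCompl W
    set M := orth Q W ⊓ C with hM
    have hWo : W ≤ orth Q W := le_orth_of_singular hW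
    have hMd : 3 ≤ finrank F M := by
      have h1 := Submodule.finrank_sup_add_finrank_inf_eq W M
      have h3 : W ⊔ M = orth Q W := by
        rw [hM, inf_comm, ← sup_inf_assoc_of_le C hWo, hC.sup_eq_top, top_inf_eq]
      rw [h3, show W ⊓ M = ⊥ from le_bot_iff.1 (hC.disjoint.eq_bot ▸ inf_le_inf_left W inf_le_right),
        finrank_bot] at h1
      have := finrank_orth hB W
      omega
    obtain ⟨u, hu, hu0, hqu⟩ : ∃ u ∈ M, u ≠ 0 ∧ Q u = 0 := by
      by_contra hc
      push Not at hc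
      have h := dvd_card_zeros (p := p) (Q.comp M.subtype) hMd
      have h1 : Nat.card {v : M // (Q.comp M.subtype) v = 0} = 1 := by
        rw [Nat.card_eq_one_iff_unique]
        refine ⟨⟨fun a b => ?_⟩, ⟨⟨0, QuadraticMap.map_zero _⟩⟩⟩
        have h0 : ∀ v : {v : M // (Q.comp M.subtype) v = 0}, ((v.1 : M) : ι → F) = 0 := fun v => by
          by_contra hv
          exact hc _ v.1.2 hv v.2
        exact Subtype.ext (Subtype.ext ((h0 a).trans (h0 b).symm))
      rw [h1] at h
      exact hp.out.one_lt.not_ge (Nat.le_of_dvd one_pos h)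
    have huW : u ∉ W := fun h => hu0 ((Submodule.disjoint_def.1 hC.disjoint) u h hu.2)
    have huo : u ∈ orth Q W := hu.1
    have hguo : ap g u ∈ orth Q W := invariant_orth g hWg u huo
    have hqgu : Q (ap g u) = 0 := by rw [ap_q, hqu]
    have hugu : B u (ap g u) = 0 := by
      have h1 := ap_b g u (ap g u)
      rw [hgg, ← neg_one_smul F u, b_smul_right, b_comm (ap g u), neg_one_mul, neg_eq_iff_add_eq_zero, ← two_mul,
        mul_eq_zero, or_iff_right h2] at h1
      exact h1
    have hgW : ap g u ∉ W ⊔ Submodule.span F {u} := fun h => by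
      obtain ⟨w, hw, z, hz, hwz⟩ := Submodule.mem_sup.1 h
      obtain ⟨c, rfl⟩ := Submodule.mem_span_singleton.1 hz
      have h1 := congrArg (ap g) hwz
      rw [ap_add, ap_smul, hgg, ← hwz] at h1
      have h3 : (c * c + 1) • u ∈ W := by
        have e : (c * c + 1) • u = -(ap g w + c • w) := by
          linear_combination (norm := module) h1
        rw [e]
        exact W.neg_mem (W.add_mem (hWg w hw) (W.smul_mem c hw))
      by_cases hc : c * c + 1 = 0
      · exact hns ⟨c, by linear_combination -hc⟩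
      · exact huW ((Submodule.smul_mem_iff _ hc).1 h3)
    refine ⟨W ⊔ Submodule.span F {u} ⊔ Submodule.span F {ap g u}, ?_, fun x hx => ?_, fun x hx => ?_⟩
    · have hext : ∀ (A : Submodule F (ι → F)) v, v ∉ A → finrank F ↥(A ⊔ Submodule.span F {v}) = finrank F A + 1 :=
        fun A v hv => by
          have hv0 : v ≠ 0 := fun h => hv (h ▸ A.zero_mem)
          have h1 := Submodule.finrank_sup_add_finrank_inf_eq A (Submodule.span F {v})
          rw [show A ⊓ Submodule.span F {v} = ⊥ from (Submodule.eq_bot_iff _).2 fun x hx => by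
            obtain ⟨c, rfl⟩ := Submodule.mem_span_singleton.1 hx.2
            by_contra hc
            exact hv ((Submodule.smul_mem_iff _ (fun h => hc (by rw [h, zero_smul]))).1 hx.1),
            finrank_bot, add_zero, finrank_span_singleton hv0] at h1
          exact h1
      rw [hext _ _ hgW, hext _ _ huW, hWd]
      ring
    · obtain ⟨y, hy, z, hz, rfl⟩ := Submodule.mem_sup.1 hx
      obtain ⟨w, hw, z', hz', rfl⟩ := Submodule.mem_sup.1 hy
      obtain ⟨c, rfl⟩ := Submodule.mem_span_singleton.1 hz'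
      obtain ⟨c', rfl⟩ := Submodule.mem_span_singleton.1 hz
      simp only [q_add, q_smul, b_add_left, b_smul_left, b_smul_right, hW w hw, hqu, hqgu, hugu,
        mem_orth.1 huo w hw, mem_orth.1 hguo w hw, mul_zero, add_zero]
    · obtain ⟨y, hy, z, hz, rfl⟩ := Submodule.mem_sup.1 hx
      obtain ⟨w, hw, z', hz', rfl⟩ := Submodule.mem_sup.1 hy
      obtain ⟨c, rfl⟩ := Submodule.mem_span_singleton.1 hz'
      obtain ⟨c', rfl⟩ := Submodule.mem_span_singleton.1 hz
      rw [ap_add, ap_add, ap_smul, ap_smul, hgg, smul_neg, ← neg_smul]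
      exact add_mem (add_mem (Submodule.mem_sup_left (Submodule.mem_sup_left (hWg w hw)))
        (Submodule.mem_sup_right (Submodule.smul_mem _ _ (Submodule.mem_span_singleton_self _))))
        (Submodule.mem_sup_left (Submodule.mem_sup_right (Submodule.smul_mem _ _ (Submodule.mem_span_singleton_self _))))

include hp in
/-- The criterion at two. -/
theorem singular_two_iff (hB : Nondeg Q) (h2 : (2 : F) ≠ 0) {d m : ℕ} (hι : Fintype.card ι = 2 * d) (hd : 3 ≤ d)
    (hmd : m < d) :
    (∀ x : GL ι F, x ∈ Cfsg.Geo.omegaGL ⇑Q →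
      (∃ z : F, ((x ^ 2 : GL ι F) : Matrix ι ι F) = z • (1 : Matrix ι ι F)) →
      (∀ z : F, (x : Matrix ι ι F) ≠ z • (1 : Matrix ι ι F)) →
      ∃ W : Submodule F (ι → F), finrank F ↥W = m ∧ (∀ w ∈ W, Q w = 0) ∧
        W.map (Matrix.toLin' (x : Matrix ι ι F)) ≤ W) ↔
    (IsSquare (-1 : F) ∨ ((Iso (⇑Q) (Cfsg.quadFormPlus d F) → m + 2 ≤ d) ∧
      ¬ (DiscSq Q ∧ IsSquare ((2 : F) ^ d) ∧ Odd m))) := by
  classical
  have hfin : finrank F (ι → F) = 2 * d := by rw [Module.finrank_pi, hι]
  constructor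
  · intro H
    refine or_iff_not_imp_left.2 fun hns => ⟨fun hplus => ?_, ?_⟩
    · by_contra hlt
      obtain ⟨g, hg, hgg, hgs, hno⟩ := exists_involution_no_submax hB h2 hι hd hplus hns
      obtain ⟨W, hWd, hW, hWg⟩ := H (g : GL ι F) ⟨g, hg, rfl⟩
        ⟨1, by rw [one_smul, pow_two, ← Subgroup.coe_mul, hgg]; rfl⟩ hgs
      exact hno W (by omega) hW hWg
    · rintro ⟨hdisc, hsq, hodd⟩
      obtain ⟨g, hg, hgg, hgs⟩ := exists_omega_neg_sq hB h2 hι (by omega) hdisc hsq
      obtain ⟨W, hWd, hW, hWg⟩ := H (g : GL ι F) ⟨g, hg, rfl⟩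
        ⟨-1, by
          refine Matrix.ext_iff_mulVec.mpr fun x => ?_
          rw [neg_one_smul, Matrix.neg_mulVec, Matrix.one_mulVec, pow_two, Units.val_mul, ← Matrix.mulVec_mulVec]
          exact hgg x⟩ hgs
      let T : Module.End F W := (Matrix.toLin' ((g : GL ι F) : Matrix ι ι F)).restrict
        fun w hw => hWg (Submodule.mem_map_of_mem hw)
      have hT : T * T = -1 := LinearMap.ext fun w => Subtype.ext (by
        show ap g (ap g (w : ι → F)) = -(w : ι → F)
        exact hgg _)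
      refine hns ⟨LinearMap.det T, ?_⟩
      rw [← map_mul, hT, ← neg_one_smul F (1 : Module.End F W), LinearMap.det_smul, map_one, mul_one, hWd,
        hodd.neg_one_pow]
  · rintro hcase x hxΩ ⟨z, hz⟩ hxs
    obtain ⟨g, hgΩ, rfl⟩ := hxΩ
    obtain ⟨v, hv⟩ := exists_aniso hB (by omega)
    have hap : ∀ w, ap g (ap g w) = z • w := fun w => by
      rw [← ap_mul, ← pow_two, ap, SubmonoidClass.coe_pow, show ((g : GL ι F) ^ 2 : GL ι F).1 =
        z • (1 : Matrix ι ι F) from hz, Matrix.smul_mulVec, Matrix.one_mulVec]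
    have hzz : z * z = 1 := by
      have h1 := congrArg Q (hap v)
      rw [ap_q, ap_q, q_smul] at h1
      exact mul_right_cancel₀ hv (h1.symm.trans (one_mul _).symm)
    rcases mul_self_eq_one_iff.1 hzz with rfl | rfl
    · have hgg : g * g = 1 := ext_ap fun w => by rw [ap_mul, hap, one_smul, ap_one]
      refine exists_singular_of_involution_even hB h2 hι hd g hgg hgΩ hxs hmd ?_
      rcases hcase with h | ⟨h, -⟩
      · exact Or.inr (Or.inr h)
      · by_cases hp1 : Iso (⇑Q) (Cfsg.quadFormPlus d F)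
        · exact Or.inl (h hp1)
        · exact Or.inr (Or.inl hp1)
    · have hgg : ∀ w, ap g (ap g w) = -w := fun w => by rw [hap, neg_one_smul]
      by_cases hsq : IsSquare (-1 : F)
      · exact exists_singular_of_split_root h2 hι hmd.le g hgg hsq
      obtain ⟨hdisc, hsq2⟩ := disc_of_omega_neg_sq hB h2 hι (by omega) g hgΩ hgg
      obtain ⟨k, rfl⟩ : Even m := Nat.not_odd_iff_even.1 fun ho =>
        (hcase.resolve_left hsq).2 ⟨hdisc, hsq2, ho⟩
      obtain ⟨W, hWd, hW, hWg⟩ := exists_singular_of_root (p := p) hB h2 hι g hgg hsq k (Or.inr (by omega))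
      refine ⟨W, by omega, hW, ?_⟩
      rintro _ ⟨w, hw, rfl⟩
      exact hWg w hw

end CfsgLib.Derange
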