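import Cfsg.Agent.Lib.Derange.SingSub
import Cfsg.Agent.Lib.Derange.SingArith

/-!
Odd-dimensional orthogonal groups on totally singular subspaces: elements of prime order different from the characteristic.
-/

set_option autoImplicit false
set_option linter.style.haveILetI false

namespace CfsgLib.Derange

open Polynomial Module CfsgLib.Classical CfsgLib.Classical.OrthModels CfsgLib.Orth
open CfsgLib.Classical.OrthPrimeReal CfsgLib.Classical.OrthPrimeFactors CfsgLib.Classical.UnitaryTwistPoly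

universe u

variable {F : Type u} [Field F] [Fintype F] {p : ℕ} [hp : Fact p.Prime] [CharP F p]

include hp in
/-- The criterion. -/
theorem odd_singular_iff {q r i t : ℕ} {D : Finset F[X]} (X : Ctx F p q r i t D) (h2 : (2 : F) ≠ 0) {d m : ℕ}
    (hd : 2 ≤ d) (hmd : m ≤ d) {Q : QuadraticForm F (Unit ⊕ (Fin d ⊕ Fin d) → F)}
    (hQ : ⇑Q = Cfsg.quadFormOdd d F) (hB : Nondeg Q) :
    (∀ x : GL (Unit ⊕ (Fin d ⊕ Fin d)) F, x ∈ Cfsg.Geo.omegaGL ⇑Q → orderOf x = r →
      ∃ W : Submodule F (Unit ⊕ (Fin d ⊕ Fin d) → F), finrank F ↥W = m ∧ (∀ w ∈ W, Q w = 0) ∧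
        W.map (Matrix.toLin' (x : Matrix (Unit ⊕ (Fin d ⊕ Fin d)) (Unit ⊕ (Fin d ⊕ Fin d)) F)) ≤ W) ↔
    (∀ e K, 0 < K → e + unitDim i * K = 2 * d + 1 →
        ∃ e' A, e' + i * A = m ∧ 2 * e' ≤ e ∧ A ≤ avail i t K) := by
  classical
  have hcard : Fintype.card (Unit ⊕ (Fin d ⊕ Fin d)) = 2 * d + 1 := by simp; omega
  have hpi : finrank F (Unit ⊕ (Fin d ⊕ Fin d) → F) = 2 * d + 1 := by rw [Module.finrank_pi, hcard]
  constructor
  · intro H e K hK he
    obtain ⟨f, hf, hworst⟩ := exists_worst X.facts X.t_pos e K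
    have hreal : Real r (⇑Q) f := (real_odd_iff X h2 Q (bilin_nondeg hB) hpi f).mpr (he ▸ hf.isT)
    obtain ⟨x, hxΩ, hx, hxc, hxr, -⟩ := exists_element hB (by omega) X hK hf hreal
    obtain ⟨W, hWd, hW, hWx⟩ := H x hxΩ hxr
    obtain ⟨h, g, U, hm, hdeg, hUn, hUd, -, hg, hcp⟩ :=
      exists_pair_of_singular (p := p) hB X.prime X.ne_char x hx hW fun w hw =>
        hWx ⟨w, hw, Matrix.toLin'_apply _ _⟩
    rw [hxc] at hcp
    obtain ⟨e', A, hh⟩ := exists_half_of_factors (D := D) hm fun P hPi hPm hPd =>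
      (hf.isT).2.2.2 P hPi hPm (hcp ▸ dvd_mul_of_dvd_left (dvd_mul_of_dvd_left hPd _) _)
    have hdeg' := (hh.facts X.facts).2.1
    have horth : finrank F (orth Q U) = 2 * (d - m) + 1 := by
      have := finrank_orth hB U
      omega
    obtain ⟨e₂, K₂, hgs, -⟩ := exists_shaped X.facts
      ((real_odd_iff X h2 _ (qOn_nondeg (nondegOn_orth hB hUn)) horth g).mp hg)
    obtain ⟨he2, -⟩ := hf.unique X.facts (hcp ▸ (hh.facts X.facts).2.2.2.2.mul hgs)
    exact ⟨e', A, by omega, by omega, hworst h g e' A e₂ K₂ hcp hh hgs⟩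
  · rintro H x hxΩ hxr
    obtain ⟨g, -, rfl⟩ := hxΩ
    have hg : g ^ r = 1 := Subtype.ext (by
      rw [SubmonoidClass.coe_pow]; exact hxr ▸ pow_orderOf_eq_one _)
    have hne : g ≠ 1 := fun h => X.prime.ne_one (by rw [← hxr, h]; exact orderOf_one)
    obtain ⟨e, K, hs, hsum⟩ := exists_shaped X.facts
      ((real_odd_iff X h2 Q (bilin_nondeg hB) hpi (cp g)).mp (real_of_grp g hg))
    obtain ⟨e', A, hm, he', hA⟩ := H e K (units_pos hB X hg hne hs) hsum
    obtain ⟨h, f₂, hf, hh, hs₂⟩ := hs.exists_pair X.facts he' hA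
    obtain ⟨hhm, hhd, hh0, hhP, hhs⟩ := hh.facts X.facts
    have hdeg : e - 2 * e' + unitDim i * (K - pairUnits i * A) = 2 * (d - m) + 1 := by
      have h1 := hs₂.natDegree
      have h3 := congrArg natDegree hf
      rw [hs.natDegree, (hhs.isT).1.natDegree_mul (hs₂.isT).1, hhs.natDegree, hs₂.natDegree,
        unitDim_mul_pairUnits] at h3
      omega
    obtain ⟨R, hR, hRn⟩ := exists_quadForm_odd h2 (d - m)
    have hR' : Real r (⇑R) f₂ := (real_odd_iff X h2 R (bilin_nondeg hRn) (k := d - m)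
      (by rw [Module.finrank_pi]; simp; omega) f₂).mpr (hdeg ▸ hs₂.isT)
    have hiso : Iso (add (Cfsg.quadFormPlus m F) ⇑R) (⇑Q) := by
      rw [hR, hQ]
      obtain ⟨b, rfl⟩ : ∃ b, d = m + b := ⟨d - m, by omega⟩
      rw [Nat.add_sub_cancel_left]
      exact (((Iso.refl _).sum (odd_def b).symm).trans (Iso.sum_assoc _ _ _).symm).trans
        (((plus_plus m b).sum (Iso.refl _)).trans (odd_def (m + b)))
    exact exists_singular_invariant (p := p) hB X.prime X.ne_two X.ne_char g hg hhm (hhd.trans hm) hh0 hhP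
      (QuadraticMap.map_zero R) hR' hiso hf

end CfsgLib.Derange
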