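import Cfsg.Agent.Lib.Derange.Profile

/-!
Which shapes contain `h * tw h` with `h` of a given shape.
-/

set_option autoImplicit false

namespace CfsgLib.Derange

open Polynomial UniqueFactorizationMonoid CfsgLib.Classical CfsgLib.Classical.OrthPrimeFactors CfsgLib.Classical.PrimeOrderCount
open CfsgLib.Classical.UnitaryTwistPoly

universe u

variable {F : Type u} [Field F] [Fintype F] {r i t : ℕ} {D : Finset F[X]}

local notation "τ" => tw (RingHom.id F)

/-- Units of a pair of dual blocks of degree `i`. -/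
def pairUnits (i : ℕ) : ℕ := if Odd i then 1 else 2

/-- The pairs certain to occur among `K` units. -/
def avail (i t K : ℕ) : ℕ := if Odd i then K else (K - t + 1) / 2

theorem unitDim_mul_pairUnits (i A : ℕ) : unitDim i * (pairUnits i * A) = 2 * (i * A) := by
  rcases Nat.even_or_odd i with h | h
  · rw [unitDim_even (Nat.not_odd_iff_even.2 h), pairUnits, if_neg (Nat.not_odd_iff_even.2 h)]; ring
  · rw [unitDim_odd h, pairUnits, if_pos h]; ring

/-- A product of `e'` factors `X - 1` and `A` of the others. -/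
def Half (D : Finset F[X]) (h : F[X]) (e' A : ℕ) : Prop :=
  ∃ M : Multiset F[X], h = (X - 1) ^ e' * M.prod ∧ Multiset.card M = A ∧ ∀ P ∈ M, P ∈ D

theorem X_sub_one_monic : (X - 1 : F[X]).Monic := by simpa using monic_X_sub_C (1 : F)

theorem X_sub_one_irreducible : Irreducible (X - 1 : F[X]) := by simpa using irreducible_X_sub_C (1 : F)

theorem tw_pow_X_sub_one (e : ℕ) : τ ((X - 1 : F[X]) ^ e) = (X - 1) ^ e := by
  induction e with
  | zero => rw [pow_zero, TwistPairCount.tw_one]
  | succ e ih => rw [pow_succ, tw_mul, ih, TwistPairCount.tw_X_sub_one]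

/-- A multiset of allowed factors and their twists make a free polynomial. -/
theorem free_pairs (hD : Facts r i t D) {M : Multiset F[X]} (hM : ∀ P ∈ M, P ∈ D) :
    Free D (M.prod * τ M.prod) ∧ (M.prod * τ M.prod).natDegree = 2 * (i * Multiset.card M) := by
  classical
  have hP : ∀ P ∈ M, Free D (P * τ P) ∧ (P * τ P).natDegree = 2 * i := fun P hP => by
    obtain ⟨hτ, hττ⟩ := hD.tmem P (hM P hP)
    obtain ⟨hPm, hPi, hPd⟩ := hD.mem P (hM P hP)
    obtain ⟨hTm, hTi, hTd⟩ := hD.mem _ hτ
    refine ⟨⟨hPm.mul hTm, by rw [tw_mul, hττ, mul_comm], fun Q hQ hQm hd => ?_⟩, by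
      rw [hPm.natDegree_mul hTm, hPd, hTd]; ring⟩
    rcases hQ.prime.dvd_or_dvd hd with hd | hd
    · exact eq_of_monic_of_associated hQm hPm (hQ.associated_of_dvd hPi hd) ▸ hM P hP
    · exact eq_of_monic_of_associated hQm hTm (hQ.associated_of_dvd hTi hd) ▸ hτ
  have e : M.prod * τ M.prod = (M.map fun P => P * τ P).prod := by
    rw [Multiset.prod_map_mul, Multiset.map_id', ← TwistPairCount.tw_prod]
  rw [e]
  refine ⟨Free.prod fun u hu => ?_, ?_⟩
  · obtain ⟨P, hP', rfl⟩ := Multiset.mem_map.1 hu; exact (hP P hP').1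
  · rw [natDegree_prod_const _ (2 * i) (fun u hu => ?_) (fun u hu => ?_), Multiset.card_map]
    · ring
    · obtain ⟨P, hP', rfl⟩ := Multiset.mem_map.1 hu; exact (hP P hP').1.monic
    · obtain ⟨P, hP', rfl⟩ := Multiset.mem_map.1 hu; exact (hP P hP').2

theorem Half.facts (hD : Facts r i t D) {h : F[X]} {e' A : ℕ} (hh : Half D h e' A) :
    h.Monic ∧ h.natDegree = e' + i * A ∧ h.coeff 0 ≠ 0 ∧
      (∀ P : F[X], Irreducible P → P ∣ h → P ∣ X ^ r - 1) ∧ Shaped i D (h * τ h) (2 * e') (pairUnits i * A) := by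
  classical
  obtain ⟨M, rfl, rfl, hM⟩ := hh
  have hMm : M.prod.Monic := monic_multiset_prod_of_monic M id (fun P hP => (hD.mem P (hM P hP)).1) |> fun h => by
    simpa using h
  have hMd : M.prod.natDegree = i * Multiset.card M := by
    rw [natDegree_prod_const M i (fun P hP => (hD.mem P (hM P hP)).1) (fun P hP => (hD.mem P (hM P hP)).2.2),
      mul_comm]
  refine ⟨(X_sub_one_monic.pow e').mul hMm, ?_, ?_, fun P hPi hPd => ?_, ?_⟩
  · rw [(X_sub_one_monic.pow e').natDegree_mul hMm, natDegree_pow, hMd,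
      show (X - 1 : F[X]).natDegree = 1 by simpa using natDegree_X_sub_C (1 : F), mul_one]
  · rw [mul_coeff_zero]
    refine mul_ne_zero (by rw [coeff_zero_eq_eval_zero]; simp) ?_
    rw [coeff_zero_multiset_prod]
    exact Multiset.prod_ne_zero fun h0 => by
      obtain ⟨P, hP, hP0⟩ := Multiset.mem_map.1 h0
      exact hD.c0 P (hM P hP) hP0
  · rcases hPi.prime.dvd_or_dvd hPd with hd | hd
    · have h1 := hPi.prime.dvd_of_dvd_pow hd
      exact h1.trans ((hD.dvd _ X_sub_one_irreducible X_sub_one_monic).2 (Or.inl rfl))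
    · obtain ⟨Q, hQ, hdQ⟩ := hPi.prime.exists_mem_multiset_dvd hd
      exact hdQ.trans ((hD.dvd _ (hD.mem Q (hM Q hQ)).2.1 (hD.mem Q (hM Q hQ)).1).2 (Or.inr (hM Q hQ)))
  · obtain ⟨hf, hfd⟩ := free_pairs hD hM
    exact ⟨M.prod * τ M.prod, by rw [tw_mul, tw_pow_X_sub_one]; ring, hf, by rw [hfd, unitDim_mul_pairUnits]⟩

theorem exists_half_of_factors {h : F[X]} (hm : h.Monic)
    (hP : ∀ P : F[X], Irreducible P → P.Monic → P ∣ h → P = X - 1 ∨ P ∈ D) : ∃ e' A, Half D h e' A := by
  classical
  refine ⟨Multiset.count (X - 1) (normalizedFactors h), _,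
    (normalizedFactors h).filter fun P => ¬ P = X - 1, ?_, rfl, fun P hP' => ?_⟩
  · conv_lhs => rw [← TwistPairCount.prod_nf hm, ← Multiset.filter_add_not (fun P => P = X - 1) (normalizedFactors h)]
    rw [Multiset.prod_add, Multiset.filter_eq', Multiset.prod_replicate]
  · rw [Multiset.mem_filter] at hP'
    exact (hP P (irreducible_of_normalized_factor P hP'.1) (normalizedFactor_monic hm.ne_zero hP'.1)
      (dvd_of_mem_normalizedFactors hP'.1)).resolve_left hP'.2

/-- Among `K` units there are at least `avail i t K` pairs. -/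
theorem Shaped.exists_pair (hD : Facts r i t D) {f : F[X]} {e K : ℕ} (h : Shaped i D f e K) {e' A : ℕ}
    (he : 2 * e' ≤ e) (hA : A ≤ avail i t K) :
    ∃ hh g, f = hh * τ hh * g ∧ Half D hh e' A ∧ Shaped i D g (e - 2 * e') (K - pairUnits i * A) := by
  classical
  obtain ⟨g, rfl, hg, hd⟩ := h
  have key : ∃ M R : Multiset F[X], (∀ P ∈ M, P ∈ D) ∧ Multiset.card M = A ∧ ∃ g', Free D g' ∧
      g = M.prod * τ M.prod * g' ∧ g'.natDegree = unitDim i * (K - pairUnits i * A) := by
    by_cases hodd : Odd i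
    · rw [avail, if_pos hodd] at hA
      obtain ⟨g₁, hm1, -, he1, hd1, -⟩ := exists_half hD hodd hg.monic hg.fixed hg.factors
      have hmem : ∀ P ∈ normalizedFactors g₁, P ∈ D := fun P hP =>
        hg.factors P (irreducible_of_normalized_factor P hP) (normalizedFactor_monic hm1.ne_zero hP)
          (he1 ▸ dvd_mul_of_dvd_left (dvd_of_mem_normalizedFactors hP) _)
      have hK : Multiset.card (normalizedFactors g₁) = K := by
        have h1 : g₁.natDegree = Multiset.card (normalizedFactors g₁) * i := by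
          conv_lhs => rw [← TwistPairCount.prod_nf hm1]
          exact natDegree_prod_const _ i (fun P hP => (hD.mem P (hmem P hP)).1) fun P hP => (hD.mem P (hmem P hP)).2.2
        rw [hd1, h1, unitDim_odd hodd] at hd
        exact Nat.eq_of_mul_eq_mul_left (Nat.mul_pos two_pos hD.pos) (by linarith)
      obtain ⟨M, hle, hMc⟩ := exists_le_card_eq (normalizedFactors g₁) (hK.symm ▸ hA)
      obtain ⟨R, hR⟩ := Multiset.le_iff_exists_add.mp hle
      have hRm : ∀ P ∈ R, P ∈ D := fun P hP => hmem P (hR ▸ Multiset.mem_add.2 (Or.inr hP))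
      refine ⟨M, R, fun P hP => hmem P (Multiset.mem_of_le hle hP), hMc, R.prod * τ R.prod, (free_pairs hD hRm).1, ?_, ?_⟩
      · rw [he1, ← TwistPairCount.prod_nf hm1, hR, Multiset.prod_add, tw_mul]; ring
      · rw [(free_pairs hD hRm).2, unitDim_odd hodd, pairUnits, if_pos hodd, one_mul,
          show Multiset.card R = K - A by rw [← hK, hR, Multiset.card_add, hMc]; omega]
        ring
    · rw [avail, if_neg hodd] at hA
      set S := normalizedFactors g with hSdef
      have hmem : ∀ P ∈ S, P ∈ D := fun P hP =>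
        hg.factors P (irreducible_of_normalized_factor P hP) (normalizedFactor_monic hg.monic.ne_zero hP)
          (dvd_of_mem_normalizedFactors hP)
      have hK : Multiset.card S = K := by
        have h1 : g.natDegree = Multiset.card S * i := by
          conv_lhs => rw [← TwistPairCount.prod_nf hg.monic]
          exact natDegree_prod_const _ i (fun P hP => (hD.mem P (hmem P hP)).1) fun P hP => (hD.mem P (hmem P hP)).2.2
        rw [h1, unitDim_even hodd] at hd
        exact Nat.eq_of_mul_eq_mul_left hD.pos (by linarith)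
      set M₀ := ∑ P ∈ D, Multiset.replicate (S.count P / 2) P with hM₀
      have hcount : ∀ P, M₀.count P = if P ∈ D then S.count P / 2 else 0 := fun P => by
        rw [hM₀, Multiset.count_sum']
        simp [Multiset.count_replicate]
      have hle₀ : A ≤ Multiset.card M₀ := by
        have hsum : ∑ P ∈ D, S.count P = K := by
          rw [← hK]; exact Multiset.sum_count_eq_card hmem
        have hcard₀ : Multiset.card M₀ = ∑ P ∈ D, S.count P / 2 := by
          rw [hM₀, Multiset.card_sum]; simp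
        have hb : ∑ P ∈ D, S.count P ≤ 2 * (∑ P ∈ D, S.count P / 2) + t := by
          rw [Finset.mul_sum, ← hD.card, Finset.card_eq_sum_ones, ← Finset.sum_add_distrib]
          exact Finset.sum_le_sum fun P _ => by omega
        omega
      obtain ⟨M, hle, hMc⟩ := exists_le_card_eq M₀ hle₀
      have hMM : M + M ≤ S := Multiset.le_iff_count.2 fun P => by
        have h1 := Multiset.count_le_of_le P hle
        rw [hcount] at h1
        rw [Multiset.count_add]
        split_ifs at h1 <;> omega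
      obtain ⟨R, hR⟩ := Multiset.le_iff_exists_add.mp hMM
      have hMmem : ∀ P ∈ M, P ∈ D := fun P hP =>
        hmem P (hR ▸ Multiset.mem_add.2 (Or.inl (Multiset.mem_add.2 (Or.inl hP))))
      have hRmem : ∀ P ∈ R, P ∈ D := fun P hP => hmem P (hR ▸ Multiset.mem_add.2 (Or.inr hP))
      have hτ : τ M.prod = M.prod := by
        rw [TwistPairCount.tw_prod, Multiset.map_congr rfl (fun P hP => (hD.self P (hMmem P hP)).2 hodd),
          Multiset.map_id']
      refine ⟨M, R, hMmem, hMc, R.prod, Free.prod fun P hP => ⟨(hD.mem P (hRmem P hP)).1,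
        (hD.self P (hRmem P hP)).2 hodd, fun Q hQ hQm hd => eq_of_monic_of_associated hQm (hD.mem P (hRmem P hP)).1
          (hQ.associated_of_dvd (hD.mem P (hRmem P hP)).2.1 hd) ▸ hRmem P hP⟩, ?_, ?_⟩
      · rw [hτ, ← Multiset.prod_add, ← Multiset.prod_add, ← hR, hSdef, TwistPairCount.prod_nf hg.monic]
      · rw [natDegree_prod_const _ i (fun P hP => (hD.mem P (hRmem P hP)).1)
          (fun P hP => (hD.mem P (hRmem P hP)).2.2), unitDim_even hodd, pairUnits, if_neg hodd,
          show Multiset.card R = K - 2 * A by rw [← hK, hR, Multiset.card_add, Multiset.card_add, hMc]; omega,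
          mul_comm]
  obtain ⟨M, R, hM, hMc, g', hg', hfac, hgd⟩ := key
  refine ⟨(X - 1) ^ e' * M.prod, (X - 1) ^ (e - 2 * e') * g', ?_, ⟨M, rfl, hMc, hM⟩, g', rfl, hg', hgd⟩
  rw [tw_mul, tw_pow_X_sub_one, hfac]
  conv_lhs => rw [← Nat.add_sub_cancel' he, pow_add]
  ring

/-- A shape with no more than `avail i t K` pairs. -/
theorem exists_worst (hD : Facts r i t D) (ht : 0 < t) (e K : ℕ) :
    ∃ f, Shaped i D f e K ∧ ∀ hh g e' A e₂ K₂, f = hh * τ hh * g → Half D hh e' A → Shaped i D g e₂ K₂ →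
      A ≤ avail i t K := by
  classical
  by_cases hodd : Odd i
  · obtain ⟨f, hf⟩ := exists_of_shape hD ht e K
    refine ⟨f, hf, fun hh g e' A e₂ K₂ he hh' hg => ?_⟩
    have := (hf.unique hD (he ▸ (hh'.facts hD).2.2.2.2.mul hg)).2
    rw [avail, if_pos hodd]
    rw [pairUnits, if_pos hodd] at this
    omega
  obtain ⟨o, hoK, hot, hpar, hval⟩ : ∃ o, o ≤ K ∧ o ≤ t ∧ Even (K - o) ∧ (K - o) / 2 = (K - t + 1) / 2 := by
    rcases le_or_gt K t with h | h
    · exact ⟨K, le_rfl, h, by simp, by omega⟩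
    · rcases Nat.even_or_odd (K - t) with ⟨w, hw⟩ | ⟨w, hw⟩
      · exact ⟨t, h.le, le_rfl, ⟨w, hw⟩, by omega⟩
      · exact ⟨t - 1, by omega, by omega, ⟨w + 1, by omega⟩, by omega⟩
  obtain ⟨S₀, hS₀, hS₀c⟩ := Finset.exists_subset_card_eq (s := D) (hD.card.symm ▸ hot)
  obtain ⟨P₀, hP₀⟩ : D.Nonempty := Finset.card_pos.mp (hD.card.symm ▸ ht)
  set S : Multiset F[X] := S₀.val + Multiset.replicate (K - o) P₀ with hS
  have hmem : ∀ P ∈ S, P ∈ D := fun P hP => by
    rcases Multiset.mem_add.1 hP with h | h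
    · exact hS₀ h
    · exact Multiset.eq_of_mem_replicate h ▸ hP₀
  have hScard : Multiset.card S = K := by
    rw [hS, Multiset.card_add, Multiset.card_replicate, ← Finset.card_def, hS₀c]; omega
  have hfree : Free D S.prod := Free.prod fun P hP => ⟨(hD.mem P (hmem P hP)).1,
    (hD.self P (hmem P hP)).2 hodd, fun Q hQ hQm hd => eq_of_monic_of_associated hQm (hD.mem P (hmem P hP)).1
      (hQ.associated_of_dvd (hD.mem P (hmem P hP)).2.1 hd) ▸ hmem P hP⟩
  refine ⟨(X - 1) ^ e * S.prod, ⟨_, rfl, hfree, by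
    rw [natDegree_prod_const _ i (fun P hP => (hD.mem P (hmem P hP)).1) (fun P hP => (hD.mem P (hmem P hP)).2.2),
      unitDim_even hodd, hScard, mul_comm]⟩, ?_⟩
  rintro hh g e' A e₂ K₂ he ⟨M, rfl, hMc, hM⟩ -
  have hτ : τ M.prod = M.prod := by
    rw [TwistPairCount.tw_prod, Multiset.map_congr rfl (fun P hP => (hD.self P (hM P hP)).2 hodd), Multiset.map_id']
  have hne : (X - 1 : F[X]) ^ e * S.prod ≠ 0 := ((X_sub_one_monic.pow e).mul hfree.monic).ne_zero
  have hdvd : (M + M).prod ∣ (X - 1 : F[X]) ^ e * S.prod := by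
    rw [he, tw_mul, tw_pow_X_sub_one, hτ, Multiset.prod_add]
    exact ⟨(X - 1) ^ e' * (X - 1) ^ e' * g, by ring⟩
  have hMM : ∀ P ∈ M + M, P ∈ D := fun P hP => (Multiset.mem_add.1 hP).elim (hM P) (hM P)
  have hMne : (M + M).prod ≠ 0 := fun h0 => hne (zero_dvd_iff.1 (h0 ▸ hdvd))
  have hle := (dvd_iff_normalizedFactors_le_normalizedFactors hMne hne).1 hdvd
  rw [TwistPairCount.nf_prod _ fun P hP => ⟨(hD.mem P (hMM P hP)).1, (hD.mem P (hMM P hP)).2.1⟩,
    show (X - 1 : F[X]) ^ e * S.prod = (Multiset.replicate e (X - 1) + S).prod by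
      rw [Multiset.prod_add (Multiset.replicate e (X - 1)) S, Multiset.prod_replicate],
    TwistPairCount.nf_prod _ fun P hP => by
      rcases Multiset.mem_add.1 hP with h | h
      · rw [Multiset.eq_of_mem_replicate h]; exact ⟨X_sub_one_monic, X_sub_one_irreducible⟩
      · exact ⟨(hD.mem P (hmem P h)).1, (hD.mem P (hmem P h)).2.1⟩] at hle
  have hle' : M ≤ Multiset.replicate ((K - o) / 2) P₀ := Multiset.le_iff_count.2 fun P => by
    by_cases hP : P ∈ M
    · have h1 := Multiset.count_le_of_le P hle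
      have hP1 : (X - 1 : F[X]) ≠ P := fun h => hD.one (h ▸ hM P hP)
      rw [Multiset.count_add, Multiset.count_add, Multiset.count_replicate, if_neg hP1, hS, Multiset.count_add,
        Multiset.count_replicate] at h1
      have h2 : S₀.val.count P ≤ 1 := Multiset.nodup_iff_count_le_one.1 S₀.nodup P
      rw [Multiset.count_replicate]
      obtain ⟨w, hw⟩ := hpar
      split_ifs at h1 ⊢ <;> omega
    · rw [Multiset.count_eq_zero_of_notMem hP]; exact Nat.zero_le _
  have hcard := Multiset.card_le_card hle'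
  rw [hMc, Multiset.card_replicate, hval] at hcard
  rwa [avail, if_neg hodd]

end CfsgLib.Derange
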