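import Cfsg.Agent.Lib.Derange.OrthExist

/-!
Invariant totally singular subspaces of semisimple isometries, read off characteristic polynomials.
-/

set_option autoImplicit false
set_option linter.style.haveILetI false

namespace CfsgLib.Derange

open Polynomial Module CfsgLib.Classical CfsgLib.Classical.OrthModels CfsgLib.Orth
open CfsgLib.Classical.OrthPrimeReal CfsgLib.Classical.UnitaryTwistPoly
open scoped Matrix

universe u v

variable {F : Type u} [Field F] {ι : Type} [Fintype ι] [DecidableEq ι] {Q : QuadraticForm F (ι → F)}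

local notation "τ" => tw (RingHom.id F)

/-- The dual of an invertible map. -/
theorem charpoly_dual_inv {V : Type v} [AddCommGroup V] [Module F V] [FiniteDimensional F V] (T S : End F V)
    (hTS : T * S = 1) : (LinearMap.dualMap S).charpoly = τ T.charpoly := by
  classical
  let b := Module.finBasis F V
  let A : GL (Fin (finrank F V)) F := ⟨LinearMap.toMatrix b b T, LinearMap.toMatrix b b S,
    by rw [← LinearMap.toMatrix_mul, hTS, LinearMap.toMatrix_one],
    by rw [← LinearMap.toMatrix_mul, mul_eq_one_comm.1 hTS, LinearMap.toMatrix_one]⟩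
  rw [← LinearMap.charpoly_toMatrix T b, ← LinearMap.charpoly_toMatrix (LinearMap.dualMap S) b.dualBasis,
    show LinearMap.toMatrix b.dualBasis b.dualBasis (LinearMap.dualMap S) = (LinearMap.toMatrix b b S).transpose from
      LinearMap.toMatrix_transpose S, Matrix.charpoly_transpose]
  exact charpoly_inv_tw A

variable [Fintype F] {p : ℕ} [hp : Fact p.Prime] [CharP F p] {r : ℕ}

include hp in
/-- A stable totally singular subspace splits off a pair of dual blocks. -/
theorem exists_pair_of_singular (hB : Nondeg Q) (hr : r.Prime) (hrp : r ≠ p) (x : Grp Q) (hx : x ^ r = 1)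
    {W : Submodule F (ι → F)} (hW : ∀ w ∈ W, Q w = 0) (hinv : ∀ w ∈ W, ap x w ∈ W) :
    ∃ (h g : F[X]) (U : Submodule F (ι → F)), h.Monic ∧ h.natDegree = finrank F W ∧ NondegOn Q U ∧
      finrank F U = 2 * finrank F W ∧ Cfsg.Geo.IsPlusTypeOn ⇑Q U ∧ Real r (⇑(qOn Q (orth Q U))) g ∧
      cp x = h * τ h * g := by
  classical
  set T := Matrix.toLin' ((x : GL ι F) : Matrix ι ι F) with hT
  have hTW : ∀ w ∈ W, T w ∈ W := hinv
  have hTW' : ∀ w ∈ orth Q W, T w ∈ orth Q W := invariant_orth x hinv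
  obtain ⟨C, hC, hCc⟩ := Module.End.isSemisimple_iff.1
    (SemisimpleDet.isSemisimple_of_pow p T (k := r)
      (fun h => hrp ((Nat.prime_dvd_prime_iff_eq hp.out hr).mp h).symm) (pow_toLin x hx)) (orth Q W) hTW'
  have hTC : ∀ c ∈ C, T c ∈ C := hC
  have hWo : W ≤ orth Q W := le_orth_of_singular hW
  have hCd : finrank F C = finrank F W := by
    have h1 := Submodule.finrank_add_eq_of_isCompl hCc
    have h3 := finrank_orth hB W
    omega
  let ψ : C →ₗ[F] Module.Dual F W :=
    LinearMap.domRestrict₁₂ (QuadraticMap.polarBilin Q) C W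
  have hψ : ∀ c w, ψ c w = QuadraticMap.polar ⇑Q (c : ι → F) (w : ι → F) := fun c w => rfl
  have hψi : Function.Injective ψ := LinearMap.ker_eq_bot.1 (LinearMap.ker_eq_bot'.2 fun c hc => Subtype.ext
    (Submodule.disjoint_def.1 hCc.disjoint _ (mem_orth.2 fun w hw => by
      rw [QuadraticMap.polar_comm]
      exact (hψ c ⟨w, hw⟩).symm.trans (LinearMap.congr_fun hc ⟨w, hw⟩)) c.2))
  set U := W ⊔ C with hU
  have hWC : W ⊓ C = ⊥ := le_bot_iff.1 (hCc.disjoint.eq_bot ▸ inf_le_inf_right C hWo)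
  have hUd : finrank F U = 2 * finrank F W := by
    have := Submodule.finrank_sup_add_finrank_inf_eq W C
    rw [hWC, finrank_bot, add_zero, hCd] at this
    rw [hU, this]; ring
  have hTU : ∀ u ∈ U, T u ∈ U := fun u hu => by
    obtain ⟨w, hw, c, hc, rfl⟩ := Submodule.mem_sup.1 hu
    rw [map_add]; exact add_mem (Submodule.mem_sup_left (hTW w hw)) (Submodule.mem_sup_right (hTC c hc))
  have hUn : NondegOn Q U := fun u hu h => by
    obtain ⟨w, hw, c, hc, rfl⟩ := Submodule.mem_sup.1 hu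
    have hc0 : c = 0 := congrArg Subtype.val (hψi (a₁ := ⟨c, hc⟩) (a₂ := 0) (by
      rw [map_zero]
      refine LinearMap.ext fun w' => ?_
      rw [hψ]
      have := h w' (Submodule.mem_sup_left w'.2)
      rw [b_add_left, mem_orth.1 (hWo w'.2) w hw, zero_add] at this
      exact this))
    subst hc0
    rw [add_zero] at h ⊢
    have hw' : w ∈ orth Q C := mem_orth.2 fun c hc => by
      rw [QuadraticMap.polar_comm]; exact h c (Submodule.mem_sup_right hc)
    have h3 : w ∈ orth Q ⊤ := by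
      rw [← hCc.sup_eq_top]
      refine mem_orth.2 fun z hz => ?_
      obtain ⟨a, ha, b, hb, rfl⟩ := Submodule.mem_sup.1 hz
      rw [b_add_left, b_comm a w, mem_orth.1 ha w hw, mem_orth.1 hw' b hb, add_zero]
    exact hB w fun z => by rw [QuadraticMap.polar_comm]; exact mem_orth.1 h3 z trivial
  have hUp : Cfsg.Geo.IsPlusTypeOn ⇑Q U := ⟨W, le_sup_left, hW, hUd.symm⟩
  set M := orth Q U
  have hTM : ∀ m ∈ M, T m ∈ M := invariant_orth x hTU
  have hcompl : IsCompl U M := ⟨Submodule.disjoint_def.2 fun y hy hy' => nondeg_inf hUn hy hy',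
    codisjoint_iff.2 (sup_orth_eq_top hB hUn)⟩
  let φ : (W × C) →ₗ[F] U := (LinearMap.coprod W.subtype C.subtype).codRestrict U fun z =>
    add_mem (Submodule.mem_sup_left z.1.2) (Submodule.mem_sup_right z.2.2)
  have hφ : Function.Bijective φ := by
    refine ⟨fun a b hab => ?_, fun u => ?_⟩
    · have h : (a.1 : ι → F) + a.2 = b.1 + b.2 := congrArg Subtype.val hab
      have h1 : ((a.1 - b.1 : W) : ι → F) ∈ W ⊓ C := ⟨(a.1 - b.1).2, by
        rw [Submodule.coe_sub, show (a.1 : ι → F) - b.1 = b.2 - a.2 by linear_combination (norm := abel) h]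
        exact C.sub_mem b.2.2 a.2.2⟩
      rw [hWC, Submodule.mem_bot, Submodule.coe_sub, sub_eq_zero] at h1
      rw [h1, add_left_cancel_iff] at h
      exact Prod.ext (Subtype.ext h1) (Subtype.ext h)
    · obtain ⟨w, hw, c, hc, h⟩ := Submodule.mem_sup.1 u.2
      exact ⟨(⟨w, hw⟩, ⟨c, hc⟩), Subtype.ext h⟩
  let e := LinearEquiv.ofBijective φ hφ
  have hconj : T.restrict hTU = e.conj ((T.restrict hTW).prodMap (T.restrict hTC)) := LinearMap.ext fun u => by
    obtain ⟨z, rfl⟩ := e.surjective u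
    rw [LinearEquiv.conj_apply_apply, e.symm_apply_apply]
    exact Subtype.ext (map_add T _ _)
  have hTr : (T.restrict hTW) ^ r = 1 := LinearMap.ext fun y => Subtype.ext (by
    rw [Module.End.pow_restrict]
    show (T ^ r) y = y
    rw [pow_toLin x hx]; rfl)
  set S := (T.restrict hTW) ^ (r - 1) with hS
  have hTS : T.restrict hTW * S = 1 := by
    rw [hS, ← pow_succ', Nat.sub_add_cancel hr.one_le, hTr]
  let eψ : C ≃ₗ[F] Module.Dual F W :=
    LinearEquiv.ofBijective ψ ⟨hψi, (LinearMap.injective_iff_surjective_of_finrank_eq_finrank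
      (by rw [Subspace.dual_finrank_eq, hCd])).1 hψi⟩
  have hdual : LinearMap.dualMap S = eψ.conj (T.restrict hTC) := LinearMap.ext fun l => by
    obtain ⟨c, rfl⟩ := eψ.surjective l
    rw [LinearEquiv.conj_apply_apply, eψ.symm_apply_apply]
    refine LinearMap.ext fun w => ?_
    show ψ c (S w) = ψ (T.restrict hTC c) w
    rw [hψ, hψ]
    have h1 : ap x (S w : ι → F) = (w : ι → F) := congrArg Subtype.val (LinearMap.congr_fun hTS w)
    conv_rhs => rw [← h1]
    exact (ap_b x _ _).symm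
  have hC' : (T.restrict hTC).charpoly = τ (T.restrict hTW).charpoly := by
    rw [← LinearEquiv.charpoly_conj eψ, ← hdual]
    exact charpoly_dual_inv _ _ hTS
  refine ⟨(T.restrict hTW).charpoly, (T.restrict hTM).charpoly, U, LinearMap.charpoly_monic _, LinearMap.charpoly_natDegree _, hUn, hUd, hUp,
    ⟨T.restrict hTM, fun y => ap_q x y, LinearMap.ext fun y => Subtype.ext (by
      rw [Module.End.pow_restrict]
      show (T ^ r) y = y
      rw [pow_toLin x hx]; rfl), rfl⟩, ?_⟩
  rw [cp, ← Matrix.charpoly_toLin', charpoly_of_isCompl T hTU hTM hcompl, hconj, LinearEquiv.charpoly_conj,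
    LinearMap.charpoly_prodMap, hC']

/-- The model of a pair of dual blocks with its singular half. -/
theorem exists_pair_half {m : ℕ} (h : F[X]) (hm : h.Monic) (hd : h.natDegree = m) (h0 : h.coeff 0 ≠ 0)
    (hr : 0 < r) (hP : ∀ P : F[X], Irreducible P → P ∣ h → P ∣ X ^ r - 1) (hp' : Fact p.Prime) :
    ∃ (T : End F (Fin m ⊕ Fin m → F)) (L : Submodule F (Fin m ⊕ Fin m → F)),
      (∀ v, Cfsg.quadFormPlus m F (T v) = Cfsg.quadFormPlus m F v) ∧ T ^ r = 1 ∧ T.charpoly = h * τ h ∧
      finrank F L = m ∧ (∀ v ∈ L, Cfsg.quadFormPlus m F v = 0) ∧ ∀ v ∈ L, T v ∈ L := by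
  classical
  obtain ⟨A, hA, hAc⟩ := SemisimpleClasses.exists_semisimple (p := p) h hm hd h0
  have hAr : (A : Matrix (Fin m) (Fin m) F) ^ r = 1 := pow_eq_one_of_factors (p := p) hr _ hA
    (by rw [← Units.val_pow_eq_pow_val, pow_orderOf_eq_one, Units.val_one]) (hAc ▸ hP)
  set M := (A : Matrix (Fin m) (Fin m) F)
  set N := (((A⁻¹ : GL (Fin m) F) : Matrix (Fin m) (Fin m) F)).transpose with hNdef
  have hNr : N ^ r = 1 := by
    rw [hNdef, ← Matrix.transpose_pow, ← Units.val_pow_eq_pow_val, inv_pow,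
      show A ^ r = 1 from Units.ext (by rw [Units.val_pow_eq_pow_val]; exact hAr), inv_one, Units.val_one,
      Matrix.transpose_one]
  let P := LinearMap.prodMapRingHom F (Fin m → F) (Fin m → F) (Matrix.toLin' M, Matrix.toLin' N)
  let e : ((Fin m → F) × (Fin m → F)) ≃ₗ[F] (Fin m ⊕ Fin m → F) :=
    (LinearEquiv.sumArrowLequivProdArrow _ _ F F).symm
  have hQe : ∀ z, Cfsg.quadFormPlus m F (e z) = z.1 ⬝ᵥ z.2 := fun z => by
    simp [e, Cfsg.quadFormPlus, arrow_symm, dotProduct]
  have hPe : ∀ z, e.conj P (e z) = e (M *ᵥ z.1, N *ᵥ z.2) := fun z => by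
    rw [LinearEquiv.conj_apply_apply, e.symm_apply_apply]; rfl
  refine ⟨e.conj P, (LinearMap.range (e.toLinearMap ∘ₗ LinearMap.inl F (Fin m → F) (Fin m → F))), fun v => ?_,
    ?_, ?_, ?_, ?_, ?_⟩
  · obtain ⟨z, rfl⟩ := e.surjective v
    rw [hPe, hQe, hQe, hNdef, Matrix.dotProduct_mulVec, Matrix.vecMul_transpose, Matrix.mulVec_mulVec,
      show (((A⁻¹ : GL (Fin m) F) : Matrix (Fin m) (Fin m) F)) * M = 1 from A.inv_mul, Matrix.one_mulVec]
  · rw [show e.conj P ^ r = e.conj (P ^ r) from (map_pow e.conjRingEquiv P r).symm, ← map_pow, Prod.pow_mk,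
      ← Matrix.toLin'_pow, ← Matrix.toLin'_pow, hAr, hNr, Matrix.toLin'_one]
    exact (congrArg e.conj (map_one (LinearMap.prodMapRingHom F (Fin m → F) (Fin m → F)))).trans
      (map_one e.conjRingEquiv)
  · rw [LinearEquiv.charpoly_conj, show P = LinearMap.prodMap (Matrix.toLin' M) (Matrix.toLin' N) from rfl,
      LinearMap.charpoly_prodMap, Matrix.charpoly_toLin', Matrix.charpoly_toLin', hNdef, Matrix.charpoly_transpose,
      charpoly_inv_tw, hAc]
  · rw [LinearMap.finrank_range_of_inj (f := e.toLinearMap ∘ₗ LinearMap.inl F (Fin m → F) (Fin m → F)) (e.injective.comp LinearMap.inl_injective), Module.finrank_pi,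
      Fintype.card_fin]
  · rintro _ ⟨z, rfl⟩
    show Cfsg.quadFormPlus m F (e (z, 0)) = 0
    rw [hQe, dotProduct_zero]
  · rintro _ ⟨z, rfl⟩
    exact ⟨M *ᵥ z, by
      show e (M *ᵥ z, (0 : Fin m → F)) = e.conj P (e (z, 0))
      rw [hPe, Matrix.mulVec_zero]⟩

include hp in
/-- A pair of dual blocks gives a stable totally singular subspace. -/
theorem exists_singular_invariant (hB : Nondeg Q) (hr : r.Prime) (hr2 : r ≠ 2) (hrp : r ≠ p) (x : Grp Q)
    (hx : x ^ r = 1) {m : ℕ} {h g : F[X]} (hm : h.Monic) (hd : h.natDegree = m) (h0 : h.coeff 0 ≠ 0)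
    (hP : ∀ P : F[X], Irreducible P → P ∣ h → P ∣ X ^ r - 1)
    {R : Type v} [AddCommGroup R] [Module F R] [FiniteDimensional F R] {QR : R → F} (hR0 : QR 0 = 0)
    (hR : Real r QR g) (hiso : Iso (add (Cfsg.quadFormPlus m F) QR) (⇑Q)) (hcp : cp x = h * τ h * g) :
    ∃ W : Submodule F (ι → F), finrank F W = m ∧ (∀ w ∈ W, Q w = 0) ∧
      W.map (Matrix.toLin' ((x : GL ι F) : Matrix ι ι F)) ≤ W := by
  classical
  obtain ⟨T, L, hT, hTr, hTc, hLd, hLs, hLi⟩ := exists_pair_half (p := p) h hm hd h0 hr.pos hP hp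
  obtain ⟨S, hS, hSr, hSc⟩ := hR
  obtain ⟨e, he⟩ := hiso
  let T' : Module.End F (ι → F) := e.conj (LinearMap.prodMapRingHom F _ R (T, S))
  have hTe : ∀ z, T' (e z) = e (T z.1, S z.2) := fun z => by
    simp [T', LinearEquiv.conj_apply]
  obtain ⟨y, hy⟩ := exists_iso hB T' fun v => by
    obtain ⟨z, rfl⟩ := e.surjective v
    rw [hTe, he, he]
    show Cfsg.quadFormPlus m F (T z.1) + QR (S z.2) = _
    rw [hT, hS]; rfl
  have hy' : Matrix.toLin' ((y : GL ι F) : Matrix ι ι F) = T' := LinearMap.ext hy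
  have hTr' : T' ^ r = 1 := by
    show (e.conj _) ^ r = 1
    rw [show e.conj (LinearMap.prodMapRingHom F _ R (T, S)) ^ r =
      e.conj ((LinearMap.prodMapRingHom F _ R (T, S)) ^ r) from (map_pow e.conjRingEquiv _ r).symm,
      ← map_pow, show (T, S) ^ r = 1 from Prod.ext hTr hSr, map_one]
    exact map_one e.conjRingEquiv
  have hyr : y ^ r = 1 := by
    refine ext_ap fun v => ?_
    show (((y ^ r : Grp Q) : GL ι F) : Matrix ι ι F).mulVec v = ap 1 v
    rw [ap_one, ← Matrix.toLin'_apply, SubmonoidClass.coe_pow, Units.val_pow_eq_pow_val, Matrix.toLin'_pow, hy', hTr']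
    rfl
  have hyc : cp y = cp x := by
    rw [hcp, cp, ← Matrix.charpoly_toLin', hy', LinearEquiv.charpoly_conj, LinearMap.prodMapRingHom_apply,
      LinearMap.charpoly_prodMap, hTc, hSc]
  obtain ⟨k, hk⟩ := isConj_iff.mp (isConj_of_cp (p := p) hB hr hr2 hrp y x hyr hx hyc)
  let L' : Submodule F (ι → F) := L.map (e.toLinearMap ∘ₗ LinearMap.inl F _ R)
  refine ⟨img k L', ?_, fun w hw => ?_, ?_⟩
  · rw [finrank_img, ← hLd]
    exact (Submodule.equivMapOfInjective (e.toLinearMap ∘ₗ LinearMap.inl F _ R) (e.injective.comp LinearMap.inl_injective) L).finrank_eq.symm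
  · rw [mem_img] at hw
    obtain ⟨l, hl, hle⟩ := hw
    rw [← ap_q k⁻¹ w, ← hle]
    show Q (e (l, 0)) = 0
    rw [he]
    show Cfsg.quadFormPlus m F l + QR 0 = 0
    rw [hLs l hl, hR0, add_zero]
  · rintro _ ⟨w, hw, rfl⟩
    rw [Matrix.toLin'_apply]
    rw [SetLike.mem_coe, mem_img] at hw
    rw [mem_img]
    obtain ⟨l, hl, hle⟩ := hw
    have e1 : ap k⁻¹ (ap x w) = ap y (ap k⁻¹ w) := by
      rw [← hk, ← ap_mul, ← ap_mul, mul_assoc, inv_mul_cancel_left]
    show ap k⁻¹ (ap x w) ∈ L'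
    rw [e1, ← hle, hy]
    refine ⟨T l, hLi l hl, ?_⟩
    show e (T l, (0 : R)) = T' (e (l, 0))
    rw [hTe, map_zero]

end CfsgLib.Derange
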