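import Mathlib
import Cfsg.Agent.Lib.Derange.SingerField
import Cfsg.Agent.Lib.Derange.Twist
import Cfsg.Agent.Lib.Derange.Elusive

/-!
Elements of prime order against the normalizer of a field of full prime degree.
-/

set_option autoImplicit false
set_option linter.style.haveILetI false

namespace CfsgLib.Derange

open Module Polynomial
open scoped Matrix

variable {F : Type*} [Field F] [Fintype F] {p : ℕ} [hp : Fact p.Prime] [CharP F p] {n : ℕ}

theorem toLin'_scalar (c : F) (M : Matrix (Fin n) (Fin n) F) :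
    Matrix.toLin' (c • M) = c • Matrix.toLin' M := map_smul Matrix.toLin' c M

omit hp [CharP F p] in
/-- Semisimple with the same characteristic polynomial: a conjugate in `SL` lies in `H`. -/
theorem exists_sl_conj_of_charpoly (hn : 1 ≤ n) (H : Subgroup (GL (Fin n) F))
    (x : Matrix.SpecialLinearGroup (Fin n) F) (h : GL (Fin n) F) (hh : h ∈ H)
    (hx : Module.End.IsSemisimple (Matrix.toLin' (x : Matrix (Fin n) (Fin n) F)))
    (hs : Module.End.IsSemisimple (Matrix.toLin' (h : Matrix (Fin n) (Fin n) F)))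
    (hc : (x : Matrix (Fin n) (Fin n) F).charpoly = (h : Matrix (Fin n) (Fin n) F).charpoly) :
    ∃ P : Matrix.SpecialLinearGroup (Fin n) F, P⁻¹ * x * P ∈ H.comap Matrix.SpecialLinearGroup.toGL := by
  classical
  haveI : Nonempty (Fin n) := ⟨⟨0, hn⟩⟩
  haveI : Nontrivial (Fin n → F) := inferInstance
  obtain ⟨e, he⟩ := CfsgLib.Classical.SemisimpleClasses.exists_conj_aux n (Fin n → F) (Fin n → F) _ _
    (Module.finrank_fin_fun F) hs hx (by rw [Matrix.charpoly_toLin', Matrix.charpoly_toLin', hc])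
  have he0 : LinearMap.det e.toLinearMap ≠ 0 := e.isUnit_det'.ne_zero
  obtain ⟨Z, hZ, hZd⟩ := CfsgLib.Classical.SemisimpleDet.exists_commute_det _ hx (LinearMap.det e.toLinearMap)⁻¹
  set E : End F (Fin n → F) := Z * e.toLinearMap
  have hE : LinearMap.det E = 1 := by rw [map_mul, hZd, inv_mul_cancel₀ he0]
  have hPdet : (LinearMap.toMatrix' E).det = 1 := by rw [LinearMap.det_toMatrix', hE]
  obtain ⟨P, hP⟩ : ∃ P : Matrix.SpecialLinearGroup (Fin n) F,
      (P : Matrix (Fin n) (Fin n) F) = LinearMap.toMatrix' E := ⟨⟨_, hPdet⟩, rfl⟩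
  refine ⟨P, ?_⟩
  rw [Subgroup.mem_comap]
  convert hh using 1
  rw [map_mul, map_mul, map_inv, mul_assoc, inv_mul_eq_iff_eq_mul]
  refine Units.ext (Matrix.toLin'.injective ?_)
  show Matrix.toLin' ((x : Matrix (Fin n) (Fin n) F) * (P : Matrix (Fin n) (Fin n) F)) =
    Matrix.toLin' ((P : Matrix (Fin n) (Fin n) F) * (h : Matrix (Fin n) (Fin n) F))
  rw [Matrix.toLin'_mul, Matrix.toLin'_mul, hP, Matrix.toLin'_toMatrix']
  refine LinearMap.ext fun v => ?_
  simp only [LinearMap.comp_apply, E, End.mul_apply, LinearEquiv.coe_coe, he]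
  exact (LinearMap.congr_fun hZ.eq (e v)).symm

omit [Fintype F] hp [CharP F p] in
/-- A fixed-point-free block extended by the identity. -/
theorem exists_sl_block {j r : ℕ} (hj : j ≤ n) (g : Matrix.SpecialLinearGroup (Fin j) F) (hg : g ^ r = 1)
    (hinj : ∀ v, (g : Matrix (Fin j) (Fin j) F) *ᵥ v = v → v = 0) :
    ∃ x : Matrix.SpecialLinearGroup (Fin n) F, (x : Matrix (Fin n) (Fin n) F) ^ r = 1 ∧
      finrank F (LinearMap.ker (Matrix.toLin' ((x : Matrix (Fin n) (Fin n) F) - (1 : F) • 1))) = n - j := by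
  classical
  set G := Matrix.toLin' (g : Matrix (Fin j) (Fin j) F)
  let L : (Fin n → F) ≃ₗ[F] (Fin j → F) × (Fin (n - j) → F) :=
    LinearEquiv.ofFinrankEq _ _ (by
      rw [Module.finrank_prod, Module.finrank_fin_fun, Module.finrank_fin_fun, Module.finrank_fin_fun]
      omega)
  set T : End F (Fin n → F) := L.symm.conj (G.prodMap (LinearMap.id : End F (Fin (n - j) → F)))
  have hTdet : (LinearMap.toMatrix' T).det = 1 := by
    rw [LinearMap.det_toMatrix', show T = (L.symm.toLinearMap) ∘ₗ (G.prodMap LinearMap.id) ∘ₗ (L.symm.symm.toLinearMap) by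
      simp [T, LinearEquiv.conj_apply, LinearMap.comp_assoc], LinearMap.det_conj, LinearMap.det_prodMap,
      LinearMap.det_id, mul_one, LinearMap.det_toLin', g.det_coe]
  have hTpow : ∀ k v, (T ^ k) v = L.symm ((G ^ k) (L v).1, (L v).2) := by
    intro k
    induction k with
    | zero => intro v; simp
    | succ k ih =>
      intro v
      rw [pow_succ', End.mul_apply, ih, pow_succ']
      simp [T, LinearEquiv.conj_apply]
  refine ⟨⟨LinearMap.toMatrix' T, hTdet⟩, ?_, ?_⟩
  · change LinearMap.toMatrix' T ^ r = 1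
    refine Matrix.toLin'.injective ?_
    rw [toLin'_pow, Matrix.toLin'_toMatrix', Matrix.toLin'_one]
    refine LinearMap.ext fun v => ?_
    rw [hTpow, ← toLin'_pow, ← Matrix.SpecialLinearGroup.coe_pow, hg, Matrix.SpecialLinearGroup.coe_one,
      Matrix.toLin'_one]
    simp
  · change finrank F (LinearMap.ker (Matrix.toLin' (LinearMap.toMatrix' T - (1 : F) • 1))) = n - j
    rw [map_sub, Matrix.toLin'_toMatrix', one_smul, Matrix.toLin'_one]
    have hker : LinearMap.ker (T - LinearMap.id) =
        LinearMap.ker ((LinearMap.fst F (Fin j → F) (Fin (n - j) → F)) ∘ₗ L.toLinearMap) := by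
      ext v
      rw [LinearMap.mem_ker, LinearMap.mem_ker, LinearMap.sub_apply, LinearMap.id_apply, sub_eq_zero,
        ← pow_one T, hTpow, pow_one, LinearEquiv.symm_apply_eq, Prod.ext_iff]
      constructor
      · intro h
        exact hinj _ (by rw [← Matrix.toLin'_apply]; exact h.1)
      · intro h
        change (L v).1 = 0 at h
        simp [h]
    rw [hker]
    have h1 := ((LinearMap.fst F (Fin j → F) (Fin (n - j) → F)) ∘ₗ L.toLinearMap).finrank_range_add_finrank_ker
    rw [LinearMap.range_comp, show LinearMap.range L.toLinearMap = ⊤ from L.range, Submodule.map_top,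
      Submodule.range_fst, finrank_top, Module.finrank_fin_fun, Module.finrank_fin_fun] at h1
    omega

omit [Fintype F] hp [CharP F p] in
/-- Non-scalar, from an eigenspace of intermediate dimension. -/
theorem nonscalar_of_ker {M : Matrix (Fin n) (Fin n) F} {c : F} {k : ℕ} (hk0 : 0 < k) (hkn : k < n)
    (h : finrank F (LinearMap.ker (Matrix.toLin' (M - c • 1))) = k) (z : F) : M ≠ z • 1 := by
  rintro rfl
  rw [← sub_smul, toLin'_smul_one] at h
  rcases eq_or_ne (z - c) 0 with h0 | h0
  · rw [h0, zero_smul, LinearMap.ker_zero, finrank_top, Module.finrank_fin_fun] at h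
    omega
  · rw [LinearMap.ker_smul _ _ h0, End.one_eq_id, LinearMap.ker_id, finrank_bot] at h
    omega

omit hp [CharP F p] in
/-- An element with a plane in an eigenspace is a derangement. -/
theorem not_conj_of_ker {K : Subalgebra F (Matrix (Fin n) (Fin n) F)} (hnp : n.Prime)
    (hK : Cfsg.Geo.IsFieldSubalgebra n K) (x P : Matrix.SpecialLinearGroup (Fin n) F) {c : F}
    (hx : ∀ z : F, (x : Matrix (Fin n) (Fin n) F) ≠ z • 1)
    (hk : 2 ≤ finrank F (LinearMap.ker (Matrix.toLin' ((x : Matrix (Fin n) (Fin n) F) - c • 1)))) :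
    P⁻¹ * x * P ∉ (Cfsg.Geo.subalgebraNormalizer K).comap Matrix.SpecialLinearGroup.toGL := by
  intro hP
  rw [Subgroup.mem_comap, map_mul, map_mul, map_inv] at hP
  set Q : GL (Fin n) F := Matrix.SpecialLinearGroup.toGL P
  set R : Matrix (Fin n) (Fin n) F := ((Q⁻¹ : GL (Fin n) F) : Matrix (Fin n) (Fin n) F)
  have hRQ : R * (Q : Matrix (Fin n) (Fin n) F) = 1 := Q.inv_mul
  have hQR : (Q : Matrix (Fin n) (Fin n) F) * R = 1 := Q.mul_inv
  have hconj : ∀ d : F, R * (x : Matrix (Fin n) (Fin n) F) * (Q : Matrix (Fin n) (Fin n) F) - d • 1 =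
      R * ((x : Matrix (Fin n) (Fin n) F) - d • 1) * (Q : Matrix (Fin n) (Fin n) F) := fun d => by
    rw [mul_sub, sub_mul, Matrix.mul_smul, mul_one, Matrix.smul_mul, hRQ]
  have h1 := finrank_ker_le_one hnp hK _ hP (fun d hd => by
    change R * (x : Matrix (Fin n) (Fin n) F) * (Q : Matrix (Fin n) (Fin n) F) = d • 1 at hd
    refine hx d ?_
    have h2 := congrArg (fun A => (Q : Matrix (Fin n) (Fin n) F) * A * R) hd
    simp only [← mul_assoc, hQR, one_mul, Matrix.mul_smul, Matrix.smul_mul, mul_one] at h2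
    rwa [mul_assoc, hQR, mul_one] at h2) c
  change finrank F (LinearMap.ker (Matrix.toLin'
    (R * (x : Matrix (Fin n) (Fin n) F) * (Q : Matrix (Fin n) (Fin n) F) - c • 1))) ≤ 1 at h1
  have r1 := (Matrix.toLin' (R * ((x : Matrix (Fin n) (Fin n) F) - c • 1) *
    (Q : Matrix (Fin n) (Fin n) F))).finrank_range_add_finrank_ker
  have r2 := (Matrix.toLin' ((x : Matrix (Fin n) (Fin n) F) - c • 1)).finrank_range_add_finrank_ker
  have r3 : (R * ((x : Matrix (Fin n) (Fin n) F) - c • 1) * (Q : Matrix (Fin n) (Fin n) F)).rank =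
      ((x : Matrix (Fin n) (Fin n) F) - c • 1).rank := by
    rw [Matrix.rank_mul_eq_left_of_isUnit_det _ _ ((Matrix.isUnit_iff_isUnit_det _).mp Q.isUnit),
      Matrix.rank_mul_eq_right_of_isUnit_det _ _ ((Matrix.isUnit_iff_isUnit_det _).mp (Q⁻¹).isUnit)]
  rw [Matrix.rank, Matrix.rank, ← Matrix.toLin'_apply', ← Matrix.toLin'_apply'] at r3
  have e : finrank F (LinearMap.ker (Matrix.toLin'
      (R * (x : Matrix (Fin n) (Fin n) F) * (Q : Matrix (Fin n) (Fin n) F) - c • 1))) =
      finrank F (LinearMap.ker (Matrix.toLin'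
      (R * ((x : Matrix (Fin n) (Fin n) F) - c • 1) * (Q : Matrix (Fin n) (Fin n) F)))) :=
    congrArg (fun A => finrank F (LinearMap.ker (Matrix.toLin' A))) (hconj c)
  have h1' := le_trans (le_of_eq e.symm) h1
  omega

include hp in
/-- `q` of order `n - 1` modulo `n`: every element of order `n` modulo scalars is conjugate into the normalizer. -/
theorem conj_of_max_order {K : Subalgebra F (Matrix (Fin n) (Fin n) F)} (hn : n.Prime) (hn3 : 3 ≤ n)
    (hnp : n ≠ p) (hK : Cfsg.Geo.IsFieldSubalgebra n K) {q : ℕ} (hq : Fintype.card F = q)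
    (hi : orderOf (q : ZMod n) = n - 1) (x : Matrix.SpecialLinearGroup (Fin n) F) {z : F}
    (hz : (x : Matrix (Fin n) (Fin n) F) ^ n = z • 1)
    (hxs : ∀ c : F, (x : Matrix (Fin n) (Fin n) F) ≠ c • 1) :
    ∃ P : Matrix.SpecialLinearGroup (Fin n) F,
      P⁻¹ * x * P ∈ (Cfsg.Geo.subalgebraNormalizer K).comap Matrix.SpecialLinearGroup.toGL := by
  classical
  haveI := Fact.mk hn
  haveI : Nonempty (Fin n) := ⟨⟨0, hn.pos⟩⟩
  obtain ⟨hi0, -, hi1⟩ := orderOf_mod (p := p) hq hn hnp
  have hnq : ¬ n ∣ q - 1 := fun h => by have := hi1.mpr h; omega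
  have hz0 : z ≠ 0 := by
    rintro rfl
    have := congrArg Matrix.det hz
    rw [Matrix.det_pow, x.det_coe, one_pow, zero_smul, Matrix.det_zero] at this
    exact one_ne_zero this
  obtain ⟨b, hb⟩ : ∃ b : F, b ^ n = z := by
    have hcop : Nat.Coprime (Nat.card Fˣ) n := by
      rw [Nat.card_eq_fintype_card, Fintype.card_units, hq]
      exact (hn.coprime_iff_not_dvd.mpr hnq).symm
    obtain ⟨b, hb⟩ := (powCoprime hcop).surjective (Units.mk0 z hz0)
    exact ⟨b, by rw [← Units.val_pow_eq_pow_val]; exact congrArg Units.val hb⟩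
  subst hb
  have hb0 : b ≠ 0 := fun h => hz0 (by rw [h, zero_pow hn.ne_zero])
  obtain ⟨g, hgK, hgn, hgc⟩ := exists_semilinear hn.one_lt.le hK
  -- `x = b • y`, `y` of order `n`
  set Y : End F (Fin n → F) := b⁻¹ • Matrix.toLin' (x : Matrix (Fin n) (Fin n) F) with hY
  have hYn : Y ^ n = 1 := by
    rw [hY, _root_.smul_pow, ← toLin'_pow, hz, toLin'_smul_one, smul_smul, ← mul_pow, inv_mul_cancel₀ hb0,
      one_pow, one_smul]
  have hYs : Y.IsSemisimple := semisimple_of_pow_smul (p := p) Y hn hnp one_ne_zero (by rw [one_smul, hYn])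
  have hTn : Matrix.toLin' (x : Matrix (Fin n) (Fin n) F) ^ n = (b ^ n) • 1 := by
    rw [← toLin'_pow, hz, toLin'_smul_one]
  have hTs := semisimple_of_pow_smul (p := p) _ hn hnp hz0 hTn
  have hchar : Y.charpoly = X ^ n - 1 := by
    have hcm : (cyclotomic n F).Monic := cyclotomic.monic n F
    have hcd : (cyclotomic n F).natDegree = n - 1 := by rw [natDegree_cyclotomic, Nat.totient_prime hn]
    obtain ⟨P, hPm, hP, hPd⟩ := exists_monic_irreducible_factor (cyclotomic n F) (fun h => by
      have := natDegree_eq_zero_of_isUnit h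
      omega)
    have hPeq : P = cyclotomic n F := by
      refine (eq_of_monic_of_dvd_of_natDegree_le hPm hcm hPd ?_).symm
      rcases natDegree_factor (p := p) hq hn hnp hP hPm (cyclotomic_prime_mul_X_sub_one F n ▸ hPd.mul_right _) with h | h
      · exfalso
        have hsep : (X ^ n - C (1 : F)).Separable := separable_X_pow_sub_C 1 (fun h => by
          rw [CharP.cast_eq_zero_iff F p] at h
          exact hnp ((Nat.prime_dvd_prime_iff_eq hp.out hn).mp h).symm) one_ne_zero
        rw [map_one, ← cyclotomic_prime_mul_X_sub_one F n] at hsep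
        exact (irreducible_X_sub_C (1 : F)).not_isUnit (hsep.squarefree _ (by
          rw [map_one]; exact mul_dvd_mul_right (h ▸ hPd) _))
      · omega
    rw [hPeq] at hP
    by_cases hd : cyclotomic n F ∣ Y.charpoly
    · obtain ⟨Q, hQ⟩ := hd
      have hQm : Q.Monic := hcm.of_mul_monic_left (hQ ▸ Y.charpoly_monic)
      have hQd : Q.natDegree = 1 := by
        have h1 := congrArg natDegree hQ
        rw [Y.charpoly_natDegree, Module.finrank_fin_fun, hcm.natDegree_mul hQm, hcd] at h1
        omega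
      have hdvd := factor_dvd_pow Y (r := n) (c := 1) (by rw [one_smul, hYn])
        (irreducible_of_degree_eq_one ((degree_eq_iff_natDegree_eq hQm.ne_zero).mpr hQd))
        (hQ ▸ dvd_mul_left _ _)
      rw [map_one, ← cyclotomic_prime_mul_X_sub_one F n] at hdvd
      have hQi : Irreducible Q := irreducible_of_degree_eq_one ((degree_eq_iff_natDegree_eq hQm.ne_zero).mpr hQd)
      rcases hQi.prime.dvd_or_dvd hdvd with h | h
      · have h2 := natDegree_eq_of_degree_eq (degree_eq_degree_of_associated (hQi.associated_of_dvd hP h))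
        omega
      · rw [hQ, eq_of_monic_of_associated hQm (by simpa using monic_X_sub_C (1 : F))
          (hQi.associated_of_dvd (by simpa using irreducible_X_sub_C (1 : F)) h)]
        exact cyclotomic_prime_mul_X_sub_one F n
    · exfalso
      -- then `Y = 1`
      have hX : minpoly F Y ∣ X - C (1 : F) := by
        have hsq : Squarefree (minpoly F Y) := hYs.minpoly_squarefree
        have h1 : minpoly F Y ∣ cyclotomic n F * (X - 1) := by
          rw [cyclotomic_prime_mul_X_sub_one]
          exact minpoly.dvd F Y (by rw [map_sub, map_pow, aeval_X, map_one, hYn, sub_self])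
        have hco : IsCoprime (minpoly F Y) (cyclotomic n F) :=
          ((hP.coprime_iff_not_dvd).mpr fun h => hd (h.trans (LinearMap.minpoly_dvd_charpoly Y))).symm
        rw [map_one]
        exact hco.dvd_of_dvd_mul_left h1
      obtain ⟨w, hw⟩ := hX
      have h0 := congrArg (aeval Y) hw
      rw [map_mul, minpoly.aeval, zero_mul, map_sub, aeval_X, map_one C, map_one, sub_eq_zero] at h0
      refine hxs b (Matrix.toLin'.injective ?_)
      rw [toLin'_smul_one, ← h0, hY, smul_smul, mul_inv_cancel₀ hb0, one_smul]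
  -- the model
  obtain ⟨h, hh⟩ : ∃ h : GL (Fin n) F, (h : Matrix (Fin n) (Fin n) F) = b • (g : Matrix (Fin n) (Fin n) F) :=
    ⟨Units.map (Matrix.scalar (Fin n) : F →+* _).toMonoidHom (Units.mk0 b hb0) * g, by
      show Matrix.scalar (Fin n) b * (g : Matrix (Fin n) (Fin n) F) = _
      rw [Matrix.scalar_apply, ← Matrix.smul_one_eq_diagonal, Matrix.smul_mul, one_mul]⟩
  have hhK : h ∈ Cfsg.Geo.subalgebraNormalizer K := by
    intro k
    have hinv : ((h⁻¹ : GL (Fin n) F) : Matrix (Fin n) (Fin n) F) =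
        b⁻¹ • ((g⁻¹ : GL (Fin n) F) : Matrix (Fin n) (Fin n) F) := by
      refine Units.inv_eq_of_mul_eq_one_right ?_
      rw [hh, Matrix.smul_mul, Matrix.mul_smul, smul_smul, mul_inv_cancel₀ hb0, one_smul, Units.mul_inv]
    rw [hh, hinv, Matrix.smul_mul, Matrix.smul_mul, Matrix.mul_smul, smul_smul, mul_inv_cancel₀ hb0, one_smul]
    exact hgK k
  have hGs : Module.End.IsSemisimple (Matrix.toLin' (g : Matrix (Fin n) (Fin n) F)) :=
    semisimple_of_pow_smul (p := p) _ hn hnp one_ne_zero (by
      rw [one_smul, ← toLin'_pow, hgn, Matrix.toLin'_one]; rfl)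
  obtain ⟨e, he⟩ := CfsgLib.Classical.SemisimpleClasses.exists_conj_aux n (Fin n → F) (Fin n → F) _ _
    (Module.finrank_fin_fun F) hYs hGs (by rw [hchar, Matrix.charpoly_toLin', hgc])
  refine exists_sl_conj_of_charpoly hn.one_lt.le _ x h hhK hTs ?_ ?_
  · refine semisimple_of_pow_smul (p := p) _ hn hnp hz0 ?_
    rw [← toLin'_pow, hh, _root_.smul_pow, hgn, toLin'_smul_one]
  · rw [← Matrix.charpoly_toLin', ← Matrix.charpoly_toLin' (h : Matrix (Fin n) (Fin n) F), hh, toLin'_scalar,
      ← LinearEquiv.charpoly_conj e (Matrix.toLin' (x : Matrix (Fin n) (Fin n) F))]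
    congr 1
    refine LinearMap.ext fun v => ?_
    obtain ⟨u, rfl⟩ := e.surjective v
    rw [LinearEquiv.conj_apply, LinearMap.comp_apply, LinearMap.comp_apply, LinearEquiv.coe_coe, LinearEquiv.coe_coe,
      LinearEquiv.symm_apply_apply, LinearMap.smul_apply, ← he, hY, LinearMap.smul_apply, map_smul, smul_smul,
      mul_inv_cancel₀ hb0, one_smul]

end CfsgLib.Derange
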