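import Mathlib
import Cfsg.Agent.Lib.Derange.Count
import Cfsg.Agent.Lib.Derange.InvolutionConj
import Cfsg.Agent.Lib.Classical.Card
import Cfsg.Prelude.Def_GeometricClasses

/-!
Subfield groups: divisibility and parity of the index, squares, rational forms of involutions.
-/

set_option autoImplicit false
set_option linter.style.haveILetI false

namespace CfsgLib.Derange

open Module Finset
open scoped MatrixGroups

variable {F : Type*} [Field F] [Fintype F]

theorem odd_geom {x k : ℕ} (hk : Odd k) (hx : Odd x) : Odd (∑ i ∈ range k, x ^ i) := by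
  rw [← ZMod.natCast_eq_one_iff_odd] at hx hk ⊢
  simp [hx, hk]

theorem isSquare_of_mem_subfield (F₀ : Subfield F) {q₀ : ℕ} (hF₀ : Nat.card F₀ = q₀)
    (hq : Fintype.card F = q₀ ^ 2) (hodd : q₀ % 2 = 1) {w : F} (hw : w ∈ F₀) : ∃ b : F, w = b * b := by
  classical
  rcases eq_or_ne w 0 with rfl | hw0
  · exact ⟨0, (mul_zero 0).symm⟩
  have hchar : ringChar F ≠ 2 := by
    intro h
    have h1 := FiniteField.even_card_iff_char_two.mp h
    rw [hq, Nat.pow_mod, hodd] at h1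
    norm_num at h1
  have hpow : w ^ (q₀ - 1) = 1 := by
    have h2 := FiniteField.pow_card_sub_one_eq_one (⟨w, hw⟩ : F₀) (fun h => hw0 (congrArg Subtype.val h))
    rw [← Nat.card_eq_fintype_card, hF₀] at h2
    exact congrArg Subtype.val h2
  refine (FiniteField.isSquare_iff hchar hw0).mpr ?_
  obtain ⟨t, rfl⟩ : ∃ t, q₀ = 2 * t + 1 := ⟨q₀ / 2, by omega⟩
  rw [Nat.add_sub_cancel] at hpow
  rw [hq, show (2 * t + 1) ^ 2 / 2 = (2 * t) * (t + 1) by
    rw [show (2 * t + 1) ^ 2 = 2 * ((2 * t) * (t + 1)) + 1 by ring]; omega, pow_mul, hpow, one_pow]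

/-- The index of a subfield group, times `O₁`, divides a power of `q` times the product of the `O`. -/
theorem subfield_index_dvd {n : ℕ} (F₀ : Subfield F) (hn : 1 ≤ n) {q₀ k : ℕ} (hF₀ : Nat.card F₀ = q₀)
    (hq : Fintype.card F = q₀ ^ k) :
    (∑ i ∈ range k, q₀ ^ i) * ((Cfsg.Geo.subfieldSubgroup F₀ 1).comap
      (Matrix.SpecialLinearGroup.toGL : Matrix.SpecialLinearGroup (Fin n) F →* GL (Fin n) F)).index ∣
      (q₀ ^ k) ^ (∑ j ∈ range n, j) * ∏ t ∈ range n, ∑ i ∈ range k, (q₀ ^ (t + 1)) ^ i := by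
  classical
  set H := (Cfsg.Geo.subfieldSubgroup F₀ 1).comap
      (Matrix.SpecialLinearGroup.toGL : Matrix.SpecialLinearGroup (Fin n) F →* GL (Fin n) F)
  have hq02 : 2 ≤ q₀ := hF₀ ▸ Finite.one_lt_card
  let ι := Matrix.SpecialLinearGroup.map (n := Fin n) (F₀.subtype)
  have hι : Function.Injective ι := fun A B h => by
    refine Matrix.SpecialLinearGroup.ext _ _ fun i j => ?_
    exact Subtype.ext (congrFun (congrFun (congrArg Subtype.val h) i) j)
  have hle : ι.range ≤ H := by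
    rintro _ ⟨A, rfl⟩
    refine ⟨_, Subgroup.mem_sup_left ⟨Matrix.SpecialLinearGroup.toGL A, rfl⟩, ?_⟩
    simp only [MulEquiv.coe_toMonoidHom, MulAut.conj_apply, one_mul, inv_one, mul_one]
    exact Units.ext rfl
  have hdvd : Nat.card (Matrix.SpecialLinearGroup (Fin n) F₀) * H.index ∣
      Nat.card (Matrix.SpecialLinearGroup (Fin n) F) := by
    rw [← H.card_mul_index, Nat.card_congr (MonoidHom.ofInjective hι).toEquiv]
    exact Nat.mul_dvd_mul_right (Subgroup.card_dvd_of_le hle) _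
  obtain ⟨w, hw⟩ := hdvd
  have h1 := CfsgLib.Classical.sub_one_mul_card_SL (F := F) hn
  have h0 := CfsgLib.Classical.sub_one_mul_card_SL (F := F₀) hn
  rw [hq] at h1
  rw [← Nat.card_eq_fintype_card, hF₀] at h0
  have e1 := frames_eq (q₀ ^ k) (le_refl n)
  have e0 := frames_eq q₀ (le_refl n)
  rw [Nat.sub_self, show qFac (q₀ ^ k) 0 = 1 from rfl, mul_one, ← h1] at e1
  rw [Nat.sub_self, show qFac q₀ 0 = 1 from rfl, mul_one, ← h0] at e0
  set O := ∏ t ∈ range n, ∑ i ∈ range k, (q₀ ^ (t + 1)) ^ i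
  have hO : qFac (q₀ ^ k) n = qFac q₀ n * O := by
    rw [qFac, qFac, ← prod_mul_distrib]
    refine prod_congr rfl fun t _ => ?_
    rw [← pow_mul, mul_comm k, pow_mul, mul_comm (q₀ ^ (t + 1) - 1)]
    exact (geom_sum_mul_of_one_le (Nat.one_le_pow _ _ (by omega)) k).symm
  set O₁ := ∑ i ∈ range k, q₀ ^ i
  have hO₁ : q₀ ^ k - 1 = (q₀ - 1) * O₁ := by
    rw [mul_comm]
    exact (geom_sum_mul_of_one_le (by omega) k).symm
  rw [hw, hO₁, hO] at e1
  set A := Nat.card (Matrix.SpecialLinearGroup (Fin n) F₀)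
  set S := ∑ j ∈ range n, j
  have hpos : 0 < (q₀ - 1) * A := Nat.mul_pos (by omega) Nat.card_pos
  have key : O₁ * H.index * w * q₀ ^ S = (q₀ ^ k) ^ S * O := by
    refine Nat.eq_of_mul_eq_mul_left hpos ?_
    calc (q₀ - 1) * A * (O₁ * H.index * w * q₀ ^ S) = (q₀ - 1) * O₁ * (A * H.index * w) * q₀ ^ S := by ring
      _ = (q₀ ^ k) ^ S * (qFac q₀ n * O) * q₀ ^ S := by rw [e1]
      _ = (q₀ ^ S * qFac q₀ n) * ((q₀ ^ k) ^ S * O) := by ring
      _ = (q₀ - 1) * A * ((q₀ ^ k) ^ S * O) := by rw [← e0]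
  exact Dvd.intro (w * q₀ ^ S) (by rw [← key]; ring)

theorem subfield_index_odd {n : ℕ} (F₀ : Subfield F) (hn : 1 ≤ n) {q₀ k : ℕ} (hF₀ : Nat.card F₀ = q₀)
    (hq : Fintype.card F = q₀ ^ k) (hk : Odd k) (hodd : Odd (q₀ ^ k)) :
    ¬ 2 ∣ ((Cfsg.Geo.subfieldSubgroup F₀ 1).comap
      (Matrix.SpecialLinearGroup.toGL : Matrix.SpecialLinearGroup (Fin n) F →* GL (Fin n) F)).index := by
  have hq0 : Odd q₀ := (Nat.odd_pow_iff (by rintro rfl; simp at hk)).mp hodd
  intro h2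
  have h := (h2.mul_left _).trans (subfield_index_dvd F₀ hn hF₀ hq)
  exact Nat.not_even_iff_odd.mpr (hodd.pow.mul (prod_induction _ Odd (fun _ _ => Odd.mul) odd_one
    fun t _ => odd_geom hk hq0.pow)) (even_iff_two_dvd.mpr h)

/-- A matrix whose square is `a ^ 2` is, in some basis, `a` times a matrix over any subfield. -/
theorem exists_rational_basis {n : ℕ} (_hn : 1 ≤ n) (M : Matrix (Fin n) (Fin n) F) {a : F} (ha : a ≠ 0)
    (hM : M ^ 2 = (a ^ 2) • 1) (F₀ : Subfield F) :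
    ∃ b : Basis (Fin n) F (Fin n → F), ∀ i j, LinearMap.toMatrix b b (Matrix.toLin' M) i j / a ∈ F₀ := by
  classical
  have hT : (a⁻¹ • Matrix.toLin' M) ^ 2 = (1 : F) • 1 := by
    rw [_root_.smul_pow, ← toLin'_pow, hM, toLin'_smul_one, smul_smul, ← mul_pow, inv_mul_cancel₀ ha, one_pow]
  obtain ⟨j, k, b, hb⟩ := exists_signed_basis_aux _ (Fin n → F) (Module.finrank_fin_fun F) _ hT
  let e := b.indexEquiv (Pi.basisFun F (Fin n))
  refine ⟨b.reindex e, fun i l => ?_⟩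
  obtain ⟨i, rfl⟩ := e.surjective i
  obtain ⟨l, rfl⟩ := e.surjective l
  obtain ⟨c, hc, h⟩ := hb l
  rw [LinearMap.smul_apply, inv_smul_eq_iff₀ ha] at h
  have hcF : c ∈ F₀ := by rcases hc with rfl | rfl <;> simp [F₀.one_mem, F₀.neg_mem F₀.one_mem]
  rw [LinearMap.toMatrix_apply, Basis.reindex_apply, Equiv.symm_apply_apply, h, Basis.repr_reindex_apply,
    Equiv.symm_apply_apply, map_smul, map_smul, b.repr_self, Finsupp.smul_apply, Finsupp.smul_apply,
    Finsupp.single_apply, smul_eq_mul, smul_eq_mul, mul_div_cancel_left₀ _ ha]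
  split_ifs
  · rwa [mul_one]
  · rw [mul_zero]; exact F₀.zero_mem

end CfsgLib.Derange
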