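import Mathlib

/-!
Multisets of three or five exponents modulo three or five with zero sum are symmetric about a centre.
-/

set_option autoImplicit false

namespace CfsgLib.Derange.Lin


theorem symmetric_three : ∀ a : ZMod 3, ∀ b : ZMod 3, 0 + a + b = 0 →
    ∃ s : ZMod 3, ∃ σ ∈ [![0, 1, 2], ![1, 0, 2], ![2, 1, 0], ![0, 2, 1]],
      (∀ k : Fin 3, σ (σ k) = k) ∧ ∀ k : Fin 3, ![0, a, b] (σ k) + ![0, a, b] k = s := by
  decide +kernel

theorem symmetric_five : ∀ a b c : ZMod 5,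
    ∃ s : ZMod 5, ∃ σ ∈ [![0, 1, 2, 3, 4], ![1, 0, 3, 2, 4], ![1, 0, 4, 3, 2], ![1, 0, 2, 4, 3], ![2, 3, 0, 1, 4],
        ![2, 4, 0, 3, 1], ![2, 1, 0, 4, 3], ![3, 2, 1, 0, 4], ![3, 4, 2, 0, 1], ![3, 1, 4, 0, 2], ![4, 2, 1, 3, 0],
        ![4, 3, 2, 1, 0], ![4, 1, 3, 2, 0], ![0, 2, 1, 4, 3], ![0, 3, 4, 1, 2], ![0, 4, 3, 2, 1],
        ![1, 0, 2, 3, 4], ![2, 1, 0, 3, 4], ![3, 1, 2, 0, 4], ![4, 1, 2, 3, 0], ![0, 2, 1, 3, 4], ![0, 3, 2, 1, 4],
        ![0, 4, 2, 3, 1], ![0, 1, 3, 2, 4], ![0, 1, 4, 3, 2], ![0, 1, 2, 4, 3]],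
      (∀ k : Fin 5, σ (σ k) = k) ∧
        ∀ k : Fin 5, ![0, a, b, c, -(a + b + c)] (σ k) + ![0, a, b, c, -(a + b + c)] k = s := by
  decide +kernel

/-- Exponents summing to zero are symmetric about some centre, in three or five dimensions. -/
theorem exists_symmetry {r : ℕ} [NeZero r] (h35 : r = 3 ∨ r = 5) (e : Fin r → ZMod r) (he : ∑ k, e k = 0) :
    ∃ (s : ZMod r) (σ : Fin r → Fin r), (∀ k, σ (σ k) = k) ∧ ∀ k, e (σ k) + e k = s := by
  rcases h35 with rfl | rfl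
  · have hs : 0 + (e 1 - e 0) + (e 2 - e 0) = 0 := by
      rw [Fin.sum_univ_three] at he
      have h3 : (3 : ZMod 3) = 0 := by decide
      linear_combination he - e 0 * h3
    obtain ⟨s, σ, -, hσ, h⟩ := symmetric_three (e 1 - e 0) (e 2 - e 0) hs
    refine ⟨s + (e 0 + e 0), σ, hσ, fun k => ?_⟩
    have hk : ∀ k, e k = ![0, e 1 - e 0, e 2 - e 0] k + e 0 := fun k => by fin_cases k <;> simp
    rw [hk, hk k]
    linear_combination h k
  · have h5 : (5 : ZMod 5) = 0 := by decide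
    obtain ⟨s, σ, -, hσ, h⟩ := symmetric_five (e 1 - e 0) (e 2 - e 0) (e 3 - e 0)
    refine ⟨s + (e 0 + e 0), σ, hσ, fun k => ?_⟩
    have hk : ∀ k, e k = ![0, e 1 - e 0, e 2 - e 0, e 3 - e 0,
        -((e 1 - e 0) + (e 2 - e 0) + (e 3 - e 0))] k + e 0 := fun k => by
      rw [Fin.sum_univ_five] at he
      fin_cases k <;> simp
      linear_combination he - e 0 * h5
    rw [hk, hk k]
    linear_combination h k

end CfsgLib.Derange.Lin
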