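import Cfsg.Agent.Lib.Derange.LinearGroups
import Cfsg.Agent.Lib.Derange.SymmetricExponents
import Cfsg.Agent.Lib.Derange.SubfieldIndex
import Cfsg.Agent.Lib.Classical.PrimeDimDescent

/-!
Conjugating semisimple elements of `SL` into a subfield group.
-/

set_option autoImplicit false
set_option linter.style.haveILetI false
set_option linter.unusedSectionVars false

namespace CfsgLib.Derange.Subfld

open Module Matrix Polynomial UniqueFactorizationMonoid CfsgLib.Classical.SemisimpleClasses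
open scoped MatrixGroups

variable {F : Type*} [Field F] [Fintype F] {p : ℕ} [hp : Fact p.Prime] [CharP F p] {F₀ : Subfield F}
  {q₀ n r : ℕ}

theorem mem_of_pow (hF₀ : Nat.card F₀ = q₀) {x : F} (hx : x ^ q₀ = x) : x ∈ F₀ := by
  classical
  have hq2 : 2 ≤ q₀ := hF₀ ▸ Finite.one_lt_card
  letI := Fintype.ofFinite F₀
  by_contra h
  have hsub : insert x (Finset.univ.image F₀.subtype) ⊆ (Polynomial.X ^ q₀ - Polynomial.X : F[X]).roots.toFinset := by
    intro y hy
    rw [Multiset.mem_toFinset, mem_roots (FiniteField.X_pow_card_sub_X_ne_zero F hq2), IsRoot, eval_sub, eval_pow,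
      eval_X, sub_eq_zero]
    rcases Finset.mem_insert.1 hy with rfl | hy
    · exact hx
    · obtain ⟨a, -, rfl⟩ := Finset.mem_image.1 hy
      rw [← map_pow, ← hF₀, Nat.card_eq_fintype_card, FiniteField.pow_card]
  have h1 := (Finset.card_le_card hsub).trans ((Multiset.toFinset_card_le _).trans (card_roots' _))
  rw [FiniteField.X_pow_card_sub_X_natDegree_eq F hq2, Finset.card_insert_of_notMem
    (fun hh => by obtain ⟨a, -, ha⟩ := Finset.mem_image.1 hh; exact h (ha ▸ a.2)),
    Finset.card_image_of_injective _ F₀.subtype.injective, Finset.card_univ, ← Nat.card_eq_fintype_card, hF₀] at h1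
  omega

include hp in
theorem exists_frob (hF₀ : Nat.card F₀ = q₀) :
    ∃ φ : F →+* F, (∀ x, φ x = x ^ q₀) ∧ ∀ x, φ x = x ↔ x ∈ F₀ := by
  classical
  letI := Fintype.ofFinite F₀
  haveI : CharP F₀ p := (F₀.subtype.charP_iff F₀.subtype.injective p).2 inferInstance
  haveI : ExpChar F p := ExpChar.prime hp.out
  obtain ⟨e, -, he⟩ := FiniteField.card F₀ p
  rw [← Nat.card_eq_fintype_card, hF₀] at he
  have hφ : ∀ x, iterateFrobenius F p e x = x ^ q₀ := fun x => by rw [iterateFrobenius_def, he]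
  refine ⟨iterateFrobenius F p e, hφ, fun x => ⟨fun h => mem_of_pow hF₀ (by rw [← hφ, h]), fun h => ?_⟩⟩
  rw [hφ]
  have := congrArg Subtype.val (FiniteField.pow_card (⟨x, h⟩ : F₀))
  rwa [← Nat.card_eq_fintype_card, hF₀] at this

include hp in
/-- An element with rational scaled characteristic polynomial is conjugate into the subfield group. -/
theorem conj_mem (hn : 0 < n) (hr : r.Prime) (hrp : r ≠ p) (x : Matrix.SpecialLinearGroup (Fin n) F) {z c : F}
    (hz : (x : Matrix (Fin n) (Fin n) F) ^ r = z • 1) (hc : c ≠ 0) {f₀ : F₀[X]}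
    (hf : (c • (x : Matrix (Fin n) (Fin n) F)).charpoly = f₀.map F₀.subtype) :
    ∃ P : Matrix.SpecialLinearGroup (Fin n) F, P⁻¹ * x * P ∈ ((Cfsg.Geo.subfieldSubgroup F₀ 1).comap
      (Matrix.SpecialLinearGroup.toGL : Matrix.SpecialLinearGroup (Fin n) F →* GL (Fin n) F)) := by
  classical
  letI := Fintype.ofFinite F₀
  haveI : CharP F₀ p := (F₀.subtype.charP_iff F₀.subtype.injective p).2 inferInstance
  haveI : Nonempty (Fin n) := ⟨⟨0, hn⟩⟩
  set X := (x : Matrix (Fin n) (Fin n) F)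
  have hdet : (c • X).det = c ^ n := by rw [Matrix.det_smul, x.2, Fintype.card_fin, mul_one]
  have hm : f₀.Monic := monic_of_injective F₀.subtype.injective (hf ▸ Matrix.charpoly_monic _)
  have hd : f₀.natDegree = n := by
    rw [← natDegree_map_eq_of_injective F₀.subtype.injective f₀, ← hf, Matrix.charpoly_natDegree_eq_dim,
      Fintype.card_fin]
  have h0 : f₀.coeff 0 ≠ 0 := by
    intro h
    have := (c • X).det_eq_sign_charpoly_coeff
    rw [hf, coeff_map, h, map_zero, mul_zero, hdet] at this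
    exact pow_ne_zero n hc this
  obtain ⟨g₀, hg₀, hg₀c⟩ := exists_semisimple (p := p) f₀ hm hd h0
  set G : GL (Fin n) F := Matrix.GeneralLinearGroup.map F₀.subtype g₀
  have hGc : (G : Matrix (Fin n) (Fin n) F).charpoly = (c • X).charpoly := by
    rw [hf, ← hg₀c, ← Matrix.charpoly_map]; rfl
  obtain ⟨u, hu⟩ : IsUnit (c • X) := (Matrix.isUnit_iff_isUnit_det _).2
    (by rw [hdet]; exact isUnit_iff_ne_zero.2 (pow_ne_zero n hc))
  have hz0 : z ≠ 0 := by
    intro h
    have := congrArg Matrix.det hz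
    rw [Matrix.det_pow, x.2, one_pow, h, zero_smul, Matrix.det_zero] at this
    exact one_ne_zero this
  have hpc : ¬ p ∣ r * (Fintype.card F - 1) := fun h => by
    rcases hp.out.dvd_mul.1 h with h | h
    · exact hrp ((Nat.prime_dvd_prime_iff_eq hp.out hr).1 h).symm
    · obtain ⟨m, -, hm⟩ := FiniteField.card F p
      rw [hm] at h
      have h2 := Nat.dvd_sub (dvd_pow_self p m.ne_zero) h
      rw [Nat.sub_sub_self (Nat.one_le_pow _ _ hp.out.pos)] at h2
      exact hp.out.not_dvd_one h2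
  have hucop : (orderOf u).Coprime p := by
    refine Nat.Coprime.coprime_dvd_left (orderOf_dvd_of_pow_eq_one (n := r * (Fintype.card F - 1)) (Units.ext ?_))
      (hp.out.coprime_iff_not_dvd.2 hpc).symm
    rw [Units.val_pow_eq_pow_val, hu, pow_mul, _root_.smul_pow, hz, smul_smul, _root_.smul_pow, one_pow,
      FiniteField.pow_card_sub_one_eq_one _ (mul_ne_zero (pow_ne_zero r hc) hz0), one_smul, Units.val_one]
  obtain ⟨w, hw⟩ := isConj_iff.1 (isConj_of_charpoly_eq (p := p) G u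
    (hg₀.coprime_dvd_left (orderOf_map_dvd _ g₀)) hucop (by rw [hGc, hu]))
  haveI : Nontrivial (Fin n → F) := inferInstance
  obtain ⟨Z, hZ, hZd⟩ := CfsgLib.Classical.SemisimpleDet.exists_commute_det (Matrix.toLin' X)
    (semisimple_of_pow_smul (p := p) _ hr hrp hz0 (by
      rw [← toLin'_pow, hz, map_smul, Matrix.toLin'_one]; rfl)) (w : Matrix (Fin n) (Fin n) F).det⁻¹
  set Zm := LinearMap.toMatrix' Z
  have hZc : Commute Zm X := by
    refine Matrix.toLin'.injective ?_
    rw [Matrix.toLin'_mul, Matrix.toLin'_mul, Matrix.toLin'_toMatrix']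
    exact hZ
  have hPd : (Zm * (w : Matrix (Fin n) (Fin n) F)).det = 1 := by
    rw [Matrix.det_mul, LinearMap.det_toMatrix', hZd, inv_mul_cancel₀ w.det_ne_zero]
  obtain ⟨zu, hzu⟩ : IsUnit Zm := (Matrix.isUnit_iff_isUnit_det _).2
    (by rw [LinearMap.det_toMatrix', hZd]; exact isUnit_iff_ne_zero.2 (inv_ne_zero w.det_ne_zero))
  refine ⟨⟨_, hPd⟩, ?_⟩
  set P : Matrix.SpecialLinearGroup (Fin n) F := ⟨_, hPd⟩
  let s : GL (Fin n) F := Units.map (Matrix.scalar (Fin n) : F →+* Matrix (Fin n) (Fin n) F).toMonoidHom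
    (Units.mk0 c hc)⁻¹
  have hs : (s : Matrix (Fin n) (Fin n) F) = c⁻¹ • 1 := by
    simp [s, Matrix.smul_one_eq_diagonal]
  set xg : GL (Fin n) F := Matrix.SpecialLinearGroup.toGL x
  have hxg : xg = s * u := Units.ext (by
    rw [Units.val_mul, hs, hu, Matrix.smul_mul, Matrix.one_mul, smul_smul, inv_mul_cancel₀ hc, one_smul]; rfl)
  have hP : Matrix.SpecialLinearGroup.toGL P = zu * w := Units.ext (by rw [Units.val_mul, hzu]; rfl)
  have hcomm : xg * zu = zu * xg := Units.ext (by rw [Units.val_mul, Units.val_mul, hzu]; exact hZc.eq.symm)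
  have hsc : s * w = w * s := Units.ext (by rw [Units.val_mul, Units.val_mul, hs]; simp)
  rw [Subgroup.mem_comap, map_mul, map_mul, map_inv, hP]
  have e : (zu * w)⁻¹ * xg * (zu * w) = s * G := by
    calc (zu * w)⁻¹ * xg * (zu * w) = w⁻¹ * zu⁻¹ * (xg * zu) * w := by group
      _ = w⁻¹ * (s * (w * G * w⁻¹)) * w := by rw [hcomm, hw, ← hxg]; group
      _ = s * G := by rw [← mul_assoc s, ← mul_assoc s, hsc]; group
  show (zu * w)⁻¹ * xg * (zu * w) ∈ _
  rw [e]
  refine ⟨s * G, mul_mem (Subgroup.mem_sup_right ⟨_, rfl⟩) (Subgroup.mem_sup_left ⟨g₀, rfl⟩), ?_⟩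
  simp [MulAut.conj_apply]

include hp in
/-- Elements killed by `X ^ r - 1`, when the orbits over the subfield are those over the field. -/
theorem charpoly_rational {q : ℕ} (hq : Fintype.card F = q) (hF₀ : Nat.card F₀ = q₀) (hr : r.Prime) (hrp : r ≠ p)
    (ho : orderOf (q : ZMod r) = orderOf (q₀ : ZMod r)) (Y : Matrix (Fin n) (Fin n) F) (hY : Y ^ r = 1) :
    ∃ f₀ : F₀[X], Y.charpoly = f₀.map F₀.subtype := by
  classical
  letI := Fintype.ofFinite F₀
  haveI : CharP F₀ p := (F₀.subtype.charP_iff F₀.subtype.injective p).2 inferInstance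
  have hF₀' : Fintype.card F₀ = q₀ := by rw [← Nat.card_eq_fintype_card, hF₀]
  set ι : F₀[X] →+* F[X] := Polynomial.mapRingHom F₀.subtype
  suffices h : Y.charpoly ∈ ι.range by
    obtain ⟨f₀, hf₀⟩ := h
    exact ⟨f₀, hf₀.symm⟩
  have hne : Y.charpoly ≠ 0 := (Matrix.charpoly_monic Y).ne_zero
  rw [← (Matrix.charpoly_monic Y).normalize_eq_self, ← prod_normalizedFactors_eq hne]
  refine Subring.multiset_prod_mem _ _ fun P hP => ?_
  have hPi := irreducible_of_normalized_factor P hP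
  have hPm : P.Monic := (normalize_normalized_factor P hP) ▸ monic_normalize hPi.ne_zero
  have hPd : P ∣ Polynomial.X ^ r - 1 := by
    have := factor_dvd_pow (Matrix.toLin' Y) (r := r) (c := (1 : F)) (by
      rw [← toLin'_pow, hY, Matrix.toLin'_one, one_smul]; rfl) hPi
      (by rw [Matrix.charpoly_toLin']; exact dvd_of_mem_normalizedFactors hP)
    rwa [map_one] at this
  have hX : (Polynomial.X ^ r - 1 : F₀[X]).Monic := by
    simpa using monic_X_pow_sub_C (1 : F₀) hr.ne_zero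
  have hsplit : ι (normalizedFactors (Polynomial.X ^ r - 1 : F₀[X])).prod = Polynomial.X ^ r - 1 := by
    rw [prod_normalizedFactors_eq hX.ne_zero, hX.normalize_eq_self, map_sub, map_pow, map_one]
    simp [ι]
  rw [← hsplit, map_multiset_prod] at hPd
  obtain ⟨Q', hQ', hPQ⟩ := hPi.prime.exists_mem_multiset_dvd hPd
  obtain ⟨Q, hQ, rfl⟩ := Multiset.mem_map.1 hQ'
  have hQi := irreducible_of_normalized_factor Q hQ
  have hQm : Q.Monic := (normalize_normalized_factor Q hQ) ▸ monic_normalize hQi.ne_zero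
  refine ⟨Q, (eq_of_monic_of_associated hPm (hQm.map _) (associated_of_dvd_of_natDegree_le hPQ
    (hQm.map F₀.subtype).ne_zero ?_)).symm⟩
  have hPpos := hPi.natDegree_pos
  have hPdeg : (Polynomial.map F₀.subtype Q).natDegree = Q.natDegree := natDegree_map _
  show (Polynomial.map F₀.subtype Q).natDegree ≤ P.natDegree
  rcases natDegree_factor (p := p) hF₀' hr hrp hQi hQm (dvd_of_mem_normalizedFactors hQ) with h | h
  · rw [hPdeg, h, show (Polynomial.X - 1 : F₀[X]).natDegree = 1 by simpa using natDegree_X_sub_C (1 : F₀)]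
    exact hPpos
  rcases natDegree_factor (p := p) hq hr hrp hPi hPm
    (hPd.trans (dvd_of_eq (by rw [← map_multiset_prod, hsplit]))) with h' | h'
  · have hroot : Q.IsRoot 1 := by
      have h2 : (Polynomial.map F₀.subtype Q).IsRoot 1 := dvd_iff_isRoot.1 (by rw [map_one, ← h']; exact hPQ)
      rw [IsRoot, ← map_one F₀.subtype, eval_map, eval₂_at_apply] at h2
      exact F₀.subtype.injective (by rw [h2, map_zero])
    rw [hPdeg, natDegree_eq_of_degree_eq (degree_eq_degree_of_associated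
      ((irreducible_X_sub_C (1 : F₀)).associated_of_dvd hQi (dvd_iff_isRoot.2 hroot))).symm, natDegree_X_sub_C]
    exact hPpos
  · rw [hPdeg, h, h', ho]

include hp in
/-- Conjugacy into the subfield group, normalised. -/
theorem conj_data (hn : 0 < n) (hcop : (q₀ - 1).Coprime r) (hF₀ : Nat.card F₀ = q₀)
    (hall : ∀ x : Matrix.SpecialLinearGroup (Fin n) F,
      (∃ z : F, ((x ^ r : Matrix.SpecialLinearGroup (Fin n) F) : Matrix (Fin n) (Fin n) F) = z • (1 : Matrix (Fin n) (Fin n) F)) →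
      (∀ z : F, (x : Matrix (Fin n) (Fin n) F) ≠ z • (1 : Matrix (Fin n) (Fin n) F)) →
      ∃ P : Matrix.SpecialLinearGroup (Fin n) F, P⁻¹ * x * P ∈ ((Cfsg.Geo.subfieldSubgroup F₀ 1).comap
        (Matrix.SpecialLinearGroup.toGL : Matrix.SpecialLinearGroup (Fin n) F →* GL (Fin n) F)))
    (Y : Matrix (Fin n) (Fin n) F) {α : F} (hdet : (α • Y).det = 1) (hY : Y ^ r = 1)
    (hns : ∀ c : F, Y ≠ c • 1) :
    ∃ (W : GL (Fin n) F) (θ : F) (M : Matrix (Fin n) (Fin n) F₀), θ ^ r = 1 ∧ M ^ r = 1 ∧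
      M.map F₀.subtype = θ • ((W⁻¹ : GL (Fin n) F) * Y * (W : Matrix (Fin n) (Fin n) F)) := by
  classical
  have hα : α ≠ 0 := by
    rintro rfl
    haveI : Nonempty (Fin n) := ⟨⟨0, hn⟩⟩
    rw [zero_smul, Matrix.det_zero] at hdet
    exact zero_ne_one hdet
  let x : Matrix.SpecialLinearGroup (Fin n) F := ⟨α • Y, hdet⟩
  obtain ⟨P, hP⟩ := hall x ⟨α ^ r, by rw [Matrix.SpecialLinearGroup.coe_pow]; show (α • Y) ^ r = _; rw [_root_.smul_pow, hY]⟩
    (fun c h => hns (α⁻¹ * c) (by
      rw [← smul_smul, ← show α • Y = c • 1 from h, smul_smul, inv_mul_cancel₀ hα, one_smul]))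
  obtain ⟨c, hc, hN⟩ := CfsgLib.PrimeDim.mem_subfieldSubgroup.1 (Subgroup.mem_comap.1 hP)
  set W : GL (Fin n) F := Matrix.SpecialLinearGroup.toGL P
  simp only [inv_one, one_mul, mul_one, map_mul, map_inv] at hN
  let M₀ : Matrix (Fin n) (Fin n) F₀ := Matrix.of fun i j => ⟨_, hN i j⟩
  set V := ((W⁻¹ : GL (Fin n) F) : Matrix (Fin n) (Fin n) F) * Y * (W : Matrix (Fin n) (Fin n) F) with hV
  have hM₀ : M₀.map F₀.subtype = (α / c) • V := by
    ext i j
    show (((W⁻¹ * Matrix.SpecialLinearGroup.toGL x * W : GL (Fin n) F)) : Matrix (Fin n) (Fin n) F) i j / c = _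
    rw [Units.val_mul, Units.val_mul, show ((Matrix.SpecialLinearGroup.toGL x : GL (Fin n) F) :
      Matrix (Fin n) (Fin n) F) = α • Y from rfl, Matrix.mul_smul, Matrix.smul_mul, Matrix.smul_apply,
      Matrix.smul_apply, smul_eq_mul, smul_eq_mul]
    ring
  have hVr : V ^ r = 1 := by rw [hV, Units.conj_pow', hY, Matrix.mul_one, Units.inv_mul]
  have hpow : (M₀ ^ r).map F₀.subtype = (α / c) ^ r • 1 := by
    rw [← RingHom.mapMatrix_apply, map_pow, RingHom.mapMatrix_apply, hM₀, _root_.smul_pow, hVr]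
  have hd : (α / c) ^ r ∈ F₀ := by
    have := congrFun (congrFun hpow ⟨0, hn⟩) ⟨0, hn⟩
    rw [Matrix.map_apply, Matrix.smul_apply, Matrix.one_apply_eq, smul_eq_mul, mul_one] at this
    exact this ▸ ((M₀ ^ r) _ _).2
  have hd0 : (⟨_, hd⟩ : F₀) ≠ 0 := fun h => pow_ne_zero r (div_ne_zero hα hc) (congrArg Subtype.val h)
  have hcard : (Nat.card F₀ˣ).Coprime r := by rw [Nat.card_units, hF₀]; exact hcop
  obtain ⟨e, he⟩ := (powCoprime hcard).surjective (Units.mk0 _ hd0)
  have he' : ((e : F₀) : F) ^ r = (α / c) ^ r :=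
    congrArg (fun a : F₀ˣ => ((a : F₀) : F)) he
  have he0 : ((e : F₀) : F) ≠ 0 := fun h => e.ne_zero (Subtype.ext h)
  have hmap : ((e : F₀)⁻¹ • M₀).map F₀.subtype = ((α / c) / ((e : F₀) : F)) • V := by
    rw [Matrix.map_smul' F₀.subtype _ _ (map_mul F₀.subtype), hM₀, smul_smul, map_inv₀]
    congr 1
    rw [div_eq_inv_mul (α / c)]; rfl
  refine ⟨W, α / c / ((e : F₀) : F), (e : F₀)⁻¹ • M₀, by rw [div_pow, he', div_self (pow_ne_zero r (div_ne_zero hα hc))],
    ?_, hmap⟩
  refine Matrix.map_injective F₀.subtype.injective ?_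
  show ((((e : F₀)⁻¹ • M₀) ^ r)).map F₀.subtype = (1 : Matrix (Fin n) (Fin n) F₀).map F₀.subtype
  rw [← RingHom.mapMatrix_apply, map_pow, RingHom.mapMatrix_apply, hmap, _root_.smul_pow, hVr, div_pow, he',
    div_self (pow_ne_zero r (div_ne_zero hα hc)), one_smul, Matrix.map_one _ (map_zero _) (map_one _)]

end CfsgLib.Derange.Subfld
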