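import Mathlib
import Cfsg.Agent.Lib.Derange.Elusive
import Cfsg.Agent.Lib.Derange.Count

/-!
Numerical forms of the criterion for subspaces and flags.
-/

set_option autoImplicit false

namespace CfsgLib.Derange

theorem one_case {r m n q : ℕ} (hr : r.Prime) {A : Prop} (hA : r ∣ n → (A ↔ r ∣ m)) :
    ((r ∣ n → A) ∨ NoTwist r n q) ↔ (r ∣ m ∨ NoTwist r n q) := by
  by_cases h : r ∣ n
  · simp [h, hA h]
  · have hnt : NoTwist r n q := by
      refine ⟨by rw [padicValNat.eq_zero_of_not_dvd h]; exact Nat.zero_le _, fun h2 he => ?_⟩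
      subst h2
      exact absurd (even_iff_two_dvd.mp he) h
    exact iff_of_true (Or.inr hnt) (Or.inr hnt)

theorem mod_eq_of_dvd_sub {i n j : ℕ} (hji : j < i) (hjn : j ≤ n) (h : i ∣ n - j) : n % i = j := by
  obtain ⟨k, hk⟩ := h
  rw [show n = j + i * k by omega, Nat.add_mul_mod_self_left, Nat.mod_eq_of_lt hji]

theorem subspace_two {i n m : ℕ} (hi : 2 ≤ i) (hmn : m ≤ n) (hj : ∃ j < m, i ∣ n - j) :
    (∀ l e, 1 ≤ e → l + e * i = n → ∃ a b, a ≤ l ∧ b ≤ e ∧ a + b * i = m) ↔
      i ≤ m ∧ m % i ≤ n % i := by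
  obtain ⟨j, hjm, hjd⟩ := hj
  have hin : i ≤ n := by
    have := Nat.le_of_dvd (by omega) hjd
    omega
  have hlt : n % i < i := Nat.mod_lt _ (by omega)
  constructor
  · intro h
    obtain ⟨a, b, ha, hb, hab⟩ := h (n % i) (n / i) ((Nat.one_le_div_iff (by omega)).mpr hin)
      (Nat.mod_add_div' n i)
    have hma : m % i = a := by
      rw [← hab, Nat.add_mul_mod_self_right, Nat.mod_eq_of_lt (by omega)]
    refine ⟨?_, by omega⟩
    by_contra him
    have hb0 : b = 0 := by
      rcases Nat.eq_zero_or_pos b with h0 | h0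
      · exact h0
      · have := Nat.le_mul_of_pos_left i h0
        omega
    have := mod_eq_of_dvd_sub (by omega : j < i) (by omega) hjd
    subst hb0
    omega
  · rintro ⟨-, hmod⟩ l e - hle
    by_cases hbe : m / i ≤ e
    · refine ⟨m % i, m / i, ?_, hbe, Nat.mod_add_div' m i⟩
      have : n % i ≤ l := by rw [← hle, Nat.add_mul_mod_self_right]; exact Nat.mod_le _ _
      omega
    · have h1 : e * i ≤ (m / i) * i := Nat.mul_le_mul_right i (by omega)
      have h2 := Nat.div_mul_le_self m i
      exact ⟨m - e * i, e, by omega, le_rfl, by omega⟩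

theorem flag_one {r n m : ℕ} (hr : r.Prime) (hmn : 2 * m ≤ n) (hn : r ∣ n) :
    (∃ a b a' b', a ≤ a' ∧ a' ≤ 0 ∧ b ≤ b' ∧ b' ≤ n / r ∧ a + b * r = m ∧ a' + b' * r = n - m) ↔ r ∣ m := by
  constructor
  · rintro ⟨a, b, a', b', ha, ha', -, -, h, -⟩
    exact ⟨b, by rw [mul_comm, ← h]; omega⟩
  · intro h
    refine ⟨0, m / r, 0, (n - m) / r, le_rfl, le_rfl, Nat.div_le_div_right (by omega),
      Nat.div_le_div_right (by omega), ?_, ?_⟩
    · rw [zero_add, Nat.div_mul_cancel h]
    · rw [zero_add, Nat.div_mul_cancel (Nat.dvd_sub hn h)]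

theorem flag_two {i n m : ℕ} (hi : 2 ≤ i) (hmn : 2 * m < n) (hj : ∃ j < 2 * m, i ∣ n - j) :
    (∀ l e, 1 ≤ e → l + e * i = n →
      ∃ a b a' b', a ≤ a' ∧ a' ≤ l ∧ b ≤ b' ∧ b' ≤ e ∧ a + b * i = m ∧ a' + b' * i = n - m) ↔
      i ≤ m ∧ 2 * (m % i) ≤ n % i := by
  obtain ⟨j, hjm, hjd⟩ := hj
  have hin : i ≤ n := by
    have := Nat.le_of_dvd (by omega) hjd
    omega
  have hlt : n % i < i := Nat.mod_lt _ (by omega)
  constructor
  · intro h
    obtain ⟨a, b, a', b', haa, ha, hbb, hb, hab, hab'⟩ :=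
      h (n % i) (n / i) ((Nat.one_le_div_iff (by omega)).mpr hin) (Nat.mod_add_div' n i)
    have hma : m % i = a := by
      rw [← hab, Nat.add_mul_mod_self_right, Nat.mod_eq_of_lt (by omega)]
    have hn2 : n % i = (a + a') % i := by
      have : n = (a + a') + (b + b') * i := by rw [add_mul]; omega
      conv_lhs => rw [this]
      rw [Nat.add_mul_mod_self_right]
    have key : 2 * a ≤ n % i := by
      rcases lt_or_ge (a + a') i with hlt' | hge
      · rw [hn2, Nat.mod_eq_of_lt hlt']
        omega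
      · have h3 : (a + a') % i = a + a' - i := by
          rw [Nat.mod_eq_sub_mod hge, Nat.mod_eq_of_lt (by omega)]
        omega
    refine ⟨?_, by omega⟩
    by_contra him
    have hb0 : b = 0 := by
      rcases Nat.eq_zero_or_pos b with h0 | h0
      · exact h0
      · have := Nat.le_mul_of_pos_left i h0
        omega
    subst hb0
    rw [zero_mul, add_zero] at hab
    have hji : n % i < 2 * m := by
      rcases lt_or_ge j i with hji | hji
      · rw [mod_eq_of_dvd_sub hji (by omega) hjd]; omega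
      · omega
    omega
  · rintro ⟨-, hmod⟩ l e - hle
    have hlm : n % i = l % i := by rw [← hle, Nat.add_mul_mod_self_right]
    have hl : n % i ≤ l := hlm ▸ Nat.mod_le _ _
    by_cases hbe : 2 * (m / i) ≤ e
    · have h1 : 2 * ((m / i) * i) ≤ e * i := by
        rw [← mul_assoc]
        exact Nat.mul_le_mul_right i hbe
      have h2 := Nat.mod_add_div' m i
      refine ⟨m % i, m / i, l - m % i, e - m / i, by omega, by omega, by omega, by omega, h2, ?_⟩
      rw [Nat.sub_mul]
      omega
    · have hb : e / 2 ≤ m / i := by omega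
      have h1 : (e / 2) * i ≤ (m / i) * i := Nat.mul_le_mul_right i hb
      have h2 := Nat.mod_add_div' m i
      rcases Nat.even_or_odd' e with ⟨k, rfl | rfl⟩
      · have h3 : 2 * k / 2 = k := by omega
        rw [h3] at h1
        have h4 : 2 * k * i = 2 * (k * i) := mul_assoc _ _ _
        refine ⟨m - k * i, k, l - (m - k * i), k, by omega, by omega, le_rfl, by omega, by omega, by omega⟩
      · have h4 : (2 * k + 1) * i = 2 * (k * i) + i := by ring
        have hk : k + 1 ≤ m / i := by omega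
        have h5 : (k + 1) * i ≤ (m / i) * i := Nat.mul_le_mul_right i hk
        rw [add_mul, one_mul] at h5
        refine ⟨m - k * i, k, l - (m - (k * i + i)), k, by omega, by omega, le_rfl, by omega, by omega, ?_⟩
        omega

end CfsgLib.Derange
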