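import Cfsg.Agent.Lib.Derange.SingProfile
import Cfsg.Agent.Lib.Derange.SingArith

/-!
When does every shape of an even-dimensional symplectic space contain enough pairs?
-/

set_option autoImplicit false

namespace CfsgLib.Derange.Sp

open CfsgLib.Derange

/-- Every shape of a symplectic space has room for `m`. -/
theorem pairs_iff {i t m d : ℕ} (hi : 0 < i) (hc : unitDim i ≤ 2 * d) (hmd : m ≤ d)
    (hwin : (2 * d) % unitDim i < 2 * m) :
    (∀ e K, 0 < K → e + unitDim i * K = 2 * d → ∃ e' A, e' + i * A = m ∧ 2 * e' ≤ e ∧ A ≤ avail i t K) ↔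
      i ≤ m ∧ 2 * (m % i) ≤ (2 * d) % unitDim i ∧ (Odd i ∨ t + 2 * (m / i) ≤ (2 * d) / i) := by
  set n := 2 * d with hn
  set c := unitDim i with hcdef
  have hc0 : 0 < c := unitDim_pos hi
  have hN := Nat.mod_add_div n c
  have hM := Nat.mod_add_div m i
  constructor
  · intro H
    obtain ⟨e', A, hm, he, -⟩ := H (n % c) (n / c) (Nat.div_pos hc hc0) hN
    have him : i ≤ m := by
      by_contra h
      have : A = 0 := by
        by_contra hA
        have := Nat.le_mul_of_pos_right i (Nat.pos_of_ne_zero hA)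
        omega
      subst this
      omega
    have hμ : m % i ≤ e' := by
      rw [← hm, Nat.add_mul_mod_self_left]; exact Nat.mod_le _ _
    refine ⟨him, by omega, ?_⟩
    by_contra hc'
    push Not at hc'
    obtain ⟨hev, hlt⟩ := hc'
    have hci : c = i := unitDim_even hev
    rw [hci] at hN hwin hc
    by_cases htN : t ≤ n / i
    · obtain ⟨K, hKt, hKN, u, hu, hK0⟩ : ∃ K, t ≤ K ∧ K ≤ n / i ∧ ∃ u, K = t + 2 * u ∧ (0 < t → 0 < K) := by
        exact ⟨t + 2 * ((n / i - t) / 2), by omega, by omega, _, rfl, by omega⟩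
      have hiK : i * K ≤ i * (n / i) := Nat.mul_le_mul_left i hKN
      have h3 : i * (n / i + 1) ≤ i * (t + 2 * (m / i)) := Nat.mul_le_mul_left i (by omega)
      have h4 := Nat.mod_lt n hi
      rw [mul_add, mul_add, mul_one, mul_left_comm] at h3
      by_cases hK : 0 < K
      · obtain ⟨e₁, A₁, hm₁, he₁, hA₁⟩ := H (n - i * K) K hK (by rw [hci]; omega)
        rw [avail, if_neg hev] at hA₁
        have h2 : i * (t + 2 * A₁) ≤ i * (K + 1) := Nat.mul_le_mul_left i (by omega)
        have h2' : i * (t + 2 * A₁) ≤ i * K := Nat.mul_le_mul_left i (by omega)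
        rw [mul_add, mul_left_comm] at h2'
        omega
      · have ht0 : t = 0 := by omega
        subst ht0
        simp only [mul_zero, zero_add] at h3 hlt
        omega
    · obtain ⟨e₁, A₁, hm₁, he₁, hA₁⟩ := H (n % i) (n / i) (Nat.div_pos hc hi) (by rw [hci]; omega)
      rw [avail, if_neg hev] at hA₁
      obtain rfl : A₁ = 0 := by omega
      omega
  · rintro ⟨him, hμ, hroom⟩ e K hK he
    have hKN : K ≤ n / c := (Nat.le_div_iff_mul_le hc0).2 (by rw [mul_comm]; omega)
    have hcK : c * K ≤ c * (n / c) := Nat.mul_le_mul_left c hKN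
    by_cases ha : m / i ≤ avail i t K
    · exact ⟨m % i, m / i, hM, by omega, ha⟩
    push Not at ha
    have hia : i * (avail i t K + 1) ≤ i * (m / i) := Nat.mul_le_mul_left i ha
    rw [mul_add, mul_one] at hia
    refine ⟨m - i * avail i t K, avail i t K, by omega, ?_, le_rfl⟩
    by_cases hodd : Odd i
    · rw [avail, if_pos hodd] at *
      rw [hcdef, unitDim_odd hodd, mul_assoc] at he
      omega
    · have hroom' := hroom.resolve_left hodd
      have hci : c = i := unitDim_even hodd
      have h1 : i * K ≤ i * (t + 2 * avail i t K) := Nat.mul_le_mul_left i (le_avail_or hodd)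
      have h2 : i * (t + 2 * (m / i)) ≤ i * (n / i) := Nat.mul_le_mul_left i hroom'
      rw [mul_add, mul_left_comm] at h1 h2
      rw [hci] at he hN hμ
      omega

end CfsgLib.Derange.Sp
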