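import Mathlib
import Cfsg.Agent.Lib.Derange.InvolutionConj
import Cfsg.Agent.Lib.Classical.Forms
import Cfsg.Prelude.Def_GeometricClasses

/-!
Elements with scalar square inside the similitude group of a symplectic form.
-/

set_option autoImplicit false
set_option linter.style.haveILetI false

namespace CfsgLib.Derange

open Module
open scoped MatrixGroups Matrix

variable {F : Type*} [Field F] {n : ℕ}

/-- The standard alternating pairing. -/
def pairJ (F : Type*) [Field F] {m : ℕ} : Fin m ⊕ Fin m → Fin m ⊕ Fin m → F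
  | .inl i, .inr j => if i = j then 1 else 0
  | .inr i, .inl j => if i = j then -1 else 0
  | _, _ => 0

/-- The bilinear map of a bilinear form given as a function. -/
def formMap {f : (Fin n → F) → (Fin n → F) → F} (hf : Cfsg.Geo.IsBilinearForm f) :
    LinearMap.BilinForm F (Fin n → F) :=
  LinearMap.mk₂ F f hf.add_left (fun c x v => by rw [hf.smul_left, smul_eq_mul]) (fun v x y => hf.add_right v x y)
    (fun c v x => by rw [hf.smul_right, smul_eq_mul])

theorem exists_pairJ_basis {f : (Fin n → F) → (Fin n → F) → F} (hf : Cfsg.Geo.IsSymplecticForm f) :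
    ∃ (m : ℕ) (e : Basis (Fin m ⊕ Fin m) F (Fin n → F)), ∀ i j, f (e i) (e j) = pairJ F i j := by
  obtain ⟨m, e, h1, h2, h3⟩ := CfsgLib.Forms.exists_symplectic_basis_nondeg (formMap hf.bilinear)
    hf.alternating (fun v hv => by
      by_contra h
      obtain ⟨x, hx⟩ := (hf.nondegenerate v h).2
      exact hx (hv x))
  refine ⟨m, e, fun i j => ?_⟩
  rcases i with i | i <;> rcases j with j | j
  · exact h2 i j
  · exact h1 i j
  · rw [hf.skew]
    show -f (e (.inl j)) (e (.inr i)) = _
    rw [show f (e (.inl j)) (e (.inr i)) = _ from h1 j i]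
    rcases eq_or_ne i j with rfl | h <;> simp [pairJ, *, Ne.symm]
  · exact h3 i j

/-- A monomial matrix compatible with the standard pairing is conjugate into the similitude group. -/
theorem exists_conj_similitude {f : (Fin n → F) → (Fin n → F) → F} (hf : Cfsg.Geo.IsSymplecticForm f)
    (g : GL (Fin n) F) {ι : Type*} [Fintype ι] (c : Basis ι F (Fin n → F)) {m' : ℕ} (ε : ι ≃ Fin m' ⊕ Fin m')
    (π : ι → ι) (d : ι → F) (hg : ∀ i, Matrix.toLin' (g : Matrix (Fin n) (Fin n) F) (c i) = d i • c (π i))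
    {μ : F} (hμ : μ ≠ 0) (hJ : ∀ i j, d i * d j * pairJ F (ε (π i)) (ε (π j)) = μ * pairJ F (ε i) (ε j)) :
    ∃ B : GL (Fin n) F, B⁻¹ * g * B ∈ Cfsg.Geo.similarityGroup f := by
  classical
  obtain ⟨m, e, he⟩ := exists_pairJ_basis hf
  have hm : m' = m := by
    have h1 := Fintype.card_congr ε
    have h2 := Module.finrank_eq_card_basis e
    rw [Module.finrank_eq_card_basis c, h1] at h2
    simp only [Fintype.card_sum, Fintype.card_fin] at h2
    omega
  subst hm
  let L : (Fin n → F) ≃ₗ[F] (Fin n → F) := e.equiv c ε.symm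
  let B : GL (Fin n) F := ⟨LinearMap.toMatrix' L.toLinearMap, LinearMap.toMatrix' L.symm.toLinearMap,
    by rw [← LinearMap.toMatrix'_comp, LinearEquiv.comp_symm, LinearMap.toMatrix'_id],
    by rw [← LinearMap.toMatrix'_comp, LinearEquiv.symm_comp, LinearMap.toMatrix'_id]⟩
  refine ⟨B, Units.mk0 μ hμ, ?_⟩
  set T := Matrix.toLin' ((B⁻¹ * g * B : GL (Fin n) F) : Matrix (Fin n) (Fin n) F) with hT
  have hTe : ∀ i, T (e (ε i)) = d i • e (ε (π i)) := by
    intro i
    rw [hT, Units.val_mul, Units.val_mul, Matrix.toLin'_mul, Matrix.toLin'_mul]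
    show Matrix.toLin' (LinearMap.toMatrix' L.symm.toLinearMap) (Matrix.toLin' (g : Matrix (Fin n) (Fin n) F)
      (Matrix.toLin' (LinearMap.toMatrix' L.toLinearMap) (e (ε i)))) = _
    rw [Matrix.toLin'_toMatrix', Matrix.toLin'_toMatrix', LinearEquiv.coe_coe, LinearEquiv.coe_coe,
      show L (e (ε i)) = c i by simp [L], hg, map_smul, show L.symm (c (π i)) = e (ε (π i)) by
        rw [LinearEquiv.symm_apply_eq]; simp [L]]
  have key : (formMap hf.bilinear).compl₁₂ T T = μ • formMap hf.bilinear := by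
    refine e.ext fun i => e.ext fun j => ?_
    obtain ⟨i, rfl⟩ := ε.surjective i
    obtain ⟨j, rfl⟩ := ε.surjective j
    show f (T (e (ε i))) (T (e (ε j))) = μ * f (e (ε i)) (e (ε j))
    rw [hTe, hTe, hf.bilinear.smul_left, hf.bilinear.smul_right, he, he, ← hJ]
    ring
  intro u v
  simpa [formMap, hT, Matrix.toLin'_apply, Matrix.mul_assoc] using LinearMap.congr_fun (LinearMap.congr_fun key u) v

/-- The eigenvalue `+a` of multiplicity one: no similitude. -/
theorem not_similitude {f : (Fin n → F) → (Fin n → F) → F} (hf : Cfsg.Geo.IsSymplecticForm f) (hn : 4 ≤ n)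
    (h2 : (2 : F) ≠ 0) (M : Matrix (Fin n) (Fin n) F) {a : F} (ha : a ≠ 0) (i₀ : Fin n)
    (hM : M = Matrix.diagonal fun i => if i = i₀ then a else -a) (Q : GL (Fin n) F) :
    Q⁻¹ * (Matrix.GeneralLinearGroup.mkOfDetNeZero M (hM ▸ by
      rw [Matrix.det_diagonal]
      exact Finset.prod_ne_zero_iff.mpr fun i _ => by split_ifs <;> simp [ha])) * Q ∉ Cfsg.Geo.similarityGroup f := by
  classical
  rintro ⟨μ, hμ⟩
  set R : Matrix (Fin n) (Fin n) F := ((Q⁻¹ : GL (Fin n) F) : Matrix (Fin n) (Fin n) F)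
  have hg : ∀ u v, f (R *ᵥ (M *ᵥ u)) (R *ᵥ (M *ᵥ v)) = (μ : F) * f (R *ᵥ u) (R *ᵥ v) := by
    intro u v
    have hx : ∀ y, (R * M * (Q : Matrix (Fin n) (Fin n) F)) *ᵥ (R *ᵥ y) = R *ᵥ (M *ᵥ y) := fun y => by
      rw [Matrix.mulVec_mulVec, Matrix.mulVec_mulVec,
        show R * M * (Q : Matrix (Fin n) (Fin n) F) * R = R * M * ((Q : Matrix (Fin n) (Fin n) F) * R) from Matrix.mul_assoc _ _ _,
        show (Q : Matrix (Fin n) (Fin n) F) * R = 1 from Q.mul_inv, Matrix.mul_one]
    have h := hμ (R *ᵥ u) (R *ᵥ v)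
    rw [← hx u, ← hx v]
    exact h
  let w : Fin n → (Fin n → F) := fun i => R *ᵥ Pi.single i 1
  have hMs : ∀ i, M *ᵥ Pi.single i 1 = (if i = i₀ then a else -a) • (Pi.single i 1 : Fin n → F) := by
    intro i
    ext j
    rw [hM, Matrix.mulVec_diagonal, Pi.smul_apply, smul_eq_mul]
    rcases eq_or_ne j i with rfl | h
    · rfl
    · simp [Pi.single_apply, h]
  have key : ∀ i j, (if i = i₀ then a else -a) * (if j = i₀ then a else -a) * f (w i) (w j) =
      (μ : F) * f (w i) (w j) := by
    intro i j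
    have h := hg (Pi.single i 1) (Pi.single j 1)
    rw [hMs, hMs, Matrix.mulVec_smul, Matrix.mulVec_smul, hf.bilinear.smul_left, hf.bilinear.smul_right] at h
    rw [mul_assoc]
    exact h
  have hinj : Function.Injective fun v => R *ᵥ v := fun u v h => by
    have := congrArg (fun v => (Q : Matrix (Fin n) (Fin n) F) *ᵥ v) h
    simpa [R] using this
  have hsurj : Function.Surjective fun v => R *ᵥ v := fun v => ⟨(Q : Matrix (Fin n) (Fin n) F) *ᵥ v, by simp [R]⟩
  -- a vector orthogonal to all the `w i` is zero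
  have horth : ∀ v, (∀ i, f v (w i) = 0) → v = 0 := by
    intro v hv
    by_contra h
    obtain ⟨x, hx⟩ := (hf.nondegenerate v h).2
    obtain ⟨y, rfl⟩ := hsurj x
    have hlin : (formMap hf.bilinear v) ∘ₗ Matrix.toLin' R = 0 := (Pi.basisFun F (Fin n)).ext fun i => by
      rw [Pi.basisFun_apply]
      simpa [formMap, w] using hv i
    exact hx (by simpa [formMap] using LinearMap.congr_fun hlin y)
  have hw : ∀ i, w i ≠ 0 := fun i h => by
    have h1 := @hinj (Pi.single i 1) 0 (by simpa [w] using h)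
    simpa using congrFun h1 i
  obtain ⟨j₀, hj₀⟩ : ∃ j, f (w i₀) (w j) ≠ 0 := by
    by_contra h
    push Not at h
    exact hw i₀ (horth _ h)
  have hne : j₀ ≠ i₀ := by rintro rfl; exact hj₀ (hf.alternating _)
  have hμ' : (μ : F) = -(a * a) := by
    have := key i₀ j₀
    rw [if_pos rfl, if_neg hne] at this
    rw [← mul_right_cancel₀ hj₀ this, mul_neg]
  have hzero : ∀ i j, i ≠ i₀ → j ≠ i₀ → f (w i) (w j) = 0 := by
    intro i j hi hj
    have := key i j
    rw [if_neg hi, if_neg hj, hμ'] at this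
    have h4 : (2 : F) * (a * a) * f (w i) (w j) = 0 := by linear_combination this
    simpa [h2, ha] using h4
  obtain ⟨i, hi, hij⟩ : ∃ i, i ≠ i₀ ∧ i ≠ j₀ := by
    obtain ⟨i, hi⟩ := Finset.exists_mem_notMem_of_card_lt_card
      (s := ({i₀, j₀} : Finset (Fin n))) (t := Finset.univ)
      (lt_of_le_of_lt Finset.card_le_two (by rw [Finset.card_univ, Fintype.card_fin]; omega))
    simp only [Finset.mem_insert, Finset.mem_singleton, not_or] at hi
    exact ⟨i, hi.2⟩
  have hz := horth (f (w i₀) (w j₀) • w i - f (w i₀) (w i) • w j₀) fun l => by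
    show formMap hf.bilinear _ (w l) = 0
    rw [map_sub, map_smul, map_smul, LinearMap.sub_apply, LinearMap.smul_apply, LinearMap.smul_apply]
    show f (w i₀) (w j₀) * f (w i) (w l) - f (w i₀) (w i) * f (w j₀) (w l) = 0
    rcases eq_or_ne l i₀ with rfl | hl
    · rw [hf.skew (w i) (w l), hf.skew (w j₀) (w l)]; ring
    · rw [hzero i l hi hl, hzero j₀ l hne hl]; ring
  have h1 := @hinj (f (w i₀) (w j₀) • Pi.single i 1 - f (w i₀) (w i) • Pi.single j₀ 1) 0
    (by simpa [w, Matrix.mulVec_sub, Matrix.mulVec_smul] using hz)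
  have := congrFun h1 i
  simp [hij, hj₀] at this

end CfsgLib.Derange
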