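import Cfsg.Agent.Lib.Derange.SympNondeg

/-!
Symplectic elements of prime order permuting the summands of an orthogonal decomposition.
-/

set_option autoImplicit false
set_option maxHeartbeats 1000000
set_option linter.style.haveILetI false

namespace CfsgLib.Derange.Sp

open Module Matrix CfsgLib.SympCount CfsgLib.Classical CfsgLib.Classical.SympTrans CfsgLib.Classical.SympClasses

universe u

variable {F : Type u} [Field F] {V : Type u} [AddCommGroup V] [Module F V]

local notation "G" d => Matrix.symplecticGroup (Fin d) F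

/-- An orthogonal decomposition of a subspace whose parts are permuted by a map. -/
structure Split (B : LinearMap.BilinForm F V) (g : End F V) (M : Submodule F V) (a t : ℕ) where
  D : Fin t → Submodule F V
  σ : Equiv.Perm (Fin t)
  le : ∀ j, D j ≤ M
  dim : ∀ j, finrank F (D j) = 2 * a
  nond : ∀ j, NonD B (D j)
  orth : ∀ j k, j ≠ k → ∀ u ∈ D j, ∀ v ∈ D k, B u v = 0
  sup : (⨆ j, D j) = M
  map : ∀ j, (D j).map g = D (σ j)

variable {B : LinearMap.BilinForm F V} {g : End F V}

/-- Two orthogonal decompositions combine. -/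
theorem Split.add (hB : Symp B) {P M' M : Submodule F V} {a t₁ t₂ : ℕ} (hP : P ≤ M) (hM' : M' ≤ M)
    (hsup : P ⊔ M' = M) (horth : ∀ u ∈ P, ∀ v ∈ M', B u v = 0) (S₁ : Split B g P a t₁) (S₂ : Split B g M' a t₂) :
    Nonempty (Split B g M a (t₁ + t₂)) := by
  refine ⟨⟨fun j => Sum.elim S₁.D S₂.D (finSumFinEquiv.symm j),
    (finSumFinEquiv.symm.trans (Equiv.sumCongr S₁.σ S₂.σ)).trans finSumFinEquiv, fun j => ?_, fun j => ?_,
    fun j => ?_, fun j k hjk u hu v hv => ?_, ?_, fun j => ?_⟩⟩
  · obtain ⟨j, rfl⟩ := finSumFinEquiv.surjective j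
    rcases j with j | j
    · simp only [Equiv.symm_apply_apply, Equiv.trans_apply, Equiv.sumCongr_apply, Sum.map_inl, Sum.map_inr, Sum.elim_inl, Sum.elim_inr]; exact (S₁.le j).trans hP
    · simp only [Equiv.symm_apply_apply, Equiv.trans_apply, Equiv.sumCongr_apply, Sum.map_inl, Sum.map_inr, Sum.elim_inl, Sum.elim_inr]; exact (S₂.le j).trans hM'
  · obtain ⟨j, rfl⟩ := finSumFinEquiv.surjective j
    rcases j with j | j
    · exact (congrArg (fun S : Submodule F V => finrank F S) (congrArg (Sum.elim S₁.D S₂.D) (Equiv.symm_apply_apply finSumFinEquiv (Sum.inl j)))).trans (S₁.dim j)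
    · exact (congrArg (fun S : Submodule F V => finrank F S) (congrArg (Sum.elim S₁.D S₂.D) (Equiv.symm_apply_apply finSumFinEquiv (Sum.inr j)))).trans (S₂.dim j)
  · obtain ⟨j, rfl⟩ := finSumFinEquiv.surjective j
    rcases j with j | j
    · simp only [Equiv.symm_apply_apply, Equiv.trans_apply, Equiv.sumCongr_apply, Sum.map_inl, Sum.map_inr, Sum.elim_inl, Sum.elim_inr]; exact S₁.nond j
    · simp only [Equiv.symm_apply_apply, Equiv.trans_apply, Equiv.sumCongr_apply, Sum.map_inl, Sum.map_inr, Sum.elim_inl, Sum.elim_inr]; exact S₂.nond j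
  · obtain ⟨j, rfl⟩ := finSumFinEquiv.surjective j
    obtain ⟨k, rfl⟩ := finSumFinEquiv.surjective k
    simp only [Equiv.symm_apply_apply] at hu hv
    rcases j with j | j <;> rcases k with k | k <;> simp only [Sum.elim_inl, Sum.elim_inr] at hu hv
    · exact S₁.orth j k (fun h => hjk (by rw [h])) u hu v hv
    · exact horth u (S₁.le _ hu) v (S₂.le _ hv)
    · rw [skew_of_symp hB v u, horth v (S₁.le _ hv) u (S₂.le _ hu), neg_zero]
    · exact S₂.orth j k (fun h => hjk (by rw [h])) u hu v hv
  · refine (le_antisymm (iSup_le fun j => ?_) (sup_le (S₁.sup.ge.trans (iSup_le fun j => ?_))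
      (S₂.sup.ge.trans (iSup_le fun j => ?_)))).trans hsup
    · obtain ⟨j, rfl⟩ := finSumFinEquiv.surjective j
      rcases j with j | j
      · simp only [Equiv.symm_apply_apply, Equiv.trans_apply, Equiv.sumCongr_apply, Sum.map_inl, Sum.map_inr, Sum.elim_inl, Sum.elim_inr]; exact le_sup_of_le_left (S₁.le j)
      · simp only [Equiv.symm_apply_apply, Equiv.trans_apply, Equiv.sumCongr_apply, Sum.map_inl, Sum.map_inr, Sum.elim_inl, Sum.elim_inr]; exact le_sup_of_le_right (S₂.le j)
    · exact le_iSup_of_le (finSumFinEquiv (Sum.inl j)) (by simp only [Equiv.symm_apply_apply, Equiv.trans_apply, Equiv.sumCongr_apply, Sum.map_inl, Sum.map_inr, Sum.elim_inl, Sum.elim_inr]; exact le_rfl)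
    · exact le_iSup_of_le (finSumFinEquiv (Sum.inr j)) (by simp only [Equiv.symm_apply_apply, Equiv.trans_apply, Equiv.sumCongr_apply, Sum.map_inl, Sum.map_inr, Sum.elim_inl, Sum.elim_inr]; exact le_rfl)
  · obtain ⟨j, rfl⟩ := finSumFinEquiv.surjective j
    rcases j with j | j
    · simp only [Equiv.symm_apply_apply, Equiv.trans_apply, Equiv.sumCongr_apply, Sum.map_inl, Sum.map_inr, Sum.elim_inl, Sum.elim_inr]; exact S₁.map j
    · simp only [Equiv.symm_apply_apply, Equiv.trans_apply, Equiv.sumCongr_apply, Sum.map_inl, Sum.map_inr, Sum.elim_inl, Sum.elim_inr]; exact S₂.map j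

theorem map_eq_of_invariant [FiniteDimensional F V] (hB : Symp B) (hg : ∀ x y, B (g x) (g y) = B x y)
    {P : Submodule F V} (hP : ∀ v ∈ P, g v ∈ P) : P.map g = P :=
  Submodule.eq_of_le_of_finrank_eq (Submodule.map_le_iff_le_comap.2 hP)
    (Submodule.equivMapOfInjective g (isometry_injective hB hg) P).finrank_eq.symm

/-- A decomposition exists as soon as blocks can be split off one by one or in exchanged pairs. -/
theorem exists_split_blocks [FiniteDimensional F V] (hB : Symp B) (hg : ∀ x y, B (g x) (g y) = B x y) {a t : ℕ}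
    (ha : 0 < a) (step : ∀ (k : ℕ) (M : Submodule F V), 1 ≤ k → k ≤ t → finrank F M = 2 * a * k → NonD B M →
      (∀ v ∈ M, g v ∈ M) → (∃ P ≤ M, finrank F P = 2 * a ∧ NonD B P ∧ ∀ v ∈ P, g v ∈ P) ∨
        (∃ P ≤ M, finrank F P = 2 * a ∧ NonD B P ∧ (∀ u ∈ P, ∀ v ∈ P, B u (g v) = 0) ∧ ∀ v, g (g v) = v)) :
    ∀ k ≤ t, ∀ M : Submodule F V, finrank F M = 2 * a * k → NonD B M → (∀ v ∈ M, g v ∈ M) →
      Nonempty (Split B g M a k) := by
  intro k
  induction k using Nat.strong_induction_on with
  | _ k ih =>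
    intro hk M hd hM hMg
    rcases Nat.eq_zero_or_pos k with rfl | hk0
    · obtain rfl : M = ⊥ := Submodule.finrank_eq_zero.1 (by simpa using hd)
      exact ⟨⟨Fin.elim0, 1, fun j => j.elim0, fun j => j.elim0, fun j => j.elim0, fun j => j.elim0, by simp,
        fun j => j.elim0⟩⟩
    rcases step k M hk0 hk hd hM hMg with ⟨P, hPM, hPd, hP, hPg⟩ | ⟨P, hPM, hPd, hP, hPP, hgg⟩
    · obtain ⟨M', hM'M, hM', hM'g, -, hsup, hdim, horth⟩ := exists_split hB hg hPM hP hPg hM hMg
      obtain ⟨c, rfl⟩ : ∃ c, k = 1 + c := ⟨k - 1, by omega⟩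
      obtain ⟨S₂⟩ := ih c (by omega) (by omega) M'
        (by rw [hPd, hd] at hdim; have : 2 * a * (1 + c) = 2 * a + 2 * a * c := by ring
            omega) hM' hM'g
      exact Split.add hB hPM hM'M hsup horth
        ⟨fun _ => P, 1, fun _ => le_rfl, fun _ => hPd, fun _ => hP,
          fun j k h => absurd (Subsingleton.elim j k) h, ciSup_const, fun _ => map_eq_of_invariant hB hg hPg⟩ S₂
    · set Q := P.map g
      have hQM : Q ≤ M := Submodule.map_le_iff_le_comap.2 fun v hv => hMg v (hPM hv)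
      have hQd : finrank F Q = 2 * a :=
        (Submodule.equivMapOfInjective g (isometry_injective hB hg) P).finrank_eq.symm.trans hPd
      have hQn : NonD B Q := by
        rintro _ ⟨u, hu, rfl⟩ h
        rw [hP u hu fun v hv => (hg u v).symm.trans (h _ ⟨v, hv, rfl⟩), map_zero]
      have hPQ : ∀ u ∈ P, ∀ v ∈ Q, B u v = 0 := by
        rintro u hu _ ⟨v, hv, rfl⟩
        exact hPP u hu v hv
      have hR : NonD B (P ⊔ Q) := fun x hx h => by
        obtain ⟨u, hu, w, hw, rfl⟩ := Submodule.mem_sup.1 hx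
        have h1 : u = 0 := hP u hu fun v hv => by
          have := h v (Submodule.mem_sup_left hv)
          rwa [map_add, LinearMap.add_apply, skew_of_symp hB v w, hPQ v hv w hw, neg_zero, add_zero] at this
        have h2 : w = 0 := hQn w hw fun v hv => by
          have := h v (Submodule.mem_sup_right hv)
          rwa [map_add, LinearMap.add_apply, hPQ u hu v hv, zero_add] at this
        rw [h1, h2, add_zero]
      have hQP : Q.map g = P := by
        rw [← Submodule.map_comp, show g ∘ₗ g = LinearMap.id from LinearMap.ext hgg, Submodule.map_id]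
      have hRg : ∀ v ∈ P ⊔ Q, g v ∈ P ⊔ Q := fun v hv => by
        have h1 : (P ⊔ Q).map g = P ⊔ Q := by rw [Submodule.map_sup, hQP, sup_comm]
        rw [← h1]
        exact Submodule.mem_map_of_mem hv
      have hRd : finrank F ↥(P ⊔ Q) = 2 * a + 2 * a := by
        have h1 := Submodule.finrank_sup_add_finrank_inf_eq P Q
        rw [show P ⊓ Q = ⊥ from (Submodule.eq_bot_iff _).2 fun x hx => hP x hx.1 fun v hv => by
            rw [skew_of_symp hB v x, hPQ v hv x hx.2, neg_zero],
          finrank_bot, add_zero, hPd, hQd] at h1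
        exact h1
      obtain ⟨M', hM'M, hM', hM'g, -, hsup, hdim, horth⟩ := exists_split hB hg (sup_le hPM hQM) hR hRg hM hMg
      have hk2 : 2 ≤ k := by
        by_contra hlt
        obtain rfl : k = 1 := by omega
        rw [hd, hRd] at hdim
        omega
      obtain ⟨c, rfl⟩ : ∃ c, k = 2 + c := ⟨k - 2, by omega⟩
      obtain ⟨S₂⟩ := ih c (by omega) (by omega) M'
        (by rw [hRd, hd] at hdim; have : 2 * a * (2 + c) = 2 * a + 2 * a + 2 * a * c := by ring
            omega) hM' hM'g
      refine Split.add hB (sup_le hPM hQM) hM'M hsup horth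
        ⟨![P, Q], Equiv.swap 0 1, fun j => ?_, fun j => ?_, fun j => ?_, fun j k h u hu v hv => ?_, ?_, fun j => ?_⟩ S₂
      · fin_cases j
        exacts [le_sup_left, le_sup_right]
      · fin_cases j
        exacts [hPd, hQd]
      · fin_cases j
        exacts [hP, hQn]
      · fin_cases j <;> fin_cases k
        · exact absurd rfl h
        · exact hPQ u hu v hv
        · rw [skew_of_symp hB v u, hPQ v hv u hu, neg_zero]
        · exact absurd rfl h
      · refine le_antisymm (iSup_le fun j => ?_) (sup_le (le_iSup ![P, Q] 0) (le_iSup ![P, Q] 1))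
        fin_cases j
        exacts [le_sup_left, le_sup_right]
      · fin_cases j
        exacts [by simp [Q], by simpa using hQP]

/-- A decomposition of the whole space is one in the sense of the statements. -/
theorem Split.isDecomposition {d a t : ℕ} {g : End F (Fin d ⊕ Fin d → F)} (S : Split (sb F d) g ⊤ a t) (ha : 0 < a)
    (ht : 2 ≤ t) :
    (Cfsg.Geo.IsMDecomposition (2 * a) S.D ∧ (∀ j, ∀ u ∈ S.D j, u ≠ 0 → ∃ v ∈ S.D j, Cfsg.sympForm d F u v ≠ 0) ∧
      ∀ j j', j ≠ j' → ∀ u ∈ S.D j, ∀ v ∈ S.D j', Cfsg.sympForm d F u v = 0) ∧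
      ∃ σ : Equiv.Perm (Fin t), ∀ j, (S.D j).map g = S.D (σ j) := by
  refine ⟨⟨⟨ht, by omega, S.dim, ?_, S.sup⟩, fun j => nond_iff.2 (S.nond j),
    fun j k h u hu v hv => (sb_apply u v).symm.trans (S.orth j k h u hu v hv)⟩, S.σ, S.map⟩
  refine fun j => Submodule.disjoint_def.2 fun u hu hu' => S.nond j u hu fun v hv => ?_
  have : (⨆ (k) (_ : k ≠ j), S.D k) ≤ LinearMap.ker ((sb F d).flip v) :=
    iSup₂_le fun k hk w hw => S.orth k j hk w hw v hv
  exact this hu'

/-- An invariant non-degenerate subspace is a standard space. -/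
theorem exists_model [FiniteDimensional F V] (hB : Symp B) (hg : ∀ x y, B (g x) (g y) = B x y) {M : Submodule F V}
    (hM : NonD B M) (hMg : ∀ v ∈ M, g v ∈ M) {m : ℕ} (hd : finrank F M = 2 * m) :
    ∃ (e : (Fin m ⊕ Fin m → F) →ₗ[F] V) (h : G m), Function.Injective e ∧ LinearMap.range e = M ∧
      (∀ u v, B (e u) (e v) = sb F m u v) ∧ ∀ v, g (e v) = e (lin h v) := by
  classical
  obtain ⟨φ, hφ⟩ := exists_isometry (V₁ := (Fin m ⊕ Fin m → F)) (V := M) (B := B.restrict M) (B₁ := sb F m)
    ⟨fun v => hB.alt _, fun v h => Subtype.ext (hM v.1 v.2 fun w hw => h ⟨w, hw⟩)⟩ (symp_sb F m)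
    (by rw [hd, Module.finrank_pi]; simp; ring)
  let T : End F (Fin m ⊕ Fin m → F) := φ.symm.toLinearMap ∘ₗ g.restrict hMg ∘ₗ φ.toLinearMap
  have hT : ∀ v, (φ (T v) : V) = g (φ v : V) := fun v => by
    show ((φ (φ.symm (g.restrict hMg (φ v)))) : V) = _
    rw [φ.apply_symm_apply]; rfl
  have hmem : LinearMap.toMatrix' T ∈ Matrix.symplecticGroup (Fin m) F := mem_iff_f.2 fun u v => by
    rw [← Matrix.toLin'_apply, ← Matrix.toLin'_apply, Matrix.toLin'_toMatrix', ← sb_apply, ← sb_apply, ← hφ, ← hφ]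
    show B (φ (T u) : V) (φ (T v) : V) = B (φ u : V) (φ v : V)
    rw [hT, hT, hg]
  refine ⟨M.subtype ∘ₗ φ.toLinearMap, ⟨_, hmem⟩, M.injective_subtype.comp φ.injective, ?_, fun u v => hφ u v,
    fun v => ?_⟩
  · rw [LinearMap.range_comp, LinearEquiv.range, Submodule.map_top, Submodule.range_subtype]
  · show g (φ v : V) = (φ (Matrix.toLin' (LinearMap.toMatrix' T) v) : V)
    rw [Matrix.toLin'_toMatrix', hT]

/-- Blocks of the model are blocks of the subspace. -/
theorem exists_block_of_model [FiniteDimensional F V] {M : Submodule F V} {m a : ℕ}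
    (e : (Fin m ⊕ Fin m → F) →ₗ[F] V) (hei : Function.Injective e) (her : LinearMap.range e = M)
    (hiso : ∀ u v, B (e u) (e v) = sb F m u v) (h : End F (Fin m ⊕ Fin m → F)) (hint : ∀ v, g (e v) = e (h v))
    (W : Submodule F (Fin m ⊕ Fin m → F)) (hWd : finrank F W = 2 * a) (hW : NonD (sb F m) W)
    (hWg : ∀ v ∈ W, h v ∈ W) : ∃ P ≤ M, finrank F P = 2 * a ∧ NonD B P ∧ ∀ v ∈ P, g v ∈ P := by
  refine ⟨W.map e, ?_, ?_, ?_, ?_⟩
  · rw [← her]; exact LinearMap.map_le_range
  · rw [← hWd]; exact (Submodule.equivMapOfInjective e hei W).finrank_eq.symm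
  · rintro _ ⟨u, hu, rfl⟩ hh
    rw [hW u hu fun v hv => (hiso u v).symm.trans (hh _ ⟨v, hv, rfl⟩), map_zero]
  · rintro _ ⟨u, hu, rfl⟩
    exact ⟨h u, hWg u hu, (hint u).symm⟩

/-- A step in odd characteristic. -/
theorem step_semisimple [FiniteDimensional F V] (h2 : (2 : F) ≠ 0) (hB : Symp B)
    (hg : ∀ x y, B (g x) (g y) = B x y) {z : F} (hz : z = 1 ∨ z = -1) (hgg : ∀ x, g (g x) = z • x) {a k : ℕ}
    (hk : 1 ≤ k) {M : Submodule F V} (hd : finrank F M = 2 * a * k) (hM : NonD B M) (hMg : ∀ v ∈ M, g v ∈ M) :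
    ∃ P ≤ M, finrank F P = 2 * a ∧ NonD B P ∧ ∀ v ∈ P, g v ∈ P := by
  obtain ⟨e, h, hei, her, hiso, hint⟩ := exists_model hB hg hM hMg (m := a * k) (by rw [hd]; ring)
  obtain ⟨W, hWd, hW, hWg⟩ := fix_semisimple h2 (lin h) (app_isometry h) hz
    (fun x => hei (by rw [map_smul, ← hgg, hint, hint])) a (Nat.le_mul_of_pos_right a hk)
  exact exists_block_of_model e hei her hiso _ hint W hWd hW hWg

/-- A step in even characteristic. -/
theorem fix_two_sub [FiniteDimensional F V] [CharP F 2] (hB : Symp B) (hg : ∀ x y, B (g x) (g y) = B x y)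
    (hgg : ∀ x, g (g x) = x) {M : Submodule F V} (hM : NonD B M) (hMg : ∀ v ∈ M, g v ∈ M) {a : ℕ} (ha : Even a)
    (had : 2 * a ≤ finrank F M) : ∃ P ≤ M, finrank F P = 2 * a ∧ NonD B P ∧ ∀ v ∈ P, g v ∈ P := by
  obtain ⟨m, hm⟩ := SympCount.even_finrank (V := M) (B := B.restrict M)
    ⟨fun v => hB.alt _, fun v h => Subtype.ext (hM v.1 v.2 fun w hw => h ⟨w, hw⟩)⟩
  obtain ⟨e, h, hei, her, hiso, hint⟩ := exists_model hB hg hM hMg hm
  rcases Nat.eq_zero_or_pos a with rfl | ha0
  · exact ⟨⊥, bot_le, by simp, fun u hu _ => (Submodule.mem_bot F).1 hu,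
      fun v hv => by rw [(Submodule.mem_bot F).1 hv, map_zero]; exact Submodule.zero_mem _⟩
  have hsq : h ^ 2 = 1 := by
    refine Subtype.ext (Matrix.toLin'.injective (LinearMap.ext fun v => hei ?_))
    rw [SubmonoidClass.coe_pow, Matrix.toLin'_pow, pow_two, End.mul_apply, OneMemClass.coe_one, Matrix.toLin'_one,
      LinearMap.id_apply, ← hint, ← hint, hgg]
  obtain ⟨W, hWd, hW, hWg⟩ := fix_two (by omega) (show a ≤ m by omega) (Or.inr ha) h hsq
  exact exists_block_of_model e hei her hiso _ hint W hWd hW hWg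

/-- Either a block or an exchanged pair. -/
theorem step_two [FiniteDimensional F V] [CharP F 2] (hB : Symp B) (hg : ∀ x y, B (g x) (g y) = B x y)
    (hgg : ∀ x, g (g x) = x) {a k : ℕ} (ha : 0 < a) (hk : 1 ≤ k) {M : Submodule F V}
    (hd : finrank F M = 2 * a * k) (hM : NonD B M) (hMg : ∀ v ∈ M, g v ∈ M) :
    (∃ P ≤ M, finrank F P = 2 * a ∧ NonD B P ∧ ∀ v ∈ P, g v ∈ P) ∨
      (∃ P ≤ M, finrank F P = 2 * a ∧ NonD B P ∧ (∀ u ∈ P, ∀ v ∈ P, B u (g v) = 0) ∧ ∀ v, g (g v) = v) := by
  classical
  have hle : 2 * a ≤ finrank F M := by rw [hd]; exact Nat.le_mul_of_pos_right _ hk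
  rcases Nat.even_or_odd a with hae | hao
  · exact Or.inl (fix_two_sub hB hg hgg hM hMg hae hle)
  rcases Nat.lt_or_ge k 2 with hk1 | hk2
  · exact Or.inl ⟨M, le_rfl, by rw [hd, show k = 1 by omega, mul_one], hM, hMg⟩
  by_cases hplane : ∃ P ≤ M, finrank F P = 2 ∧ NonD B P ∧ ∀ v ∈ P, g v ∈ P
  · obtain ⟨P, hPM, hPd, hP, hPg⟩ := hplane
    obtain ⟨M', hM'M, hM', hM'g, hinf, -, hdim, horth⟩ := exists_split hB hg hPM hP hPg hM hMg
    obtain ⟨c, rfl⟩ := hao
    obtain ⟨Q, hQM, hQd, hQ, hQg⟩ := fix_two_sub hB hg hgg hM' hM'g (even_two_mul c) (by omega)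
    refine Or.inl ⟨P ⊔ Q, sup_le hPM (hQM.trans hM'M), ?_, fun v hv h => ?_, fun v hv => ?_⟩
    · have h1 := Submodule.finrank_sup_add_finrank_inf_eq P Q
      rw [le_bot_iff.1 ((inf_le_inf_left P hQM).trans hinf.le), finrank_bot, add_zero, hPd, hQd] at h1
      omega
    · obtain ⟨u, hu, w, hw, rfl⟩ := Submodule.mem_sup.1 hv
      have h1 : u = 0 := hP u hu fun v hv => by
        have := h v (Submodule.mem_sup_left hv)
        rwa [map_add, LinearMap.add_apply, skew_of_symp hB v w, horth v hv w (hQM hw), neg_zero, add_zero] at this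
      have h2 : w = 0 := hQ w hw fun v hv => by
        have := h v (Submodule.mem_sup_right hv)
        rwa [map_add, LinearMap.add_apply, horth u hu v (hQM hv), zero_add] at this
      rw [h1, h2, add_zero]
    · obtain ⟨u, hu, w, hw, rfl⟩ := Submodule.mem_sup.1 hv
      rw [map_add]
      exact add_mem (Submodule.mem_sup_left (hPg u hu)) (Submodule.mem_sup_right (hQg w hw))
  push Not at hplane
  have hne2 : ∀ (x y : V), B x y ≠ 0 → ∀ c e : F, B x (c • x + e • y) = 0 → B y (c • x + e • y) = 0 → c = 0 ∧ e = 0 := by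
    intro x y hxy c e h1 h3
    rw [map_add, map_smul, map_smul, hB.alt, smul_zero, zero_add, smul_eq_mul, mul_eq_zero] at h1
    rw [map_add, map_smul, map_smul, hB.alt, smul_zero, add_zero, smul_eq_mul, mul_eq_zero, skew_of_symp hB x y,
      neg_eq_zero] at h3
    exact ⟨h3.resolve_right hxy, h1.resolve_right hxy⟩
  have mkspan : ∀ x y : V, B x y ≠ 0 → NonD B (Submodule.span F ({x, y} : Set V)) ∧
      finrank F ↥(Submodule.span F ({x, y} : Set V)) = 2 := by
    intro x y hxy
    refine ⟨fun w hw h => ?_, ?_⟩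
    · obtain ⟨c, e, rfl⟩ := Submodule.mem_span_pair.1 hw
      obtain ⟨rfl, rfl⟩ := hne2 x y hxy c e
        (by rw [skew_of_symp hB (c • x + e • y) x, h x (Submodule.subset_span (by simp)), neg_zero])
        (by rw [skew_of_symp hB (c • x + e • y) y, h y (Submodule.subset_span (by simp)), neg_zero])
      simp
    · have hli : LinearIndependent F ![x, y] := LinearIndependent.pair_iff.2 fun c e hce =>
        hne2 x y hxy c e (by rw [hce, map_zero]) (by rw [hce, map_zero])
      rw [← Matrix.range_cons_cons_empty x y ![], finrank_span_eq_card hli]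
      simp
  have halt : ∀ v ∈ M, B v (g v) = 0 := fun v hv => by
    by_contra hne
    obtain ⟨hn, hd2⟩ := mkspan v (g v) hne
    obtain ⟨w, hw, hw'⟩ := hplane _ (Submodule.span_le.2 (by
      intro w hw; rcases hw with rfl | rfl; exacts [hv, hMg v hv])) hd2 hn
    obtain ⟨c, e, rfl⟩ := Submodule.mem_span_pair.1 hw
    exact hw' (Submodule.mem_span_pair.2 ⟨e, c, by rw [map_add, map_smul, map_smul, hgg, add_comm]⟩)
  have key : ∀ j ≤ a, ∃ P ≤ M, finrank F P = 2 * j ∧ NonD B P ∧ ∀ u ∈ P, ∀ v ∈ P, B u (g v) = 0 := by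
    intro j
    induction j with
    | zero =>
      exact fun _ => ⟨⊥, bot_le, by simp, fun u hu _ => (Submodule.mem_bot F).1 hu,
        fun u hu v _ => by rw [(Submodule.mem_bot F).1 hu, map_zero, LinearMap.zero_apply]⟩
    | succ j ih =>
      intro hj
      obtain ⟨P, hPM, hPd, hP, hPP⟩ := ih (by omega)
      set R := P ⊔ P.map g with hRdef
      have hPQ : ∀ u ∈ P, ∀ v ∈ P.map g, B u v = 0 := by
        rintro u hu _ ⟨v, hv, rfl⟩; exact hPP u hu v hv
      have hR : NonD B R := fun x hx h => by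
        obtain ⟨u, hu, w, hw, rfl⟩ := Submodule.mem_sup.1 hx
        have h1 : u = 0 := hP u hu fun v hv => by
          have := h v (Submodule.mem_sup_left hv)
          rwa [map_add, LinearMap.add_apply, skew_of_symp hB v w, hPQ v hv w hw, neg_zero, add_zero] at this
        obtain ⟨w₀, hw₀, rfl⟩ := hw
        have h2 : w₀ = 0 := hP w₀ hw₀ fun v hv => by
          have := h (g v) (Submodule.mem_sup_right (Submodule.mem_map_of_mem hv))
          rwa [map_add, LinearMap.add_apply, h1, map_zero, LinearMap.zero_apply, zero_add, hg] at this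
        rw [h1, h2, map_zero, add_zero]
      have hRM : R ≤ M := sup_le hPM (Submodule.map_le_iff_le_comap.2 fun v hv => hMg v (hPM hv))
      have hRg : ∀ v ∈ R, g v ∈ R := fun v hv => by
        have h1 : R.map g = R := by
          rw [hRdef, Submodule.map_sup, ← Submodule.map_comp, show g ∘ₗ g = LinearMap.id from LinearMap.ext hgg,
            Submodule.map_id, sup_comm]
        rw [← h1]
        exact Submodule.mem_map_of_mem hv
      obtain ⟨M', hM'M, hM', hM'g, hinf, -, hdim, horth⟩ := exists_split hB hg hRM hR hRg hM hMg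
      have hRle : finrank F R ≤ 2 * (2 * j) := by
        have : finrank F R ≤ finrank F P + finrank F (P.map g) :=
          Submodule.finrank_add_le_finrank_add_finrank P (P.map g)
        have h3 := Submodule.finrank_map_le g P
        omega
      obtain ⟨x, hx, hfx⟩ : ∃ x ∈ M', g x ≠ x := by
        by_contra hc
        push Not at hc
        have hlt : 0 < finrank F M' := by
          have : 4 * a ≤ finrank F M := by rw [hd]; nlinarith
          omega
        obtain ⟨x, hx, hx0⟩ := M'.exists_mem_ne_zero_of_ne_bot fun h => by rw [h, finrank_bot] at hlt; omega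
        obtain ⟨y, hy, hxy⟩ : ∃ y ∈ M', B x y ≠ 0 := by
          by_contra h
          push Not at h
          exact hx0 (hM' x hx h)
        obtain ⟨hn, hd2⟩ := mkspan x y hxy
        obtain ⟨w, hw, hw'⟩ := hplane _ (Submodule.span_le.2 (by
          intro w hw; rcases hw with rfl | rfl; exacts [hM'M hx, hM'M hy])) hd2 hn
        obtain ⟨c, e, rfl⟩ := Submodule.mem_span_pair.1 hw
        exact hw' (Submodule.mem_span_pair.2 ⟨c, e, by rw [map_add, map_smul, map_smul, hc x hx, hc y hy]⟩)
      obtain ⟨y, hy, hxy, hgxy⟩ : ∃ y ∈ M', B x y = 1 ∧ B (g x) y = 0 := by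
        let ψ : M' →ₗ[F] F × F := ((B x).prod (B (g x))).comp M'.subtype
        by_contra hc
        push Not at hc
        have hsurj : ∀ c : F × F, c ∈ LinearMap.range ψ := by
          have htop : LinearMap.range ψ = ⊤ := by
            refine Subspace.dualAnnihilator_inj.1 ?_
            rw [Submodule.dualAnnihilator_top, Submodule.eq_bot_iff]
            intro f hf
            have h0 : ∀ v : M', f (B x v, B (g x) v) = 0 := fun v =>
              (Submodule.mem_dualAnnihilator f).1 hf _ ⟨v, rfl⟩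
            set c₁ := f (1, 0)
            set c₂ := f (0, 1)
            have hfe : ∀ s w : F, f (s, w) = c₁ * s + c₂ * w := fun s w => by
              rw [show ((s, w) : F × F) = s • ((1, 0) : F × F) + w • ((0, 1) : F × F) by simp, map_add, map_smul,
                map_smul, smul_eq_mul, smul_eq_mul, mul_comm, mul_comm w]
            have hz : c₁ • x + c₂ • g x = 0 := hM' _ (M'.add_mem (M'.smul_mem _ hx) (M'.smul_mem _ (hM'g x hx)))
              fun v hv => by
                have := h0 ⟨v, hv⟩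
                rw [hfe] at this
                rw [map_add, map_smul, map_smul, LinearMap.add_apply, LinearMap.smul_apply, LinearMap.smul_apply,
                  smul_eq_mul, smul_eq_mul]
                exact this
            have hc2 : c₂ = 0 := by
              by_contra hne
              have h1 : g x = (-(c₂⁻¹ * c₁)) • x := by
                rw [neg_smul, mul_smul, eq_neg_iff_add_eq_zero, add_comm, ← inv_smul_smul₀ hne (g x),
                  ← smul_add, hz, smul_zero]
              have hcc : (-(c₂⁻¹ * c₁)) * (-(c₂⁻¹ * c₁)) = 1 := by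
                have h3 := hgg x
                rw [h1, map_smul, h1, smul_smul] at h3
                have hx0 : x ≠ 0 := fun h => hfx (by rw [h, map_zero])
                by_contra hne1
                refine hx0 ((smul_eq_zero.1 (show ((-(c₂⁻¹ * c₁)) * (-(c₂⁻¹ * c₁)) - 1) • x = 0 by
                  rw [sub_smul, h3, one_smul, sub_self])).resolve_left (sub_ne_zero.2 hne1))
              refine hfx (h1.trans ?_)
              rcases mul_self_eq_one_iff.1 hcc with h | h
              · rw [h, one_smul]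
              · rw [h, CharTwo.neg_eq, one_smul]
            have hc1 : c₁ = 0 := by
              rw [hc2, zero_smul, add_zero] at hz
              exact (smul_eq_zero.1 hz).resolve_right fun h => hfx (by rw [h, map_zero])
            exact LinearMap.ext fun ⟨s, w⟩ => by rw [hfe, hc1, hc2]; simp
          exact fun c => htop ▸ Submodule.mem_top
        obtain ⟨⟨v, hv⟩, hv'⟩ := hsurj (1, 0)
        exact hc v hv (congrArg Prod.fst hv') (congrArg Prod.snd hv')
      obtain ⟨hn, hd2⟩ := mkspan x y (by rw [hxy]; exact one_ne_zero)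
      set L := Submodule.span F ({x, y} : Set V)
      have hLM : L ≤ M' := Submodule.span_le.2 (by intro w hw; rcases hw with rfl | rfl; exacts [hx, hy])
      have hLL : ∀ u ∈ L, ∀ v ∈ L, B u (g v) = 0 := by
        intro u hu v hv
        obtain ⟨c, e, rfl⟩ := Submodule.mem_span_pair.1 hu
        obtain ⟨c', e', rfl⟩ := Submodule.mem_span_pair.1 hv
        have h1 : B y (g x) = 0 := by rw [skew_of_symp hB (g x) y, hgxy, neg_zero]
        have h3 : B x (g y) = 0 := by rw [← hg, hgg, hgxy]
        simp [halt x (hM'M hx), halt y (hM'M hy), h1, h3]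
      have hPL : ∀ u ∈ P, ∀ v ∈ L, B u v = 0 := fun u hu v hv => horth u (Submodule.mem_sup_left hu) v (hLM hv)
      refine ⟨P ⊔ L, sup_le hPM (hLM.trans hM'M), ?_, fun v hv h => ?_, fun u hu v hv => ?_⟩
      · have h1 := Submodule.finrank_sup_add_finrank_inf_eq P L
        rw [show P ⊓ L = ⊥ from le_bot_iff.1 ((inf_le_inf (le_sup_left : P ≤ R) hLM).trans hinf.le), finrank_bot,
          add_zero, hPd, hd2] at h1
        omega
      · obtain ⟨u, hu, w, hw, rfl⟩ := Submodule.mem_sup.1 hv
        have h1 : u = 0 := hP u hu fun v hv => by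
          have := h v (Submodule.mem_sup_left hv)
          rwa [map_add, LinearMap.add_apply, skew_of_symp hB v w, hPL v hv w hw, neg_zero, add_zero] at this
        have h2 : w = 0 := hn w hw fun v hv => by
          have := h v (Submodule.mem_sup_right hv)
          rwa [map_add, LinearMap.add_apply, hPL u hu v hv, zero_add] at this
        rw [h1, h2, add_zero]
      · obtain ⟨u₁, hu₁, u₂, hu₂, rfl⟩ := Submodule.mem_sup.1 hu
        obtain ⟨v₁, hv₁, v₂, hv₂, rfl⟩ := Submodule.mem_sup.1 hv
        have h1 : B u₁ (g v₂) = 0 := horth u₁ (Submodule.mem_sup_left hu₁) _ (hM'g _ (hLM hv₂))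
        have h3 : B u₂ (g v₁) = 0 := by
          rw [skew_of_symp hB (g v₁) u₂, horth _ (Submodule.mem_sup_right (Submodule.mem_map_of_mem hv₁)) _ (hLM hu₂),
            neg_zero]
        simp [hPP u₁ hu₁ v₁ hv₁, hLL u₂ hu₂ v₂ hv₂, h1, h3]
  obtain ⟨P, hPM, hPd, hP, hPP⟩ := key a le_rfl
  exact Or.inr ⟨P, hPM, hPd, hP, hPP, hgg⟩

end CfsgLib.Derange.Sp
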