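import Cfsg.Agent.Lib.Derange.SympFrame
import Cfsg.Agent.Lib.Derange.Window
import Cfsg.Agent.Lib.Classical.SympOrder

/-!
Divisors of the numbers of subspaces and of polar pairs of the standard symplectic space.
-/

set_option autoImplicit false
set_option linter.style.haveILetI false

namespace CfsgLib.Derange.Sp

open Module Matrix CfsgLib.SympCount CfsgLib.Classical CfsgLib.Classical.SympTrans CfsgLib.Classical.SympClasses

universe u

variable {F : Type u} [Field F]

local notation "G" d => Matrix.symplecticGroup (Fin d) F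

/-- The action on subspaces. -/
noncomputable abbrev subAct (d : ℕ) : MulAction (G d) (Submodule F (Fin d ⊕ Fin d → F)) where
  smul g W := W.map (Matrix.toLin' (g : Matrix (Fin d ⊕ Fin d) (Fin d ⊕ Fin d) F))
  one_smul W := by
    show W.map (Matrix.toLin' ((1 : G d) : Matrix (Fin d ⊕ Fin d) (Fin d ⊕ Fin d) F)) = W
    rw [OneMemClass.coe_one, Matrix.toLin'_one, Submodule.map_id]
  mul_smul g h W := by
    show W.map (Matrix.toLin' ((g * h : G d) : Matrix (Fin d ⊕ Fin d) (Fin d ⊕ Fin d) F)) = (W.map _).map _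
    rw [Submonoid.coe_mul, Matrix.toLin'_mul, Submodule.map_comp]

/-- Two isometric models differ by an element. -/
theorem exists_move_model {d : ℕ} {V : Type u} [AddCommGroup V] [Module F V] {B : LinearMap.BilinForm F V}
    (e e' : V ≃ₗ[F] (Fin d ⊕ Fin d → F)) (he : IsIsometry (sb F d) B e) (he' : IsIsometry (sb F d) B e') :
    ∃ g : G d, ∀ v, Matrix.toLin' (g : Matrix (Fin d ⊕ Fin d) (Fin d ⊕ Fin d) F) (e v) = e' v := by
  have hmem : LinearMap.toMatrix' (e.symm.trans e').toLinearMap ∈ Matrix.symplecticGroup (Fin d) F :=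
    mem_iff_f.2 fun u v => by
      rw [← Matrix.toLin'_apply, ← Matrix.toLin'_apply, Matrix.toLin'_toMatrix', ← sb_apply, ← sb_apply]
      show sb F d (e' (e.symm u)) (e' (e.symm v)) = _
      rw [he', ← he, e.apply_symm_apply, e.apply_symm_apply]
  refine ⟨⟨_, hmem⟩, fun v => ?_⟩
  show Matrix.toLin' (LinearMap.toMatrix' (e.symm.trans e').toLinearMap) (e v) = _
  rw [Matrix.toLin'_toMatrix']
  simp

theorem map_range {d : ℕ} {V W : Type u} [AddCommGroup V] [Module F V] [AddCommGroup W] [Module F W]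
    {g : End F (Fin d ⊕ Fin d → F)} {e e' : V ≃ₗ[F] (Fin d ⊕ Fin d → F)} (hg : ∀ v, g (e v) = e' v)
    (j : W →ₗ[F] V) :
    (LinearMap.range (e.toLinearMap ∘ₗ j)).map g = LinearMap.range (e'.toLinearMap ∘ₗ j) := by
  rw [← LinearMap.range_comp]
  exact congrArg LinearMap.range (LinearMap.ext fun w => hg (j w))

theorem map_range_fix {d : ℕ} {V W : Type u} [AddCommGroup V] [Module F V] [AddCommGroup W] [Module F W]
    {g : End F (Fin d ⊕ Fin d → F)} {e : V ≃ₗ[F] (Fin d ⊕ Fin d → F)} {j : W →ₗ[F] V}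
    (hg : ∀ w, g (e (j w)) = e (j w)) :
    (LinearMap.range (e.toLinearMap ∘ₗ j)).map g = LinearMap.range (e.toLinearMap ∘ₗ j) := by
  rw [← LinearMap.range_comp]
  exact congrArg LinearMap.range (LinearMap.ext fun w => hg w)

/-- The index bound of a transitive action. -/
theorem card_orbit_dvd {Gr X : Type*} [Group Gr] [Finite Gr] [MulAction Gr X] (P : X → Prop) {x₀ : X}
    (hx₀ : P x₀) (hP : ∀ (g : Gr) x, P x → P (g • x)) (htr : ∀ x, P x → ∃ g : Gr, g • x₀ = x)
    {H : Type*} [Group H] (φ : H →* Gr) (hinj : Function.Injective φ) (hfix : ∀ h, φ h • x₀ = x₀) :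
    Nat.card {x // P x} * Nat.card H ∣ Nat.card Gr := by
  have h1 : MulAction.orbit Gr x₀ = {x | P x} := Set.ext fun x =>
    ⟨fun ⟨g, hg⟩ => hg ▸ hP g x₀ hx₀, fun hx => htr x hx⟩
  have h3 : Nat.card {x // P x} = (MulAction.stabilizer Gr x₀).index := by
    rw [MulAction.index_stabilizer, h1]; exact Nat.card_coe_set_eq _
  rw [h3, ← Subgroup.index_mul_card (MulAction.stabilizer Gr x₀)]
  refine mul_dvd_mul_left _ (Subgroup.card_dvd_of_injective
    (φ.codRestrict (MulAction.stabilizer Gr x₀) hfix) fun a b h => hinj (congrArg Subtype.val h))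

/-- The group acting on the second summand. -/
noncomputable def rightHom (b : ℕ) (V : Type u) [AddCommGroup V] [Module F V] :
    (G b) →* End F (V × (Fin b ⊕ Fin b → F)) where
  toFun y := LinearMap.prodMap LinearMap.id (Matrix.toLin' (y : Matrix (Fin b ⊕ Fin b) (Fin b ⊕ Fin b) F))
  map_one' := by
    rw [OneMemClass.coe_one, Matrix.toLin'_one]
    exact LinearMap.prodMap_id
  map_mul' y z := by
    rw [Submonoid.coe_mul, Matrix.toLin'_mul]
    rfl

theorem rightHom_injective (b : ℕ) (V : Type u) [AddCommGroup V] [Module F V] :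
    Function.Injective (rightHom (F := F) b V) := fun y z h =>
  Subtype.ext (Matrix.toLin'.injective (LinearMap.ext fun v =>
    congrArg Prod.snd (LinearMap.congr_fun h ((0 : V), v))))

/-- The group acting on a pair of dual spaces. -/
noncomputable def pairHom (d : ℕ) :
    GL (Fin d) F →* End F (((Fin d → F) × (Fin d → F)) × (Fin 0 ⊕ Fin 0 → F)) where
  toFun A := LinearMap.prodMap (LinearMap.prodMap (Matrix.toLin' (A : Matrix (Fin d) (Fin d) F))
    (Matrix.toLin' (((A⁻¹ : GL (Fin d) F) : Matrix (Fin d) (Fin d) F)ᵀ))) LinearMap.id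
  map_one' := by
    rw [inv_one, Units.val_one, Matrix.transpose_one, Matrix.toLin'_one, LinearMap.prodMap_id, LinearMap.prodMap_id]
    rfl
  map_mul' A B := by
    rw [_root_.mul_inv_rev, Units.val_mul, Units.val_mul, Matrix.transpose_mul, Matrix.toLin'_mul, Matrix.toLin'_mul]
    rfl

theorem pairHom_injective (d : ℕ) : Function.Injective (pairHom (F := F) d) := fun A B h =>
  Units.ext (Matrix.toLin'.injective (LinearMap.ext fun v =>
    congrArg (fun z => z.1.1) (LinearMap.congr_fun h ((v, 0), 0))))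

/-- A non-degenerate subspace has a frame. -/
theorem exists_frame_nondeg {d a : ℕ} {W : Submodule F (Fin d ⊕ Fin d → F)} (hd : finrank F W = 2 * a)
    (hn : ∀ u ∈ W, (∀ v ∈ W, sb F d u v = 0) → u = 0) :
    a ≤ d ∧ ∃ e : ((Fin a ⊕ Fin a → F) × (Fin (d - a) ⊕ Fin (d - a) → F)) ≃ₗ[F] (Fin d ⊕ Fin d → F),
      IsIsometry (sb F d) (prodForm (sb F a) (sb F (d - a))) e ∧
        W = LinearMap.range (e.toLinearMap ∘ₗ LinearMap.inl F _ _) := by
  classical
  set B := sb F d
  have hrefl : B.IsRefl := (symp_sb F d).alt.isRefl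
  set M := B.orthogonal W
  have hc : IsCompl W M := (LinearMap.BilinForm.isCompl_orthogonal_iff_disjoint hrefl).2
    (Submodule.disjoint_def.2 fun u hu hu' => hn u hu fun v hv =>
      hrefl v u (LinearMap.BilinForm.mem_orthogonal_iff.1 hu' v hv))
  obtain ⟨hSW, hSM⟩ := (symp_sb F d).restrict hc fun k hk v hv =>
    hrefl k v (LinearMap.BilinForm.mem_orthogonal_iff.1 hv k hk)
  obtain ⟨b, hb⟩ := SympCount.even_finrank hSM
  have hsum := Submodule.finrank_add_eq_of_isCompl hc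
  rw [hd, hb, Module.finrank_pi] at hsum
  simp at hsum
  obtain ⟨ψ₁, hψ₁⟩ := exists_isometry hSW (symp_sb F a) (by rw [hd, Module.finrank_pi]; simp; ring)
  obtain ⟨ψ₂, hψ₂⟩ := exists_isometry hSM (symp_sb F (d - a)) (by rw [hb, Module.finrank_pi]; simp; omega)
  refine ⟨by omega, (ψ₁.prodCongr ψ₂).trans (Submodule.prodEquivOfIsCompl W M hc), fun x y => ?_, ?_⟩
  · show B ((ψ₁ x.1 : Fin d ⊕ Fin d → F) + (ψ₂ x.2 : Fin d ⊕ Fin d → F)) ((ψ₁ y.1 : Fin d ⊕ Fin d → F) + (ψ₂ y.2 : Fin d ⊕ Fin d → F)) = _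
    have h1 : ∀ (u : W) (v : M), B (u : Fin d ⊕ Fin d → F) v = 0 := fun u v =>
      LinearMap.BilinForm.mem_orthogonal_iff.1 v.2 _ u.2
    rw [map_add, map_add, LinearMap.add_apply, LinearMap.add_apply, h1, hrefl _ _ (h1 (ψ₁ y.1) (ψ₂ x.2)), add_zero,
      zero_add, prodForm_apply]
    exact congrArg₂ (· + ·) (hψ₁ x.1 y.1) (hψ₂ x.2 y.2)
  · refine le_antisymm ?_ ?_
    · intro w hw
      refine ⟨ψ₁.symm ⟨w, hw⟩, ?_⟩
      show (ψ₁ (ψ₁.symm ⟨w, hw⟩) : Fin d ⊕ Fin d → F) + (ψ₂ 0 : Fin d ⊕ Fin d → F) = w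
      rw [ψ₁.apply_symm_apply, map_zero, ZeroMemClass.coe_zero, add_zero]
    · rintro _ ⟨z, rfl⟩
      show (ψ₁ z : Fin d ⊕ Fin d → F) + (ψ₂ 0 : Fin d ⊕ Fin d → F) ∈ W
      rw [map_zero, ZeroMemClass.coe_zero, add_zero]
      exact (ψ₁ z).2

theorem range_nondeg {d a b : ℕ} (e : ((Fin a ⊕ Fin a → F) × (Fin b ⊕ Fin b → F)) ≃ₗ[F] (Fin d ⊕ Fin d → F))
    (he : IsIsometry (sb F d) (prodForm (sb F a) (sb F b)) e) :
    finrank F ↥(LinearMap.range (e.toLinearMap ∘ₗ LinearMap.inl F _ _)) = 2 * a ∧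
      ∀ u ∈ LinearMap.range (e.toLinearMap ∘ₗ LinearMap.inl F _ _),
        (∀ v ∈ LinearMap.range (e.toLinearMap ∘ₗ LinearMap.inl F _ _), sb F d u v = 0) → u = 0 := by
  refine ⟨?_, ?_⟩
  · rw [LinearMap.finrank_range_of_inj (f := e.toLinearMap ∘ₗ LinearMap.inl F _ _)
      (e.injective.comp LinearMap.inl_injective), Module.finrank_pi]
    simp; ring
  · rintro _ ⟨u, rfl⟩ h
    have h0 : u = 0 := (symp_sb F a).nd u fun v => by
      have h1 := h _ ⟨v, rfl⟩
      have h3 : sb F d (e (u, 0)) (e (v, 0)) = 0 := h1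
      rw [he, prodForm_apply, map_zero, add_zero] at h3
      exact h3
    rw [h0, map_zero]

theorem invariant_map {d : ℕ} (g : G d) {W : Submodule F (Fin d ⊕ Fin d → F)}
    (hW : ∀ u ∈ W, ∀ v ∈ W, sb F d u v = 0) :
    ∀ u ∈ W.map (Matrix.toLin' (g : Matrix (Fin d ⊕ Fin d) (Fin d ⊕ Fin d) F)),
      ∀ v ∈ W.map (Matrix.toLin' (g : Matrix (Fin d ⊕ Fin d) (Fin d ⊕ Fin d) F)), sb F d u v = 0 := by
  rintro _ ⟨u, hu, rfl⟩ _ ⟨v, hv, rfl⟩
  rw [app_isometry]
  exact hW u hu v hv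

theorem lin_injective {d : ℕ} (g : G d) :
    Function.Injective (Matrix.toLin' (g : Matrix (Fin d ⊕ Fin d) (Fin d ⊕ Fin d) F)) :=
  Function.LeftInverse.injective (g := app g⁻¹) (app_inv g)

theorem finrank_map {d : ℕ} (g : G d) (W : Submodule F (Fin d ⊕ Fin d → F)) :
    finrank F ↥(W.map (Matrix.toLin' (g : Matrix (Fin d ⊕ Fin d) (Fin d ⊕ Fin d) F))) = finrank F W :=
  (Submodule.equivMapOfInjective _ (lin_injective g) W).finrank_eq.symm

variable [Fintype F] {p : ℕ} [hp : Fact p.Prime] [CharP F p] {q r i : ℕ}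

include hp in
/-- A prime dividing the number of non-degenerate subspaces. -/
theorem nondeg_window (hq : Fintype.card F = q) (hr : r.Prime) (hrp : r ≠ p) (hi : i = orderOf (q : ZMod r))
    {d a : ℕ} (had : a ≤ d)
    (hN : r ∣ Nat.card {W : Submodule F (Fin d ⊕ Fin d → F) //
      finrank F ↥W = 2 * a ∧ ∀ u ∈ W, (∀ v ∈ W, sb F d u v = 0) → u = 0}) :
    ∃ j, d - a < j ∧ j ≤ d ∧ unitDim i ∣ 2 * j := by
  classical
  letI := subAct (F := F) d
  obtain ⟨hrq, hq2⟩ := not_dvd_card (p := p) hq hr hrp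
  have hne : Nonempty {W : Submodule F (Fin d ⊕ Fin d → F) //
      finrank F ↥W = 2 * a ∧ ∀ u ∈ W, (∀ v ∈ W, sb F d u v = 0) → u = 0} := by
    obtain ⟨e, he⟩ := exists_isometry (symp_sb F d) ((symp_sb F a).prod (symp_sb F (d - a)))
      (by rw [Module.finrank_prod]; simp; omega)
    exact ⟨⟨_, range_nondeg e he⟩⟩
  obtain ⟨⟨W₀, hW₀⟩⟩ := hne
  obtain ⟨-, e, he, rfl⟩ := exists_frame_nondeg hW₀.1 hW₀.2
  obtain ⟨φ, hφ, hφi⟩ := exists_embed e he (rightHom (d - a) (Fin a ⊕ Fin a → F)) fun h x y => by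
    show prodForm (sb F a) (sb F (d - a)) (x.1, Matrix.toLin' _ x.2) (y.1, Matrix.toLin' _ y.2) = _
    rw [prodForm_apply, prodForm_apply, app_isometry]
  have h := card_orbit_dvd (fun W : Submodule F (Fin d ⊕ Fin d → F) => finrank F ↥W = 2 * a ∧
      ∀ u ∈ W, (∀ v ∈ W, sb F d u v = 0) → u = 0) hW₀
    (fun g W hW => ⟨(finrank_map g W).trans hW.1, by
      rintro _ ⟨u, hu, rfl⟩ h
      rw [hW.2 u hu fun v hv => by
        have := h _ ⟨v, hv, rfl⟩
        rwa [app_isometry] at this, map_zero]⟩)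
    (fun W hW => by
      obtain ⟨-, e', he', rfl⟩ := exists_frame_nondeg hW.1 hW.2
      obtain ⟨g, hg⟩ := exists_move_model e e' he he'
      exact ⟨g, map_range hg _⟩)
    φ (hφi (rightHom_injective _ _)) (fun h => map_range_fix fun u => by
      show Matrix.toLin' _ (e (u, 0)) = e (u, 0)
      rw [hφ]
      simp [rightHom])
  rw [card_symplectic, card_symplectic, Nat.card_eq_fintype_card (α := F), hq] at h
  exact exists_window (k := d - a) (d := d) (c := 1) hr hrq hq2 hi one_pos (by omega) hN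
    (a := (d - a) ^ 2) (b := d ^ 2) (by rwa [one_mul, one_mul])

include hp in
/-- A prime dividing the number of totally isotropic subspaces. -/
theorem isotropic_window (hq : Fintype.card F = q) (hr : r.Prime) (hrp : r ≠ p) (hi : i = orderOf (q : ZMod r))
    {d m : ℕ} (hmd : m ≤ d)
    (hN : r ∣ Nat.card {W : Submodule F (Fin d ⊕ Fin d → F) //
      finrank F ↥W = m ∧ ∀ u ∈ W, ∀ v ∈ W, sb F d u v = 0}) :
    ∃ j, d - m < j ∧ j ≤ d ∧ unitDim i ∣ 2 * j := by
  classical
  letI := subAct (F := F) d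
  obtain ⟨hrq, hq2⟩ := not_dvd_card (p := p) hq hr hrp
  obtain ⟨⟨W₀, hW₀⟩⟩ : Nonempty {W : Submodule F (Fin d ⊕ Fin d → F) //
      finrank F ↥W = m ∧ ∀ u ∈ W, ∀ v ∈ W, sb F d u v = 0} := by
    by_contra hc
    rw [not_nonempty_iff] at hc
    obtain ⟨e, he⟩ := exists_isometry (symp_sb F d) ((lagForm_symp (F := F) m).prod (symp_sb F (d - m)))
      (by rw [Module.finrank_prod, Module.finrank_prod]; simp; omega)
    refine hc.false ⟨LinearMap.range (e.toLinearMap ∘ₗ LinearMap.inl F _ _ ∘ₗ LinearMap.inl F _ _), ?_, ?_⟩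
    · rw [LinearMap.finrank_range_of_inj (f := e.toLinearMap ∘ₗ LinearMap.inl F _ _ ∘ₗ LinearMap.inl F _ _)
        (e.injective.comp (LinearMap.inl_injective.comp LinearMap.inl_injective)), Module.finrank_fin_fun]
    · rintro _ ⟨u, rfl⟩ _ ⟨v, rfl⟩
      show sb F d (e ((u, 0), 0)) (e ((v, 0), 0)) = 0
      rw [he]
      simp
  obtain ⟨b, hb, e, he, rfl⟩ := exists_frame hW₀.1 hW₀.2
  obtain ⟨φ, hφ, hφi⟩ := exists_embed e he (rightHom b ((Fin m → F) × (Fin m → F))) fun h x y => by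
    show prodForm (lagForm F m) (sb F b) (x.1, Matrix.toLin' _ x.2) (y.1, Matrix.toLin' _ y.2) = _
    rw [prodForm_apply, prodForm_apply, app_isometry]
  have h := card_orbit_dvd (fun W : Submodule F (Fin d ⊕ Fin d → F) => finrank F ↥W = m ∧
      ∀ u ∈ W, ∀ v ∈ W, sb F d u v = 0) hW₀
    (fun g W hW => ⟨(finrank_map g W).trans hW.1, invariant_map g hW.2⟩)
    (fun W hW => by
      obtain ⟨b', hb', e', he', rfl⟩ := exists_frame hW.1 hW.2
      obtain rfl : b' = b := by omega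
      obtain ⟨g, hg⟩ := exists_move_model e e' he he'
      exact ⟨g, map_range hg _⟩)
    φ (hφi (rightHom_injective _ _)) (fun h => map_range_fix fun u => by
      show Matrix.toLin' _ (e ((u, 0), 0)) = e ((u, 0), 0)
      rw [hφ]
      simp [rightHom])
  rw [card_symplectic, card_symplectic, Nat.card_eq_fintype_card (α := F), hq] at h
  obtain ⟨j, hj, hjd, hdvd⟩ := exists_window (k := b) (d := d) (c := 1) hr hrq hq2 hi one_pos (by omega) hN
    (a := b ^ 2) (b := d ^ 2) (by rwa [one_mul, one_mul])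
  exact ⟨j, by omega, hjd, hdvd⟩

include hp in
/-- A prime dividing half the number of polar pairs. -/
theorem pair_window (hq : Fintype.card F = q) (hr : r.Prime) (hr2 : r ≠ 2) (hrp : r ≠ p)
    (hi : i = orderOf (q : ZMod r)) {d : ℕ} (hd : 1 ≤ d)
    (hN : r ∣ Nat.card {P : Submodule F (Fin d ⊕ Fin d → F) × Submodule F (Fin d ⊕ Fin d → F) //
      IsCompl P.1 P.2 ∧ (∀ u ∈ P.1, ∀ v ∈ P.1, sb F d u v = 0) ∧ ∀ u ∈ P.2, ∀ v ∈ P.2, sb F d u v = 0} / 2) :
    Even i ∧ i ≤ 2 * d := by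
  classical
  letI := subAct (F := F) d
  obtain ⟨hrq, hq2⟩ := not_dvd_card (p := p) hq hr hrp
  set Pp : Submodule F (Fin d ⊕ Fin d → F) × Submodule F (Fin d ⊕ Fin d → F) → Prop := fun P =>
    IsCompl P.1 P.2 ∧ (∀ u ∈ P.1, ∀ v ∈ P.1, sb F d u v = 0) ∧ ∀ u ∈ P.2, ∀ v ∈ P.2, sb F d u v = 0
  have heven : 2 ∣ Nat.card {P // Pp P} := by
    haveI : Fact (Nat.Prime 2) := ⟨Nat.prime_two⟩
    let σ : Equiv.Perm {P // Pp P} :=
      ⟨fun P => ⟨P.1.swap, P.2.1.symm, P.2.2.2, P.2.2.1⟩, fun P => ⟨P.1.swap, P.2.1.symm, P.2.2.2, P.2.2.1⟩,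
        fun P => Subtype.ext (Prod.swap_swap _), fun P => Subtype.ext (Prod.swap_swap _)⟩
    haveI := Fintype.ofFinite {P // Pp P}
    have hfix : ∀ P, σ P ≠ P := fun P h => by
      have h1 : P.1.2 = P.1.1 := congrArg (fun z => z.1.1) h
      have h3 := P.2.1
      rw [h1] at h3
      have h4 := h3.sup_eq_top
      rw [sup_idem, disjoint_self.1 h3.disjoint] at h4
      have h5 := congrArg (fun S : Submodule F (Fin d ⊕ Fin d → F) => finrank F S) h4
      simp at h5
      omega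
    rw [Nat.card_eq_fintype_card]
    by_contra hc
    obtain ⟨P, hP⟩ := Equiv.Perm.exists_fixed_point_of_prime (p := 2) (n := 1) hc (σ := σ)
      (Equiv.ext fun P => Subtype.ext (by simp [σ, pow_two]))
    exact hfix P hP
  have hN' : r ∣ Nat.card {P // Pp P} := by
    obtain ⟨k, hk⟩ := heven
    change r ∣ Nat.card {P // Pp P} / 2 at hN
    rw [hk, Nat.mul_div_cancel_left _ two_pos] at hN
    rw [hk]
    exact hN.mul_left 2
  obtain ⟨e₀, he₀⟩ := exists_isometry (symp_sb F d) ((lagForm_symp (F := F) d).prod (symp_sb F 0))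
    (by rw [Module.finrank_prod, Module.finrank_prod]; simp)
  set U₀ := LinearMap.range (e₀.toLinearMap ∘ₗ LinearMap.inl F _ (Fin 0 ⊕ Fin 0 → F) ∘ₗ
    LinearMap.inl F (Fin d → F) (Fin d → F))
  set W₀ := LinearMap.range (e₀.toLinearMap ∘ₗ LinearMap.inl F _ (Fin 0 ⊕ Fin 0 → F) ∘ₗ
    LinearMap.inr F (Fin d → F) (Fin d → F))
  have h₀ : Pp (U₀, W₀) := by
    refine ⟨IsCompl.of_eq ((Submodule.eq_bot_iff _).2 ?_) (eq_top_iff.2 fun z _ => ?_), ?_, ?_⟩
    · rintro _ ⟨⟨u, rfl⟩, v, hv⟩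
      have h1 := congrArg (fun z => z.1.1) (e₀.injective hv)
      simp at h1
      simp [← h1]
    · obtain ⟨⟨⟨x, y⟩, w⟩, rfl⟩ := e₀.surjective z
      refine Submodule.mem_sup.2 ⟨_, ⟨x, rfl⟩, _, ⟨y, rfl⟩, ?_⟩
      show e₀ ((x, 0), 0) + e₀ ((0, y), 0) = _
      rw [← map_add, Subsingleton.elim w 0]
      simp
    · rintro _ ⟨u, rfl⟩ _ ⟨v, rfl⟩
      show sb F d (e₀ ((u, 0), 0)) (e₀ ((v, 0), 0)) = 0
      rw [he₀]
      simp
    · rintro _ ⟨u, rfl⟩ _ ⟨v, rfl⟩
      show sb F d (e₀ ((0, u), 0)) (e₀ ((0, v), 0)) = 0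
      rw [he₀]
      simp
  obtain ⟨φ, hφ, hφi⟩ := exists_embed e₀ he₀ (pairHom d) fun A x y => by
    show prodForm (lagForm F d) (sb F 0) ((Matrix.toLin' _ x.1.1, Matrix.toLin' _ x.1.2), x.2)
      ((Matrix.toLin' _ y.1.1, Matrix.toLin' _ y.1.2), y.2) = _
    have hNM : ∀ u v, ((((A⁻¹ : GL (Fin d) F) : Matrix (Fin d) (Fin d) F)ᵀ) *ᵥ u) ⬝ᵥ
        ((A : Matrix (Fin d) (Fin d) F) *ᵥ v) = u ⬝ᵥ v := fun u v => by
      rw [Matrix.mulVec_transpose, ← Matrix.dotProduct_mulVec, Matrix.mulVec_mulVec,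
        show (((A⁻¹ : GL (Fin d) F) : Matrix (Fin d) (Fin d) F)) * (A : Matrix (Fin d) (Fin d) F) = 1 from A.inv_mul,
        Matrix.one_mulVec]
    simp only [prodForm_apply, lagForm_apply, Matrix.toLin'_apply]
    rw [dotProduct_comm (_ *ᵥ x.1.1), hNM, hNM, dotProduct_comm y.1.2]
  have h := card_orbit_dvd Pp (x₀ := (U₀, W₀)) h₀
    (fun g P hP => ⟨⟨disjoint_iff.2 (by
        show P.1.map _ ⊓ P.2.map _ = ⊥
        rw [← Submodule.map_inf _ (lin_injective g), hP.1.inf_eq_bot, Submodule.map_bot]), codisjoint_iff.2 (by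
        show P.1.map _ ⊔ P.2.map _ = ⊤
        rw [← Submodule.map_sup, hP.1.sup_eq_top, Submodule.map_top, LinearMap.range_eq_top]
        exact LinearMap.injective_iff_surjective.1 (lin_injective g))⟩, invariant_map g hP.2.1, invariant_map g hP.2.2⟩)
    (fun P hP => by
      obtain ⟨e', he', hU, hW⟩ := exists_frame_pair hP.1 hP.2.1 hP.2.2
      obtain ⟨g, hg⟩ := exists_move_model e₀ e' he₀ he'
      exact ⟨g, Prod.ext ((map_range hg _).trans hU.symm) ((map_range hg _).trans hW.symm)⟩)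
    φ (hφi (pairHom_injective d)) (fun A => Prod.ext ?_ ?_)
  rotate_left
  · refine le_antisymm ?_ ?_
    · rintro _ ⟨_, ⟨u, rfl⟩, rfl⟩
      refine ⟨Matrix.toLin' (A : Matrix (Fin d) (Fin d) F) u, ?_⟩
      show e₀ ((_, 0), 0) = Matrix.toLin' _ (e₀ ((u, 0), 0))
      rw [hφ]
      simp [pairHom]
    · rintro _ ⟨u, rfl⟩
      refine ⟨_, ⟨Matrix.toLin' ((A⁻¹ : GL (Fin d) F) : Matrix (Fin d) (Fin d) F) u, rfl⟩, ?_⟩
      show Matrix.toLin' _ (e₀ ((Matrix.toLin' _ u, 0), 0)) = e₀ ((u, 0), 0)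
      rw [hφ]
      simp [pairHom, Matrix.mulVec_mulVec]
  · refine le_antisymm ?_ ?_
    · rintro _ ⟨_, ⟨u, rfl⟩, rfl⟩
      refine ⟨Matrix.toLin' (((A⁻¹ : GL (Fin d) F) : Matrix (Fin d) (Fin d) F)ᵀ) u, ?_⟩
      show e₀ ((0, _), 0) = Matrix.toLin' _ (e₀ ((0, u), 0))
      rw [hφ]
      simp [pairHom]
    · rintro _ ⟨u, rfl⟩
      refine ⟨_, ⟨Matrix.toLin' ((A : Matrix (Fin d) (Fin d) F)ᵀ) u, rfl⟩, ?_⟩
      show Matrix.toLin' _ (e₀ ((0, Matrix.toLin' _ u), 0)) = e₀ ((0, u), 0)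
      rw [hφ]
      simp [pairHom, Matrix.mulVec_mulVec, ← Matrix.transpose_mul]
  have hGL : Nat.card (GL (Fin d) F) =
      q ^ (∑ j ∈ Finset.range d, j) * ∏ j ∈ Finset.range d, (q ^ (j + 1) - 1) := by
    rw [Matrix.card_GL_field, hq, Fin.prod_univ_eq_prod_range (fun j => q ^ d - q ^ j) d,
      ← Finset.prod_range_reflect (fun j => q ^ (j + 1) - 1) d, ← Finset.prod_pow_eq_pow_sum,
      ← Finset.prod_mul_distrib]
    refine Finset.prod_congr rfl fun j hj => ?_
    rw [Finset.mem_range] at hj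
    rw [Nat.mul_sub, ← pow_add, mul_one, show j + (d - 1 - j + 1) = d by omega]
  rw [card_symplectic, hGL, Nat.card_eq_fintype_card (α := F), hq,
    show ∏ j ∈ Finset.range d, (q ^ (2 * (j + 1)) - 1) =
        (∏ j ∈ Finset.range d, (q ^ (j + 1) - 1)) * ∏ j ∈ Finset.range d, (q ^ (j + 1) + 1) by
      rw [← Finset.prod_mul_distrib]
      refine Finset.prod_congr rfl fun j _ => ?_
      rw [mul_comm 2, pow_mul, mul_comm (q ^ (j + 1) - 1), ← Nat.sq_sub_sq, one_pow]] at h
  have hpos : 0 < ∏ j ∈ Finset.range d, (q ^ (j + 1) - 1) :=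
    Finset.prod_pos fun j _ => Nat.sub_pos_of_lt (Nat.one_lt_pow (by omega) (by omega))
  have h' : (∏ j ∈ Finset.range d, (q ^ (j + 1) - 1)) * (Nat.card {P // Pp P} * q ^ (∑ j ∈ Finset.range d, j)) ∣
      (∏ j ∈ Finset.range d, (q ^ (j + 1) - 1)) * (q ^ d ^ 2 * ∏ j ∈ Finset.range d, (q ^ (j + 1) + 1)) := by
    convert h using 1 <;> ring
  rcases hr.dvd_mul.mp ((hN'.mul_right _).trans (Nat.dvd_of_mul_dvd_mul_left hpos h')) with h3 | h3
  · exact absurd (hr.dvd_of_dvd_pow h3) hrq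
  obtain ⟨j, hj, hdvd⟩ := (hr.prime.dvd_finset_prod_iff _).mp h3
  rw [Finset.mem_range] at hj
  haveI := Fact.mk hr
  rw [← ZMod.natCast_eq_zero_iff] at hdvd
  push_cast at hdvd
  have hneg : (q : ZMod r) ^ (j + 1) = -1 := eq_neg_of_add_eq_zero_left hdvd
  have hi2 : i ∣ 2 * (j + 1) := by
    rw [hi]
    refine orderOf_dvd_of_pow_eq_one ?_
    rw [mul_comm, pow_mul, hneg, neg_one_sq]
  refine ⟨?_, (Nat.le_of_dvd (by omega) hi2).trans (by omega)⟩
  by_contra hodd
  have h4 : i ∣ j + 1 :=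
    (Nat.Coprime.dvd_of_dvd_mul_left (Nat.coprime_two_right.2 (Nat.not_even_iff_odd.1 hodd)) hi2)
  obtain ⟨k, hk⟩ := h4
  rw [hk, pow_mul, hi, pow_orderOf_eq_one, one_pow, eq_comm, neg_eq_iff_add_eq_zero] at hneg
  have h5 : ((2 : ℕ) : ZMod r) = 0 := by push_cast; rw [← hneg]; norm_num
  rw [ZMod.natCast_eq_zero_iff] at h5
  exact hr2 ((Nat.prime_dvd_prime_iff_eq hr Nat.prime_two).1 h5)

include hp in
/-- A group of prime power order fixes a non-zero vector of a quotient. -/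
theorem exists_fixed_quot {P : Type*} [Group P] (hP : IsPGroup p P) {V : Type u} [AddCommGroup V] [Module F V]
    [FiniteDimensional F V] (ρ : P →* End F V) (K : Submodule F V) (hK : ∀ g, ∀ v ∈ K, ρ g v ∈ K)
    (hd : 0 < finrank F (V ⧸ K)) : ∃ v, v ∉ K ∧ ∀ g, ρ g v - v ∈ K := by
  letI : MulAction P (V ⧸ K) :=
    { smul := fun g => K.mapQ K (ρ g) (hK g)
      one_smul := fun x => Submodule.Quotient.induction_on _ x fun v =>
        congrArg Submodule.Quotient.mk (LinearMap.congr_fun ρ.map_one v)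
      mul_smul := fun a b x => Submodule.Quotient.induction_on _ x fun v =>
        congrArg Submodule.Quotient.mk (LinearMap.congr_fun (ρ.map_mul a b) v) }
  haveI : Finite (V ⧸ K) := Module.finite_of_finite F
  have hdvd : p ∣ Nat.card (V ⧸ K) := by
    rw [Module.natCard_eq_pow_finrank (K := F)]
    obtain ⟨n, -, hn⟩ := FiniteField.card F p
    rw [Nat.card_eq_fintype_card, hn, ← pow_mul]
    exact dvd_pow_self p (Nat.mul_pos n.pos hd).ne'
  obtain ⟨x, hxf, hx0⟩ := hP.exists_fixed_point_of_prime_dvd_card_of_fixed_point (V ⧸ K) hdvd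
    (a := 0) fun g => map_zero (K.mapQ K (ρ g) (hK g))
  obtain ⟨v, rfl⟩ := Submodule.Quotient.mk_surjective K x
  exact ⟨v, fun h => hx0 ((Submodule.Quotient.mk_eq_zero K).2 h).symm,
    fun g => (Submodule.Quotient.eq K).1 (hxf g)⟩

include hp in
/-- A group of prime power order fixes a non-zero vector of a quotient of one subspace by another. -/
theorem exists_fixed_between {P : Type*} [Group P] (hP : IsPGroup p P) {V : Type u} [AddCommGroup V] [Module F V]
    [FiniteDimensional F V] (ρ : P →* End F V) (K L : Submodule F V) (hK : ∀ g, ∀ v ∈ K, ρ g v ∈ K)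
    (hL : ∀ g, ∀ v ∈ L, ρ g v ∈ L) (hd : finrank F K < finrank F L) :
    ∃ v, v ∈ L ∧ v ∉ K ∧ ∀ g, ρ g v - v ∈ K := by
  let ρ' : P →* End F L :=
    { toFun := fun g => (ρ g).restrict (hL g)
      map_one' := LinearMap.ext fun v => Subtype.ext (LinearMap.congr_fun ρ.map_one v.1)
      map_mul' := fun a b => LinearMap.ext fun v => Subtype.ext (LinearMap.congr_fun (ρ.map_mul a b) v.1) }
  obtain ⟨v, hv, hf⟩ := exists_fixed_quot (p := p) hP ρ' (K.comap L.subtype) (fun g v hv => hK g v.1 hv) (by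
    have h1 := Submodule.finrank_quotient_add_finrank (K.comap L.subtype)
    have h2 : finrank F ↥(K.comap L.subtype) ≤ finrank F K := by
      refine LinearMap.finrank_le_finrank_of_injective (f := L.subtype.restrict (p := K.comap L.subtype) (q := K)
        fun v hv => hv) fun a b h => ?_
      have h' : ((L.subtype.restrict (p := K.comap L.subtype) (q := K) fun v hv => hv) a : V) =
          ((L.subtype.restrict (p := K.comap L.subtype) (q := K) fun v hv => hv) b : V) := congrArg Subtype.val h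
      exact Subtype.ext (Subtype.ext h')
    omega)
  exact ⟨v.1, v.2, hv, hf⟩

/-- The action on vectors. -/
noncomputable def linHom (d : ℕ) : (G d) →* End F (Fin d ⊕ Fin d → F) where
  toFun g := Matrix.toLin' (g : Matrix (Fin d ⊕ Fin d) (Fin d ⊕ Fin d) F)
  map_one' := by rw [OneMemClass.coe_one, Matrix.toLin'_one]; rfl
  map_mul' g h := by rw [Submonoid.coe_mul, Matrix.toLin'_mul]; rfl

include hp in
/-- The characteristic divides no number of totally isotropic subspaces. -/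
theorem not_dvd_card_isotropic {d m : ℕ} (hmd : m ≤ d) :
    ¬ p ∣ Nat.card {W : Submodule F (Fin d ⊕ Fin d → F) //
      finrank F ↥W = m ∧ ∀ u ∈ W, ∀ v ∈ W, sb F d u v = 0} := by
  classical
  letI := subAct (F := F) d
  let P : Sylow p (G d) := default
  have key : ∀ k ≤ m, ∃ W : Submodule F (Fin d ⊕ Fin d → F), (∀ u ∈ W, ∀ v ∈ W, sb F d u v = 0) ∧
      finrank F W = k ∧ ∀ g ∈ (P : Subgroup (G d)), g • W = W := by
    intro k
    induction k with
    | zero =>
      exact fun _ => ⟨⊥, fun u hu v _ => by rw [(Submodule.mem_bot F).1 hu, map_zero, LinearMap.zero_apply],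
        finrank_bot F (Fin d ⊕ Fin d → F), fun g _ => Submodule.map_bot _⟩
    | succ k ih =>
      intro hk
      obtain ⟨S, hS, hSd, hSf⟩ := ih (by omega)
      set S' := (sb F d).orthogonal S with hS'
      have hSS' : S ≤ S' := fun u hu => LinearMap.BilinForm.mem_orthogonal_iff.2 fun v hv => hS v hv u hu
      have hinv : ∀ g ∈ (P : Subgroup (G d)), ∀ v ∈ S', Matrix.toLin' (g : Matrix _ _ F) v ∈ S' := by
        intro g hg v hv
        refine LinearMap.BilinForm.mem_orthogonal_iff.2 fun w hw => ?_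
        rw [← hSf g hg] at hw
        obtain ⟨w₀, hw₀, rfl⟩ := hw
        exact (app_isometry g _ _).trans (LinearMap.BilinForm.mem_orthogonal_iff.1 hv w₀ hw₀)
      have hinvS : ∀ g ∈ (P : Subgroup (G d)), ∀ v ∈ S, Matrix.toLin' (g : Matrix _ _ F) v ∈ S := fun g hg v hv => by
        rw [← hSf g hg]; exact ⟨v, hv, rfl⟩
      have hdim : finrank F S < finrank F S' := by
        have h3 : finrank F S' = _ := LinearMap.BilinForm.finrank_orthogonal
          (⟨(symp_sb F d).nd, fun v h => (symp_sb F d).nd v fun w => (symp_sb F d).alt.isRefl w v (h w)⟩ :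
            (sb F d).Nondegenerate) S
        rw [Module.finrank_pi, Fintype.card_sum, Fintype.card_fin] at h3
        omega
      obtain ⟨v, hvL, hvS, hxf⟩ := exists_fixed_between (p := p) P.2 ((linHom (F := F) d).comp (P : Subgroup (G d)).subtype)
        S S' (fun g v hv => hinvS g.1 g.2 v hv) (fun g v hv => hinv g.1 g.2 v hv) hdim
      refine ⟨S ⊔ Submodule.span F {v}, fun a ha b hb => ?_, ?_, fun g hg => ?_⟩
      · obtain ⟨a₁, ha₁, a₂, ha₂, rfl⟩ := Submodule.mem_sup.1 ha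
        obtain ⟨b₁, hb₁, b₂, hb₂, rfl⟩ := Submodule.mem_sup.1 hb
        obtain ⟨c, rfl⟩ := Submodule.mem_span_singleton.1 ha₂
        obtain ⟨c', rfl⟩ := Submodule.mem_span_singleton.1 hb₂
        have h1 := LinearMap.BilinForm.mem_orthogonal_iff.1 hvL
        simp [hS _ ha₁ _ hb₁, (symp_sb F d).alt v, h1 _ ha₁,
          (symp_sb F d).alt.isRefl _ _ (h1 _ hb₁)]
      · have h1 := Submodule.finrank_sup_add_finrank_inf_eq S (Submodule.span F {v})
        rw [show S ⊓ Submodule.span F {v} = ⊥ from (Submodule.eq_bot_iff _).2 fun z hz => by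
            obtain ⟨c, rfl⟩ := Submodule.mem_span_singleton.1 hz.2
            by_contra hc
            exact hvS ((Submodule.smul_mem_iff _ (fun h => hc (by rw [h, zero_smul]))).1 hz.1),
          finrank_bot, add_zero, finrank_span_singleton (fun h => hvS (by rw [h]; exact S.zero_mem))] at h1
        omega
      · refine Submodule.eq_of_le_of_finrank_eq ?_ (finrank_map g _)
        show (S ⊔ _).map _ ≤ _
        rw [Submodule.map_sup, show S.map _ = S from hSf g hg, Submodule.map_span, Set.image_singleton]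
        refine sup_le le_sup_left ((Submodule.span_singleton_le_iff_mem _ _).2 ?_)
        have h1 : Matrix.toLin' (g : Matrix _ _ F) v - v ∈ S := hxf ⟨g, hg⟩
        rw [← sub_add_cancel (Matrix.toLin' (g : Matrix _ _ F) v) v]
        exact add_mem (Submodule.mem_sup_left h1) (Submodule.mem_sup_right (Submodule.mem_span_singleton_self _))
  obtain ⟨W₀, hW₀, hW₀d, hfix⟩ := key m le_rfl
  intro hdvd
  have h := card_orbit_dvd (fun W : Submodule F (Fin d ⊕ Fin d → F) => finrank F ↥W = m ∧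
      ∀ u ∈ W, ∀ v ∈ W, sb F d u v = 0) (x₀ := W₀) ⟨hW₀d, hW₀⟩
    (fun g W hW => ⟨(finrank_map g W).trans hW.1, invariant_map g hW.2⟩)
    (fun W hW => by
      obtain ⟨b, hb, e, he, rfl⟩ := exists_frame hW₀d hW₀
      obtain ⟨b', hb', e', he', rfl⟩ := exists_frame hW.1 hW.2
      obtain rfl : b' = b := by omega
      obtain ⟨g, hg⟩ := exists_move_model e e' he he'
      exact ⟨g, map_range hg _⟩)
    (P : Subgroup (G d)).subtype Subtype.val_injective (fun h => hfix h.1 h.2)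
  rw [← Subgroup.index_mul_card (P : Subgroup (G d))] at h
  exact P.not_dvd_index (hdvd.trans (Nat.dvd_of_mul_dvd_mul_right Nat.card_pos h))

end CfsgLib.Derange.Sp
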