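import Cfsg.Agent.Lib.Derange.SympDecomp
import Cfsg.Agent.Lib.Derange.SympWindow

/-!
Elements of odd prime order different from the characteristic on orthogonal decompositions.
-/

set_option autoImplicit false
set_option maxHeartbeats 1000000
set_option linter.style.haveILetI false

namespace CfsgLib.Derange.Sp

open Polynomial Module Matrix CfsgLib.SympCount CfsgLib.Classical CfsgLib.Classical.SympTrans CfsgLib.Classical.SympClasses

universe u

variable {F : Type u} [Field F]

local notation "G" d => Matrix.symplecticGroup (Fin d) F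

/-- The condition on a decomposition. -/
def IsDec (d a t : ℕ) (D : Fin t → Submodule F (Fin d ⊕ Fin d → F)) : Prop :=
  Cfsg.Geo.IsMDecomposition (2 * a) D ∧ (∀ j, ∀ u ∈ D j, u ≠ 0 → ∃ v ∈ D j, Cfsg.sympForm d F u v ≠ 0) ∧
    ∀ j j', j ≠ j' → ∀ u ∈ D j, ∀ v ∈ D j', Cfsg.sympForm d F u v = 0

/-- The blocks are the images of standard spaces. -/
theorem IsDec.coords {d a t : ℕ} (hat : d = a * t) {D : Fin t → Submodule F (Fin d ⊕ Fin d → F)} (h : IsDec d a t D) :
    ∃ φ : (Fin t → Fin a ⊕ Fin a → F) ≃ₗ[F] (Fin d ⊕ Fin d → F),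
      (∀ u v, sb F d (φ u) (φ v) = ∑ j, sb F a (u j) (v j)) ∧
        ∀ j, D j = LinearMap.range (φ.toLinearMap ∘ₗ LinearMap.single F (fun _ : Fin t => Fin a ⊕ Fin a → F) j) := by
  classical
  obtain ⟨⟨-, -, hdim, -, -⟩, hnd, horth⟩ := h
  have hsymp : ∀ j, Symp ((sb F d).restrict (D j)) := fun j =>
    ⟨fun v => (symp_sb F d).alt _, fun v h => Subtype.ext (nond_iff.1 (hnd j) v.1 v.2 fun w hw => h ⟨w, hw⟩)⟩
  choose ψ hψ using fun j => exists_isometry (V₁ := (Fin a ⊕ Fin a → F)) (hsymp j) (symp_sb F a)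
    (by rw [hdim, finrank_std])
  let φ₀ : (Fin t → Fin a ⊕ Fin a → F) →ₗ[F] (Fin d ⊕ Fin d → F) :=
    ∑ j, ((D j).subtype ∘ₗ (ψ j).toLinearMap) ∘ₗ LinearMap.proj j
  have hφ₀ : ∀ u, φ₀ u = ∑ j, (ψ j (u j) : Fin d ⊕ Fin d → F) := fun u => by simp [φ₀]
  have hB : ∀ u v, sb F d (φ₀ u) (φ₀ v) = ∑ j, sb F a (u j) (v j) := fun u v => by
    rw [hφ₀, hφ₀, map_sum (sb F d), LinearMap.sum_apply]
    refine Finset.sum_congr rfl fun j _ => ?_
    rw [map_sum, Finset.sum_eq_single j]
    · exact hψ j (u j) (v j)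
    · intro k _ hk
      rw [sb_apply]
      exact horth j k (Ne.symm hk) _ (ψ j (u j)).2 _ (ψ k (v k)).2
    · exact fun h => absurd (Finset.mem_univ j) h
  have hinj : Function.Injective φ₀ := LinearMap.ker_eq_bot.1 (LinearMap.ker_eq_bot'.2 fun u hu => funext fun j =>
    (symp_sb F a).nd (u j) fun w => by
      have h1 := hB u (Pi.single j w)
      rw [hu, map_zero, LinearMap.zero_apply, Finset.sum_eq_single j, Pi.single_eq_same] at h1
      · exact h1.symm
      · intro k _ hk; rw [Pi.single_eq_of_ne hk, map_zero]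
      · exact fun h => absurd (Finset.mem_univ j) h)
  refine ⟨LinearEquiv.ofBijective φ₀ ⟨hinj, (LinearMap.injective_iff_surjective_of_finrank_eq_finrank ?_).1 hinj⟩,
    hB, fun j => ?_⟩
  · rw [Module.finrank_pi_fintype, finrank_std]
    simp only [finrank_std, Finset.sum_const, Finset.card_univ, Fintype.card_fin, smul_eq_mul]
    rw [hat]; ring
  · have hs : ∀ w, φ₀ (Pi.single j w) = (ψ j w : Fin d ⊕ Fin d → F) := fun w => by
      rw [hφ₀, Finset.sum_eq_single j, Pi.single_eq_same]
      · intro k _ hk; rw [Pi.single_eq_of_ne hk, map_zero, ZeroMemClass.coe_zero]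
      · exact fun h => absurd (Finset.mem_univ j) h
    refine le_antisymm ?_ ?_
    · intro x hx
      refine ⟨(ψ j).symm ⟨x, hx⟩, ?_⟩
      show φ₀ (Pi.single j _) = x
      rw [hs, LinearEquiv.apply_symm_apply]
    · rintro _ ⟨w, rfl⟩
      show φ₀ (Pi.single j w) ∈ D j
      rw [hs]
      exact (ψ j w).2

variable [Fintype F] {p : ℕ} [hp : Fact p.Prime] [CharP F p] {q r i : ℕ}

include hp in
/-- A prime dividing the number of decompositions. -/
theorem decomp_window (hq : Fintype.card F = q) (hr : r.Prime) (hrp : r ≠ p) (hi : i = orderOf (q : ZMod r))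
    {d a t : ℕ} (hat : d = a * t) (ha : 0 < a) (ht : 2 ≤ t)
    (hN : r ∣ Nat.card {D : Fin t → Submodule F (Fin d ⊕ Fin d → F) // IsDec d a t D} / Nat.factorial t) :
    unitDim i ≤ 2 * d := by
  classical
  letI := subAct (F := F) d
  obtain ⟨hrq, hq2⟩ := not_dvd_card (p := p) hq hr hrp
  set X := {D : Fin t → Submodule F (Fin d ⊕ Fin d → F) // IsDec d a t D}
  have hperm : ∀ (σ : Equiv.Perm (Fin t)) (D : X), IsDec d a t (D.1 ∘ σ) := fun σ D =>
    ⟨⟨D.2.1.two_le, D.2.1.pos, fun j => D.2.1.finrank_eq _, D.2.1.indep.comp σ.injective,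
      by rw [← D.2.1.iSup_eq_top]; exact Equiv.iSup_comp σ⟩, fun j => D.2.2.1 _,
      fun j k h => D.2.2.2 _ _ (σ.injective.ne h)⟩
  letI : MulAction (Equiv.Perm (Fin t)) X :=
    { smul := fun σ D => ⟨D.1 ∘ ⇑σ⁻¹, hperm σ⁻¹ D⟩
      one_smul := fun D => Subtype.ext (funext fun j => rfl)
      mul_smul := fun σ τ D => Subtype.ext (funext fun j => by
        show D.1 ((σ * τ)⁻¹ j) = D.1 (τ⁻¹ (σ⁻¹ j))
        rw [_root_.mul_inv_rev]; rfl) }
  have hfree : ∀ D : X, MulAction.stabilizer (Equiv.Perm (Fin t)) D = ⊥ := fun D =>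
    (Subgroup.eq_bot_iff_forall _).2 fun σ hσ => by
      refine inv_eq_one.1 (Equiv.ext fun j => ?_)
      have h1 : D.1 (σ⁻¹ j) = D.1 j := congrFun (congrArg Subtype.val hσ) j
      refine D.2.1.indep.injective (fun k h => ?_) h1
      have := D.2.1.finrank_eq k
      rw [h, finrank_bot] at this
      omega
  haveI : Finite X := Subtype.finite
  haveI := Fintype.ofFinite X
  have hdvd : Nat.factorial t ∣ Nat.card X := by
    rw [Nat.card_congr (MulAction.selfEquivSigmaOrbitsQuotientStabilizer (Equiv.Perm (Fin t)) X), Nat.card_sigma]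
    refine Finset.dvd_sum fun ω _ => ?_
    rw [hfree, ← Subgroup.index_eq_card, Subgroup.index_bot, Nat.card_eq_fintype_card, Fintype.card_perm,
      Fintype.card_fin]
  have hr' : r ∣ Nat.card X := hN.trans (Nat.div_dvd_of_dvd hdvd)
  obtain ⟨⟨D₀, hD₀⟩⟩ : Nonempty X := by
    by_contra h
    rw [not_nonempty_iff] at h
    rw [Nat.card_of_isEmpty] at hN
    obtain ⟨e, he⟩ := exists_isometry (symp_sb F d) (symp_sb F d) rfl
    obtain ⟨S⟩ := exists_split_blocks (a := a) (t := t) (g := (1 : End F (Fin d ⊕ Fin d → F))) (symp_sb F d)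
      (fun _ _ => rfl) ha (fun k M hk hkt hMd hM _ => Or.inl (by
        obtain ⟨ee, h', hei, her, hiso, hint⟩ := exists_model (g := (1 : End F (Fin d ⊕ Fin d → F))) (symp_sb F d)
          (fun _ _ => rfl) hM (fun v hv => hv) (m := a * k) (by rw [hMd]; ring)
        obtain ⟨e', he'⟩ := exists_isometry (symp_sb F (a * k)) ((symp_sb F a).prod (symp_sb F (a * k - a)))
          (by rw [Module.finrank_prod, finrank_std, finrank_std, finrank_std]
              have := Nat.le_mul_of_pos_right a hk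
              omega)
        exact exists_block_of_model ee hei her hiso (lin h') hint _ (range_nondeg e' he').1 (range_nondeg e' he').2
          fun v hv => by
            have h3 : lin h' v = v := hei (by rw [← hint]; rfl)
            rw [h3]; exact hv))
      t le_rfl ⊤ (by rw [finrank_top, finrank_std, hat]; ring) (nond_top d) fun v _ => Submodule.mem_top
    exact h.false ⟨S.D, (S.isDecomposition ha ht).1⟩
  have hdvdG : Nat.card X ∣ Nat.card (G d) := by
    have h := card_orbit_dvd (Gr := G d) (X := Fin t → Submodule F (Fin d ⊕ Fin d → F))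
      (IsDec d a t) hD₀ (fun g D hD => ?_) (fun D hD => ?_) (1 : PUnit.{1} →* G d)
      (fun x y _ => Subsingleton.elim x y) (fun _ => one_smul _ _)
    · simpa using h
    · have hL : Function.Injective (lin g) := lin_injective g
      refine ⟨⟨hD.1.two_le, hD.1.pos, fun j => (finrank_map g _).trans (hD.1.finrank_eq j), ?_, ?_⟩, fun j => ?_,
        fun j k h => ?_⟩
      · intro j
        show Disjoint ((D j).map (lin g)) (⨆ (k) (_ : k ≠ j), (D k).map (lin g))
        simp only [← Submodule.map_iSup]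
        rw [disjoint_iff, ← Submodule.map_inf _ hL, (hD.1.indep j).eq_bot, Submodule.map_bot]
      · show ⨆ j, (D j).map (lin g) = ⊤
        rw [← Submodule.map_iSup, hD.1.iSup_eq_top, Submodule.map_top, LinearMap.range_eq_top]
        exact LinearMap.injective_iff_surjective.1 hL
      · rintro _ ⟨u, hu, rfl⟩ hne
        obtain ⟨v, hv, hne'⟩ := hD.2.1 j u hu fun h0 => hne (by rw [h0, map_zero])
        refine ⟨lin g v, ⟨v, hv, rfl⟩, ?_⟩
        rw [← sb_apply] at hne' ⊢
        rwa [app_isometry]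
      · rintro _ ⟨u, hu, rfl⟩ _ ⟨v, hv, rfl⟩
        rw [← sb_apply, app_isometry, sb_apply]
        exact hD.2.2 j k h u hu v hv
    · obtain ⟨φ₀, hφ₀, hj₀⟩ := hD₀.coords hat
      obtain ⟨φ₁, hφ₁, hj₁⟩ := hD.coords hat
      obtain ⟨g, hg⟩ := exists_move_model (B := (sb F d).compl₁₂ φ₀.toLinearMap φ₀.toLinearMap)
        φ₀ φ₁ (fun u v => rfl) (fun u v => (hφ₁ u v).trans (hφ₀ u v).symm)
      refine ⟨g, funext fun j => ?_⟩
      show (D₀ j).map _ = D j
      rw [hj₀, hj₁]
      exact map_range hg _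
  obtain ⟨j, hj, hjd, hdvd'⟩ := exists_window (k := 0) (d := d) (c := 1) (N := Nat.card X) hr hrq hq2 hi one_pos
    (Nat.zero_le _) hr' (a := 0) (b := d ^ 2) (by
      rw [card_symplectic, Nat.card_eq_fintype_card (α := F), hq] at hdvdG
      simpa using hdvdG)
  exact (Nat.le_of_dvd (by omega) hdvd').trans (by omega)

variable {t₀ : ℕ} {D₁ : Finset F[X]}

open CfsgLib.Classical.UnitaryTwistPoly CfsgLib.Classical.OrthPrimeFactors CfsgLib.Classical.OrthPrimeReal

include hp in
/-- The condition gives a block in every invariant subspace. -/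
theorem exists_blocks_of_cond (X' : Ctx F p q r i t₀ D₁) {d a t : ℕ} (hat : d = a * t) (ha : 0 < a) (ht : 2 ≤ t)
    (hca : unitDim i ≤ 2 * a) (hmod : (2 * d) % unitDim i = t * ((2 * a) % unitDim i)) (y : G d) (hy : y ^ r = 1) :
    Nonempty (Split (sb F d) (lin y) ⊤ a t) := by
  classical
  set c := unitDim i
  have hc : 0 < c := unitDim_pos X'.i_pos
  refine exists_split_blocks (symp_sb F d) (app_isometry y) ha (fun k M hk hkt hMd hM hMg => Or.inl ?_) t le_rfl ⊤
    (by rw [finrank_top, finrank_std, hat]; ring) (nond_top d) fun v _ => Submodule.mem_top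
  obtain ⟨e, h, hei, her, hiso, hint⟩ := exists_model (symp_sb F d) (app_isometry y) hM hMg (m := a * k)
    (by rw [hMd]; ring)
  have hh : h ^ r = 1 := by
    refine Subtype.ext (Matrix.toLin'.injective (LinearMap.ext fun v => hei ?_))
    rw [SubmonoidClass.coe_pow, Matrix.toLin'_pow, OneMemClass.coe_one, Matrix.toLin'_one, LinearMap.id_apply]
    have h1 : ∀ n v, e ((lin h ^ n) v) = (lin y ^ n) (e v) := fun n => by
      induction n with
      | zero => intro v; rfl
      | succ n ih => intro v; rw [pow_succ', End.mul_apply, ← hint, ih, pow_succ', End.mul_apply]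
    rw [h1, lin_pow y hy]; rfl
  obtain ⟨e₁, K, hsh, hsum⟩ := exists_shaped_cp X' h hh
  have hak : a ≤ a * k := Nat.le_mul_of_pos_right a hk
  obtain ⟨e', A, hm, he', hA⟩ : ∃ e' A, e' + c * A = 2 * a ∧ e' ≤ e₁ ∧ A ≤ K := by
    rcases Nat.eq_zero_or_pos K with rfl | hK
    · exact ⟨2 * a, 0, by omega, by omega, le_rfl⟩
    have hlt : t * ((2 * a) % c) < c := hmod ▸ Nat.mod_lt _ hc
    have hmul : k * ((2 * a) % c) ≤ t * ((2 * a) % c) := Nat.mul_le_mul_right _ hkt
    have hmk : (2 * (a * k)) % c = k * ((2 * a) % c) := by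
      rw [show 2 * (a * k) = k * (2 * a) by ring, Nat.mul_mod, Nat.mod_mul_mod, Nat.mod_eq_of_lt (by omega)]
    refine (units_iff hc ?_ (show 2 * a ≤ 2 * (a * k) by omega) ?_).2 ⟨hca, ?_⟩ e₁ K hK hsum
    · omega
    · exact (Nat.mod_lt _ hc).trans_le hca
    · rw [hmk]; exact Nat.le_mul_of_pos_left _ hk
  have hsum' : e₁ + c * K = 2 * (a * k) := hsum
  obtain ⟨f₁, f₂, hcp, h1, h2⟩ := hsh.split X'.facts he' hA
  have hdim : e₁ - e' + c * (K - A) = 2 * (a * k - a) := by
    have := Nat.mul_le_mul_left c hA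
    rw [Nat.mul_sub]
    omega
  obtain ⟨W, hWd, hW, hWg⟩ := exists_nondeg X' (show a + (a * k - a) = a * k by omega) h hh h1 hm h2 hdim hcp
  exact exists_block_of_model e hei her hiso (lin h) hint W hWd hW hWg

include hp in
/-- The multiplicity of the root one is the dimension of the fixed space. -/
theorem finrank_fixed (X' : Ctx F p q r i t₀ D₁) {d : ℕ} (y : G d) (hy : y ^ r = 1) {e K : ℕ}
    (hs : Shaped i D₁ (cp y) e K) : finrank F (LinearMap.ker (lin y - 1)) = e := by
  classical
  set T := lin y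
  set E := LinearMap.ker (T - 1)
  set R := LinearMap.range (T - 1)
  have hTE : ∀ v ∈ E, T v = v := fun v hv => sub_eq_zero.1 hv
  have hr0 : (r : F) ≠ 0 := fun h => X'.ne_char
    ((Nat.prime_dvd_prime_iff_eq hp.out X'.prime).1 ((CharP.cast_eq_zero_iff F p r).1 h)).symm
  have hdisj : E ⊓ R = ⊥ := (Submodule.eq_bot_iff _).2 fun v hv => by
    obtain ⟨u, hu⟩ := hv.2
    have hsum : ∑ k ∈ Finset.range r, (T ^ k) v = 0 := by
      rw [← hu, show ∑ k ∈ Finset.range r, (T ^ k) ((T - 1) u) = (((∑ k ∈ Finset.range r, T ^ k) * (T - 1)) u) by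
        rw [End.mul_apply, LinearMap.sum_apply], geom_sum_mul, lin_pow y hy, sub_self, LinearMap.zero_apply]
    have hfix : ∀ k, (T ^ k) v = v := fun k => by
      induction k with
      | zero => rfl
      | succ k ih => rw [pow_succ, End.mul_apply, hTE v hv.1, ih]
    rw [Finset.sum_congr rfl fun k _ => hfix k, Finset.sum_const, Finset.card_range, ← Nat.cast_smul_eq_nsmul F,
      smul_eq_zero] at hsum
    exact hsum.resolve_left hr0
  have hcompl : IsCompl E R := by
    refine ⟨disjoint_iff.2 hdisj, codisjoint_iff.2 (Submodule.eq_top_of_finrank_eq ?_)⟩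
    have h1 := Submodule.finrank_sup_add_finrank_inf_eq E R
    have h2 : finrank F R + finrank F E = finrank F (Fin d ⊕ Fin d → F) := (T - 1).finrank_range_add_finrank_ker
    rw [hdisj, finrank_bot] at h1
    omega
  have hR : ∀ v ∈ R, T v ∈ R := by
    rintro _ ⟨u, rfl⟩
    exact ⟨T u, by simp⟩
  have hE : ∀ v ∈ E, T v ∈ E := fun v hv => by rw [hTE v hv]; exact hv
  have hfac := charpoly_of_isCompl T hE hR hcompl
  rw [show T.restrict hE = 1 from LinearMap.ext fun v => Subtype.ext (hTE v.1 v.2), LinearMap.charpoly_one,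
    show T.charpoly = cp y from Matrix.charpoly_toLin' _] at hfac
  have h1R : (T.restrict hR).charpoly.eval 1 ≠ 0 := fun h => by
    have hev : Module.End.HasEigenvalue (T.restrict hR) 1 :=
      Module.End.hasEigenvalue_iff_isRoot_charpoly _ _ |>.2 h
    obtain ⟨v, hv⟩ := hev.exists_hasEigenvector
    have hv1 : T (v : Fin d ⊕ Fin d → F) = v := by
      have := congrArg Subtype.val hv.apply_eq_smul
      rw [one_smul] at this
      exact this
    refine hv.2 (Subtype.ext ((Submodule.eq_bot_iff _).1 hdisj _ ⟨?_, v.2⟩))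
    show T (v : Fin d ⊕ Fin d → F) - (v : Fin d ⊕ Fin d → F) = 0
    rw [hv1, sub_self]
  obtain ⟨g, hg1, hg, -⟩ := hs
  have hmon : ((T.restrict hR).charpoly).Monic := LinearMap.charpoly_monic _
  have key : ∀ (n : ℕ) (f : F[X]), f.Monic → f.eval 1 ≠ 0 → ((Polynomial.X - 1) ^ n * f).rootMultiplicity 1 = n := by
    intro n f hf hf1
    rw [rootMultiplicity_mul ((X_sub_one_monic.pow n).mul hf).ne_zero, rootMultiplicity_eq_zero hf1, add_zero,
      ← map_one Polynomial.C, rootMultiplicity_X_sub_C_pow]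
  have h3 := congrArg (rootMultiplicity (1 : F)) (hg1.symm.trans hfac)
  rw [key e g hg.monic (hg.eval_one X'.facts), key _ _ hmon h1R] at h3
  exact h3.symm

include hp in
/-- An element stabilising a decomposition fixes each block if it has few units or few fixed vectors. -/
theorem blocks_fixed (X' : Ctx F p q r i t₀ D₁) {d a t : ℕ} (ha : 0 < a)
    {D : Fin t → Submodule F (Fin d ⊕ Fin d → F)} (hD : Cfsg.Geo.IsMDecomposition (2 * a) D)
    (y : G d) (hy : y ^ r = 1) {e K : ℕ} (hs : Shaped i D₁ (cp y) e K) (hsum : e + unitDim i * K = 2 * d)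
    {σ : Equiv.Perm (Fin t)} (hσ : ∀ j, (D j).map (lin y) = D (σ j))
    (hsmall : e < 2 * a ∨ unitDim i * K < (r - 1) * (2 * a)) : ∀ j, σ j = j := by
  classical
  by_contra hc
  push Not at hc
  obtain ⟨j, hj⟩ := hc
  set T := lin y
  have hpow : ∀ k, (D j).map (T ^ k) = D ((σ ^ k) j) := fun k => by
    induction k with
    | zero => rw [pow_zero, pow_zero]; exact Submodule.map_id _
    | succ k ih =>
      rw [pow_succ', pow_succ', End.mul_eq_comp, Submodule.map_comp, ih]
      exact hσ _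
  have hne : ∀ k, D k ≠ ⊥ := fun k h => by
    have := hD.finrank_eq k
    rw [h, finrank_bot] at this
    omega
  have hDi : Function.Injective D := hD.indep.injective hne
  have hσr : (σ ^ r) j = j := hDi (by rw [← hpow, lin_pow y hy]; exact Submodule.map_id _)
  have horb : ∀ k l : ℕ, k < r → l < r → (σ ^ k) j = (σ ^ l) j → k = l := by
    have main : ∀ n : ℕ, 0 < n → n < r → (σ ^ n) j ≠ j := by
      intro n hn0 hnr h
      have hco : Nat.Coprime n r :=
        (Nat.Coprime.symm ((Nat.Prime.coprime_iff_not_dvd X'.prime).2 fun h => absurd (Nat.le_of_dvd hn0 h) (by omega)))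
      have h1 : MulAction.period σ j ∣ n := MulAction.pow_smul_eq_iff_period_dvd.1 h
      have h2 : MulAction.period σ j ∣ r := MulAction.pow_smul_eq_iff_period_dvd.1 hσr
      have h3 : MulAction.period σ j = 1 := Nat.eq_one_of_dvd_one (hco.gcd_eq_one ▸ Nat.dvd_gcd h1 h2)
      refine hj ?_
      have := MulAction.pow_smul_eq_iff_period_dvd (n := 1) (m := σ) (a := j) |>.2 (h3 ▸ dvd_rfl)
      rw [pow_one] at this
      exact this
    intro k l hk hl h
    rcases lt_trichotomy k l with hkl | hkl | hkl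
    · refine absurd ?_ (main (l - k) (by omega) (by omega))
      refine (σ ^ k).injective ?_
      rw [← Equiv.Perm.mul_apply, ← pow_add, Nat.add_sub_cancel' hkl.le, ← h]
    · exact hkl
    · refine absurd ?_ (main (k - l) (by omega) (by omega))
      refine (σ ^ l).injective ?_
      rw [← Equiv.Perm.mul_apply, ← pow_add, Nat.add_sub_cancel' hkl.le, h]
  -- sums over the orbit
  let Φ : (Fin r → D j) →ₗ[F] (Fin d ⊕ Fin d → F) := ∑ k : Fin r, ((T ^ (k : ℕ)) ∘ₗ (D j).subtype) ∘ₗ LinearMap.proj k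
  have hΦ : ∀ w, Φ w = ∑ k : Fin r, (T ^ (k : ℕ)) (w k : Fin d ⊕ Fin d → F) := fun w => by simp [Φ]
  have hinj : Function.Injective Φ := LinearMap.ker_eq_bot.1 (LinearMap.ker_eq_bot'.2 fun w hw => by
    have hind : iSupIndep fun k : Fin r => D ((σ ^ (k : ℕ)) j) :=
      hD.indep.comp fun k l h => Fin.ext (horb k l k.2 l.2 h)
    have h0 : ∀ k : Fin r, (T ^ (k : ℕ)) (w k : Fin d ⊕ Fin d → F) = 0 := fun k => by
      have hm : ∀ l : Fin r, (T ^ (l : ℕ)) (w l : Fin d ⊕ Fin d → F) ∈ D ((σ ^ (l : ℕ)) j) := fun l =>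
        hpow (l : ℕ) ▸ Submodule.mem_map_of_mem (w l).2
      refine Submodule.disjoint_def.1 (hind k) _ (hm k) ?_
      have hsplit : (T ^ (k : ℕ)) (w k : Fin d ⊕ Fin d → F) =
          -∑ l ∈ Finset.univ.erase k, (T ^ (l : ℕ)) (w l : Fin d ⊕ Fin d → F) := by
        rw [eq_neg_iff_add_eq_zero, Finset.add_sum_erase _ (fun l : Fin r => (T ^ (l : ℕ)) (w l : Fin d ⊕ Fin d → F))
          (Finset.mem_univ k), ← hΦ, hw]
      rw [hsplit]
      refine Submodule.neg_mem _ (Submodule.sum_mem _ fun l hl => ?_)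
      exact Submodule.mem_iSup_of_mem l (Submodule.mem_iSup_of_mem (Finset.mem_erase.1 hl).1 (hm l))
    funext k
    refine Subtype.ext (LinearMap.ker_eq_bot'.1 (LinearMap.ker_eq_bot.2 ?_) _ (h0 k))
    rw [End.coe_pow]
    exact Function.Injective.iterate (lin_inj y) _)
  have hfixdim := finrank_fixed X' y hy hs
  have hr1 := X'.prime.one_le
  have hTr := lin_pow y hy
  -- the fixed vectors
  let diag : D j →ₗ[F] (Fin r → D j) := LinearMap.pi fun _ => LinearMap.id
  have hker : LinearMap.range (Φ ∘ₗ diag) ≤ LinearMap.ker (T - 1) := by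
    rintro _ ⟨v, rfl⟩
    show T (Φ fun _ => v) - Φ (fun _ => v) = 0
    rw [hΦ, map_sum, Fin.sum_univ_eq_sum_range (fun k => (T ^ k) (v : Fin d ⊕ Fin d → F)) r,
      Fin.sum_univ_eq_sum_range (fun k => T ((T ^ k) (v : Fin d ⊕ Fin d → F))) r, ← Finset.sum_sub_distrib,
      Finset.sum_congr rfl fun k _ => show T ((T ^ k) (v : Fin d ⊕ Fin d → F)) - (T ^ k) (v : Fin d ⊕ Fin d → F) =
        (T ^ (k + 1)) (v : Fin d ⊕ Fin d → F) - (T ^ k) (v : Fin d ⊕ Fin d → F) by rw [pow_succ', End.mul_apply],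
      Finset.sum_range_sub (fun k => (T ^ k) (v : Fin d ⊕ Fin d → F)), hTr, pow_zero, sub_self]
  haveI : Nonempty (Fin r) := ⟨⟨0, X'.prime.pos⟩⟩
  have hdiag : Function.Injective (Φ ∘ₗ diag) := hinj.comp fun u v h => congrFun h (Classical.arbitrary _)
  have hle₁ : 2 * a ≤ e := by
    rw [← hfixdim, ← hD.finrank_eq j, ← LinearMap.finrank_range_of_inj hdiag]
    exact Submodule.finrank_mono hker
  have hle₂ : (r - 1) * (2 * a) + e ≤ 2 * d := by
    set P := LinearMap.range Φ
    have hPd : finrank F P = r * (2 * a) := by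
      rw [LinearMap.finrank_range_of_inj hinj, Module.finrank_pi_fintype]
      simp [hD.finrank_eq]
    have hEP : LinearMap.ker (T - 1) ⊓ P ≤ LinearMap.range (Φ ∘ₗ diag) := by
      rintro _ ⟨hfix, w, rfl⟩
      refine ⟨((r : F))⁻¹ • ∑ k, w k, ?_⟩
      have hfix' : ∀ n : ℕ, (T ^ n) (Φ w) = Φ w := fun n => by
        induction n with
        | zero => rfl
        | succ n ih => rw [pow_succ, End.mul_apply, show T (Φ w) = Φ w from sub_eq_zero.1 hfix, ih]
      have hr0 : (r : F) ≠ 0 := fun h => X'.ne_char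
        ((Nat.prime_dvd_prime_iff_eq hp.out X'.prime).1 ((CharP.cast_eq_zero_iff F p r).1 h)).symm
      show Φ (fun _ => ((r : F))⁻¹ • ∑ k, w k) = Φ w
      rw [show (fun _ : Fin r => ((r : F))⁻¹ • ∑ k, w k) = ((r : F))⁻¹ • (fun _ : Fin r => ∑ k, w k) from rfl,
        map_smul, inv_smul_eq_iff₀ hr0]
      have hper : ∀ (k : ℕ), (∑ m : Fin r, (T ^ (k + (m : ℕ)))) = ∑ m : Fin r, T ^ (m : ℕ) := fun k => by
        induction k with
        | zero => simp
        | succ k ih =>
          rw [← ih, Fin.sum_univ_eq_sum_range (fun m => T ^ (k + 1 + m)) r, Fin.sum_univ_eq_sum_range (fun m => T ^ (k + m)) r]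
          have h1 := Finset.sum_range_succ' (fun m => T ^ (k + m)) r
          have h2 := Finset.sum_range_succ (fun m => T ^ (k + m)) r
          rw [show T ^ (k + r) = T ^ k by rw [pow_add, hTr, mul_one]] at h2
          rw [h2, add_zero, add_left_inj] at h1
          rw [h1]
          exact Finset.sum_congr rfl fun m _ => by rw [add_right_comm, add_assoc]
      calc Φ (fun _ => ∑ k, w k) = ∑ m : Fin r, (T ^ (m : ℕ)) (∑ k, (w k : Fin d ⊕ Fin d → F)) := by
            rw [hΦ]; simp
        _ = ∑ k : Fin r, (∑ m : Fin r, T ^ (m : ℕ)) (w k : Fin d ⊕ Fin d → F) := by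
            rw [← map_sum, LinearMap.sum_apply]
        _ = ∑ k : Fin r, (∑ m : Fin r, T ^ (m : ℕ)) ((T ^ (k : ℕ)) (w k : Fin d ⊕ Fin d → F)) := by
            refine Finset.sum_congr rfl fun k _ => ?_
            rw [← End.mul_apply, Finset.sum_mul]
            refine LinearMap.congr_fun (((hper (k : ℕ)).symm).trans ?_) _
            exact Finset.sum_congr rfl fun m _ => by rw [← pow_add, add_comm]
        _ = ∑ m : Fin r, (T ^ (m : ℕ)) (Φ w) := by
            rw [← map_sum, LinearMap.sum_apply, hΦ]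
        _ = (r : F) • Φ w := by
            rw [Finset.sum_congr rfl fun (m : Fin r) _ => hfix' (m : ℕ), Finset.sum_const, Finset.card_univ,
              Fintype.card_fin, Nat.cast_smul_eq_nsmul]
    have h1 := Submodule.finrank_sup_add_finrank_inf_eq (LinearMap.ker (T - 1)) P
    have h2 := Submodule.finrank_mono hEP
    rw [LinearMap.finrank_range_of_inj hdiag, hD.finrank_eq] at h2
    have h3 := Submodule.finrank_le (LinearMap.ker (T - 1) ⊔ P)
    rw [finrank_std] at h3
    rw [hfixdim, hPd] at h1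
    have : (r - 1) * (2 * a) + 2 * a = r * (2 * a) := by
      rw [← add_one_mul, Nat.sub_add_cancel hr1]
    omega
  omega

include hp in
/-- The criterion is forced. -/
theorem cond_of_fix (X' : Ctx F p q r i t₀ D₁) {d a t : ℕ} (hat : d = a * t) (ha : 0 < a) (hcd : unitDim i ≤ 2 * d)
    (H : ∀ x : G d, (∃ z : F, ((x ^ r : G d) : Matrix (Fin d ⊕ Fin d) (Fin d ⊕ Fin d) F) = z • 1) →
      (∀ z : F, (x : Matrix (Fin d ⊕ Fin d) (Fin d ⊕ Fin d) F) ≠ z • 1) →
      ∃ D : Fin t → Submodule F (Fin d ⊕ Fin d → F), IsDec d a t D ∧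
        ∃ σ : Equiv.Perm (Fin t), ∀ j, (D j).map (lin x) = D (σ j)) :
    unitDim i ≤ 2 * a ∧ (2 * d) % unitDim i = t * ((2 * a) % unitDim i) := by
  classical
  set c := unitDim i with hcdef
  have hc : 0 < c := unitDim_pos X'.i_pos
  have hd : 0 < d := by omega
  have main : ∀ e K, 0 < K → e + c * K = 2 * d → (e < 2 * a ∨ c * K < (r - 1) * (2 * a)) →
      c ≤ 2 * a ∧ t * ((2 * a) % c) ≤ e := by
    intro e K hK hsum hsmall
    obtain ⟨f, hf⟩ := exists_of_shape X'.facts X'.t_pos e K
    obtain ⟨y, hy, hcy⟩ := exists_of_shaped X' hf hsum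
    have hns := not_scalar X' hd y hy hK (hcy.symm ▸ hf)
    obtain ⟨D, hD, σ, hσ⟩ := H y ⟨1, by rw [hy, one_smul]; rfl⟩ hns
    have hfix := blocks_fixed X' ha hD.1 y hy (hcy.symm ▸ hf) hsum hσ hsmall
    have hinv : ∀ j, ∀ v ∈ D j, lin y v ∈ D j := fun j v hv => by
      have := Submodule.mem_map_of_mem (f := lin y) hv
      rwa [hσ j, hfix j] at this
    choose ej hj hei her hiso hint using fun j => exists_model (symp_sb F d) (app_isometry y)
      (nond_iff.1 (hD.2.1 j)) (hinv j) (hD.1.finrank_eq j)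
    have hh : ∀ j, hj j ^ r = 1 := fun j => by
      refine Subtype.ext (Matrix.toLin'.injective (LinearMap.ext fun v => hei j ?_))
      rw [SubmonoidClass.coe_pow, Matrix.toLin'_pow, OneMemClass.coe_one, Matrix.toLin'_one, LinearMap.id_apply]
      have h1 : ∀ n v, ej j ((lin (hj j) ^ n) v) = (lin y ^ n) (ej j v) := fun n => by
        induction n with
        | zero => intro v; rfl
        | succ n ih => intro v; rw [pow_succ', End.mul_apply, ← hint, ih, pow_succ', End.mul_apply]
      rw [h1, lin_pow y hy]; rfl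
    choose es Ks hsh hsums using fun j => exists_shaped_cp X' (hj j) (hh j)
    have hfixj : ∀ j, finrank F (LinearMap.ker (lin (hj j) - 1)) = es j := fun j =>
      finrank_fixed X' (hj j) (hh j) (hsh j)
    refine ⟨?_, ?_⟩
    · by_contra hlt
      refine hns 1 ?_
      have hone : ∀ j, hj j = 1 := fun j => by
        by_contra hne
        have h1 := units_pos X' (hj j) (hh j) hne (hsh j)
        have h2 := Nat.le_mul_of_pos_right c h1
        have h3 : es j + c * Ks j = 2 * a := hsums j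
        omega
      have hall : ∀ j, D j ≤ LinearMap.ker (lin y - 1) := fun j v hv => by
        rw [← her j] at hv
        obtain ⟨w, rfl⟩ := hv
        show lin y (ej j w) - ej j w = 0
        rw [hint, hone j, lin, OneMemClass.coe_one, Matrix.toLin'_one, LinearMap.id_apply, sub_self]
      have htop := (iSup_le hall).trans' hD.1.iSup_eq_top.ge
      refine Matrix.toLin'.injective (LinearMap.ext fun v => ?_)
      rw [one_smul, Matrix.toLin'_one]
      exact sub_eq_zero.1 (htop (Submodule.mem_top (x := v)))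
    · let Ψ : (∀ j, LinearMap.ker (lin (hj j) - 1)) →ₗ[F] (Fin d ⊕ Fin d → F) :=
        ∑ j, ((ej j) ∘ₗ (LinearMap.ker (lin (hj j) - 1)).subtype) ∘ₗ LinearMap.proj j
      have hΨ : ∀ w, Ψ w = ∑ j, ej j (w j : Fin a ⊕ Fin a → F) := fun w => by simp [Ψ]
      have hmem : ∀ j w, ej j w ∈ D j := fun j w => her j ▸ ⟨w, rfl⟩
      have hinj : Function.Injective Ψ := LinearMap.ker_eq_bot.1 (LinearMap.ker_eq_bot'.2 fun w hw => funext fun j => by
        refine Subtype.ext (hei j ?_)
        rw [Pi.zero_apply, ZeroMemClass.coe_zero, map_zero]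
        refine Submodule.disjoint_def.1 (hD.1.indep j) _ (hmem j _) ?_
        rw [show ej j (w j : Fin a ⊕ Fin a → F) = -∑ l ∈ Finset.univ.erase j, ej l (w l : Fin a ⊕ Fin a → F) by
          rw [eq_neg_iff_add_eq_zero, Finset.add_sum_erase _ (fun l => ej l (w l : Fin a ⊕ Fin a → F))
            (Finset.mem_univ j), ← hΨ, hw]]
        refine Submodule.neg_mem _ (Submodule.sum_mem _ fun l hl => ?_)
        exact Submodule.mem_iSup_of_mem l (Submodule.mem_iSup_of_mem (Finset.mem_erase.1 hl).1 (hmem l _)))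
      have hle : LinearMap.range Ψ ≤ LinearMap.ker (lin y - 1) := by
        rintro _ ⟨w, rfl⟩
        rw [hΨ]
        refine Submodule.sum_mem _ fun j _ => ?_
        show lin y (ej j (w j : Fin a ⊕ Fin a → F)) - ej j (w j : Fin a ⊕ Fin a → F) = 0
        rw [hint, show lin (hj j) (w j : Fin a ⊕ Fin a → F) = (w j : Fin a ⊕ Fin a → F) from sub_eq_zero.1 (w j).2,
          sub_self]
      have h1 := Submodule.finrank_mono hle
      rw [LinearMap.finrank_range_of_inj hinj, Module.finrank_pi_fintype,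
        finrank_fixed X' y hy (hcy.symm ▸ hf)] at h1
      refine le_trans ?_ h1
      rw [Finset.sum_congr rfl fun j _ => hfixj j]
      refine le_of_eq_of_le ?_ (Finset.sum_le_sum fun j _ => show (2 * a) % c ≤ es j by
        have h3 : es j + c * Ks j = 2 * a := hsums j
        rw [← h3, Nat.add_mul_mod_self_left]; exact Nat.mod_le _ _)
      simp
  have hca : c ≤ 2 * a := by
    by_contra hlt
    have hsmall : c * 1 < (r - 1) * (2 * a) := by
      have h1 : i ≤ r - 1 := Nat.le_of_dvd (by have := X'.prime.two_le; omega) ⟨t₀, by rw [← X'.mul, mul_comm]⟩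
      have h2 : c ≤ 2 * i := by rw [hcdef, unitDim]; split_ifs <;> omega
      have h3 : 2 * (r - 1) ≤ (r - 1) * (2 * a) := by
        rw [mul_comm 2]; exact Nat.mul_le_mul_left _ (by omega)
      have h4 : c * 1 ≠ 2 * (r - 1) := fun h => by
        have h5 : i = r - 1 := by omega
        have h6 : ¬ Odd i := by
          rw [h5, Nat.not_odd_iff_even]
          obtain ⟨k, hk⟩ := X'.prime.odd_of_ne_two X'.ne_two
          exact ⟨k, by omega⟩
        rw [hcdef, unitDim_even h6] at h
        omega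
      omega
    exact hlt (main (2 * d - c) 1 one_pos (by omega) (Or.inr hsmall)).1
  refine ⟨hca, ?_⟩
  obtain ⟨-, hle⟩ := main ((2 * d) % c) ((2 * d) / c) (Nat.div_pos hcd hc) (Nat.mod_add_div _ _)
    (Or.inl ((Nat.mod_lt _ hc).trans_le hca))
  have hlt : t * ((2 * a) % c) < c := hle.trans_lt (Nat.mod_lt _ hc)
  rw [show 2 * d = t * (2 * a) by rw [hat]; ring, Nat.mul_mod, Nat.mod_mul_mod, Nat.mod_eq_of_lt hlt]

end CfsgLib.Derange.Sp
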