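import Cfsg.Agent.S5976

/-!
Extension fields acting by self-adjoint maps on a symplectic space: the group commuting with them, elements of
prime order outside the normalizer, and the case of dimension four.
-/

set_option autoImplicit false
set_option linter.style.haveILetI false
set_option linter.unusedSectionVars false

namespace CfsgLib.Derange.SpK

open Module Matrix Polynomial CfsgLib.Derange CfsgLib.SympCount CfsgLib.Classical CfsgLib.Classical.SympTrans
open CfsgLib.Classical.SympClasses CfsgLib.Classical.UnitaryTwistPoly CfsgLib.Classical.OrthPrimeFactors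

universe u

variable {F : Type u} [Field F] [Fintype F] {d : ℕ} {K : Type u} [Field K] [Algebra F K] [Finite K]

local notation "Mat" => Matrix (Fin d ⊕ Fin d) (Fin d ⊕ Fin d) F
local notation "τ" => tw (RingHom.id F)

/-- A field acting by self-adjoint maps. -/
structure Act (ρ : K →ₐ[F] Mat) : Prop where
  sa : ∀ c u v, Cfsg.sympForm d F (ρ c *ᵥ u) v = Cfsg.sympForm d F u (ρ c *ᵥ v)
  alt : ∀ c v, Cfsg.sympForm d F (ρ c *ᵥ v) v = 0

theorem card_ext {q : ℕ} (hq : Fintype.card F = q) : Nat.card K = q ^ finrank F K := by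
  haveI : FiniteDimensional F K := Module.Finite.of_finite
  rw [Module.natCard_eq_pow_finrank (K := F), Nat.card_eq_fintype_card, hq]

/-- The structure over the extension and the group commuting with it. -/
theorem exists_form {ρ : K →ₐ[F] Mat} (h : Act ρ) :
    ∃ m, d = finrank F K * m ∧ ∃ ψ : Matrix.symplecticGroup (Fin m) K →* GL (Fin d ⊕ Fin d) F,
      Function.Injective ψ ∧ ∀ g, ψ g ∈ Cfsg.spGL d F ∧ ∀ c, (ψ g : Mat) * ρ c = ρ c * (ψ g : Mat) := by
  classical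
  haveI : FiniteDimensional F K := Module.Finite.of_finite
  letI : Module K (Fin d ⊕ Fin d → F) := Module.compHom _ ρ.toRingHom
  have hsm : ∀ (c : K) (x : Fin d ⊕ Fin d → F), c • x = ρ c *ᵥ x := fun c x => rfl
  haveI : IsScalarTower F K (Fin d ⊕ Fin d → F) := IsScalarTower.of_algebraMap_smul fun c x => by
    rw [hsm, AlgHom.commutes, Algebra.algebraMap_eq_smul_one, smul_mulVec, one_mulVec]
  haveI : FiniteDimensional K (Fin d ⊕ Fin d → F) := Module.Finite.of_restrictScalars_finite F K _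
  obtain ⟨t, ht⟩ : ∃ t : K →ₗ[F] F, t ≠ 0 := by
    obtain ⟨ℓ, hℓ, -⟩ := Submodule.exists_le_ker_of_notMem
      (show (1 : K) ∉ (⊥ : Submodule F K) by simpa using (one_ne_zero : (1 : K) ≠ 0))
    exact ⟨ℓ, fun e => hℓ (by rw [e]; rfl)⟩
  set e : K →ₗ[F] (K →ₗ[F] F) := (LinearMap.mul F K).compr₂ t with he
  have hinj : Function.Injective e := by
    rw [← LinearMap.ker_eq_bot, LinearMap.ker_eq_bot']
    intro z hz
    by_contra hz0
    refine ht (LinearMap.ext fun k => ?_)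
    have h1 : t (z * (z⁻¹ * k)) = 0 := LinearMap.congr_fun hz (z⁻¹ * k)
    rwa [mul_inv_cancel_left₀ hz0] at h1
  let E := LinearEquiv.ofInjectiveOfFinrankEq e hinj (Subspace.dual_finrank_eq).symm
  have hrep : ∀ (ℓ : K →ₗ[F] F) (μ : K), t (μ * E.symm ℓ) = ℓ μ := fun ℓ μ => by
    rw [mul_comm]
    exact LinearMap.congr_fun (E.apply_symm_apply ℓ) μ
  have text : ∀ {x y : K}, (∀ μ, t (μ * x) = t (μ * y)) → x = y := fun {x y} hxy =>
    hinj (LinearMap.ext fun μ => by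
      show t (x * μ) = t (y * μ)
      rw [mul_comm x, mul_comm y]; exact hxy μ)
  let Φ : (Fin d ⊕ Fin d → F) → (Fin d ⊕ Fin d → F) → K := fun u v =>
    E.symm (((sb F d).flip v) ∘ₗ ((LinearMap.toSpanSingleton K _ u).restrictScalars F))
  have hΦ : ∀ u v (μ : K), t (μ * Φ u v) = Cfsg.sympForm d F (ρ μ *ᵥ u) v := fun u v μ => by
    rw [hrep, ← sb_apply]; rfl
  let B : LinearMap.BilinForm K (Fin d ⊕ Fin d → F) := LinearMap.mk₂ K Φ
    (fun u u' v => text fun μ => by rw [mul_add, map_add, hΦ, hΦ, hΦ, mulVec_add, f_add_left])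
    (fun c u v => text fun μ => by rw [hΦ, hsm, smul_eq_mul, ← mul_assoc, hΦ, mulVec_mulVec, map_mul])
    (fun u v v' => text fun μ => by rw [mul_add, map_add, hΦ, hΦ, hΦ, f_add_right])
    (fun c u v => text fun μ => by
      rw [hΦ, hsm, smul_eq_mul, ← mul_assoc, hΦ, ← h.sa, mulVec_mulVec, ← map_mul, mul_comm])
  have hBΦ : ∀ u v, B u v = Φ u v := fun u v => rfl
  have hB : Symp B := ⟨fun u => text fun μ => by rw [hBΦ, hΦ, h.alt, mul_zero, map_zero], fun u hu =>
    eq_zero_of_f u fun v => by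
      have := hΦ u v 1
      rw [map_one, one_mulVec, one_mul, ← hBΦ, hu v, map_zero] at this
      exact this.symm⟩
  obtain ⟨m, hm⟩ := SympCount.even_finrank hB
  have hdm : d = finrank F K * m := by
    have := Module.finrank_mul_finrank F K (Fin d ⊕ Fin d → F)
    rw [hm, Sp.finrank_std] at this
    linarith
  obtain ⟨L, hL⟩ := exists_isometry (symp_sb K m) hB (by rw [hm, Sp.finrank_std])
  let act : Matrix.symplecticGroup (Fin m) K →* Module.End F (Fin d ⊕ Fin d → F) :=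
    { toFun := fun g => (L.symm.toLinearMap ∘ₗ Matrix.toLin' (g : Matrix (Fin m ⊕ Fin m) (Fin m ⊕ Fin m) K) ∘ₗ
        L.toLinearMap).restrictScalars F
      map_one' := LinearMap.ext fun x => by simp
      map_mul' := fun g g' => LinearMap.ext fun x => by simp }
  let ψ₀ : Matrix.symplecticGroup (Fin m) K →* Mat :=
    (LinearMap.toMatrixAlgEquiv' (R := F) (n := Fin d ⊕ Fin d)).toAlgHom.toMonoidHom.comp act
  have hap : ∀ g x, ψ₀ g *ᵥ x = L.symm (Matrix.toLin' (g : Matrix (Fin m ⊕ Fin m) (Fin m ⊕ Fin m) K) (L x)) :=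
    fun g x => by
      show LinearMap.toMatrix' (act g) *ᵥ x = _
      rw [← Matrix.toLin'_apply, Matrix.toLin'_toMatrix']; rfl
  refine ⟨m, hdm, ψ₀.toHomUnits, fun g g' hg => ?_, fun g => ⟨fun u v => ?_, fun c => ?_⟩⟩
  · refine Subtype.ext (Matrix.toLin'.injective (LinearMap.ext fun y => ?_))
    have := hap g (L.symm y)
    rw [show ψ₀ g = ψ₀ g' from congrArg Units.val hg, hap, L.apply_symm_apply] at this
    exact (L.symm.injective this).symm
  · show Cfsg.sympForm d F (ψ₀ g *ᵥ u) (ψ₀ g *ᵥ v) = Cfsg.sympForm d F u v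
    have e : Φ (ψ₀ g *ᵥ u) (ψ₀ g *ᵥ v) = Φ u v := by
      rw [hap, hap, ← hBΦ, ← hBΦ, ← hL, ← hL, L.apply_symm_apply, L.apply_symm_apply]
      exact app_isometry g _ _
    have h1 := hΦ (ψ₀ g *ᵥ u) (ψ₀ g *ᵥ v) 1
    have h2 := hΦ u v 1
    rw [map_one, one_mulVec, one_mul] at h1 h2
    rw [← h1, ← h2, e]
  · refine Matrix.ext_iff_mulVec.2 fun x => ?_
    show (ψ₀ g * ρ c) *ᵥ x = (ρ c * ψ₀ g) *ᵥ x
    rw [← mulVec_mulVec, ← mulVec_mulVec, hap, hap, ← hsm, ← hsm, map_smul, map_smul, map_smul]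

/-- A prime dividing the index. -/
theorem index_data {q r : ℕ} (hq : Fintype.card F = q) (hd : 1 ≤ d) (hr : r.Prime) {ρ : K →ₐ[F] Mat} (h : Act ρ)
    (hΩ : r ∣ (Cfsg.Geo.subalgebraNormalizer ρ.range).relIndex (Cfsg.spGL d F)) :
    r ∣ q ∨ ∃ j, 1 ≤ j ∧ j ≤ d ∧ ¬ finrank F K ∣ j ∧ r ∣ q ^ (2 * j) - 1 := by
  classical
  haveI : FiniteDimensional F K := Module.Finite.of_finite
  obtain ⟨m, hdm, ψ, hψi, hψ⟩ := exists_form h
  set k := finrank F K
  have hk : 0 < k := Module.finrank_pos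
  set H := (Cfsg.Geo.subalgebraNormalizer ρ.range).subgroupOf (Cfsg.spGL d F)
  have key : ∀ g : GL (Fin d ⊕ Fin d) F, (∀ c, (g : Mat) * ρ c = ρ c * (g : Mat)) →
      ∀ x ∈ ρ.range, (g : Mat) * x * ((g⁻¹ : GL (Fin d ⊕ Fin d) F) : Mat) = x := by
    rintro g hg _ ⟨c, rfl⟩
    show (g : Mat) * ρ c * _ = ρ c
    rw [hg, mul_assoc, Units.mul_inv, mul_one]
  have hmem : ∀ g, (⟨ψ g, (hψ g).1⟩ : Cfsg.spGL d F) ∈ H := fun g => Subgroup.mem_subgroupOf.2 fun x => by
    refine ⟨fun hx => (key _ (hψ g).2 x hx).symm ▸ hx, fun hx => ?_⟩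
    have h1 := key (ψ g⁻¹) (hψ g⁻¹).2 _ hx
    have h3 : ((ψ g⁻¹ : GL (Fin d ⊕ Fin d) F) : Mat) * ((ψ g : Mat) * x * (((ψ g)⁻¹ : GL (Fin d ⊕ Fin d) F) : Mat)) *
        (((ψ g⁻¹)⁻¹ : GL (Fin d ⊕ Fin d) F) : Mat) = x := by
      rw [map_inv, inv_inv]; simp [mul_assoc]
    rw [show x = _ from h3.symm.trans h1]
    exact hx
  have hH : Nat.card (Matrix.symplecticGroup (Fin m) K) ∣ Nat.card H :=
    Subgroup.card_dvd_of_injective (((ψ.codRestrict _ fun g => (hψ g).1)).codRestrict H hmem)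
      fun a b hab => hψi (congrArg (fun z : H => ((z : Cfsg.spGL d F) : GL (Fin d ⊕ Fin d) F)) hab)
  obtain ⟨w, hw⟩ := hH
  have hSp : Nat.card (Cfsg.spGL d F) = q ^ (d ^ 2) * ∏ i ∈ Finset.range d, (q ^ (2 * (i + 1)) - 1) := by
    rw [← Nat.card_congr (Equiv.ofBijective _ ⟨toSpGL_injective, toSpGL_surjective⟩),
      SympTrans.card_symplectic, Nat.card_eq_fintype_card, hq]
  have hid := H.index_mul_card
  rw [hw, SympTrans.card_symplectic, card_ext hq, hSp] at hid
  simp only [← pow_mul] at hid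
  have hsub : (Finset.range m).image (fun i => k * (i + 1) - 1) = (Finset.range d).filter fun i => k ∣ i + 1 := by
    ext i
    simp only [Finset.mem_image, Finset.mem_range, Finset.mem_filter]
    constructor
    · rintro ⟨l, hl, rfl⟩
      have h1 : k * (l + 1) ≤ d := hdm ▸ Nat.mul_le_mul_left k hl
      have h2 : 1 ≤ k * (l + 1) := Nat.mul_pos hk l.succ_pos
      exact ⟨by omega, by rw [Nat.sub_add_cancel h2]; exact Dvd.intro _ rfl⟩
    · rintro ⟨hi, l, hl⟩
      have hl0 : 0 < l := Nat.pos_of_ne_zero fun e => by rw [e, mul_zero] at hl; omega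
      refine ⟨l - 1, ?_, by rw [Nat.sub_add_cancel hl0, ← hl]; omega⟩
      have : k * l ≤ k * m := by omega
      have := Nat.le_of_mul_le_mul_left this hk
      omega
  have hprod : ∏ i ∈ Finset.range m, (q ^ (k * (2 * (i + 1))) - 1) =
      ∏ i ∈ (Finset.range d).filter (fun i => k ∣ i + 1), (q ^ (2 * (i + 1)) - 1) := by
    rw [← hsub, Finset.prod_image fun a _ b _ hab => by
      have h1 : 1 ≤ k * (a + 1) := Nat.mul_pos hk a.succ_pos
      have h2 : 1 ≤ k * (b + 1) := Nat.mul_pos hk b.succ_pos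
      exact Nat.succ_injective (Nat.eq_of_mul_eq_mul_left hk (show k * (a + 1) = k * (b + 1) by omega))]
    refine Finset.prod_congr rfl fun i _ => ?_
    rw [Nat.sub_add_cancel (show 1 ≤ k * (i + 1) from Nat.mul_pos hk i.succ_pos)]
    ring_nf
  rw [hprod, ← Finset.prod_filter_mul_prod_filter_not (Finset.range d) (fun i => k ∣ i + 1),
    show d ^ 2 = k * m ^ 2 + (d ^ 2 - k * m ^ 2) by
      have : k * m ^ 2 ≤ d ^ 2 := by rw [hdm, mul_pow]; exact Nat.mul_le_mul_right _ (Nat.le_self_pow two_ne_zero k)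
      omega, pow_add] at hid
  have hq2 : 2 ≤ q := hq ▸ Fintype.one_lt_card
  have hne : q ^ (k * m ^ 2) * ∏ i ∈ (Finset.range d).filter (fun i => k ∣ i + 1), (q ^ (2 * (i + 1)) - 1) ≠ 0 := by
    refine mul_ne_zero (pow_ne_zero _ (by omega)) (Finset.prod_ne_zero_iff.2 fun i _ => ?_)
    have : 1 < q ^ (2 * (i + 1)) := Nat.one_lt_pow (by omega) hq2
    omega
  have hA : H.index * w = q ^ (d ^ 2 - k * m ^ 2) *
      ∏ i ∈ (Finset.range d).filter (fun i => ¬ k ∣ i + 1), (q ^ (2 * (i + 1)) - 1) :=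
    mul_left_cancel₀ hne (by linear_combination hid)
  have hrA := (Dvd.dvd.mul_right (show r ∣ H.index from hΩ) w).trans hA.dvd
  rcases hr.dvd_mul.1 hrA with hrq | hrp
  · exact Or.inl (hr.dvd_of_dvd_pow hrq)
  · obtain ⟨i, hi, hri⟩ := (Prime.dvd_finsetProd_iff hr.prime _).1 hrp
    obtain ⟨hi, hki⟩ := Finset.mem_filter.1 hi
    exact Or.inr ⟨i + 1, by omega, Finset.mem_range.1 hi, hki, hri⟩

theorem rho_injective (hd : 1 ≤ d) (ρ : K →ₐ[F] Mat) : Function.Injective ρ := by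
  haveI : Nonempty (Fin d ⊕ Fin d) := ⟨Sum.inl ⟨0, by omega⟩⟩
  exact RingHom.injective ρ.toRingHom

theorem rho_kills {ρ : K →ₐ[F] Mat} {c : K} {v : Fin d ⊕ Fin d → F} (hv : v ≠ 0) (h : ρ c *ᵥ v = 0) : c = 0 := by
  by_contra hc
  refine hv ?_
  have := congrArg (fun z => ρ c⁻¹ *ᵥ z) h
  simpa [mulVec_mulVec, ← map_mul, inv_mul_cancel₀ hc] using this

/-- A moved field leaves at most half of the space fixed. -/
theorem moved_bound {ρ : K →ₐ[F] Mat} {g : GL (Fin d ⊕ Fin d) F} (hg : g ∈ Cfsg.Geo.subalgebraNormalizer ρ.range)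
    {c : K} (hc : (g : Mat) * ρ c ≠ ρ c * (g : Mat)) {U : Submodule F (Fin d ⊕ Fin d → F)}
    (hU : ∀ v ∈ U, (g : Mat) *ᵥ v = v) : 2 * finrank F U ≤ 2 * d := by
  classical
  obtain ⟨c', hc'⟩ := (hg (ρ c)).1 ⟨c, rfl⟩
  have hgc : (g : Mat) * ρ c = ρ c' * (g : Mat) := by
    rw [show ρ c' = _ from hc', mul_assoc, Units.inv_mul, mul_one]
  have hne : c' ≠ c := fun e => hc (by rw [hgc, e])
  have hc0 : c ≠ 0 := fun e => hc (by rw [e, map_zero, mul_zero, zero_mul])
  have hcinj : Function.Injective (Matrix.toLin' (ρ c)) := LinearMap.ker_eq_bot.1 (LinearMap.ker_eq_bot'.2 fun v hv => by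
    by_contra hv0
    exact hc0 (rho_kills hv0 (by simpa using hv)))
  have hdis : U ⊓ U.map (Matrix.toLin' (ρ c)) = ⊥ := (Submodule.eq_bot_iff _).2 fun w hw => by
    obtain ⟨hwU, v, hv, rfl⟩ := hw
    by_cases hv0 : v = 0
    · rw [hv0, map_zero]
    · exfalso
      refine hne (sub_eq_zero.1 (rho_kills (ρ := ρ) hv0 ?_))
      have h1 := congrArg (fun M => M *ᵥ v) hgc
      simp only [← mulVec_mulVec, hU v hv] at h1
      rw [Matrix.toLin'_apply] at hwU
      rw [hU _ hwU] at h1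
      rw [map_sub, sub_mulVec, ← h1, sub_self]
  have h2 := Submodule.finrank_sup_add_finrank_inf_eq U (U.map (Matrix.toLin' (ρ c)))
  rw [hdis, finrank_bot, add_zero,
    (Submodule.equivMapOfInjective _ hcinj U).finrank_eq.symm] at h2
  have h3 := Submodule.finrank_le (U ⊔ U.map (Matrix.toLin' (ρ c)))
  rw [Sp.finrank_std] at h3
  omega

/-- A moved field has degree the order of the element. -/
theorem degree_of_moved {ρ : K →ₐ[F] Mat} (hd : 1 ≤ d) {g : GL (Fin d ⊕ Fin d) F}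
    (hg : g ∈ Cfsg.Geo.subalgebraNormalizer ρ.range) {r : ℕ} (hr : r.Prime) (hgr : g ^ r = 1)
    (hk : (finrank F K).Prime) {c : K} (hc : (g : Mat) * ρ c ≠ ρ c * (g : Mat)) : r = finrank F K := by
  classical
  haveI : FiniteDimensional F K := Module.Finite.of_finite
  let φ : K →ₐ[F] ρ.range := (((MulSemiringAction.toAlgHom F Mat (ConjAct.toConjAct g)).comp ρ)).codRestrict ρ.range
    fun x => (hg (ρ x)).1 ⟨x, rfl⟩
  let σ : K →ₐ[F] K := (AlgEquiv.ofInjective ρ (rho_injective hd ρ)).symm.toAlgHom.comp φ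
  have hσ : ∀ x, ρ (σ x) = (g : Mat) * ρ x * ((g⁻¹ : GL (Fin d ⊕ Fin d) F) : Mat) := fun x =>
    congrArg Subtype.val ((AlgEquiv.ofInjective ρ (rho_injective hd ρ)).apply_symm_apply (φ x))
  let s : K ≃ₐ[F] K := AlgEquiv.ofBijective σ (Finite.injective_iff_bijective.1 σ.toRingHom.injective)
  have hpow : ∀ (n : ℕ) x, ρ ((s ^ n) x) = ((g ^ n : GL (Fin d ⊕ Fin d) F) : Mat) * ρ x *
      (((g ^ n)⁻¹ : GL (Fin d ⊕ Fin d) F) : Mat) := by
    intro n
    induction n with
    | zero => intro x; simp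
    | succ n ih =>
      intro x
      rw [pow_succ, AlgEquiv.mul_apply, ih, pow_succ, _root_.mul_inv_rev, Units.val_mul, Units.val_mul,
        show ρ (s x) = _ from hσ x]
      simp only [mul_assoc]
  have hsr : s ^ r = 1 := AlgEquiv.ext fun x => rho_injective hd ρ (by
    rw [hpow, hgr, inv_one, Units.val_one, one_mul, mul_one]; rfl)
  have hs1 : s ≠ 1 := fun e => hc (by
    have := hσ c
    rw [show σ c = c from congrArg (fun z : K ≃ₐ[F] K => z c) e] at this
    nth_rw 2 [this]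
    rw [mul_assoc _ _ (g : Mat), Units.inv_mul, mul_one])
  haveI := Fact.mk hr
  have h1 : orderOf s = r := orderOf_eq_prime hsr hs1
  have h2 := orderOf_dvd_natCard s
  rw [h1, IsGalois.card_aut_eq_finrank] at h2
  exact (Nat.prime_dvd_prime_iff_eq hr hk).1 h2

/-- The fixed field of a power of the Frobenius. -/
theorem degree_dvd {q a : ℕ} (hq : Fintype.card F = q) (h : ∀ c : K, c ^ (q ^ a) = c) : finrank F K ∣ a := by
  haveI : FiniteDimensional F K := Module.Finite.of_finite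
  rw [← FiniteField.orderOf_frobeniusAlgEquivOfAlgebraic F K]
  refine orderOf_dvd_of_pow_eq_one (AlgEquiv.ext fun c => ?_)
  rw [AlgEquiv.coe_pow, FiniteField.coe_frobeniusAlgEquivOfAlgebraic_iterate, hq]
  exact h c

/-- A commuting map of a cyclic matrix is a polynomial in it. -/
theorem exists_aeval_of_commute {n : Type} [Fintype n] [DecidableEq n] {S J : Matrix n n F}
    (hsq : Squarefree (minpoly F S)) (hdeg : (minpoly F S).natDegree = Fintype.card n) (hc : Commute J S) :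
    ∃ g : F[X], J = aeval S g := by
  classical
  obtain ⟨v, -, hann⟩ := CfsgLib.OddOrtho.exists_cyclic S hsq _ (minpoly F S) rfl
    (minpoly.monic (Matrix.isIntegral S)) dvd_rfl
  let Φ : Polynomial.degreeLT F (minpoly F S).natDegree →ₗ[F] (n → F) :=
    { toFun := fun f => aeval S (f : F[X]) *ᵥ v
      map_add' := fun f g => by simp [Matrix.add_mulVec]
      map_smul' := fun c f => by simp [Matrix.smul_mulVec] }
  have hΦi : Function.Injective Φ := LinearMap.ker_eq_bot.1 (LinearMap.ker_eq_bot'.2 fun f hf => by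
    refine Subtype.ext (Polynomial.eq_zero_of_dvd_of_degree_lt (hann _ hf) ?_)
    rw [Polynomial.degree_eq_natDegree (minpoly.ne_zero (Matrix.isIntegral S))]
    exact Polynomial.mem_degreeLT.1 f.2)
  haveI : Module.Finite F (Polynomial.degreeLT F (minpoly F S).natDegree) :=
    Module.Finite.equiv (Polynomial.degreeLTEquiv F _).symm
  have hΦs : Function.Surjective Φ := (LinearMap.injective_iff_surjective_of_finrank_eq_finrank
    (by rw [(Polynomial.degreeLTEquiv F _).finrank_eq, Module.finrank_fin_fun, hdeg,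
      Module.finrank_fintype_fun_eq_card])).1 hΦi
  obtain ⟨g, hg⟩ := hΦs (J *ᵥ v)
  refine ⟨g, Matrix.ext_iff_mulVec.2 fun w => ?_⟩
  obtain ⟨f, rfl⟩ := hΦs w
  show J *ᵥ (aeval S (f : F[X]) *ᵥ v) = _ *ᵥ (aeval S (f : F[X]) *ᵥ v)
  have hcf : Commute J (aeval S (f : F[X])) := Algebra.commute_of_mem_adjoin_singleton_of_commute
    (Polynomial.aeval_mem_adjoin_singleton F S) hc
  rw [Matrix.mulVec_mulVec, hcf.eq, ← Matrix.mulVec_mulVec, ← hg]
  show aeval S (f : F[X]) *ᵥ (aeval S (g : F[X]) *ᵥ v) = _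
  rw [Matrix.mulVec_mulVec, Matrix.mulVec_mulVec, ← map_mul, ← map_mul, mul_comm]

variable {p : ℕ} [hp : Fact p.Prime] [CharP F p] {q r : ℕ}

include hp in
/-- An element of odd prime order moving as little as possible. -/
theorem exists_sample (hq : Fintype.card F = q) (hr : r.Prime) (hr2 : r ≠ 2) (hrp : r ≠ p) {j : ℕ} (hj1 : 1 ≤ j)
    (hjd : j ≤ d) (hj : (q : ZMod r) ^ (2 * j) = 1) :
    ∃ (a : ℕ) (z : Matrix.symplecticGroup (Fin d) F), 1 ≤ a ∧ a ∣ j ∧ 2 * a + 1 ≤ r ∧ z ^ r = 1 ∧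
      (∀ c : F, (z : Mat) ≠ c • (1 : Mat)) ∧
      (∃ U : Submodule F (Fin d ⊕ Fin d → F), finrank F U = 2 * (d - a) ∧ ∀ v ∈ U, (z : Mat) *ᵥ v = v) ∧
      ∀ J : Mat, (∀ u v, Cfsg.sympForm d F (J *ᵥ u) v = Cfsg.sympForm d F u (J *ᵥ v)) →
        (z : Mat) * J = J * (z : Mat) → ∃ v ≠ 0, J ^ (q ^ a) *ᵥ v = J *ᵥ v := by
  classical
  haveI := Fact.mk hr
  obtain ⟨t, D, X'⟩ := exists_ctx (p := p) hq hr hr2 hrp (rfl : orderOf (q : ZMod r) = _)
  set i := orderOf (q : ZMod r) with hidef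
  have hipos := X'.i_pos
  have hir : i ∣ r - 1 := ⟨t, by rw [mul_comm]; exact X'.mul.symm⟩
  have hij : i ∣ 2 * j := orderOf_dvd_iff_pow_eq_one.2 hj
  obtain ⟨a, ha1, haj, hua, hsign⟩ : ∃ a, 1 ≤ a ∧ a ∣ j ∧ unitDim i = 2 * a ∧
      ((q : ZMod r) ^ a = 1 ∨ (q : ZMod r) ^ a = -1) := by
    rcases Nat.even_or_odd i with ⟨w, hw⟩ | ho
    · refine ⟨w, by omega, Nat.dvd_of_mul_dvd_mul_left two_pos (by rwa [two_mul w, ← hw]),
        by rw [unitDim_even (Nat.not_odd_iff_even.2 ⟨w, hw⟩)]; omega, sq_eq_one_iff.1 ?_⟩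
      rw [← pow_mul, show w * 2 = i by omega]
      exact pow_orderOf_eq_one _
    · exact ⟨i, hipos, (Nat.coprime_two_right.2 ho).dvd_of_dvd_mul_left hij, unitDim_odd ho,
        Or.inl (pow_orderOf_eq_one _)⟩
  have har : 2 * a + 1 ≤ r := by
    have h1 : unitDim i ∣ r - 1 := by
      rcases Nat.even_or_odd i with he | ho
      · rwa [unitDim_even (Nat.not_odd_iff_even.2 he)]
      · rw [unitDim_odd ho]
        exact (Nat.coprime_two_left.2 ho).mul_dvd_of_dvd_of_dvd (by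
          obtain ⟨c, hc⟩ := hr.odd_of_ne_two hr2
          exact ⟨c, by omega⟩) hir
    have := Nat.le_of_dvd (by have := hr.two_le; omega) h1
    omega
  have had : a ≤ d := (Nat.le_of_dvd (by omega) haj).trans hjd
  obtain ⟨P, hP⟩ : D.Nonempty := Finset.card_pos.mp (X'.facts.card.symm ▸ X'.t_pos)
  obtain ⟨hτ, hττ⟩ := X'.facts.tmem P hP
  obtain ⟨hPm, hPi, hPd⟩ := X'.facts.mem P hP
  obtain ⟨hTm, hTi, hTd⟩ := X'.facts.mem _ hτ
  have hirr : ∀ {A Q : F[X]}, Irreducible Q → Q.Monic → A ∈ D → Q ∣ A → Q = A := fun {A Q} hQ hQm hA hd =>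
    eq_of_monic_of_associated hQm (X'.facts.mem A hA).1 (hQ.associated_of_dvd (X'.facts.mem A hA).2.1 hd)
  obtain ⟨u, hu, hud, husq⟩ : ∃ u, Free D u ∧ u.natDegree = unitDim i ∧ Squarefree u := by
    by_cases ho : Odd i
    · have hne : τ P ≠ P := fun e => (X'.facts.self P hP).1 e ho
      refine ⟨P * τ P, ⟨hPm.mul hTm, by rw [tw_mul, hττ, mul_comm], fun Q hQ hQm hd => ?_⟩, ?_, ?_⟩
      · rcases hQ.prime.dvd_or_dvd hd with hd | hd
        exacts [hirr hQ hQm hP hd ▸ hP, hirr hQ hQm hτ hd ▸ hτ]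
      · rw [hPm.natDegree_mul hTm, hPd, hTd, unitDim_odd ho]; ring
      · exact squarefree_mul_iff.2 ⟨(hPi.coprime_iff_not_dvd.2 fun h =>
          hne (hirr hPi hPm hτ h).symm).isRelPrime, hPi.squarefree, hTi.squarefree⟩
    · exact ⟨P, ⟨hPm, (X'.facts.self P hP).mpr ho, fun Q hQ hQm hd => hirr hQ hQm hP hd ▸ hP⟩,
        by rw [hPd, unitDim_even ho], hPi.squarefree⟩
  obtain ⟨y, hy, hcy⟩ := Sp.exists_of_shaped X' (d := a) (f := u) (e := 0) (K := 1)
    ⟨u, by rw [pow_zero, one_mul], hu, by rw [hud, mul_one]⟩ (by rw [zero_add, mul_one, hua])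
  set S := (y : Matrix (Fin a ⊕ Fin a) (Fin a ⊕ Fin a) F) with hSdef
  have hmin : minpoly F S = Sp.cp y := by
    refine (eq_of_monic_of_dvd_of_natDegree_le (minpoly.monic (Matrix.isIntegral S)) (Matrix.charpoly_monic _)
      (Matrix.minpoly_dvd_charpoly S) (natDegree_le_of_dvd ?_ (minpoly.ne_zero (Matrix.isIntegral S)))).symm
    show Sp.cp y ∣ minpoly F S
    rw [hcy]
    exact Cfsg.Agent.S5976.sq_dvd hu.monic.ne_zero husq fun Q hQ hQu => by
      haveI := Fact.mk hQ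
      exact SemisimpleClasses.dvd_of_dvd_charpoly S (hQu.trans hcy.symm.dvd) (minpoly.aeval F S)
  obtain ⟨z, e, hz, -, hiso, hint⟩ := Sp.exists_std (d := d) (r := r) ((symp_sb F a).prod (symp_sb F (d - a)))
    (by rw [Module.finrank_prod, Sp.finrank_std, Sp.finrank_std]; omega)
    (LinearMap.prodMap (Sp.lin y) LinearMap.id)
    (fun x w => by
      simp only [prodForm_apply, LinearMap.prodMap_apply, LinearMap.id_apply]
      rw [show sb F a (Sp.lin y x.1) (Sp.lin y w.1) = sb F a x.1 w.1 from app_isometry y _ _])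
    (Sp.prodMap_pow_one (Sp.lin_pow y hy) (one_pow r))
  have hint' : ∀ v w, (z : Mat) *ᵥ e (v, w) = e (S *ᵥ v, w) := fun v w => hint (v, w)
  have hSr : S ^ r = 1 := by rw [hSdef, ← SubmonoidClass.coe_pow, hy]; rfl
  have hfix : ∀ v, (S *ᵥ v = v) → v = 0 := fun v hv => by
    by_contra hv0
    refine hu.eval_one X'.facts ?_
    rw [← hcy, Sp.cp, Matrix.eval_charpoly, Matrix.scalar_apply, Matrix.diagonal_one]
    exact Matrix.exists_mulVec_eq_zero_iff.1 ⟨v, hv0, by rw [Matrix.sub_mulVec, Matrix.one_mulVec, hv, sub_self]⟩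
  refine ⟨a, z, ha1, haj, har, hz, fun c hc => ?_, ?_, fun J hJ hcom => ?_⟩
  · have hS1 : ∀ v, S *ᵥ v = c • v := fun v => by
      have h1 := hint' v 0
      rw [hc, Matrix.smul_mulVec, Matrix.one_mulVec, ← map_smul] at h1
      exact congrArg Prod.fst (e.injective h1.symm)
    have hSc : S = c • 1 := Matrix.ext_iff_mulVec.2 fun v => by rw [hS1, Matrix.smul_mulVec, Matrix.one_mulVec]
    have hdvd : minpoly F S ∣ Polynomial.X - Polynomial.C c := minpoly.dvd F S (by
      rw [map_sub, aeval_X, aeval_C, hSc, Algebra.algebraMap_eq_smul_one, sub_self])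
    have := natDegree_le_of_dvd hdvd (X_sub_C_ne_zero c)
    rw [hmin, hcy, hud, hua, natDegree_X_sub_C] at this
    omega
  · refine ⟨LinearMap.range (e.toLinearMap ∘ₗ LinearMap.inr F _ _), ?_, ?_⟩
    · rw [LinearMap.finrank_range_of_inj (f := e.toLinearMap ∘ₗ LinearMap.inr F _ _)
        (fun v w h => congrArg Prod.snd (e.injective h)), Sp.finrank_std]
    · rintro _ ⟨w, rfl⟩
      show (z : Mat) *ᵥ e (0, w) = e (0, w)
      rw [hint', Matrix.mulVec_zero]
  · let ι : (Fin a ⊕ Fin a → F) →ₗ[F] (Fin d ⊕ Fin d → F) := e.toLinearMap ∘ₗ LinearMap.inl F _ _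
    let J' : End F (Fin a ⊕ Fin a → F) := LinearMap.fst F _ _ ∘ₗ e.symm.toLinearMap ∘ₗ Matrix.toLin' J ∘ₗ ι
    have hker : Function.Injective (Sp.lin y - (1 : End F (Fin a ⊕ Fin a → F))) :=
      LinearMap.ker_eq_bot.1 (LinearMap.ker_eq_bot'.2 fun v hv => hfix v (sub_eq_zero.1 hv))
    have hJ' : ∀ v, J *ᵥ e (v, 0) = e (J' v, 0) := fun v => by
      obtain ⟨w, rfl⟩ := (LinearMap.injective_iff_surjective.1 hker) v
      have h0 : e ((Sp.lin y - (1 : End F (Fin a ⊕ Fin a → F))) w, 0) = (z : Mat) *ᵥ e (w, 0) - e (w, 0) := by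
        rw [hint', ← map_sub, Prod.mk_sub_mk, sub_zero]; rfl
      have h1 : J *ᵥ e ((Sp.lin y - (1 : End F (Fin a ⊕ Fin a → F))) w, 0) =
          e ((Sp.lin y - (1 : End F (Fin a ⊕ Fin a → F))) (e.symm (J *ᵥ e (w, 0))).1, 0) := by
        rw [h0, Matrix.mulVec_sub, Matrix.mulVec_mulVec, ← hcom, ← Matrix.mulVec_mulVec]
        obtain ⟨x, hx⟩ := e.surjective (J *ᵥ e (w, 0))
        rw [← hx, e.symm_apply_apply, show x = (x.1, x.2) from rfl, hint', ← map_sub, Prod.mk_sub_mk, sub_self]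
        rfl
      show _ = e ((e.symm (J *ᵥ e ((Sp.lin y - (1 : End F (Fin a ⊕ Fin a → F))) w, 0))).1, 0)
      rw [h1, e.symm_apply_apply]
    set J₁ := LinearMap.toMatrix' J' with hJ₁
    have hJ₁a : ∀ v, J₁ *ᵥ v = J' v := fun v => by rw [hJ₁, ← Matrix.toLin'_apply, Matrix.toLin'_toMatrix']
    have hsa : ∀ v w, Cfsg.sympForm a F (J₁ *ᵥ v) w = Cfsg.sympForm a F v (J₁ *ᵥ w) := fun v w => by
      have h1 := hJ (e (v, 0)) (e (w, 0))
      simp only [← sb_apply, hJ', hiso (_, _) (_, _), prodForm_apply, map_zero, add_zero] at h1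
      simp only [← sb_apply, hJ₁a]
      exact h1
    have hcS : Commute J₁ S := Matrix.ext_iff_mulVec.2 fun v => by
      have h1 := congrArg (fun M => M *ᵥ e (v, 0)) hcom
      simp only [← Matrix.mulVec_mulVec, hJ', hint'] at h1
      simp only [← Matrix.mulVec_mulVec, hJ₁a]
      exact (congrArg Prod.fst (e.injective h1)).symm
    obtain ⟨g, hg⟩ := exists_aeval_of_commute (by rw [hmin, hcy]; exact husq)
      (by rw [hmin, Sp.cp, Matrix.charpoly_natDegree_eq_dim]) hcS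
    have hmod : ∀ m n : ℕ, (m : ZMod r) = n → S ^ m = S ^ n := fun m n e => by
      rw [pow_eq_pow_mod m hSr, pow_eq_pow_mod n hSr, (ZMod.natCast_eq_natCast_iff' _ _ _).1 e]
    have hpow : J₁ ^ (q ^ a) = J₁ := by
      rw [hg, Cfsg.Agent.S5976.pow_card_pow hq]
      rcases hsign with hs | hs
      · rw [hmod (q ^ a) 1 (by push_cast; exact hs), pow_one]
      · rw [hmod (q ^ a) (r - 1) (by rw [Nat.cast_sub hr.one_le]; push_cast; rw [hs, ZMod.natCast_self, zero_sub])]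
        refine Matrix.ext_iff_mulVec.2 fun w => sub_eq_zero.1 (eq_zero_of_f _ fun u => ?_)
        rw [f_swap, neg_eq_zero, f_sub_right, ← Cfsg.Agent.S5976.adjoint_aeval y hr.one_le hy, ← hg, hsa,
          sub_self]
    have hpw : ∀ (n : ℕ) v, J ^ n *ᵥ e (v, 0) = e ((J₁ ^ n) *ᵥ v, 0) := by
      intro n
      induction n with
      | zero => intro v; simp
      | succ n ih => intro v; rw [pow_succ, pow_succ, ← Matrix.mulVec_mulVec, hJ', ih, ← hJ₁a, Matrix.mulVec_mulVec]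
    obtain ⟨v, hv⟩ : ∃ v : Fin a ⊕ Fin a → F, v ≠ 0 := by
      haveI : Nonempty (Fin a ⊕ Fin a) := ⟨Sum.inl ⟨0, ha1⟩⟩
      exact exists_ne 0
    refine ⟨e (v, 0), fun h => hv (congrArg Prod.fst (e.injective (h.trans (map_zero e).symm))), ?_⟩
    rw [hpw, hpow, hJ', hJ₁a]

end CfsgLib.Derange.SpK
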