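import Cfsg.Agent.Lib.Classical.SympLagrangian
import Cfsg.Agent.Lib.Classical.SympClasses

/-!
Frames of isotropic subspaces of the standard symplectic space, and embedded groups of isometries.
-/

set_option autoImplicit false
set_option linter.style.haveILetI false

namespace CfsgLib.Derange.Sp

open Module Matrix CfsgLib.SympCount CfsgLib.Classical CfsgLib.Classical.SympTrans CfsgLib.Classical.SympClasses

universe u

variable {F : Type u} [Field F]

local notation "G" d => Matrix.symplecticGroup (Fin d) F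

/-- A partial symplectic basis extends to an isometry. -/
theorem frame_iso {d m : ℕ} (w f : Fin m → Fin d ⊕ Fin d → F)
    (hwf : ∀ i j, sb F d (w i) (f j) = if i = j then 1 else 0) (hww : ∀ i j, sb F d (w i) (w j) = 0)
    (hff : ∀ i j, sb F d (f i) (f j) = 0) :
    ∃ b, m + b = d ∧ ∃ e : (((Fin m → F) × (Fin m → F)) × (Fin b ⊕ Fin b → F)) ≃ₗ[F] (Fin d ⊕ Fin d → F),
      IsIsometry (sb F d) (prodForm (lagForm F m) (sb F b)) e ∧
        ∀ x y, e ((x, y), 0) = ∑ i, x i • w i + ∑ i, y i • f i := by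
  classical
  set B := sb F d with hB
  let ρ : ((Fin m → F) × (Fin m → F)) →ₗ[F] (Fin d ⊕ Fin d → F) :=
    (Fintype.linearCombination F w).coprod (Fintype.linearCombination F f)
  have hρ : ∀ z, ρ z = ∑ i, z.1 i • w i + ∑ i, z.2 i • f i := fun z => by
    simp [ρ, LinearMap.coprod_apply, Fintype.linearCombination_apply]
  have hfw : ∀ i j, B (f i) (w j) = if i = j then (-1 : F) else 0 := fun i j => by
    rw [← (symp_sb F d).alt.neg_eq, hwf]
    rcases eq_or_ne i j with rfl | h
    · simp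
    · simp [h, Ne.symm h]
  have hρB : ∀ z z', B (ρ z) (ρ z') = lagForm F m z z' := fun z z' => by
    rw [hρ, hρ, lagForm_apply]
    simp only [map_add, map_sum, map_smul, LinearMap.add_apply, LinearMap.sum_apply, LinearMap.smul_apply,
      smul_eq_mul, hwf, hww, hff, hfw, mul_zero, Finset.sum_const_zero, zero_add, add_zero, mul_ite, mul_neg,
      mul_one, Finset.sum_ite_eq, Finset.sum_ite_eq', Finset.mem_univ, if_true, dotProduct]
    rw [sub_eq_add_neg, ← Finset.sum_neg_distrib]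
    simp only [← Finset.sum_add_distrib, ← Finset.sum_neg_distrib]
    exact Finset.sum_congr rfl fun i _ => by ring
  have hρi : Function.Injective ρ := LinearMap.ker_eq_bot.1 (LinearMap.ker_eq_bot'.2 fun z hz =>
    (lagForm_symp (F := F) m).nd z fun z' => by rw [← hρB, hz, map_zero, LinearMap.zero_apply])
  set U := LinearMap.range ρ
  have hUn : ∀ u ∈ U, (∀ v ∈ U, B u v = 0) → u = 0 := by
    rintro _ ⟨z, rfl⟩ h
    rw [(lagForm_symp (F := F) m).nd z fun z' => (hρB z z').symm.trans (h _ ⟨z', rfl⟩), map_zero]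
  have hrefl : B.IsRefl := (symp_sb F d).alt.isRefl
  set M := B.orthogonal U
  have hc : IsCompl U M := (LinearMap.BilinForm.isCompl_orthogonal_iff_disjoint hrefl).2
    (Submodule.disjoint_def.2 fun u hu hu' => hUn u hu fun v hv =>
      hrefl v u (LinearMap.BilinForm.mem_orthogonal_iff.1 hu' v hv))
  obtain ⟨-, hSM⟩ := (symp_sb F d).restrict hc fun k hk v hv =>
    hrefl k v (LinearMap.BilinForm.mem_orthogonal_iff.1 hv k hk)
  obtain ⟨b, hb⟩ := SympCount.even_finrank hSM
  obtain ⟨ψ, hψ⟩ := exists_isometry hSM (symp_sb F b) (by rw [hb, Module.finrank_pi]; simp; ring)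
  have hU : finrank F U = m + m := by
    rw [LinearMap.finrank_range_of_inj hρi, Module.finrank_prod, Module.finrank_fin_fun]
  refine ⟨b, ?_, ?_⟩
  · have := Submodule.finrank_add_eq_of_isCompl hc
    rw [hU, hb, Module.finrank_pi] at this
    simp at this
    omega
  refine ⟨((LinearEquiv.ofInjective ρ hρi).prodCongr ψ).trans (Submodule.prodEquivOfIsCompl U M hc),
    fun x y => ?_, fun x y => ?_⟩
  · show B (ρ x.1 + (ψ x.2 : Fin d ⊕ Fin d → F)) (ρ y.1 + (ψ y.2 : Fin d ⊕ Fin d → F)) = _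
    have h1 : ∀ (z) (v : M), B (ρ z) v = 0 := fun z v =>
      LinearMap.BilinForm.mem_orthogonal_iff.1 v.2 _ ⟨z, rfl⟩
    rw [map_add, map_add, LinearMap.add_apply, LinearMap.add_apply, hρB, h1,
      hrefl _ _ (h1 y.1 (ψ x.2)), add_zero, zero_add, prodForm_apply]
    exact congrArg _ (hψ x.2 y.2)
  · show ρ (x, y) + (ψ 0 : Fin d ⊕ Fin d → F) = _
    rw [map_zero, ZeroMemClass.coe_zero, add_zero, hρ]

/-- Vectors of a complement dual to a basis of a subspace. -/
theorem exists_dual {d m : ℕ} {W C : Submodule F (Fin d ⊕ Fin d → F)} (hd : finrank F W = m)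
    (hWs : ∀ u ∈ W, ∀ v ∈ W, sb F d u v = 0) (hcd : finrank F C = m)
    (hnd : ∀ c ∈ C, (∀ w ∈ W, sb F d c w = 0) → c = 0) :
    ∃ (w f : Fin m → Fin d ⊕ Fin d → F), Submodule.span F (Set.range w) = W ∧ (∀ j, f j ∈ C) ∧
      (∀ i j, sb F d (w i) (f j) = if i = j then 1 else 0) ∧ ∀ i j, sb F d (w i) (w j) = 0 := by
  classical
  let b := Module.finBasisOfFinrankEq F W hd
  let ψ : C →ₗ[F] (Fin m → F) :=
    LinearMap.pi fun i => ((sb F d) (b i : Fin d ⊕ Fin d → F)).comp C.subtype
  have hψ : Function.Injective ψ := LinearMap.ker_eq_bot.1 (LinearMap.ker_eq_bot'.2 fun c hc =>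
    Subtype.ext (hnd c c.2 fun w hw => by
      have h0 : ((sb F d).flip (c : Fin d ⊕ Fin d → F)).domRestrict W = 0 := b.ext fun i => congrFun hc i
      exact (symp_sb F d).alt.isRefl _ _ (LinearMap.congr_fun h0 ⟨w, hw⟩)))
  have hψs : Function.Surjective ψ := (LinearMap.injective_iff_surjective_of_finrank_eq_finrank
    (by rw [hcd, Module.finrank_fin_fun])).1 hψ
  choose f hf using fun j : Fin m => hψs (Pi.single j 1)
  refine ⟨fun i => b i, fun j => f j, ?_, fun j => (f j).2, fun i j => ?_, fun i j => hWs _ (b i).2 _ (b j).2⟩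
  · rw [show (fun i => (b i : Fin d ⊕ Fin d → F)) = W.subtype ∘ b from rfl, Set.range_comp, ← Submodule.map_span,
      b.span_eq, Submodule.map_top, Submodule.range_subtype]
  · exact (congrFun (hf j) i).trans (Pi.single_apply j 1 i)

/-- An isotropic subspace has a frame. -/
theorem exists_frame {d m : ℕ} {W : Submodule F (Fin d ⊕ Fin d → F)} (hd : finrank F W = m)
    (hWs : ∀ u ∈ W, ∀ v ∈ W, sb F d u v = 0) :
    ∃ b, m + b = d ∧ ∃ e : (((Fin m → F) × (Fin m → F)) × (Fin b ⊕ Fin b → F)) ≃ₗ[F] (Fin d ⊕ Fin d → F),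
      IsIsometry (sb F d) (prodForm (lagForm F m) (sb F b)) e ∧
        W = LinearMap.range (e.toLinearMap ∘ₗ LinearMap.inl F _ _ ∘ₗ LinearMap.inl F _ _) := by
  classical
  obtain ⟨C, hC⟩ := Submodule.exists_isCompl ((sb F d).orthogonal W)
  have hnd' : (sb F d).Nondegenerate :=
    ⟨(symp_sb F d).nd, fun v h => (symp_sb F d).nd v fun w => (symp_sb F d).alt.isRefl w v (h w)⟩
  have hcd : finrank F C = m := by
    have h1 := Submodule.finrank_add_eq_of_isCompl hC
    have h3 : finrank F ↥((sb F d).orthogonal W) = _ := LinearMap.BilinForm.finrank_orthogonal hnd' W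
    have h4 := Submodule.finrank_le W
    rw [hd] at h3 h4
    omega
  obtain ⟨w, f, hw, hf, hwf, hww⟩ := exists_dual hd hWs hcd fun c hc h =>
    Submodule.disjoint_def.1 hC.disjoint c (LinearMap.BilinForm.mem_orthogonal_iff.2 fun v hv =>
      (symp_sb F d).alt.isRefl _ _ (h v hv)) hc
  set B := sb F d with hB
  let a : Fin m → Fin m → F := fun j k => if j < k then B (f j) (f k) else 0
  let f' : Fin m → Fin d ⊕ Fin d → F := fun k => f k + ∑ i, a i k • w i
  have hfw : ∀ i j, B (f i) (w j) = if i = j then (-1 : F) else 0 := fun i j => by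
    rw [← (symp_sb F d).alt.neg_eq, hwf]
    rcases eq_or_ne i j with rfl | h
    · simp
    · simp [h, Ne.symm h]
  have h1 : ∀ i j, B (w i) (f' j) = if i = j then 1 else 0 := fun i j => by
    simp [f', map_add, map_sum, hww, hwf]
  have h3 : ∀ j k, B (f' j) (f' k) = 0 := fun j k => by
    simp only [f', map_add, map_sum, map_smul, LinearMap.add_apply, LinearMap.sum_apply, LinearMap.smul_apply,
      smul_eq_mul, hfw, hwf, hww, mul_zero, Finset.sum_const_zero, add_zero, mul_ite, mul_one,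
      mul_neg, Finset.sum_ite_eq, Finset.sum_ite_eq', Finset.mem_univ, if_true]
    rcases lt_trichotomy j k with h | rfl | h
    · simp [a, h, h.not_gt]
    · simp [a, (symp_sb F d).alt (f j), hB]
    · have := (symp_sb F d).alt.neg_eq (f j) (f k)
      simp [a, h, h.not_gt, hB, ← this]
  obtain ⟨b, hb, e, he, hee⟩ := frame_iso w f' h1 hww h3
  refine ⟨b, hb, e, he, le_antisymm ?_ ?_⟩
  · rw [← hw]
    refine Submodule.span_le.2 ?_
    rintro _ ⟨i, rfl⟩
    refine ⟨Pi.single i 1, ?_⟩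
    show e ((Pi.single i 1, 0), 0) = w i
    rw [hee]
    simp [Pi.single_apply, ite_smul]
  · rintro _ ⟨x, rfl⟩
    show e ((x, 0), 0) ∈ W
    rw [hee]
    simp only [Pi.zero_apply, zero_smul, Finset.sum_const_zero, add_zero]
    exact W.sum_mem fun i _ => W.smul_mem _ (hw ▸ Submodule.subset_span ⟨i, rfl⟩)

/-- A pair of complementary isotropic subspaces has a frame. -/
theorem exists_frame_pair {d : ℕ} {U W : Submodule F (Fin d ⊕ Fin d → F)} (hc : IsCompl U W)
    (hU : ∀ u ∈ U, ∀ v ∈ U, sb F d u v = 0) (hW : ∀ u ∈ W, ∀ v ∈ W, sb F d u v = 0) :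
    ∃ e : (((Fin d → F) × (Fin d → F)) × (Fin 0 ⊕ Fin 0 → F)) ≃ₗ[F] (Fin d ⊕ Fin d → F),
      IsIsometry (sb F d) (prodForm (lagForm F d) (sb F 0)) e ∧
        U = LinearMap.range (e.toLinearMap ∘ₗ LinearMap.inl F _ _ ∘ₗ LinearMap.inl F _ _) ∧
        W = LinearMap.range (e.toLinearMap ∘ₗ LinearMap.inl F _ _ ∘ₗ LinearMap.inr F _ _) := by
  classical
  have hnd : ∀ {A C : Submodule F (Fin d ⊕ Fin d → F)}, IsCompl A C → (∀ u ∈ C, ∀ v ∈ C, sb F d u v = 0) →
      ∀ c ∈ C, (∀ w ∈ A, sb F d c w = 0) → c = 0 := fun {A C} hAC hC c hc h => (symp_sb F d).nd c fun z => by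
    obtain ⟨x, hx, y, hy, rfl⟩ := Submodule.mem_sup.1 (hAC.sup_eq_top ▸ Submodule.mem_top (x := z))
    rw [map_add, h x hx, hC c hc y hy, add_zero]
  have hhalf : ∀ {A : Submodule F (Fin d ⊕ Fin d → F)}, (∀ u ∈ A, ∀ v ∈ A, sb F d u v = 0) → finrank F A ≤ d := by
    intro A hA
    obtain ⟨b, hb, -⟩ := exists_frame rfl hA
    omega
  have hsum := Submodule.finrank_add_eq_of_isCompl hc
  rw [Module.finrank_pi, Fintype.card_sum, Fintype.card_fin] at hsum
  have hUd : finrank F U = d := by have := hhalf hU; have := hhalf hW; omega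
  obtain ⟨w, f, hw, hf, hwf, hww⟩ := exists_dual hUd hU (by omega : finrank F W = d) (hnd hc hW)
  obtain ⟨b, hb, e, he, hee⟩ := frame_iso w f hwf hww fun i j => hW _ (hf i) _ (hf j)
  obtain rfl : b = 0 := by omega
  have hinj1 : Function.Injective (e.toLinearMap ∘ₗ LinearMap.inl F _ (Fin 0 ⊕ Fin 0 → F) ∘ₗ
      LinearMap.inl F (Fin d → F) (Fin d → F)) := e.injective.comp (LinearMap.inl_injective.comp LinearMap.inl_injective)
  have hinj2 : Function.Injective (e.toLinearMap ∘ₗ LinearMap.inl F _ (Fin 0 ⊕ Fin 0 → F) ∘ₗ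
      LinearMap.inr F (Fin d → F) (Fin d → F)) := e.injective.comp (LinearMap.inl_injective.comp LinearMap.inr_injective)
  refine ⟨e, he, (Submodule.eq_of_le_of_finrank_eq ?_ ?_).symm, (Submodule.eq_of_le_of_finrank_eq ?_ ?_).symm⟩
  · rintro _ ⟨x, rfl⟩
    show e ((x, 0), 0) ∈ U
    rw [hee]
    simp only [Pi.zero_apply, zero_smul, Finset.sum_const_zero, add_zero]
    exact U.sum_mem fun i _ => U.smul_mem _ (hw ▸ Submodule.subset_span ⟨i, rfl⟩)
  · rw [LinearMap.finrank_range_of_inj hinj1, Module.finrank_fin_fun, hUd]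
  · rintro _ ⟨x, rfl⟩
    show e ((0, x), 0) ∈ W
    rw [hee]
    simp only [Pi.zero_apply, zero_smul, Finset.sum_const_zero, zero_add]
    exact W.sum_mem fun i _ => W.smul_mem _ (hf i)
  · rw [LinearMap.finrank_range_of_inj hinj2, Module.finrank_fin_fun]; omega

/-- Isometries of an isometric model, as elements. -/
theorem exists_embed {d : ℕ} {V : Type u} [AddCommGroup V] [Module F V] {B : LinearMap.BilinForm F V}
    (e : V ≃ₗ[F] (Fin d ⊕ Fin d → F)) (he : IsIsometry (sb F d) B e) {H : Type*} [Monoid H]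
    (ρ : H →* End F V) (hρ : ∀ h x y, B (ρ h x) (ρ h y) = B x y) :
    ∃ φ : H →* (G d), (∀ h v, Matrix.toLin' ((φ h : G d) : Matrix (Fin d ⊕ Fin d) (Fin d ⊕ Fin d) F) (e v) = e (ρ h v)) ∧
      (Function.Injective ρ → Function.Injective φ) := by
  have hmem : ∀ h, LinearMap.toMatrix' (e.conj (ρ h)) ∈ Matrix.symplecticGroup (Fin d) F := fun h =>
    mem_iff_f.2 fun u v => by
      rw [← Matrix.toLin'_apply, ← Matrix.toLin'_apply, Matrix.toLin'_toMatrix', ← sb_apply, ← sb_apply]
      show sb F d (e (ρ h (e.symm u))) (e (ρ h (e.symm v))) = _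
      rw [he, hρ, ← he, e.apply_symm_apply, e.apply_symm_apply]
  refine ⟨{ toFun := fun h => ⟨_, hmem h⟩, map_one' := Subtype.ext ?_, map_mul' := fun a b => Subtype.ext ?_ },
    fun h v => ?_, fun hi a b hab => hi ?_⟩
  · show LinearMap.toMatrix' (e.conj (ρ 1)) = 1
    rw [map_one, show e.conj (1 : End F V) = 1 from map_one e.conjRingEquiv]
    exact LinearMap.toMatrix'_one
  · show LinearMap.toMatrix' (e.conj (ρ (a * b))) = LinearMap.toMatrix' (e.conj (ρ a)) * LinearMap.toMatrix' (e.conj (ρ b))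
    rw [map_mul, ← LinearMap.toMatrix'_mul, show e.conj (ρ a * ρ b) = e.conj (ρ a) * e.conj (ρ b) from
      map_mul e.conjRingEquiv _ _]
  · show Matrix.toLin' (LinearMap.toMatrix' (e.conj (ρ h))) (e v) = _
    rw [Matrix.toLin'_toMatrix', LinearEquiv.conj_apply_apply, e.symm_apply_apply]
  · have h1 := congrArg (fun z : G d => ((z : Matrix (Fin d ⊕ Fin d) (Fin d ⊕ Fin d) F))) hab
    exact e.conj.injective (LinearMap.toMatrix'.injective h1)

end CfsgLib.Derange.Sp
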