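import Cfsg.Agent.Lib.Derange.SympReal
import Cfsg.Agent.Lib.Derange.SympArith

/-!
Elements of odd prime order of the projective symplectic group.
-/

set_option autoImplicit false
set_option linter.style.haveILetI false

namespace CfsgLib.Derange.Sp

open Polynomial Module Matrix CfsgLib.SympCount CfsgLib.Classical CfsgLib.Classical.SympTrans CfsgLib.Classical.SympClasses
open CfsgLib.Classical.UnitaryTwistPoly CfsgLib.Classical.OrthPrimeFactors CfsgLib.Classical.OrthPrimeReal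

universe u

variable {F : Type u} [Field F]

local notation "G" d => Matrix.symplecticGroup (Fin d) F

/-- A scalar symplectic matrix squares to one. -/
theorem scalar_sq {d : ℕ} (hd : 0 < d) (y : G d) {z : F}
    (hz : (y : Matrix (Fin d ⊕ Fin d) (Fin d ⊕ Fin d) F) = z • 1) : z * z = 1 := by
  classical
  have h := SymplecticGroup.mem_iff.1 y.2
  rw [hz, Matrix.transpose_smul, Matrix.transpose_one, Matrix.smul_mul, Matrix.one_mul, Matrix.mul_smul, Matrix.mul_one,
    smul_smul] at h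
  have h1 := congrFun (congrFun h (Sum.inl ⟨0, hd⟩)) (Sum.inr ⟨0, hd⟩)
  simp [Matrix.J] at h1
  exact h1

/-- Up to sign, an element of odd order modulo scalars has that order. -/
theorem exists_sign {d r : ℕ} (hd : 0 < d) (hr : Odd r) (x : G d)
    (hx1 : ∃ z : F, ((x ^ r : G d) : Matrix (Fin d ⊕ Fin d) (Fin d ⊕ Fin d) F) = z • 1)
    (hx2 : ∀ z : F, (x : Matrix (Fin d ⊕ Fin d) (Fin d ⊕ Fin d) F) ≠ z • 1) :
    ∃ y : G d, y ^ r = 1 ∧ y ≠ 1 ∧ ∃ s : F, s * s = 1 ∧ ∀ v, lin x v = s • lin y v := by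
  obtain ⟨z, hz⟩ := hx1
  have hzz := scalar_sq hd _ hz
  have hmem : z • (x : Matrix (Fin d ⊕ Fin d) (Fin d ⊕ Fin d) F) ∈ Matrix.symplecticGroup (Fin d) F := by
    rw [SymplecticGroup.mem_iff, Matrix.transpose_smul, Matrix.smul_mul, Matrix.smul_mul, Matrix.mul_smul, smul_smul,
      hzz, one_smul]
    exact SymplecticGroup.mem_iff.1 x.2
  refine ⟨⟨_, hmem⟩, Subtype.ext ?_, fun h => hx2 z ?_, z, hzz, fun v => ?_⟩
  · rw [SubmonoidClass.coe_pow, OneMemClass.coe_one]
    show (z • (x : Matrix (Fin d ⊕ Fin d) (Fin d ⊕ Fin d) F)) ^ r = 1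
    obtain ⟨k, rfl⟩ := hr
    rw [_root_.smul_pow, ← SubmonoidClass.coe_pow, hz, smul_smul,
      show z ^ (2 * k + 1) * z = (z * z) ^ (k + 1) by ring, hzz, one_pow, one_smul]
  · have h1 : z • (x : Matrix (Fin d ⊕ Fin d) (Fin d ⊕ Fin d) F) = 1 := congrArg Subtype.val h
    rw [← h1, smul_smul, hzz, one_smul]
  · show Matrix.toLin' _ v = z • Matrix.toLin' (z • (x : Matrix (Fin d ⊕ Fin d) (Fin d ⊕ Fin d) F)) v
    rw [map_smul, LinearMap.smul_apply, smul_smul, hzz, one_smul]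

variable [Fintype F] {p : ℕ} [hp : Fact p.Prime] [CharP F p] {q r i t : ℕ} {D : Finset F[X]}

include hp in
/-- A non-trivial element has units. -/
theorem units_pos (X' : Ctx F p q r i t D) {d : ℕ} (y : G d) (hy : y ^ r = 1) (hne : y ≠ 1) {e K : ℕ}
    (hs : Shaped i D (cp y) e K) : 0 < K := by
  refine Nat.pos_of_ne_zero fun h => hne ?_
  subst h
  obtain ⟨g, hf, hg, hgd⟩ := hs
  rw [mul_zero] at hgd
  obtain rfl : g = 1 := Polynomial.Monic.natDegree_eq_zero hg.monic |>.1 hgd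
  rw [mul_one] at hf
  have he : e = 2 * d := by
    have h := congrArg Polynomial.natDegree hf
    rw [natDegree_pow, show (Polynomial.X - 1 : F[X]).natDegree = 1 by simpa using natDegree_X_sub_C (1 : F),
      Matrix.charpoly_natDegree_eq_dim, Fintype.card_sum, Fintype.card_fin] at h
    omega
  have hc : cp (1 : G d) = cp y := by
    rw [hf, cp, OneMemClass.coe_one, Matrix.charpoly_one, Fintype.card_sum, Fintype.card_fin, he, two_mul]
  exact isConj_one_right.1 (isConj_of_cp X' 1 y (one_pow r) hy hc)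

include hp in
/-- An element with units is not a scalar. -/
theorem not_scalar (X' : Ctx F p q r i t D) {d : ℕ} (hd : 0 < d) (y : G d) (hy : y ^ r = 1) {e K : ℕ}
    (hK : 0 < K) (hs : Shaped i D (cp y) e K) (z : F) :
    (y : Matrix (Fin d ⊕ Fin d) (Fin d ⊕ Fin d) F) ≠ z • 1 := by
  intro h
  have hzz := scalar_sq hd y h
  have hz1 : z = 1 := by
    have h1 : ((y ^ r : G d) : Matrix (Fin d ⊕ Fin d) (Fin d ⊕ Fin d) F) = 1 := by rw [hy]; rfl
    rw [SubmonoidClass.coe_pow, h, _root_.smul_pow, one_pow] at h1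
    obtain ⟨k, hk⟩ := X'.prime.odd_of_ne_two X'.ne_two
    rw [hk, pow_succ, pow_mul, pow_two, hzz, one_pow, one_mul] at h1
    have h3 := congrFun (congrFun h1 (Sum.inl ⟨0, hd⟩)) (Sum.inl ⟨0, hd⟩)
    simpa using h3
  rw [hz1, one_smul] at h
  have hc : cp y = (Polynomial.X - 1) ^ (2 * d) := by
    rw [cp, h, Matrix.charpoly_one, Fintype.card_sum, Fintype.card_fin, two_mul]
  have h0 : Shaped i D (cp y) (2 * d) 0 := ⟨1, by rw [hc, mul_one], Free.one, by simp⟩
  have := (hs.unique X'.facts h0).2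
  omega

include hp in
/-- The criterion for totally isotropic subspaces. -/
theorem isotropic_iff (X' : Ctx F p q r i t D) {d m : ℕ} (hd : 0 < d) (hmd : m ≤ d) :
    (∀ x : G d, (∃ z : F, ((x ^ r : G d) : Matrix (Fin d ⊕ Fin d) (Fin d ⊕ Fin d) F) = z • 1) →
      (∀ z : F, (x : Matrix (Fin d ⊕ Fin d) (Fin d ⊕ Fin d) F) ≠ z • 1) →
      ∃ W : Submodule F (Fin d ⊕ Fin d → F), finrank F ↥W = m ∧ (∀ u ∈ W, ∀ v ∈ W, Cfsg.sympForm d F u v = 0) ∧
        W.map (Matrix.toLin' (x : Matrix (Fin d ⊕ Fin d) (Fin d ⊕ Fin d) F)) ≤ W) ↔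
    (∀ e K, 0 < K → e + unitDim i * K = 2 * d → ∃ e' A, e' + i * A = m ∧ 2 * e' ≤ e ∧ A ≤ avail i t K) := by
  constructor
  · intro H e K hK he
    obtain ⟨f, hf, hworst⟩ := exists_worst X'.facts X'.t_pos e K
    obtain ⟨y, hy, hc⟩ := exists_of_shaped X' hf he
    obtain ⟨W, hWd, hW, hWx⟩ := H y ⟨1, by rw [hy, one_smul]; rfl⟩ (not_scalar X' hd y hy hK (hc.symm ▸ hf))
    obtain ⟨h, g, e', A, e₂, K₂, hh, hsum, hg, hcp⟩ := shapes_of_isotropic X' y hy hWd
      (fun u hu v hv => (sb_apply u v).trans (hW u hu v hv)) fun v hv => hWx ⟨v, hv, rfl⟩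
    rw [hc] at hcp
    obtain ⟨he2, -⟩ := hf.unique X'.facts (hcp ▸ (hh.facts X'.facts).2.2.2.2.mul hg)
    exact ⟨e', A, hsum, by omega, hworst h g e' A e₂ K₂ hcp hh hg⟩
  · intro H x hx1 hx2
    obtain ⟨y, hy, hne, s, -, hs⟩ := exists_sign hd (X'.prime.odd_of_ne_two X'.ne_two) x hx1 hx2
    obtain ⟨e, K, hsh, hsum⟩ := exists_shaped_cp X' y hy
    obtain ⟨e', A, hm, he', hA⟩ := H e K (units_pos X' y hy hne hsh) hsum
    obtain ⟨h, g, hcp, hh, hg⟩ := hsh.exists_pair X'.facts he' hA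
    have hpu : pairUnits i * A ≤ K := by
      have h1 : avail i t K ≥ A := hA
      rw [pairUnits]
      rw [avail] at h1
      have := X'.t_pos
      split_ifs at h1 ⊢ <;> omega
    have hdim : e - 2 * e' + unitDim i * (K - pairUnits i * A) = 2 * (d - m) := by
      have h1 := unitDim_mul_pairUnits i A
      have h2 : unitDim i * (pairUnits i * A) ≤ unitDim i * K := Nat.mul_le_mul_left _ hpu
      rw [Nat.mul_sub]
      omega
    obtain ⟨W, hWd, hW, hWy⟩ := exists_isotropic X' (show m + (d - m) = d by omega) y hy hh hm hg hdim hcp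
    refine ⟨W, hWd, fun u hu v hv => (sb_apply u v).symm.trans (hW u hu v hv), ?_⟩
    rintro _ ⟨v, hv, rfl⟩
    show lin x v ∈ W
    rw [hs]
    exact W.smul_mem _ (hWy v hv)

include hp in
/-- An element keeping no polar pair. -/
theorem exists_no_pair (X' : Ctx F p q r i t D) {d : ℕ} (hev : Even i) (hid : i ≤ 2 * d) :
    ∃ x : G d, (∃ z : F, ((x ^ r : G d) : Matrix (Fin d ⊕ Fin d) (Fin d ⊕ Fin d) F) = z • 1) ∧
      (∀ z : F, (x : Matrix (Fin d ⊕ Fin d) (Fin d ⊕ Fin d) F) ≠ z • 1) ∧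
      ¬ (∃ U W : Submodule F (Fin d ⊕ Fin d → F), IsCompl U W ∧ (∀ u ∈ U, ∀ v ∈ U, Cfsg.sympForm d F u v = 0) ∧
        (∀ u ∈ W, ∀ v ∈ W, Cfsg.sympForm d F u v = 0) ∧
        ((U.map (lin x) = U ∧ W.map (lin x) = W) ∨ (U.map (lin x) = W ∧ W.map (lin x) = U))) := by
  have hi := X'.i_pos
  have hd : 0 < d := by omega
  have hud : unitDim i = i := unitDim_even (Nat.not_odd_iff_even.2 hev)
  obtain ⟨f, hf, hworst⟩ := exists_worst X'.facts X'.t_pos (2 * d - i) 1
  obtain ⟨x, hx, hc⟩ := exists_of_shaped X' hf (show 2 * d - i + unitDim i * 1 = 2 * d by omega)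
  refine ⟨x, ⟨1, by rw [hx, one_smul]; rfl⟩, not_scalar X' hd x hx one_pos (hc.symm ▸ hf), ?_⟩
  rintro ⟨U, W, hUW, hU, hW, hmap⟩
  have hUm : U.map (lin x) = U := by
    rcases hmap with ⟨h, -⟩ | ⟨h1, h2⟩
    · exact h
    have key : ∀ k, U.map (lin x ^ k) = if Even k then U else W := by
      intro k
      induction k with
      | zero => rw [pow_zero, if_pos Even.zero]; exact Submodule.map_id U
      | succ k ih =>
        rw [pow_succ', Module.End.mul_eq_comp, Submodule.map_comp, ih]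
        by_cases hk : Even k
        · rw [if_pos hk, if_neg (fun h => Nat.even_add_one.1 h hk), h1]
        · rw [if_neg hk, if_pos (Nat.even_add_one.2 hk), h2]
    have h3 := key r
    rw [lin_pow x hx, if_neg (Nat.not_even_iff_odd.2 (X'.prime.odd_of_ne_two X'.ne_two))] at h3
    have hUW' : U = W := (Submodule.map_id U).symm.trans h3
    rw [h1, hUW']
  have hUd : finrank F U = d := by
    have h1 : U ≤ (sb F d).orthogonal U := fun u hu => LinearMap.BilinForm.mem_orthogonal_iff.2 fun v hv =>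
      (sb_apply v u).trans (hU v hv u hu)
    have h2 : W ≤ (sb F d).orthogonal W := fun u hu => LinearMap.BilinForm.mem_orthogonal_iff.2 fun v hv =>
      (sb_apply v u).trans (hW v hv u hu)
    have h3 := Submodule.finrank_mono h1
    have h4 := Submodule.finrank_mono h2
    have h5 : finrank F ((sb F d).orthogonal U) = _ := LinearMap.BilinForm.finrank_orthogonal (sb_nondeg d) U
    have h6 : finrank F ((sb F d).orthogonal W) = _ := LinearMap.BilinForm.finrank_orthogonal (sb_nondeg d) W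
    have h7 := Submodule.finrank_add_eq_of_isCompl hUW
    rw [finrank_std] at h5 h6 h7
    omega
  obtain ⟨h, g, e', A, e₂, K₂, hh, hsum, hg, hcp⟩ := shapes_of_isotropic X' x hx hUd
    (fun u hu v hv => (sb_apply u v).trans (hU u hu v hv)) fun v hv => hUm ▸ ⟨v, hv, rfl⟩
  rw [hc] at hcp
  obtain ⟨he2, hK2⟩ := hf.unique X'.facts (hcp ▸ (hh.facts X'.facts).2.2.2.2.mul hg)
  rw [pairUnits, if_neg (Nat.not_odd_iff_even.2 hev)] at hK2
  obtain rfl : A = 0 := by omega
  omega

end CfsgLib.Derange.Sp
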