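import Cfsg.Agent.Lib.Classical.SympFitting
import Cfsg.Agent.Lib.Classical.NilpotentClasses

/-!
Unipotent symplectic maps split orthogonally into blocks of one or two chains.
-/

set_option autoImplicit false
set_option maxHeartbeats 1000000

namespace CfsgLib.Derange.Sp

open Module CfsgLib.SympCount

universe u

variable {F : Type u} [Field F] {V : Type u} [AddCommGroup V] [Module F V]

/-- The form is non-degenerate on the subspace. -/
def NonD (B : LinearMap.BilinForm F V) (M : Submodule F V) : Prop := ∀ u ∈ M, (∀ v ∈ M, B u v = 0) → u = 0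

/-- The Jordan type of a map on an invariant subspace, through the ranks of its powers. -/
def HasType (N : End F V) (M : Submodule F V) (μ : Multiset ℕ) : Prop :=
  ∀ k, finrank F ↥(M.map (N ^ k)) = (μ.map fun x => x - k).sum

variable {B : LinearMap.BilinForm F V} {g : End F V}

theorem skew_of_symp (hB : Symp B) (x y : V) : B y x = -B x y :=
  (hB.alt.neg_eq x y).symm

theorem isometry_injective (hB : Symp B) (hg : ∀ x y, B (g x) (g y) = B x y) : Function.Injective g := fun x y h =>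
  sub_eq_zero.1 (hB.nd _ fun w => by rw [← hg, map_sub, h, sub_self, map_zero, LinearMap.zero_apply])

theorem HasType.add {N : End F V} [FiniteDimensional F V] {P M' M : Submodule F V} (hdisj : P ⊓ M' = ⊥)
    (hsup : P ⊔ M' = M) (hP : ∀ v ∈ P, N v ∈ P) (hM : ∀ v ∈ M', N v ∈ M') {μ μ' : Multiset ℕ}
    (h : HasType N P μ) (h' : HasType N M' μ') : HasType N M (μ + μ') := fun k => by
  have h1 := Submodule.finrank_sup_add_finrank_inf_eq (P.map (N ^ k)) (M'.map (N ^ k))
  have h2 : P.map (N ^ k) ⊓ M'.map (N ^ k) = ⊥ := le_bot_iff.1 (hdisj ▸ inf_le_inf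
    (by rintro _ ⟨v, hv, rfl⟩; exact Module.End.pow_apply_mem_of_forall_mem k hP v hv)
    (by rintro _ ⟨v, hv, rfl⟩; exact Module.End.pow_apply_mem_of_forall_mem k hM v hv))
  rw [h2, finrank_bot, add_zero, ← Submodule.map_sup, hsup, h k, h' k] at h1
  rw [h1, Multiset.map_add, Multiset.sum_add]

theorem HasType.eq {N : End F V} {M : Submodule F V} {μ μ' : Multiset ℕ} (h : HasType N M μ) (h' : HasType N M μ')
    (hpos : ∀ x ∈ μ, 0 < x) (hpos' : ∀ x ∈ μ', 0 < x) : μ = μ' :=
  NilClasses.multiset_eq_of_sums hpos hpos' fun k => (h k).symm.trans (h' k)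

theorem HasType.finrank {N : End F V} {M : Submodule F V} {μ : Multiset ℕ} (h : HasType N M μ) :
    finrank F M = μ.sum := by
  have h0 := h 0
  rw [pow_zero, Module.End.one_eq_id, Submodule.map_id] at h0
  simpa using h0

/-- The orthogonal of an invariant non-degenerate subspace inside another. -/
theorem exists_split [FiniteDimensional F V] (hB : Symp B) (hg : ∀ x y, B (g x) (g y) = B x y) {P M : Submodule F V}
    (hPM : P ≤ M) (hP : NonD B P) (hPg : ∀ v ∈ P, g v ∈ P) (hM : NonD B M) (hMg : ∀ v ∈ M, g v ∈ M) :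
    ∃ M', M' ≤ M ∧ NonD B M' ∧ (∀ v ∈ M', g v ∈ M') ∧ P ⊓ M' = ⊥ ∧ P ⊔ M' = M ∧
      finrank F M' + finrank F P = finrank F M ∧ ∀ u ∈ P, ∀ v ∈ M', B u v = 0 := by
  have hperp : ∀ v, v ∈ B.orthogonal P ↔ ∀ u ∈ P, B u v = 0 := fun v => LinearMap.BilinForm.mem_orthogonal_iff
  have hdisj : Disjoint P (B.orthogonal P) := Submodule.disjoint_def.2 fun u hu hu' => hP u hu fun v hv => by
    rw [skew_of_symp hB v u, (hperp u).1 hu' v hv, neg_zero]
  have hc : IsCompl P (B.orthogonal P) := (LinearMap.BilinForm.isCompl_orthogonal_iff_disjoint hB.alt.isRefl).2 hdisj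
  have hsup : P ⊔ M ⊓ B.orthogonal P = M := le_antisymm (sup_le hPM inf_le_left) fun v hv => by
    obtain ⟨a, ha, b, hb, rfl⟩ := Submodule.mem_sup.1 (hc.sup_eq_top ▸ (Submodule.mem_top : v ∈ (⊤ : Submodule F V)))
    exact Submodule.mem_sup.2 ⟨a, ha, b, ⟨by simpa using M.sub_mem hv (hPM ha), hb⟩, rfl⟩
  have hbot : P ⊓ (M ⊓ B.orthogonal P) = ⊥ := le_bot_iff.1 ((inf_le_inf_left P inf_le_right).trans hdisj.le_bot)
  refine ⟨M ⊓ B.orthogonal P, inf_le_left, fun u hu h => hM u hu.1 fun v hv => ?_, fun v hv => ⟨hMg v hv.1, ?_⟩,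
    hbot, hsup, ?_, fun u hu v hv => (hperp v).1 hv.2 u hu⟩
  · rw [← hsup] at hv
    obtain ⟨a, ha, b, hb, rfl⟩ := Submodule.mem_sup.1 hv
    rw [map_add, skew_of_symp hB a u, (hperp u).1 hu.2 a ha, h b hb, neg_zero, zero_add]
  · refine (hperp _).2 fun w hw => ?_
    have hinj : Function.Injective (g.restrict hPg) := fun a b h =>
      Subtype.ext (isometry_injective hB hg (congrArg Subtype.val h))
    obtain ⟨w₀, hw₀⟩ := (LinearMap.injective_iff_surjective.mp hinj) ⟨w, hw⟩
    rw [show w = g (w₀ : V) from (congrArg Subtype.val hw₀).symm, hg]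
    exact (hperp v).1 hv.2 _ w₀.2
  · have h1 := Submodule.finrank_sup_add_finrank_inf_eq P (M ⊓ B.orthogonal P)
    rw [hbot, finrank_bot, add_zero, hsup] at h1
    omega

theorem adj_step (hg : ∀ x y, B (g x) (g y) = B x y) (x y : V) :
    B ((g - 1) x) y + B x ((g - 1) y) + B ((g - 1) x) ((g - 1) y) = 0 := by
  simp only [LinearMap.sub_apply, End.one_apply, map_sub, hg]
  ring

theorem pow_pair (hg : ∀ x y, B (g x) (g y) = B x y) {e : ℕ} {x y : V} (hy : ((g - 1) ^ e) y = 0) (j k : ℕ) :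
    (e ≤ j + k → B (((g - 1) ^ j) x) (((g - 1) ^ k) y) = 0) ∧
      (j + k + 1 = e → B (((g - 1) ^ j) x) (((g - 1) ^ k) y) = (-1) ^ j * B x (((g - 1) ^ (e - 1)) y)) := by
  set N := g - 1
  have hz : ∀ k, e ≤ k → (N ^ k) y = 0 := fun k hk => by
    obtain ⟨l, rfl⟩ := Nat.exists_eq_add_of_le hk
    rw [add_comm, pow_add, End.mul_apply, hy, map_zero]
  have hv : ∀ j k, e ≤ j + k → B ((N ^ j) x) ((N ^ k) y) = 0 := by
    intro j
    induction j with
    | zero => intro k hk; rw [hz k (by omega), map_zero]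
    | succ j ih =>
      have key : ∀ s k, e ≤ k + s → e ≤ j + 1 + k → B ((N ^ (j + 1)) x) ((N ^ k) y) = 0 := by
        intro s
        induction s with
        | zero => intro k hk _; rw [hz k (by omega), map_zero]
        | succ s ihs =>
          intro k hk hjk
          have h := adj_step hg ((N ^ j) x) ((N ^ k) y)
          rw [← End.mul_apply, ← End.mul_apply, ← pow_succ', ← pow_succ', ih (k + 1) (by omega),
            ihs (k + 1) (by omega) (by omega), add_zero, add_zero] at h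
          exact h
      exact fun k hk => key e k (by omega) hk
  refine ⟨hv j k, ?_⟩
  induction j generalizing k with
  | zero => intro hk; rw [pow_zero, pow_zero, one_mul, show k = e - 1 by omega]; rfl
  | succ j ih =>
    intro hk
    have h := adj_step hg ((N ^ j) x) ((N ^ k) y)
    rw [← End.mul_apply, ← End.mul_apply, ← pow_succ', ← pow_succ', hv (j + 1) (k + 1) (by omega), add_zero,
      ih (k + 1) (by omega), add_eq_zero_iff_eq_neg] at h
    rw [h, pow_succ]; ring

/-- Chains meeting through a permutation span an invariant non-degenerate subspace. -/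
theorem block [FiniteDimensional F V] (hg : ∀ x y, B (g x) (g y) = B x y) {e s : ℕ} (he : 0 < e) (u : Fin s → V)
    (hu : ∀ a, ((g - 1) ^ e) (u a) = 0) (σ : Equiv.Perm (Fin s))
    (hne : ∀ a, B (u a) (((g - 1) ^ (e - 1)) (u (σ a))) ≠ 0)
    (hz : ∀ a b, b ≠ σ a → B (u a) (((g - 1) ^ (e - 1)) (u b)) = 0) :
    ∃ P : Submodule F V, P = Submodule.span F (Set.range fun aj : Fin s × Fin e => ((g - 1) ^ (aj.2 : ℕ)) (u aj.1)) ∧
      NonD B P ∧ (∀ v ∈ P, g v ∈ P) ∧ HasType (g - 1) P (Multiset.replicate s e) := by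
  classical
  set N := g - 1 with hN
  set w : Fin s × Fin e → V := fun aj => (N ^ (aj.2 : ℕ)) (u aj.1) with hw
  have core : ∀ c : Fin s × Fin e → F, (∀ bk, B (∑ aj, c aj • w aj) (w bk) = 0) → c = 0 := by
    intro c h
    suffices hall : ∀ j, ∀ hj : j < e, ∀ a, c (a, ⟨j, hj⟩) = 0 from funext fun ⟨a, j, hj⟩ => hall j hj a
    intro j
    induction j using Nat.strong_induction_on with
    | _ j ih =>
      intro hj a
      have h1 := h (σ a, ⟨e - 1 - j, by omega⟩)
      rw [map_sum, LinearMap.sum_apply, Finset.sum_eq_single (a, (⟨j, hj⟩ : Fin e))] at h1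
      · rw [map_smul, LinearMap.smul_apply, smul_eq_mul, hw] at h1
        simp only at h1
        rw [((pow_pair hg (hu (σ a)) j (e - 1 - j)).2 (by omega)), mul_eq_zero, mul_eq_zero] at h1
        rcases h1 with h1 | h1 | h1
        · exact h1
        · exact absurd h1 (pow_ne_zero _ (neg_ne_zero.2 one_ne_zero))
        · exact absurd h1 (hne a)
      · rintro ⟨a', j', hj'⟩ - hne'
        rw [map_smul, LinearMap.smul_apply, smul_eq_mul, hw]
        simp only
        rcases lt_trichotomy j' j with hlt | rfl | hlt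
        · rw [ih j' hlt hj' a', zero_mul]
        · rw [((pow_pair hg (hu (σ a)) j' (e - 1 - j')).2 (by omega)),
            hz a' (σ a) (fun heq => hne' (by rw [σ.injective heq])), mul_zero, mul_zero]
        · rw [((pow_pair hg (hu (σ a)) j' (e - 1 - j)).1 (by omega)), mul_zero]
      · exact fun h2 => absurd (Finset.mem_univ _) h2
  have hli : LinearIndependent F w := Fintype.linearIndependent_iff.2 fun c hc i =>
    congrFun (core c fun bk => by rw [hc, map_zero, LinearMap.zero_apply]) i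
  set P := Submodule.span F (Set.range w)
  have hwN : ∀ k aj, (N ^ k) (w aj) = (N ^ ((aj.2 : ℕ) + k)) (u aj.1) := fun k aj => by
    rw [add_comm, pow_add]; rfl
  have hzero : ∀ a k, e ≤ k → (N ^ k) (u a) = 0 := fun a k hk => by
    obtain ⟨l, rfl⟩ := Nat.exists_eq_add_of_le hk
    rw [add_comm, pow_add, End.mul_apply, hu, map_zero]
  have hPN : ∀ v ∈ P, N v ∈ P := by
    intro v hv
    refine (Submodule.span_le (p := P.comap N)).2 ?_ hv
    rintro _ ⟨⟨a, j, hj⟩, rfl⟩
    show N (w (a, ⟨j, hj⟩)) ∈ P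
    have h1 := hwN 1 (a, ⟨j, hj⟩)
    rw [pow_one] at h1
    rw [h1]
    by_cases hj1 : j + 1 < e
    · exact Submodule.subset_span ⟨(a, ⟨j + 1, hj1⟩), rfl⟩
    · rw [hzero a _ (by simp only; omega)]; exact P.zero_mem
  refine ⟨P, rfl, fun v hv h => ?_, fun v hv => ?_, fun k => ?_⟩
  · obtain ⟨c, rfl⟩ := (Submodule.mem_span_range_iff_exists_fun F).1 hv
    rw [core c fun bk => h _ (Submodule.subset_span ⟨bk, rfl⟩)]
    simp
  · rw [show g v = N v + v by rw [hN, LinearMap.sub_apply, End.one_apply, sub_add_cancel]]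
    exact P.add_mem (hPN v hv) hv
  · let w' : Fin s × Fin (e - k) → V := fun aj => (N ^ ((aj.2 : ℕ) + k)) (u aj.1)
    have hli' : LinearIndependent F w' :=
      hli.comp (fun aj : Fin s × Fin (e - k) => (aj.1, (⟨(aj.2 : ℕ) + k, by omega⟩ : Fin e)))
        fun x y h => by
          simp only [Prod.mk.injEq, Fin.mk.injEq, Nat.add_right_cancel_iff, Fin.val_inj] at h
          exact Prod.ext h.1 h.2
    have hmap : P.map (N ^ k) = Submodule.span F (Set.range w') := by
      rw [Submodule.map_span]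
      refine le_antisymm (Submodule.span_le.2 ?_) (Submodule.span_mono ?_)
      · rintro _ ⟨_, ⟨⟨a, j, hj⟩, rfl⟩, rfl⟩
        rw [SetLike.mem_coe, hwN]
        by_cases hjk : j < e - k
        · exact Submodule.subset_span ⟨(a, ⟨j, hjk⟩), rfl⟩
        · rw [hzero a _ (by simp only; omega)]; exact Submodule.zero_mem _
      · rintro _ ⟨⟨a, j, hj⟩, rfl⟩
        exact ⟨w (a, ⟨j, by omega⟩), ⟨_, rfl⟩, hwN k _⟩
    rw [hmap, finrank_span_eq_card hli', Fintype.card_prod, Fintype.card_fin, Fintype.card_fin,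
      Multiset.map_replicate, Multiset.sum_replicate, smul_eq_mul]

/-- A block: one chain of even length, or two of one length. -/
def Piece (B : LinearMap.BilinForm F V) (g : End F V) (n : ℕ) (s : Multiset ℕ) : Prop :=
  ∃ e, 0 < e ∧ e ≤ n ∧ ((s = {e} ∧ Even e ∧ ∃ u, B u (((g - 1) ^ (e - 1)) u) ≠ 0) ∨
    (s = Multiset.replicate 2 e ∧ (Odd e ∨ (2 : F) = 0)))

theorem Piece.pos {n : ℕ} {s : Multiset ℕ} (h : Piece B g n s) {x : ℕ} (hx : x ∈ s) : 0 < x ∧ x ≤ n := by
  obtain ⟨e, he, hen, ⟨rfl, -⟩ | ⟨rfl, -⟩⟩ := h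
  · rw [Multiset.mem_singleton] at hx; omega
  · rw [Multiset.eq_of_mem_replicate hx]; exact ⟨he, hen⟩

theorem exists_piece [FiniteDimensional F V] (hB : Symp B) (hg : ∀ x y, B (g x) (g y) = B x y) {n : ℕ}
    (hn : (g - 1) ^ n = 0) {M : Submodule F V} (hM : NonD B M) (hMg : ∀ v ∈ M, g v ∈ M) (hne : M ≠ ⊥) :
    ∃ (P : Submodule F V) (s : Multiset ℕ), P ≤ M ∧ P ≠ ⊥ ∧ NonD B P ∧ (∀ v ∈ P, g v ∈ P) ∧ Piece B g n s ∧
      HasType (g - 1) P s := by
  classical
  set N := g - 1 with hN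
  have hex : ∃ e, ∀ x ∈ M, (N ^ e) x = 0 := ⟨n, fun x _ => by rw [hn, LinearMap.zero_apply]⟩
  obtain ⟨e, hzero, hmin, hen⟩ : ∃ e, (∀ x ∈ M, (N ^ e) x = 0) ∧ (∀ l < e, ¬ ∀ x ∈ M, (N ^ l) x = 0) ∧ e ≤ n :=
    ⟨Nat.find hex, Nat.find_spec hex, fun l => Nat.find_min hex, Nat.find_le fun x _ => by rw [hn, LinearMap.zero_apply]⟩
  have he : 0 < e := Nat.pos_of_ne_zero fun h => hne ((Submodule.eq_bot_iff _).2 fun x hx => by
    simpa [h] using hzero x hx)
  obtain ⟨y, hy, hy0⟩ : ∃ y ∈ M, (N ^ (e - 1)) y ≠ 0 := by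
    have := hmin (e - 1) (by omega)
    push Not at this
    exact this
  have hNM : ∀ v ∈ M, N v ∈ M := fun v hv => M.sub_mem (hMg v hv) hv
  obtain ⟨x, hx, hxy⟩ : ∃ x ∈ M, B x ((N ^ (e - 1)) y) ≠ 0 := by
    by_contra hc
    push Not at hc
    refine hy0 (hM _ (Module.End.pow_apply_mem_of_forall_mem _ hNM y hy) fun v hv => ?_)
    rw [skew_of_symp hB v, hc v hv, neg_zero]
  have hle : ∀ {s : ℕ} (u : Fin s → V), (∀ a, u a ∈ M) →
      Submodule.span F (Set.range fun aj : Fin s × Fin e => (N ^ (aj.2 : ℕ)) (u aj.1)) ≤ M := fun u hu =>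
    Submodule.span_le.2 fun _ ⟨aj, h⟩ => h ▸ Module.End.pow_apply_mem_of_forall_mem _ hNM _ (hu aj.1)
  by_cases hsingle : ∃ u ∈ M, B u ((N ^ (e - 1)) u) ≠ 0
  · obtain ⟨u, hu, hub⟩ := hsingle
    obtain ⟨P, hP, hPn, hPg, hPt⟩ := block hg he (fun _ : Fin 1 => u) (fun _ => hzero u hu) 1 (fun _ => hub)
      fun a b h => absurd (Subsingleton.elim _ _) h
    have hPd := hPt.finrank
    rw [Multiset.replicate_one, Multiset.sum_singleton] at hPd
    have heven : Even e := by
      obtain ⟨k, hk⟩ := SympCount.even_finrank (V := P) (B := B.restrict P)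
        ⟨fun v => hB.alt _, fun v h => Subtype.ext (hPn v.1 v.2 fun w hw => h ⟨w, hw⟩)⟩
      exact ⟨k, by omega⟩
    refine ⟨P, {e}, le_of_eq_of_le hP (hle (fun _ : Fin 1 => u) fun _ => hu), fun h => ?_, hPn, hPg, ⟨e, he, hen, Or.inl ⟨rfl, heven, u, hub⟩⟩,
      by rw [← Multiset.replicate_one]; exact hPt⟩
    rw [h, finrank_bot] at hPd; omega
  · push Not at hsingle
    have hflip : B y ((N ^ (e - 1)) x) = -((-1) ^ (e - 1) * B x ((N ^ (e - 1)) y)) := by
      rw [skew_of_symp hB ((N ^ (e - 1)) x) y]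
      have h := (pow_pair hg (x := x) (hzero y hy) (e - 1) 0).2 (by omega)
      rw [pow_zero] at h
      exact congrArg (-·) h
    have hyx : B y ((N ^ (e - 1)) x) ≠ 0 := by
      rw [hflip]; exact neg_ne_zero.2 (mul_ne_zero (pow_ne_zero _ (neg_ne_zero.2 one_ne_zero)) hxy)
    have hpar : Odd e ∨ (2 : F) = 0 := by
      by_contra hc
      push Not at hc
      obtain ⟨heo, h2⟩ := hc
      have h := hsingle (x + y) (M.add_mem hx hy)
      rw [map_add, map_add, map_add, LinearMap.add_apply, LinearMap.add_apply, hsingle x hx, hsingle y hy, zero_add,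
        add_zero, hflip, (show Odd (e - 1) by
          obtain ⟨c, hc⟩ := Nat.not_odd_iff_even.1 heo
          exact ⟨c - 1, by omega⟩).neg_one_pow] at h
      exact hxy ((mul_eq_zero.1 (show (2 : F) * B x ((N ^ (e - 1)) y) = 0 by linear_combination h)).resolve_left h2)
    obtain ⟨P, hP, hPn, hPg, hPt⟩ := block hg he ![x, y]
      (fun a => by fin_cases a; exacts [hzero x hx, hzero y hy]) (Equiv.swap 0 1)
      (fun a => by fin_cases a; exacts [hxy, hyx])
      (fun a b h => by
        fin_cases a <;> fin_cases b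
        exacts [hsingle x hx, absurd rfl h, absurd rfl h, hsingle y hy])
    have hPd := hPt.finrank
    refine ⟨P, _, le_of_eq_of_le hP (hle ![x, y] fun a => by fin_cases a; exacts [hx, hy]), fun h => ?_, hPn, hPg,
      ⟨e, he, hen, Or.inr ⟨rfl, hpar⟩⟩, hPt⟩
    rw [h, finrank_bot, Multiset.sum_replicate, smul_eq_mul] at hPd; omega

/-- Every invariant non-degenerate subspace is an orthogonal sum of blocks. -/
theorem decompose [FiniteDimensional F V] (hB : Symp B) (hg : ∀ x y, B (g x) (g y) = B x y) {n : ℕ}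
    (hn : (g - 1) ^ n = 0) : ∀ (k : ℕ) (M : Submodule F V), finrank F M ≤ k → NonD B M → (∀ v ∈ M, g v ∈ M) →
      ∃ S : Multiset (Multiset ℕ), (∀ s ∈ S, Piece B g n s) ∧ HasType (g - 1) M S.join ∧
        ∀ T ≤ S, ∃ W, W ≤ M ∧ NonD B W ∧ (∀ v ∈ W, g v ∈ W) ∧ finrank F W = T.join.sum := by
  classical
  intro k
  induction k with
  | zero =>
    intro M hk _ _
    obtain rfl : M = ⊥ := Submodule.finrank_eq_zero.1 (Nat.le_zero.1 hk)
    refine ⟨0, fun s hs => absurd hs (Multiset.notMem_zero s), fun j => ?_, fun T hT => ?_⟩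
    · rw [Submodule.map_bot, finrank_bot]; simp
    · rw [Multiset.le_zero.1 hT]
      exact ⟨⊥, le_rfl, fun u hu _ => (Submodule.mem_bot F).1 hu,
        fun v hv => by rw [(Submodule.mem_bot F).1 hv, map_zero]; exact Submodule.zero_mem _, by simp⟩
  | succ k ih =>
    intro M hk hM hMg
    by_cases h0 : M = ⊥
    · exact ih M (by rw [h0, finrank_bot]; exact Nat.zero_le _) hM hMg
    obtain ⟨P, s, hPM, hP0, hP, hPg, hs, hPt⟩ := exists_piece hB hg hn hM hMg h0
    obtain ⟨M', hM'M, hM', hM'g, hinf, hsup, hdim, horth⟩ := exists_split hB hg hPM hP hPg hM hMg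
    have hPpos : 0 < finrank F P := Nat.pos_of_ne_zero fun h => hP0 (Submodule.finrank_eq_zero.1 h)
    obtain ⟨S, hS, hSt, hsub⟩ := ih M' (by omega) hM' hM'g
    refine ⟨s ::ₘ S, fun x hx => (Multiset.mem_cons.1 hx).elim (fun h => h ▸ hs) (hS x), ?_, fun T hT => ?_⟩
    · rw [Multiset.join_cons]
      exact HasType.add hinf hsup (fun v hv => P.sub_mem (hPg v hv) hv) (fun v hv => M'.sub_mem (hM'g v hv) hv)
        hPt hSt
    · by_cases hsT : s ∈ T
      · obtain ⟨T', rfl⟩ := Multiset.exists_cons_of_mem hsT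
        obtain ⟨W, hWM, hW, hWg, hWd⟩ := hsub T' ((Multiset.cons_le_cons_iff s).1 hT)
        refine ⟨P ⊔ W, sup_le hPM (hWM.trans hM'M), fun v hv h => ?_, fun v hv => ?_, ?_⟩
        · obtain ⟨a, ha, b, hb, rfl⟩ := Submodule.mem_sup.1 hv
          have ha0 : a = 0 := hP a ha fun c hc => by
            have h1 := h c (Submodule.mem_sup_left hc)
            rw [map_add, LinearMap.add_apply, skew_of_symp hB c b, horth c hc b (hWM hb), neg_zero, add_zero] at h1
            exact h1
          subst ha0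
          rw [zero_add] at h ⊢
          exact hW b hb fun c hc => h c (Submodule.mem_sup_right hc)
        · obtain ⟨a, ha, b, hb, rfl⟩ := Submodule.mem_sup.1 hv
          rw [map_add]
          exact add_mem (Submodule.mem_sup_left (hPg a ha)) (Submodule.mem_sup_right (hWg b hb))
        · have h1 := Submodule.finrank_sup_add_finrank_inf_eq P W
          rw [le_bot_iff.1 ((inf_le_inf_left P hWM).trans hinf.le), finrank_bot, add_zero, hPt.finrank, hWd] at h1
          rw [Multiset.join_cons, Multiset.sum_add, h1]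
      · obtain ⟨W, hWM, hrest⟩ := hsub T ((Multiset.le_cons_of_notMem hsT).1 hT)
        exact ⟨W, hWM.trans hM'M, hrest⟩

end CfsgLib.Derange.Sp
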