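import Cfsg.Agent.Lib.Derange.SympMain
import Cfsg.Agent.Lib.Derange.SympUnip
import Cfsg.Agent.Lib.UnipForm.Exist
import Cfsg.Agent.Lib.UnipForm.PSplit

/-!
Elements of prime order of the symplectic group on non-degenerate subspaces.
-/

set_option autoImplicit false
set_option maxHeartbeats 1000000
set_option linter.style.haveILetI false

namespace CfsgLib.Derange.Sp

open Polynomial Module Matrix CfsgLib.SympCount CfsgLib.Classical CfsgLib.Classical.SympTrans CfsgLib.Classical.SympClasses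

universe u

variable {F : Type u} [Field F]

local notation "G" d => Matrix.symplecticGroup (Fin d) F

theorem nond_iff {d : ℕ} {W : Submodule F (Fin d ⊕ Fin d → F)} :
    (∀ u ∈ W, u ≠ 0 → ∃ v ∈ W, Cfsg.sympForm d F u v ≠ 0) ↔ NonD (sb F d) W := by
  refine forall₂_congr fun u _ => ⟨fun h hv => ?_, fun h hu => ?_⟩
  · by_contra hu
    obtain ⟨v, hv', hne⟩ := h hu
    exact hne ((sb_apply u v).symm.trans (hv v hv'))
  · by_contra hc
    push Not at hc
    exact hu (h fun v hv => (sb_apply u v).trans (hc v hv))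

theorem nond_top (d : ℕ) : NonD (sb F d) (⊤ : Submodule F (Fin d ⊕ Fin d → F)) := fun u _ h =>
  (symp_sb F d).nd u fun v => h v Submodule.mem_top

/-- An isometry of prime order equal to the characteristic is unipotent. -/
theorem lin_sub_one_pow {p : ℕ} [Fact p.Prime] [CharP F p] {d : ℕ} (hd : 0 < d) (y : G d) (hy : y ^ p = 1) :
    (lin y - 1) ^ p = 0 := by
  haveI : Nonempty (Fin d ⊕ Fin d) := ⟨.inl ⟨0, hd⟩⟩
  haveI : CharP (Matrix (Fin d ⊕ Fin d) (Fin d ⊕ Fin d) F) p := inferInstance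
  rw [show lin y - 1 = Matrix.toLin' ((y : Matrix (Fin d ⊕ Fin d) (Fin d ⊕ Fin d) F) - 1) by
      rw [map_sub, Matrix.toLin'_one]; rfl,
    ← Matrix.toLin'_pow, sub_pow_char_of_commute p (Commute.one_right _), one_pow, ← SubmonoidClass.coe_pow, hy]
  simp

theorem Piece.count_even {V : Type u} [AddCommGroup V] [Module F V] {B : LinearMap.BilinForm F V} {g : End F V}
    {n : ℕ} {s : Multiset ℕ} (h : Piece B g n s) {a : ℕ} (ha : Odd a) : Even (s.count a) := by
  classical
  obtain ⟨e, -, -, ⟨rfl, he, -⟩ | ⟨rfl, -⟩⟩ := h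
  · rw [Multiset.count_singleton, if_neg]
    · exact Even.zero
    · rintro rfl
      exact Nat.not_even_iff_odd.2 ha he
  · rw [Multiset.count_replicate]
    split_ifs
    exacts [even_two, Even.zero]

theorem join_valid {V : Type u} [AddCommGroup V] [Module F V] {B : LinearMap.BilinForm F V} {g : End F V}
    {n : ℕ} : ∀ {S : Multiset (Multiset ℕ)}, (∀ s ∈ S, Piece B g n s) →
      (∀ a ∈ S.join, 0 < a ∧ a ≤ n) ∧ ∀ a, Odd a → Even (S.join.count a) := by
  classical
  intro S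
  induction S using Multiset.induction with
  | empty => exact fun _ => by simp
  | cons s S ih =>
    intro h
    obtain ⟨h1, h2⟩ := ih fun x hx => h x (Multiset.mem_cons_of_mem hx)
    have hs := h s (Multiset.mem_cons_self _ _)
    rw [Multiset.join_cons]
    exact ⟨fun a ha => (Multiset.mem_add.1 ha).elim (fun ha => hs.pos ha) (h1 a),
      fun a ha => by rw [Multiset.count_add]; exact (hs.count_even ha).add (h2 a ha)⟩

/-- A sub-partition of the blocks is realised by blocks. -/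
theorem exists_sub_blocks {V : Type u} [AddCommGroup V] [Module F V] {B : LinearMap.BilinForm F V} {g : End F V}
    {n : ℕ} (h2 : (2 : F) ≠ 0) : ∀ (S : Multiset (Multiset ℕ)), (∀ s ∈ S, Piece B g n s) → ∀ ν : Multiset ℕ,
      ν ≤ S.join → (∀ a, Odd a → Even (ν.count a)) → ∃ T ≤ S, T.join.sum = ν.sum := by
  classical
  intro S
  induction S using Multiset.induction with
  | empty =>
    intro _ ν hν _
    exact ⟨0, le_rfl, by simp at hν; simp [hν]⟩
  | cons s S ih =>
    intro h ν hν hev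
    have ih' := ih fun x hx => h x (Multiset.mem_cons_of_mem hx)
    rw [Multiset.join_cons] at hν
    have hskip : (∀ x ∈ s, x ∉ ν) → ∃ T ≤ s ::ₘ S, T.join.sum = ν.sum := fun hno => by
      obtain ⟨T, hT, hTs⟩ := ih' ν (Multiset.le_iff_count.2 fun a => by
        have := Multiset.le_iff_count.1 hν a
        rw [Multiset.count_add] at this
        by_cases ha : a ∈ ν
        · rw [Multiset.count_eq_zero.2 fun h' => hno a h' ha] at this
          omega
        · rw [Multiset.count_eq_zero.2 ha]; exact Nat.zero_le _) hev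
      exact ⟨T, hT.trans (Multiset.le_cons_self _ _), hTs⟩
    have htake : s ≤ ν → (∀ a, Odd a → Even (s.count a)) → ∃ T ≤ s ::ₘ S, T.join.sum = ν.sum := fun hle hse => by
      obtain ⟨ν', rfl⟩ := Multiset.le_iff_exists_add.1 hle
      obtain ⟨T, hT, hTs⟩ := ih' ν' (le_of_add_le_add_left hν) fun a ha => by
        have := hev a ha
        rw [Multiset.count_add, Nat.even_add] at this
        exact this.1 (hse a ha)
      exact ⟨s ::ₘ T, (Multiset.cons_le_cons_iff s).2 hT, by rw [Multiset.join_cons, Multiset.sum_add, Multiset.sum_add, hTs]⟩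
    have hs := h s (Multiset.mem_cons_self _ _)
    have hse := fun a (ha : Odd a) => hs.count_even ha
    obtain ⟨e, -, -, ⟨rfl, -⟩ | ⟨rfl, hpar⟩⟩ := hs
    · by_cases he : e ∈ ν
      · exact htake (Multiset.singleton_le.2 he) hse
      · exact hskip fun x hx => by rw [Multiset.mem_singleton.1 hx]; exact he
    · by_cases he : e ∈ ν
      · refine htake (Multiset.le_count_iff_replicate_le.1 ?_) hse
        obtain ⟨c, hc⟩ := hev e (hpar.resolve_right h2)
        have := Multiset.count_pos.2 he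
        omega
      · exact hskip fun x hx => by rw [Multiset.eq_of_mem_replicate hx]; exact he

/-- The criterion on partitions gives invariant subspaces. -/
theorem fix_of_partitions {p : ℕ} [Fact p.Prime] [CharP F p] (h2 : (2 : F) ≠ 0) {d m : ℕ} (hd : 0 < d)
    (H : ∀ μ : Multiset ℕ, (∀ a ∈ μ, 0 < a ∧ a ≤ p) → (∀ a : ℕ, Odd a → Even (μ.count a)) → μ.sum = 2 * d →
      ∃ ν : Multiset ℕ, ν ≤ μ ∧ ν.sum = m ∧ ∀ a : ℕ, Odd a → Even (ν.count a))
    (y : G d) (hy : y ^ p = 1) :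
    ∃ W : Submodule F (Fin d ⊕ Fin d → F), finrank F W = m ∧ NonD (sb F d) W ∧ ∀ v ∈ W, lin y v ∈ W := by
  obtain ⟨S, hS, hSt, hsub⟩ := decompose (symp_sb F d) (g := lin y) (app_isometry y) (lin_sub_one_pow hd y hy)
    _ ⊤ le_rfl (nond_top d) fun v _ => Submodule.mem_top
  obtain ⟨h1, h3⟩ := join_valid hS
  have hsum := hSt.finrank
  rw [finrank_top, finrank_std] at hsum
  obtain ⟨ν, hν, hνs, hνe⟩ := H S.join h1 h3 hsum.symm
  obtain ⟨T, hT, hTs⟩ := exists_sub_blocks h2 S hS ν hν hνe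
  obtain ⟨W, -, hW, hWg, hWd⟩ := hsub T hT
  exact ⟨W, by omega, hW, hWg⟩

/-- The blocks of an invariant subspace are among those of the whole. -/
theorem exists_blocks_le {d n : ℕ} {g : End F (Fin d ⊕ Fin d → F)}
    (hg : ∀ x y, sb F d (g x) (g y) = sb F d x y) (hn : (g - 1) ^ n = 0) {μ : Multiset ℕ} (hμ : ∀ a ∈ μ, 0 < a)
    (hμt : HasType (g - 1) ⊤ μ) {W : Submodule F (Fin d ⊕ Fin d → F)} (hW : NonD (sb F d) W)
    (hWg : ∀ v ∈ W, g v ∈ W) :
    ∃ S : Multiset (Multiset ℕ), (∀ s ∈ S, Piece (sb F d) g n s) ∧ S.join.sum = finrank F W ∧ S.join ≤ μ := by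
  obtain ⟨S, hS, hSt, -⟩ := decompose (symp_sb F d) hg hn _ W le_rfl hW hWg
  obtain ⟨W', -, hW', hW'g, hinf, hsup, -, -⟩ := exists_split (symp_sb F d) hg (le_top (a := W)) hW hWg (nond_top d)
    fun v _ => Submodule.mem_top
  obtain ⟨S', hS', hS't, -⟩ := decompose (symp_sb F d) hg hn _ W' le_rfl hW' hW'g
  refine ⟨S, hS, hSt.finrank.symm, ?_⟩
  rw [HasType.eq hμt (HasType.add hinf hsup (fun v hv => W.sub_mem (hWg v hv) hv)
    (fun v hv => W'.sub_mem (hW'g v hv) hv) hSt hS't) hμ fun a ha => ?_]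
  · exact Multiset.le_add_right _ _
  · exact (Multiset.mem_add.1 ha).elim (fun h => ((join_valid hS).1 a h).1) fun h => ((join_valid hS').1 a h).1

/-- The criterion on partitions is forced. -/
theorem partitions_of_fix [Fintype F] {p : ℕ} [Fact p.Prime] [CharP F p] {d m : ℕ} (hd : 0 < d) (hm : Even m)
    (hmd : m < d)
    (H : ∀ x : G d, (∃ z : F, ((x ^ p : G d) : Matrix (Fin d ⊕ Fin d) (Fin d ⊕ Fin d) F) = z • 1) →
      (∀ z : F, (x : Matrix (Fin d ⊕ Fin d) (Fin d ⊕ Fin d) F) ≠ z • 1) →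
      ∃ W : Submodule F (Fin d ⊕ Fin d → F), finrank F W = m ∧ NonD (sb F d) W ∧ ∀ v ∈ W, lin x v ∈ W)
    (μ : Multiset ℕ) (hμ : ∀ a ∈ μ, 0 < a ∧ a ≤ p) (hμe : ∀ a : ℕ, Odd a → Even (μ.count a))
    (hsum : μ.sum = 2 * d) :
    ∃ ν : Multiset ℕ, ν ≤ μ ∧ ν.sum = m ∧ ∀ a : ℕ, Odd a → Even (ν.count a) := by
  classical
  by_cases hone : ∀ a ∈ μ, a = 1
  · refine ⟨Multiset.replicate m 1, ?_, by simp, fun a _ => ?_⟩
    · rw [Multiset.eq_replicate_card.2 hone]
      refine (Multiset.replicate_le_replicate 1).2 ?_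
      have := hsum
      rw [Multiset.eq_replicate_card.2 hone, Multiset.sum_replicate, smul_eq_mul, mul_one] at this
      omega
    · rw [Multiset.count_replicate]
      split_ifs
      exacts [hm, Even.zero]
  push Not at hone
  obtain ⟨e, he, he1⟩ := hone
  obtain ⟨t, dd, hdd, hcount⟩ := UnipForm.exists_tuple μ
  have hdμ : ∀ k, dd k ∈ μ := fun k => hdd ▸ Multiset.mem_map_of_mem _ (Finset.mem_univ_val k)
  have hdpos : ∀ k, 0 < dd k := fun k => (hμ _ (hdμ k)).1
  obtain ⟨eq, A, hA⟩ := UnipForm.exists_sp_type (K := F) (m := d) hdpos (by rw [← hsum, ← hdd]; rfl)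
    fun j hj => (hcount j).symm ▸ hμe j hj
  obtain ⟨C⟩ := UnipForm.exists_chains_of_isConj eq _ hA
  have htype : HasType (lin A - 1) ⊤ μ := fun k => by
    rw [Submodule.map_top, show lin A - 1 = Matrix.toLin' ((A : Matrix (Fin d ⊕ Fin d) (Fin d ⊕ Fin d) F) - 1) by
      rw [map_sub, Matrix.toLin'_one]; rfl, C.finrank_range_pow, ← hdd, Multiset.map_map]
    rfl
  haveI : Nonempty (Fin d ⊕ Fin d) := ⟨.inl ⟨0, hd⟩⟩
  haveI : CharP (Matrix (Fin d ⊕ Fin d) (Fin d ⊕ Fin d) F) p := inferInstance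
  have hAp : (A : Matrix (Fin d ⊕ Fin d) (Fin d ⊕ Fin d) F) ^ p = 1 := by
    have h := UnipForm.pow_eq_zero_of_le C fun k => (hμ _ (hdμ k)).2
    rw [← Matrix.toLin'_pow, sub_pow_char_of_commute p (Commute.one_right _), one_pow] at h
    exact sub_eq_zero.1 (Matrix.toLin'.injective (h.trans (map_zero _).symm))
  have hAp' : A ^ p = 1 := Subtype.ext (by rw [SubmonoidClass.coe_pow, OneMemClass.coe_one]; exact hAp)
  have hns : ∀ z : F, (A : Matrix (Fin d ⊕ Fin d) (Fin d ⊕ Fin d) F) ≠ z • 1 := fun z hz => by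
    have hz1 : z = 1 := by
      rw [hz, _root_.smul_pow, one_pow] at hAp
      obtain ⟨i⟩ := (inferInstance : Nonempty (Fin d ⊕ Fin d))
      have h1 := congrFun (congrFun hAp i) i
      rw [Matrix.smul_apply, Matrix.one_apply_eq, smul_eq_mul, mul_one] at h1
      exact sub_eq_zero.1 (pow_eq_zero_iff (Fact.out : p.Prime).ne_zero |>.1
        (by rw [sub_pow_char, h1, one_pow, sub_self] : (z - 1) ^ p = 0))
    have h0 := htype 1
    rw [pow_one, show lin A - 1 = 0 by rw [lin, hz, hz1, one_smul, Matrix.toLin'_one]; exact sub_self _,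
      Submodule.map_zero, finrank_bot] at h0
    have h1 : e - 1 ≤ (μ.map fun x => x - 1).sum := Multiset.le_sum_of_mem (Multiset.mem_map.2 ⟨e, he, rfl⟩ : e - 1 ∈ μ.map fun x => x - 1)
    have := (hμ e he).1
    omega
  obtain ⟨W, hWd, hW, hWg⟩ := H A ⟨1, by rw [hAp', one_smul]; rfl⟩ hns
  obtain ⟨S, hS, hSs, hle⟩ := exists_blocks_le (app_isometry A) (lin_sub_one_pow hd A hAp') (fun a ha => (hμ a ha).1)
    htype hW hWg
  exact ⟨S.join, hle, hSs.trans hWd, (join_valid hS).2⟩

/-- Blocks of an involution in characteristic two reach every admissible dimension. -/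
theorem fix_two [CharP F 2] {d a : ℕ} (hd : 0 < d) (had : a ≤ d) (hpar : Odd d ∨ Even a) (y : G d) (hy : y ^ 2 = 1) :
    ∃ W : Submodule F (Fin d ⊕ Fin d → F), finrank F W = 2 * a ∧ NonD (sb F d) W ∧ ∀ v ∈ W, lin y v ∈ W := by
  classical
  haveI : Fact (Nat.Prime 2) := ⟨Nat.prime_two⟩
  obtain ⟨S, hS, hSt, hsub⟩ := decompose (symp_sb F d) (g := lin y) (app_isometry y) (lin_sub_one_pow hd y hy)
    _ ⊤ le_rfl (nond_top d) fun v _ => Submodule.mem_top
  have hsum := hSt.finrank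
  rw [finrank_top, finrank_std] at hsum
  have hlen : ∀ s ∈ S, s.sum = 2 ∨ s.sum = 4 := fun s hs => by
    obtain ⟨e, he, he2, ⟨rfl, hev, -⟩ | ⟨rfl, -⟩⟩ := hS s hs
    · obtain ⟨c, rfl⟩ := hev; simp; omega
    · simp; omega
  have hjoin : ∀ T : Multiset (Multiset ℕ), T ≤ S →
      T.join.sum = 2 * Multiset.card (T.filter fun s => s.sum = 2) + 4 * Multiset.card (T.filter fun s => ¬ s.sum = 2) := by
    intro T
    induction T using Multiset.induction with
    | empty => intro _; simp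
    | cons s T ih =>
      intro hT
      have h := ih ((Multiset.le_cons_self _ _).trans hT)
      rcases hlen s (Multiset.mem_of_le hT (Multiset.mem_cons_self _ _)) with h2 | h4
      · simp [h2, h]; ring
      · simp [h4, h]; ring
  set S₂ := S.filter fun s => s.sum = 2 with hS₂
  set S₄ := S.filter fun s => ¬ s.sum = 2 with hS₄
  have hS' := hjoin S le_rfl
  rw [← hS₂, ← hS₄] at hS'
  obtain ⟨y₄, x₂, hy₄, hx₂, hxy⟩ : ∃ y₄ x₂, y₄ ≤ Multiset.card S₄ ∧ x₂ ≤ Multiset.card S₂ ∧ x₂ + 2 * y₄ = a :=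
    ⟨min (Multiset.card S₄) (a / 2), a - 2 * min (Multiset.card S₄) (a / 2), min_le_left _ _, by
      rcases hpar with ⟨c, hc⟩ | ⟨c, hc⟩ <;> omega, by omega⟩
  obtain ⟨T₂, hT₂, hc₂⟩ := CfsgLib.Derange.exists_le_card_eq S₂ hx₂
  obtain ⟨T₄, hT₄, hc₄⟩ := CfsgLib.Derange.exists_le_card_eq S₄ hy₄
  have hTS : T₂ + T₄ ≤ S := (add_le_add hT₂ hT₄).trans_eq (Multiset.filter_add_not _ _)
  obtain ⟨W, -, hW, hWg, hWd⟩ := hsub _ hTS
  refine ⟨W, ?_, hW, hWg⟩
  have e2 : ∀ s ∈ T₂, s.sum = 2 := fun s hs => (Multiset.mem_filter.1 (Multiset.mem_of_le hT₂ hs)).2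
  have e4 : ∀ s ∈ T₄, ¬ s.sum = 2 := fun s hs => (Multiset.mem_filter.1 (Multiset.mem_of_le hT₄ hs)).2
  rw [hWd, hjoin _ hTS, Multiset.filter_add, Multiset.filter_add, Multiset.filter_eq_self.2 e2,
    Multiset.filter_eq_nil.2 e4, Multiset.filter_eq_self.2 e4,
    Multiset.filter_eq_nil.2 fun s hs => not_not.2 (e2 s hs), add_zero, zero_add, hc₂, hc₄]
  omega

/-- An involution all of whose blocks have dimension four. -/
theorem exists_alternate [CharP F 2] {d : ℕ} (hd : 0 < d) (hev : Even d) :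
    ∃ x : G d, x ^ 2 = 1 ∧ (∀ z : F, (x : Matrix (Fin d ⊕ Fin d) (Fin d ⊕ Fin d) F) ≠ z • 1) ∧
      ∀ W : Submodule F (Fin d ⊕ Fin d → F), NonD (sb F d) W → (∀ v ∈ W, lin x v ∈ W) → 4 ∣ finrank F W := by
  classical
  haveI : Fact (Nat.Prime 2) := ⟨Nat.prime_two⟩
  let K : Matrix (Fin d) (Fin d) F := Matrix.of fun i j => if j = i.rev then 1 else 0
  have hK : Kᵀ = K := by
    ext i j
    simp only [K, Matrix.transpose_apply, Matrix.of_apply]
    refine if_congr ⟨fun h => by rw [h, Fin.rev_rev], fun h => by rw [h, Fin.rev_rev]⟩ rfl rfl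
  have hKv : ∀ (v : Fin d → F) i, (K *ᵥ v) i = v i.rev := fun v i => by
    simp [K, Matrix.mulVec, dotProduct]
  have hmem : Matrix.fromBlocks 1 K 0 1 ∈ Matrix.symplecticGroup (Fin d) F := by
    rw [SymplecticGroup.mem_iff, Matrix.J, Matrix.fromBlocks_transpose, Matrix.fromBlocks_multiply,
      Matrix.fromBlocks_multiply, hK]
    simp
  have hsq : (⟨_, hmem⟩ : G d) ^ 2 = 1 := Subtype.ext (by
    rw [SubmonoidClass.coe_pow, OneMemClass.coe_one, pow_two, Matrix.fromBlocks_multiply]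
    simp [← two_smul F K, CharTwo.two_eq_zero, Matrix.fromBlocks_one])
  refine ⟨⟨_, hmem⟩, hsq, fun z h => ?_, fun W hW hWg => ?_⟩
  · have h1 := congrFun (congrFun h (Sum.inl ⟨0, hd⟩)) (Sum.inr (Fin.rev ⟨0, hd⟩))
    simp [K] at h1
  set N := lin (⟨_, hmem⟩ : G d) - 1 with hN
  have hNv : ∀ v, N v = Sum.elim (fun i => v (Sum.inr i.rev)) 0 := fun v => by
    rw [hN, LinearMap.sub_apply, End.one_apply]
    show Matrix.toLin' (Matrix.fromBlocks 1 K 0 1) v - v = _
    rw [Matrix.toLin'_apply, Matrix.fromBlocks_mulVec]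
    funext i
    rcases i with i | i
    · simp [hKv]
    · simp
  let ι : (Fin d → F) →ₗ[F] (Fin d ⊕ Fin d → F) :=
    { toFun := fun w => Sum.elim w 0
      map_add' := fun a b => by funext i; rcases i with i | i <;> simp
      map_smul' := fun c a => by funext i; rcases i with i | i <;> simp }
  have hrange : LinearMap.range N = LinearMap.range ι := by
    refine le_antisymm ?_ ?_
    · rintro _ ⟨v, rfl⟩
      exact ⟨_, (hNv v).symm⟩
    · rintro _ ⟨w, rfl⟩
      refine ⟨Sum.elim 0 fun i => w i.rev, ?_⟩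
      rw [hNv]
      show Sum.elim _ (0 : Fin d → F) = Sum.elim w (0 : Fin d → F)
      simp
  have htype : HasType N ⊤ (Multiset.replicate d 2) := fun k => by
    rw [Multiset.map_replicate, Multiset.sum_replicate, smul_eq_mul]
    rcases k with _ | _ | k
    · rw [pow_zero, Module.End.one_eq_id, Submodule.map_id, finrank_top, finrank_std]; omega
    · rw [pow_one, Submodule.map_top, hrange, LinearMap.finrank_range_of_inj
        (f := ι) (fun a b h => funext fun i => congrFun h (Sum.inl i)), Module.finrank_fin_fun]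
      omega
    · rw [show N ^ (k + 1 + 1) = 0 by
        rw [show k + 1 + 1 = k + 2 from rfl, pow_add, hN, lin_sub_one_pow hd _ hsq, mul_zero],
        Submodule.map_zero, finrank_bot, show 2 - (k + 1 + 1) = 0 by omega, mul_zero]
  have halt : ∀ v, sb F d v (N v) = 0 := fun v => by
    rw [hNv, sb_apply, Cfsg.sympForm, Matrix.J, Matrix.fromBlocks_mulVec]
    simp only [dotProduct, Fintype.sum_sum_type, Sum.elim_inl, Sum.elim_inr, Function.comp_def, Matrix.zero_mulVec,
      Matrix.neg_mulVec, Matrix.one_mulVec, zero_add, add_zero, Pi.neg_apply, Pi.zero_apply, neg_zero, mul_zero,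
      Finset.sum_const_zero]
    refine Finset.sum_ninvolution Fin.rev (fun i => ?_) (fun i _ h => ?_) (fun i => Finset.mem_univ _) Fin.rev_rev
    · rw [Fin.rev_rev, mul_comm (v (Sum.inr i)), CharTwo.add_self_eq_zero]
    · have := congrArg Fin.val h
      rw [Fin.val_rev] at this
      obtain ⟨c, hc⟩ := hev
      omega
  obtain ⟨S, hS, hSs, hle⟩ := exists_blocks_le (app_isometry (⟨_, hmem⟩ : G d)) (lin_sub_one_pow hd _ hsq)
    (fun a ha => by rw [Multiset.eq_of_mem_replicate ha]; omega) htype hW hWg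
  have hfour : ∀ s ∈ S, 4 ∣ s.sum := fun s hs => by
    obtain ⟨e, he, -, h⟩ := hS s hs
    have he2 : e = 2 := by
      refine Multiset.eq_of_mem_replicate (Multiset.mem_of_le hle (Multiset.mem_join.2 ⟨s, hs, ?_⟩))
      rcases h with ⟨rfl, -⟩ | ⟨rfl, -⟩ <;> simp
    subst he2
    rcases h with ⟨-, -, u, hu⟩ | ⟨rfl, -⟩
    · rw [show (2 : ℕ) - 1 = 1 from rfl, pow_one] at hu
      exact absurd (halt u) hu
    · simp
  rw [← hSs, Multiset.sum_join]
  exact Multiset.dvd_sum fun x hx => by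
    obtain ⟨s, hs, rfl⟩ := Multiset.mem_map.1 hx
    exact hfour s hs

/-- Symplectic maps squaring to `±1` fix non-degenerate subspaces of every even dimension. -/
theorem fix_semisimple (h2 : (2 : F) ≠ 0) {d : ℕ} (g : End F (Fin d ⊕ Fin d → F))
    (hg : ∀ x y, sb F d (g x) (g y) = sb F d x y) {z : F} (hz : z = 1 ∨ z = -1) (hgg : ∀ x, g (g x) = z • x) :
    ∀ a ≤ d, ∃ W : Submodule F (Fin d ⊕ Fin d → F), finrank F W = 2 * a ∧ NonD (sb F d) W ∧ ∀ v ∈ W, g v ∈ W := by
  intro a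
  induction a with
  | zero =>
    exact fun _ => ⟨⊥, by rw [finrank_bot], fun u hu _ => (Submodule.mem_bot F).1 hu,
      fun v hv => by rw [(Submodule.mem_bot F).1 hv, map_zero]; exact Submodule.zero_mem _⟩
  | succ a ih =>
    intro had
    obtain ⟨W, hWd, hW, hWg⟩ := ih (by omega)
    set B := sb F d
    have hB : Symp B := symp_sb F d
    obtain ⟨M, -, hM, hMg, hinf, hsup, hdim, horth⟩ := exists_split hB hg (le_top (a := W)) hW hWg (nond_top d)
      fun v _ => Submodule.mem_top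
    rw [finrank_top, finrank_std] at hdim
    obtain ⟨x₀, hx₀, hx₀0⟩ := M.exists_mem_ne_zero_of_ne_bot fun h => by rw [h, finrank_bot] at hdim; omega
    have hadj : ∀ x y, B x (g y) = z * B (g x) y := fun x y => by rw [← hg x (g y), hgg, map_smul, smul_eq_mul]
    obtain ⟨u, w, hu, hw, huw, hgu, hgw⟩ : ∃ u w, u ∈ M ∧ w ∈ M ∧ B u w ≠ 0 ∧
        (∃ a b : F, g u = a • u + b • w) ∧ ∃ a b : F, g w = a • u + b • w := by
      rcases hz with rfl | rfl
      · obtain ⟨u, hu, hu0, s, hs, hgu⟩ : ∃ u ∈ M, u ≠ 0 ∧ ∃ s : F, s * s = 1 ∧ g u = s • u := by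
          by_cases h1 : x₀ + g x₀ = 0
          · exact ⟨x₀, hx₀, hx₀0, -1, by ring, by rw [neg_one_smul]; exact eq_neg_of_add_eq_zero_right h1⟩
          · exact ⟨_, M.add_mem hx₀ (hMg _ hx₀), h1, 1, by ring,
              by rw [map_add, hgg, one_smul, one_smul, add_comm]⟩
        obtain ⟨w, hw, huw⟩ : ∃ w ∈ M, B u w ≠ 0 := by
          by_contra hc
          push Not at hc
          exact hu0 (hM u hu hc)
        refine ⟨u, w + s • g w, hu, M.add_mem hw (M.smul_mem _ (hMg w hw)), ?_,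
          ⟨s, 0, by rw [hgu, zero_smul, add_zero]⟩, 0, s, ?_⟩
        · rw [map_add, map_smul, hadj, hgu, map_smul, LinearMap.smul_apply, smul_eq_mul, smul_eq_mul, one_mul,
            ← mul_assoc, hs, one_mul, ← two_mul]
          exact mul_ne_zero h2 huw
        · rw [map_add, map_smul, hgg, one_smul, zero_smul, zero_add, smul_add, smul_smul, hs, one_smul, add_comm]
      · obtain ⟨u, hu, hne⟩ : ∃ u ∈ M, B u (g u) ≠ 0 := by
          by_contra hc
          push Not at hc
          refine hx₀0 (hM x₀ hx₀ fun y hy => ?_)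
          have h := hc _ (M.add_mem (hMg _ hx₀) hy)
          simp only [map_add, LinearMap.add_apply, hgg, hc _ hy, map_smul, LinearMap.smul_apply, smul_eq_mul,
            neg_one_mul, add_zero, skew_of_symp hB (g x₀) y, skew_of_symp hB x₀ (g x₀), hc _ hx₀, neg_zero, zero_add,
            skew_of_symp hB x₀ y, hg] at h
          have h' : (2 : F) * B x₀ y = 0 := by linear_combination h
          exact (mul_eq_zero.1 h').resolve_left h2
        exact ⟨u, g u, hu, hMg u hu, hne, ⟨0, 1, by rw [zero_smul, one_smul, zero_add]⟩, -1, 0,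
          by rw [hgg, zero_smul, add_zero]⟩
    let φ : (F × F) →ₗ[F] (Fin d ⊕ Fin d → F) :=
      LinearMap.coprod (LinearMap.toSpanSingleton F _ u) (LinearMap.toSpanSingleton F _ w)
    have hφ : ∀ a b : F, φ (a, b) = a • u + b • w := fun a b => rfl
    have hφM : LinearMap.range φ ≤ M := by
      rintro _ ⟨⟨a, b⟩, rfl⟩
      rw [hφ]; exact M.add_mem (M.smul_mem a hu) (M.smul_mem b hw)
    have hwu : B w u = -B u w := skew_of_symp hB u w
    have hcore : ∀ a b : F, B u (φ (a, b)) = 0 → B w (φ (a, b)) = 0 → a = 0 ∧ b = 0 := fun a b h1 h3 => by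
      rw [hφ, map_add, map_smul, map_smul, hB.alt, smul_zero, zero_add, smul_eq_mul, mul_eq_zero] at h1
      rw [hφ, map_add, map_smul, map_smul, hB.alt, smul_zero, add_zero, smul_eq_mul, mul_eq_zero, hwu,
        neg_eq_zero] at h3
      exact ⟨h3.resolve_right huw, h1.resolve_right huw⟩
    refine ⟨W ⊔ LinearMap.range φ, ?_, fun v hv h => ?_, fun v hv => ?_⟩
    · have h1 := Submodule.finrank_sup_add_finrank_inf_eq W (LinearMap.range φ)
      rw [le_bot_iff.1 ((inf_le_inf_left W hφM).trans hinf.le), finrank_bot, add_zero,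
        LinearMap.finrank_range_of_inj (f := φ) (LinearMap.ker_eq_bot.1 <| LinearMap.ker_eq_bot'.2 fun ab h => by
          obtain ⟨a, b⟩ := ab
          obtain ⟨rfl, rfl⟩ := hcore a b (by rw [h, map_zero]) (by rw [h, map_zero])
          rfl), hWd, Module.finrank_prod, Module.finrank_self] at h1
      omega
    · obtain ⟨v₁, hv₁, v₂, ⟨⟨a, b⟩, rfl⟩, rfl⟩ := Submodule.mem_sup.1 hv
      have hperp : ∀ c ∈ W, B (φ (a, b)) c = 0 := fun c hc => by
        rw [skew_of_symp hB c, horth c hc _ (hφM ⟨_, rfl⟩), neg_zero]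
      have h0 : v₁ = 0 := hW v₁ hv₁ fun c hc => by
        have h1 := h c (Submodule.mem_sup_left hc)
        rw [map_add, LinearMap.add_apply, hperp c hc, add_zero] at h1
        exact h1
      subst h0
      rw [zero_add] at h ⊢
      have hu' : B u (φ (a, b)) = 0 := by
        rw [skew_of_symp hB (φ (a, b)), h u (Submodule.mem_sup_right ⟨(1, 0), by simp [hφ]⟩), neg_zero]
      have hw' : B w (φ (a, b)) = 0 := by
        rw [skew_of_symp hB (φ (a, b)), h w (Submodule.mem_sup_right ⟨(0, 1), by simp [hφ]⟩), neg_zero]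
      obtain ⟨rfl, rfl⟩ := hcore a b hu' hw'
      exact map_zero φ
    · obtain ⟨v₁, hv₁, v₂, ⟨⟨a, b⟩, rfl⟩, rfl⟩ := Submodule.mem_sup.1 hv
      obtain ⟨a₁, b₁, h1⟩ := hgu
      obtain ⟨a₂, b₂, h3⟩ := hgw
      rw [map_add]
      refine add_mem (Submodule.mem_sup_left (hWg _ hv₁)) (Submodule.mem_sup_right ⟨(a * a₁ + b * a₂, a * b₁ + b * b₂), ?_⟩)
      rw [hφ, hφ, map_add, map_smul, map_smul, h1, h3]
      module

variable [Fintype F] {p : ℕ} [hp : Fact p.Prime] [CharP F p] {q r i t : ℕ} {D : Finset F[X]}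

open CfsgLib.Classical.UnitaryTwistPoly CfsgLib.Classical.OrthPrimeFactors CfsgLib.Classical.OrthPrimeReal

include hp in
/-- The criterion for non-degenerate subspaces. -/
theorem nondeg_iff (X' : Ctx F p q r i t D) {d a : ℕ} (hd : 0 < d) (had : a ≤ d) :
    (∀ x : G d, (∃ z : F, ((x ^ r : G d) : Matrix (Fin d ⊕ Fin d) (Fin d ⊕ Fin d) F) = z • 1) →
      (∀ z : F, (x : Matrix (Fin d ⊕ Fin d) (Fin d ⊕ Fin d) F) ≠ z • 1) →
      ∃ W : Submodule F (Fin d ⊕ Fin d → F), finrank F W = 2 * a ∧ NonD (sb F d) W ∧ ∀ v ∈ W, lin x v ∈ W) ↔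
    (∀ e K, 0 < K → e + unitDim i * K = 2 * d →
      ∃ e' A, e' + unitDim i * A = 2 * a ∧ e' ≤ e ∧ A ≤ K) := by
  constructor
  · intro H e K hK he
    obtain ⟨f, hf⟩ := exists_of_shape X'.facts X'.t_pos e K
    obtain ⟨y, hy, hc⟩ := exists_of_shaped X' hf he
    obtain ⟨W, hWd, hW, hWg⟩ := H y ⟨1, by rw [hy, one_smul]; rfl⟩ (not_scalar X' hd y hy hK (hc.symm ▸ hf))
    obtain ⟨fA, fB, e₂, K₂, e', A, hA, hAd, hB, hcp⟩ := shapes_of_nondeg X' y hy hWd hW hWg
    rw [hc] at hcp
    obtain ⟨h1, h2⟩ := hf.unique X'.facts (hcp ▸ hA.mul hB)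
    exact ⟨e', A, hAd, by omega, by omega⟩
  · intro H x hx1 hx2
    obtain ⟨y, hy, hne, s, -, hs⟩ := exists_sign hd (X'.prime.odd_of_ne_two X'.ne_two) x hx1 hx2
    obtain ⟨e, K, hsh, hsum⟩ := exists_shaped_cp X' y hy
    obtain ⟨e', A, hm, he', hA⟩ := H e K (units_pos X' y hy hne hsh) hsum
    obtain ⟨f₁, f₂, hcp, h1, h2⟩ := hsh.split X'.facts he' hA
    have hdim : e - e' + unitDim i * (K - A) = 2 * (d - a) := by
      have := Nat.mul_le_mul_left (unitDim i) hA
      rw [Nat.mul_sub]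
      omega
    obtain ⟨W, hWd, hW, hWy⟩ := exists_nondeg X' (show a + (d - a) = d by omega) y hy h1 hm h2 hdim hcp
    exact ⟨W, hWd, hW, fun v hv => by rw [hs]; exact W.smul_mem _ (hWy v hv)⟩

/-- The arithmetic of the criterion. -/
theorem units_iff {c d m : ℕ} (hc : 0 < c) (hcd : c ≤ 2 * d) (hmd : m ≤ 2 * d) (hwin : (2 * d) % c < m) :
    (∀ e K, 0 < K → e + c * K = 2 * d → ∃ e' A, e' + c * A = m ∧ e' ≤ e ∧ A ≤ K) ↔
      c ≤ m ∧ m % c ≤ (2 * d) % c := by
  have hN := Nat.mod_add_div (2 * d) c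
  have hM := Nat.mod_add_div m c
  constructor
  · intro H
    obtain ⟨e', A, h1, h2, -⟩ := H ((2 * d) % c) ((2 * d) / c) (Nat.div_pos hcd hc) hN
    have hcm : c ≤ m := by
      by_contra h
      have : A = 0 := by
        by_contra hA
        have := Nat.le_mul_of_pos_right c (Nat.pos_of_ne_zero hA)
        omega
      subst this
      omega
    refine ⟨hcm, ?_⟩
    rw [← h1, Nat.add_mul_mod_self_left]
    exact (Nat.mod_le _ _).trans h2
  · rintro ⟨hcm, hμ⟩ e K hK he
    by_cases hle : m / c ≤ K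
    · refine ⟨m % c, m / c, hM, ?_, hle⟩
      have hKN : K ≤ 2 * d / c := (Nat.le_div_iff_mul_le hc).2 (by rw [mul_comm]; omega)
      have := Nat.mul_le_mul_left c hKN
      omega
    · push Not at hle
      have := Nat.mul_le_mul_left c hle.le
      exact ⟨m - c * K, K, by omega, by omega, le_rfl⟩

end CfsgLib.Derange.Sp
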