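import Mathlib
import Cfsg.Agent.Lib.Derange.SympConj
import Cfsg.Agent.Lib.Derange.Count
import Cfsg.Agent.Lib.Classical.SympOrder
import Cfsg.Agent.Lib.Classical.SympSemisimple
import Cfsg.Agent.Lib.Classical.Card

/-!
Obstructions to lying in the similitude group of a symplectic form, and the index of that group.
-/

set_option autoImplicit false
set_option linter.style.haveILetI false

namespace CfsgLib.Derange

open Module
open scoped Matrix

variable {F : Type*} [Field F] {n : ℕ}

theorem formMap_apply {f : (Fin n → F) → (Fin n → F) → F} (hf : Cfsg.Geo.IsBilinearForm f) (u v : Fin n → F) :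
    formMap hf u v = f u v := rfl

/-- Eigenspaces of a similitude for `c` and `μ / c` have the same dimension. -/
theorem finrank_ker_similitude {f : (Fin n → F) → (Fin n → F) → F} (hf : Cfsg.Geo.IsSymplecticForm f)
    (Y : End F (Fin n → F)) {μ c : F} (hμ : μ ≠ 0) (hc : c ≠ 0) (hY : ∀ u v, f (Y u) (Y v) = μ * f u v) :
    finrank F (LinearMap.ker (Y - c • 1)) = finrank F (LinearMap.ker (Y - (μ / c) • 1)) := by
  have hB := formMap hf.bilinear
  have hnd : (formMap hf.bilinear).Nondegenerate := by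
    constructor
    · intro v hv
      by_contra h
      obtain ⟨x, hx⟩ := (hf.nondegenerate v h).2
      exact hx (hv x)
    · intro v hv
      by_contra h
      obtain ⟨x, hx⟩ := (hf.nondegenerate v h).1
      exact hx (hv x)
  have key : ∀ (c : F), c ≠ 0 → finrank F (LinearMap.ker (Y - c • 1)) ≤
      finrank F (LinearMap.ker (Y - (μ / c) • 1)) := by
    intro c hc
    have hle : LinearMap.range (Y - (μ / c) • 1) ≤
        (formMap hf.bilinear).orthogonal (LinearMap.ker (Y - c • 1)) := by
      rintro _ ⟨v, rfl⟩ u hu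
      rw [LinearMap.mem_ker, LinearMap.sub_apply, LinearMap.smul_apply, End.one_apply, sub_eq_zero] at hu
      show formMap hf.bilinear u _ = 0
      rw [LinearMap.sub_apply, LinearMap.smul_apply, End.one_apply, map_sub, map_smul, formMap_apply, formMap_apply,
        smul_eq_mul]
      have h1 := hY u v
      rw [hu, hf.bilinear.smul_left] at h1
      rw [sub_eq_zero, div_mul_eq_mul_div, eq_div_iff hc, mul_comm]
      exact h1
    have h1 := Submodule.finrank_mono hle
    rw [LinearMap.BilinForm.finrank_orthogonal hnd] at h1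
    have h2 := (Y - (μ / c) • 1).finrank_range_add_finrank_ker
    rw [Module.finrank_fin_fun] at h1 h2
    have h3 := Submodule.finrank_le (LinearMap.ker (Y - c • 1))
    rw [Module.finrank_fin_fun] at h3
    omega
  refine le_antisymm (key c hc) ?_
  have h := key (μ / c) (div_ne_zero hμ hc)
  rwa [div_div_cancel₀ hμ] at h

/-- A semisimple isometry moves a space of even dimension. -/
theorem even_finrank_range {f : (Fin n → F) → (Fin n → F) → F} (hf : Cfsg.Geo.IsSymplecticForm f)
    (Y : End F (Fin n → F)) {M : ℕ} (hM : (M : F) ≠ 0) (hYM : Y ^ M = 1) (hY : ∀ u v, f (Y u) (Y v) = f u v) :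
    Even (finrank F (LinearMap.range (Y - 1))) := by
  set W := LinearMap.range (Y - 1)
  set E := LinearMap.ker (Y - 1)
  have hfix : ∀ e ∈ E, Y e = e := fun e he => by
    rwa [LinearMap.mem_ker, LinearMap.sub_apply, End.one_apply, sub_eq_zero] at he
  have horth : ∀ e ∈ E, ∀ w ∈ W, f e w = 0 := by
    rintro e he _ ⟨v, rfl⟩
    rw [LinearMap.sub_apply, End.one_apply, ← formMap_apply hf.bilinear, map_sub, formMap_apply, formMap_apply,
      sub_eq_zero]
    nth_rw 1 [← hfix e he]
    exact hY e v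
  have hdisj : Disjoint E W := by
    rw [Submodule.disjoint_def]
    rintro x hx ⟨v, rfl⟩
    have h1 := CfsgLib.Classical.SympSemisimple.eq_zero_of_sq hYM hM (x := v) (hfix _ hx)
    rw [LinearMap.sub_apply, End.one_apply, h1, sub_self]
  have hcompl : IsCompl E W := by
    refine ⟨hdisj, codisjoint_iff.mpr ?_⟩
    refine Submodule.eq_top_of_finrank_eq ?_
    have := Submodule.finrank_sup_add_finrank_inf_eq E W
    rw [disjoint_iff.mp hdisj, finrank_bot, add_zero] at this
    rw [this, add_comm]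
    exact (Y - 1).finrank_range_add_finrank_ker
  obtain ⟨m, b, -⟩ := CfsgLib.Forms.exists_symplectic_basis_nondeg ((formMap hf.bilinear).restrict W)
    (fun w => hf.alternating _) (fun w hw => by
      by_contra h
      obtain ⟨x, hx⟩ := (hf.nondegenerate (w : Fin n → F) (fun h' => h (Subtype.ext h'))).2
      obtain ⟨e, he, y, hy, rfl⟩ := Submodule.mem_sup.mp (hcompl.sup_eq_top ▸ Submodule.mem_top (x := x))
      refine hx ?_
      rw [hf.bilinear.add_right, show f (w : Fin n → F) y = 0 from hw ⟨y, hy⟩, hf.skew, horth e he _ w.2,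
        neg_zero, add_zero])
  rw [Module.finrank_eq_card_basis b, Fintype.card_sum, Fintype.card_fin]
  exact ⟨m, rfl⟩

/-- A unipotent isometry with `N ^ 3 = 0` has `N ^ 2` of rank other than one. -/
theorem not_rank_one_sq {f : (Fin n → F) → (Fin n → F) → F} (hf : Cfsg.Geo.IsSymplecticForm f) (h2 : (2 : F) ≠ 0)
    (Y : End F (Fin n → F)) (hY : ∀ u v, f (Y u) (Y v) = f u v) (hN : (Y - 1) ^ 3 = 0)
    (hr : finrank F (LinearMap.range ((Y - 1) ^ 2)) = 1) : False := by
  set N := Y - 1 with hNdef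
  have hYN : Y = 1 + N := by rw [hNdef]; abel
  set Z : End F (Fin n → F) := 1 - N + N ^ 2
  have hYZ : Y * Z = 1 := by
    rw [hYN, show (1 + N) * (1 - N + N ^ 2) = 1 + N ^ 3 by
      rw [add_mul, one_mul, mul_add, mul_sub, mul_one, ← pow_succ', ← sq]; abel, hN, add_zero]
  have hadj : ∀ u v, f (Y u) v = f u (Z v) := fun u v => by
    conv_lhs => rw [show v = Y (Z v) by rw [← End.mul_apply, hYZ, End.one_apply]]
    exact hY _ _
  have hadjN : ∀ u v, f (N u) v = f u ((Z - 1) v) := fun u v => by
    simp only [hNdef, ← formMap_apply hf.bilinear, LinearMap.sub_apply, End.one_apply, map_sub]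
    simp [formMap_apply, hadj]
  have hadj2 : ∀ u v, f ((N ^ 2) u) v = f u ((N ^ 2) v) := fun u v => by
    rw [sq, End.mul_apply, hadjN, hadjN, ← End.mul_apply,
      show (Z - 1) * (Z - 1) = N ^ 2 + N ^ 3 * (N - 1 - 1) by
        rw [show Z - 1 = N * N - N by simp [Z, sq]; abel]
        simp only [pow_succ, pow_zero, one_mul, mul_sub, sub_mul, mul_assoc, mul_one]
        abel, hN, zero_mul, add_zero, sq]
  have hskew : ∀ u v, f ((N ^ 2) u) v = - f ((N ^ 2) v) u := fun u v => by
    rw [hadj2 u v, hf.skew]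
  obtain ⟨w, hw, hw1⟩ := finrank_eq_one_iff'.mp hr
  obtain ⟨u, hu⟩ := w.2
  have hwu : f (w : Fin n → F) u = 0 := by
    rw [← hu]
    have := hskew u u
    have h4 : (2 : F) * f ((N ^ 2) u) u = 0 := by linear_combination this
    exact (mul_eq_zero.mp h4).resolve_left h2
  refine hw (Subtype.ext ?_)
  by_contra hw0
  obtain ⟨v, hv⟩ := (hf.nondegenerate _ hw0).2
  obtain ⟨t, ht⟩ := hw1 ⟨_, LinearMap.mem_range_self (N ^ 2) v⟩
  have ht' : t • (w : Fin n → F) = (N ^ 2) v := congrArg Subtype.val ht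
  refine hv ?_
  rw [← hu, hskew, ← ht', hf.bilinear.smul_left, hwu, mul_zero, neg_zero]

/-- The index of the similitude group, and exponents dividing it. -/
theorem index_similitude [Fintype F] {p : ℕ} (hp : p.Prime) {q : ℕ} (hpq : p ∣ q) (hq : Fintype.card F = q)
    (hn : 1 ≤ n) {f : (Fin n → F) → (Fin n → F) → F}
    (hf : Cfsg.Geo.IsSymplecticForm f) {r : ℕ} [Fact r.Prime] (hrp : r ≠ p) (hpow : ∃ k, q = p ^ k)
    (hΩ : r ∣ ((Cfsg.Geo.similarityGroup f).comap
      (Matrix.SpecialLinearGroup.toGL : Matrix.SpecialLinearGroup (Fin n) F →* GL (Fin n) F)).index) :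
    ∃ t, 2 * t + 1 ≤ n ∧ orderOf (q : ZMod r) ∣ 2 * t + 1 := by
  classical
  have hr : r.Prime := Fact.out
  have hq2 : 2 ≤ q := hq ▸ Fintype.one_lt_card
  obtain ⟨m, e, he⟩ := exists_pairJ_basis hf
  have hnm : n = 2 * m := by
    have := Module.finrank_eq_card_basis e
    rw [Module.finrank_fin_fun, Fintype.card_sum, Fintype.card_fin] at this
    omega
  set H := (Cfsg.Geo.similarityGroup f).comap
      (Matrix.SpecialLinearGroup.toGL : Matrix.SpecialLinearGroup (Fin n) F →* GL (Fin n) F)
  have hB : LinearMap.toMatrix₂ e e (formMap hf.bilinear) = -Matrix.J (Fin m) F := by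
    ext i j
    rw [LinearMap.toMatrix₂_apply, formMap_apply, he]
    rcases i with i | i <;> rcases j with j | j <;> simp [pairJ, Matrix.J, Matrix.one_apply] <;> split_ifs <;> simp
  let Φ : Matrix (Fin m ⊕ Fin m) (Fin m ⊕ Fin m) F → Matrix (Fin n) (Fin n) F :=
    fun A => LinearMap.toMatrix' (Matrix.toLin e e A)
  have hΦdet : ∀ A, (Φ A).det = A.det := fun A => by
    show (LinearMap.toMatrix' (Matrix.toLin e e A)).det = _
    rw [LinearMap.det_toMatrix', LinearMap.det_toLin]
  let ι : Matrix.symplecticGroup (Fin m) F → H := fun A =>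
    ⟨⟨Φ A, by rw [hΦdet]; exact SymplecticGroup.det_eq_one A.2⟩, by
      refine ⟨1, fun u v => ?_⟩
      have key : (formMap hf.bilinear).compl₁₂ (Matrix.toLin e e A.1) (Matrix.toLin e e A.1) =
          formMap hf.bilinear := by
        refine (LinearMap.toMatrix₂ e e).injective ?_
        rw [LinearMap.toMatrix₂_compl₁₂ e e e e, LinearMap.toMatrix_toLin, hB, Matrix.mul_neg, Matrix.neg_mul,
          SymplecticGroup.mem_iff'.mp A.2]
      have h := LinearMap.congr_fun (LinearMap.congr_fun key u) v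
      simp only [LinearMap.compl₁₂_apply, formMap_apply] at h
      rw [Units.val_one, one_mul, ← h]
      show f (Φ A *ᵥ u) (Φ A *ᵥ v) = _
      rw [← Matrix.toLin'_apply, ← Matrix.toLin'_apply, Matrix.toLin'_toMatrix']⟩
  have hι : Function.Injective ι := fun A B h => by
    have h1 : Φ A.1 = Φ B.1 := congrArg (fun x : H => (x.1 : Matrix (Fin n) (Fin n) F)) h
    exact Subtype.ext ((Matrix.toLin e e).injective (LinearMap.toMatrix'.injective h1))
  -- `Sp` embeds
  have hle : Nat.card (Matrix.symplecticGroup (Fin m) F) ∣ Nat.card H := by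
    let ψ : Matrix.symplecticGroup (Fin m) F →* H :=
      { toFun := ι
        map_one' := Subtype.ext (Subtype.ext (by
          show LinearMap.toMatrix' (Matrix.toLin e e 1) = 1
          rw [Matrix.toLin_one, LinearMap.toMatrix'_id]))
        map_mul' := fun A B => Subtype.ext (Subtype.ext (by
          show LinearMap.toMatrix' (Matrix.toLin e e (A.1 * B.1)) = Φ A.1 * Φ B.1
          rw [Matrix.toLin_mul e e e, LinearMap.toMatrix'_comp])) }
    exact Subgroup.card_dvd_of_injective ψ hι
  have hidx := H.card_mul_index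
  obtain ⟨w, hw⟩ := hle
  have hsp := CfsgLib.Classical.SympTrans.card_symplectic (F := F) (m := m)
  rw [Nat.card_eq_fintype_card (α := F), hq] at hsp
  have h1 := CfsgLib.Classical.sub_one_mul_card_SL (F := F) hn
  have e1 := frames_eq q (le_refl n)
  rw [Nat.sub_self, show qFac q 0 = 1 from rfl, mul_one] at e1
  rw [hq, e1, ← hidx, hw, hsp] at h1
  have hsplit : ∀ k, qFac q (2 * k) = (∏ i ∈ Finset.range k, (q ^ (2 * i + 1) - 1)) *
      ∏ i ∈ Finset.range k, (q ^ (2 * (i + 1)) - 1) := by
    intro k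
    induction k with
    | zero => rfl
    | succ k ih =>
      rw [qFac, show 2 * (k + 1) = 2 * k + 1 + 1 by ring, Finset.prod_range_succ, Finset.prod_range_succ,
        show ∏ t ∈ Finset.range (2 * k), (q ^ (t + 1) - 1) = qFac q (2 * k) from rfl, ih, Finset.prod_range_succ,
        Finset.prod_range_succ, show 2 * (k + 1) = 2 * k + 1 + 1 by ring]
      ring
  set P₁ := ∏ i ∈ Finset.range m, (q ^ (2 * i + 1) - 1)
  set P₂ := ∏ i ∈ Finset.range m, (q ^ (2 * (i + 1)) - 1)
  have hP₂ : 0 < P₂ := Finset.prod_pos fun i _ => Nat.sub_pos_of_lt (Nat.one_lt_pow (by omega) hq2)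
  have hq' : qFac q n = P₁ * P₂ := hnm ▸ hsplit m
  rw [hq'] at h1
  have h2 : ((q - 1) * w * q ^ (m ^ 2)) * H.index = q ^ (∑ j ∈ Finset.range n, j) * P₁ :=
    Nat.eq_of_mul_eq_mul_right hP₂ (by rw [mul_assoc (q ^ _) P₁, ← h1]; ring)
  have hd : r ∣ q ^ (∑ j ∈ Finset.range n, j) * P₁ := h2 ▸ hΩ.mul_left _
  rcases (Nat.Prime.dvd_mul hr).mp hd with hd | hd
  · exfalso
    obtain ⟨k, rfl⟩ := hpow
    exact hrp ((Nat.prime_dvd_prime_iff_eq hr hp).mp (hr.dvd_of_dvd_pow (hr.dvd_of_dvd_pow hd)))
  · obtain ⟨t, ht, hrt⟩ := (Prime.dvd_finsetProd_iff hr.prime _).mp hd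
    rw [Finset.mem_range] at ht
    refine ⟨t, by omega, orderOf_dvd_of_pow_eq_one ?_⟩
    rw [← ZMod.natCast_eq_zero_iff, Nat.cast_sub (Nat.one_le_pow _ _ (by omega)), sub_eq_zero, Nat.cast_pow,
      Nat.cast_one] at hrt
    exact hrt

end CfsgLib.Derange
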