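import Cfsg.Agent.Lib.Derange.SympReal

/-!
Symplectic maps squaring to a scalar and their invariant totally isotropic subspaces.
-/

set_option autoImplicit false

namespace CfsgLib.Derange.Sp

open Module CfsgLib.Classical CfsgLib.Classical.SympTrans CfsgLib.Classical.SympClasses

universe u

variable {F : Type u} [Field F] {V : Type u} [AddCommGroup V] [Module F V] [FiniteDimensional F V]

/-- A proper invariant totally isotropic subspace extends by an invariant line or, failing a square root, a plane. -/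
theorem exists_step (h2 : (2 : F) ≠ 0) (B : LinearMap.BilinForm F V) (halt : ∀ x, B x x = 0) (g : End F V)
    (hg : ∀ x y, B (g x) (g y) = B x y) {z : F} (hz : z = 1 ∨ z = -1) (hgg : ∀ x, g (g x) = z • x)
    (W : Submodule F V) (hW : ∀ u ∈ W, ∀ v ∈ W, B u v = 0) (hWg : ∀ v ∈ W, g v ∈ W) :
    (∃ s : F, s * s = z) → finrank F W < finrank F (B.orthogonal W) →
      ∃ W' : Submodule F V, finrank F W' = finrank F W + 1 ∧ (∀ u ∈ W', ∀ v ∈ W', B u v = 0) ∧ ∀ v ∈ W', g v ∈ W' := by
  classical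
  rintro ⟨s, hs⟩ hlt
  have hskew : ∀ x y, B y x = -B x y := fun x y => by
    have h := halt (x + y)
    simp only [map_add, LinearMap.add_apply, halt, zero_add, add_zero] at h
    exact eq_neg_of_add_eq_zero_left h
  obtain ⟨x, hx, hxW⟩ : ∃ x ∈ B.orthogonal W, x ∉ W := by
    by_contra hc
    push Not at hc
    exact (Submodule.finrank_mono hc).not_gt hlt
  have hgo : ∀ v ∈ B.orthogonal W, g v ∈ B.orthogonal W := fun v hv =>
    LinearMap.BilinForm.mem_orthogonal_iff.2 fun w hw => by
      have h1 := hg (g w) v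
      rw [hgg, map_smul, LinearMap.smul_apply, LinearMap.BilinForm.mem_orthogonal_iff.1 hv _ (hWg w hw),
        smul_eq_mul, mul_eq_zero] at h1
      rcases h1 with h1 | h1
      · rcases hz with rfl | rfl <;> simp at h1
      · exact h1
  have hs0 : s ≠ 0 := fun h => by rcases hz with rfl | rfl <;> simp [h] at hs
  obtain ⟨u, c, hu, huW, hgu⟩ : ∃ u, ∃ c : F, u ∈ B.orthogonal W ∧ u ∉ W ∧ g u = c • u := by
    by_cases h1 : s • x + g x ∈ W
    · refine ⟨s • x - g x, -s, Submodule.sub_mem _ (Submodule.smul_mem _ _ hx) (hgo x hx), fun h3 => hxW ?_, ?_⟩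
      · have h4 := W.add_mem h1 h3
        rw [add_add_sub_cancel, ← add_smul, Submodule.smul_mem_iff _ (by rw [← two_mul]; exact mul_ne_zero h2 hs0)] at h4
        exact h4
      · rw [map_sub, map_smul, hgg, smul_sub, smul_smul, neg_mul, hs, neg_smul, neg_smul]; abel
    · refine ⟨_, s, Submodule.add_mem _ (Submodule.smul_mem _ _ hx) (hgo x hx), h1, ?_⟩
      rw [map_add, map_smul, hgg, smul_add, smul_smul, hs]; abel
  refine ⟨W ⊔ Submodule.span F {u}, ?_, ?_, ?_⟩
  · have h1 := Submodule.finrank_sup_add_finrank_inf_eq W (Submodule.span F {u})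
    rw [show W ⊓ Submodule.span F {u} = ⊥ from (Submodule.eq_bot_iff _).2 fun w hw => by
        obtain ⟨a, rfl⟩ := Submodule.mem_span_singleton.1 hw.2
        by_contra hc
        exact huW ((Submodule.smul_mem_iff _ (fun h => hc (by rw [h, zero_smul]))).1 hw.1),
      finrank_bot, add_zero, finrank_span_singleton (fun h => huW (by rw [h]; exact W.zero_mem))] at h1
    exact h1
  · intro a ha b hb
    obtain ⟨a₁, ha₁, a₂, ha₂, rfl⟩ := Submodule.mem_sup.1 ha
    obtain ⟨b₁, hb₁, b₂, hb₂, rfl⟩ := Submodule.mem_sup.1 hb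
    obtain ⟨a, rfl⟩ := Submodule.mem_span_singleton.1 ha₂
    obtain ⟨b, rfl⟩ := Submodule.mem_span_singleton.1 hb₂
    have h1 := LinearMap.BilinForm.mem_orthogonal_iff.1 hu
    simp [hW _ ha₁ _ hb₁, halt u, h1 _ ha₁, hskew b₁ u, h1 _ hb₁]
  · intro v hv
    obtain ⟨v₁, hv₁, v₂, hv₂, rfl⟩ := Submodule.mem_sup.1 hv
    obtain ⟨a, rfl⟩ := Submodule.mem_span_singleton.1 hv₂
    rw [map_add, map_smul, hgu, smul_smul]
    exact add_mem (Submodule.mem_sup_left (hWg _ hv₁))
      (Submodule.mem_sup_right (Submodule.smul_mem _ _ (Submodule.mem_span_singleton_self u)))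

/-- Without a square root of `-1` there still are invariant planes. -/
theorem exists_step_two [Fintype F] (h2 : (2 : F) ≠ 0) (B : LinearMap.BilinForm F V) (halt : ∀ x, B x x = 0)
    (g : End F V) (hg : ∀ x y, B (g x) (g y) = B x y) (hgg : ∀ x, g (g x) = -x) (hns : ¬ IsSquare (-1 : F))
    (W : Submodule F V) (hW : ∀ u ∈ W, ∀ v ∈ W, B u v = 0) (hWg : ∀ v ∈ W, g v ∈ W)
    (hlt : finrank F W + 2 < finrank F (B.orthogonal W)) :
    ∃ W' : Submodule F V, finrank F W' = finrank F W + 2 ∧ (∀ u ∈ W', ∀ v ∈ W', B u v = 0) ∧ ∀ v ∈ W', g v ∈ W' := by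
  classical
  have hskew : ∀ x y, B y x = -B x y := fun x y => by
    have h := halt (x + y)
    simp only [map_add, LinearMap.add_apply, halt, zero_add, add_zero] at h
    exact eq_neg_of_add_eq_zero_left h
  have hadj : ∀ x y, B x (g y) = -B (g x) y := fun x y => by
    rw [← hg x (g y), hgg, map_neg]
  have hgo : ∀ v ∈ B.orthogonal W, g v ∈ B.orthogonal W := fun v hv =>
    LinearMap.BilinForm.mem_orthogonal_iff.2 fun w hw => by
      rw [hadj, LinearMap.BilinForm.mem_orthogonal_iff.1 hv _ (hWg w hw), neg_zero]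
  obtain ⟨u, hu, huW, huQ⟩ : ∃ u ∈ B.orthogonal W, u ∉ W ∧ B u (g u) = 0 := by
    obtain ⟨x, hx, hxW⟩ : ∃ x ∈ B.orthogonal W, x ∉ W := by
      by_contra hc
      push Not at hc
      have := Submodule.finrank_mono (t := W) hc
      omega
    by_cases hQx : B x (g x) = 0
    · exact ⟨x, hx, hxW, hQx⟩
    let ψ : ↥(B.orthogonal W) →ₗ[F] F × F := ((B x).prod (B (g x))).comp (B.orthogonal W).subtype
    obtain ⟨y, hy, hy1, hy2, hyW⟩ : ∃ y ∈ B.orthogonal W, B x y = 0 ∧ B (g x) y = 0 ∧ y ∉ W := by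
      by_contra hc
      push Not at hc
      have h1 := ψ.finrank_range_add_finrank_ker
      have h3 : finrank F (LinearMap.range ψ) ≤ 2 := (Submodule.finrank_le _).trans (by simp)
      have h4 : finrank F (LinearMap.ker ψ) ≤ finrank F W := by
        rw [← (Submodule.equivMapOfInjective _ (Submodule.injective_subtype _) (LinearMap.ker ψ)).finrank_eq.symm]
        refine Submodule.finrank_mono ?_
        rintro _ ⟨v, hv, rfl⟩
        have hv' : ψ v = 0 := hv
        exact hc v.1 v.2 (congrArg Prod.fst hv') (congrArg Prod.snd hv')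
      omega
    obtain ⟨α, β, hαβ⟩ : ∃ α β : F, α ^ 2 + β ^ 2 = -(B y (g y)) / B x (g x) := by
      obtain ⟨a, b, h⟩ := FiniteField.exists_root_sum_quadratic (f := (Polynomial.X : Polynomial F) ^ 2)
        (g := (Polynomial.X : Polynomial F) ^ 2 - Polynomial.C (-(B y (g y)) / B x (g x)))
        (Polynomial.degree_X_pow 2) (Polynomial.degree_X_pow_sub_C two_pos _)
        (FiniteField.odd_card_of_char_ne_two fun e => h2 (by
          rw [show (2 : F) = ((2 : ℕ) : F) from Nat.cast_ofNat.symm, ← e]; exact ringChar.Nat.cast_ringChar))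
      refine ⟨a, b, ?_⟩
      simp at h
      linear_combination h
    refine ⟨α • x + β • g x + y, Submodule.add_mem _ (Submodule.add_mem _ (Submodule.smul_mem _ _ hx)
      (Submodule.smul_mem _ _ (hgo x hx))) hy, fun h => ?_, ?_⟩
    · have h1 := LinearMap.BilinForm.mem_orthogonal_iff.1 hx _ h
      have h3 := LinearMap.BilinForm.mem_orthogonal_iff.1 (hgo x hx) _ h
      simp only [map_add, map_smul, LinearMap.add_apply, LinearMap.smul_apply, smul_eq_mul, halt, mul_zero,
        zero_add, add_zero, hskew x (g x), hskew x y, hskew (g x) y, hy1, hy2, neg_zero, mul_neg, neg_eq_zero,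
        mul_eq_zero, hQx, or_false] at h1 h3
      rw [h1, h3, zero_smul, zero_smul, zero_add, zero_add] at h
      exact hyW h
    · have e1 : B x (g y) = 0 := by rw [hadj, hy2, neg_zero]
      have e2 : B (g x) (g y) = 0 := by rw [hg, hy1]
      have e3 : B y (g x) = 0 := by rw [hskew (g x) y, hy2, neg_zero]
      have e4 : B y x = 0 := by rw [hskew x y, hy1, neg_zero]
      simp only [map_add, map_smul, map_neg, hgg, LinearMap.add_apply, LinearMap.smul_apply, smul_eq_mul, smul_neg,
        LinearMap.neg_apply, halt, e1, e2, e3, e4, hskew x (g x), hg]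
      field_simp at hαβ
      linear_combination hαβ
  have hgu : g u ∈ B.orthogonal W := hgo u hu
  have hind : ∀ a b : F, a • u + b • g u ∈ W → a = 0 ∧ b = 0 := fun a b h => by
    by_contra hc
    have hne : a ^ 2 + b ^ 2 ≠ 0 := fun h0 => by
      by_cases hb : b = 0
      · exact hc ⟨by simpa [hb] using h0, hb⟩
      · exact hns ⟨a / b, by field_simp; linear_combination -h0⟩
    refine huW ((Submodule.smul_mem_iff _ hne).1 ?_)
    have h1 := W.sub_mem (W.smul_mem a h) (W.smul_mem b (hWg _ h))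
    rw [map_add, map_smul, map_smul, hgg] at h1
    convert h1 using 1
    module
  let φ : (F × F) →ₗ[F] V := LinearMap.coprod (LinearMap.toSpanSingleton F V u) (LinearMap.toSpanSingleton F V (g u))
  have hφ : ∀ a b : F, φ (a, b) = a • u + b • g u := fun a b => rfl
  refine ⟨W ⊔ LinearMap.range φ, ?_, ?_, ?_⟩
  · have h1 := Submodule.finrank_sup_add_finrank_inf_eq W (LinearMap.range φ)
    rw [show W ⊓ LinearMap.range φ = ⊥ from (Submodule.eq_bot_iff _).2 fun w hw => by
        obtain ⟨⟨a, b⟩, rfl⟩ := hw.2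
        obtain ⟨rfl, rfl⟩ := hind a b hw.1
        simp [hφ],
      finrank_bot, add_zero, LinearMap.finrank_range_of_inj (f := φ) (LinearMap.ker_eq_bot.1 <|
        LinearMap.ker_eq_bot'.2 fun ab h => by
          obtain ⟨a, b⟩ := ab
          have h' : a • u + b • g u = 0 := h
          obtain ⟨rfl, rfl⟩ := hind a b (h'.symm ▸ W.zero_mem)
          rfl)] at h1
    simpa using h1
  · intro a ha b hb
    obtain ⟨a₁, ha₁, a₂, ⟨⟨c, d⟩, rfl⟩, rfl⟩ := Submodule.mem_sup.1 ha
    obtain ⟨b₁, hb₁, b₂, ⟨⟨c', d'⟩, rfl⟩, rfl⟩ := Submodule.mem_sup.1 hb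
    have h1 := LinearMap.BilinForm.mem_orthogonal_iff.1 hu
    have h3 := LinearMap.BilinForm.mem_orthogonal_iff.1 hgu
    simp [hφ, hW _ ha₁ _ hb₁, halt, huQ, hskew u (g u), hskew b₁ u, hskew b₁ (g u), h1 _ ha₁, h1 _ hb₁, h3 _ ha₁, h3 _ hb₁]
  · intro v hv
    obtain ⟨v₁, hv₁, v₂, ⟨⟨a, b⟩, rfl⟩, rfl⟩ := Submodule.mem_sup.1 hv
    rw [map_add]
    refine add_mem (Submodule.mem_sup_left (hWg _ hv₁)) (Submodule.mem_sup_right ⟨(-b, a), ?_⟩)
    rw [hφ, hφ, map_add, map_smul, map_smul, hgg]
    module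

end CfsgLib.Derange.Sp
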