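import Cfsg.Agent.Lib.Derange.SingProfile
import Cfsg.Agent.Lib.Derange.SingSub
import Cfsg.Agent.Lib.Derange.OrthReal
import Cfsg.Agent.Lib.Classical.SympLagrangian
import Cfsg.Agent.Lib.Classical.SympCompanion

/-!
Symplectic isometries of odd prime order and their characteristic polynomials: existence, invariant non-degenerate
and totally isotropic subspaces.
-/

set_option autoImplicit false
set_option linter.style.haveILetI false

namespace CfsgLib.Derange.Sp

open Polynomial Module Matrix CfsgLib.SympCount CfsgLib.Classical CfsgLib.Classical.SympTrans CfsgLib.Classical.SympClasses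
open CfsgLib.Classical.UnitaryTwistPoly CfsgLib.Classical.OrthPrimeFactors CfsgLib.Classical.OrthPrimeReal

universe u

variable {F : Type u} [Field F]

local notation "τ" => tw (RingHom.id F)
local notation "G" d => Matrix.symplecticGroup (Fin d) F

/-- The characteristic polynomial of an element. -/
noncomputable abbrev cp {d : ℕ} (y : G d) : F[X] := (y : Matrix (Fin d ⊕ Fin d) (Fin d ⊕ Fin d) F).charpoly

/-- The linear map of an element. -/
noncomputable abbrev lin {d : ℕ} (y : G d) : End F (Fin d ⊕ Fin d → F) :=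
  Matrix.toLin' (y : Matrix (Fin d ⊕ Fin d) (Fin d ⊕ Fin d) F)

theorem lin_pow {d r : ℕ} (y : G d) (hy : y ^ r = 1) : lin y ^ r = 1 := by
  rw [← Matrix.toLin'_pow, ← SubmonoidClass.coe_pow, hy]
  exact Matrix.toLin'_one

/-- An isometry of a symplectic space moved to the standard one. -/
theorem exists_std {V : Type u} [AddCommGroup V] [Module F V] [FiniteDimensional F V] {B : LinearMap.BilinForm F V}
    (hB : Symp B) {d r : ℕ} (hd : finrank F V = 2 * d) (T : End F V) (hT : ∀ x y, B (T x) (T y) = B x y)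
    (hr : T ^ r = 1) :
    ∃ (y : G d) (e : V ≃ₗ[F] (Fin d ⊕ Fin d → F)), y ^ r = 1 ∧ cp y = T.charpoly ∧
      IsIsometry (sb F d) B e ∧ ∀ v, lin y (e v) = e (T v) := by
  classical
  obtain ⟨e, he⟩ := exists_isometry (symp_sb F d) hB (by rw [hd]; simp; ring)
  have hmem : LinearMap.toMatrix' (e.conj T) ∈ Matrix.symplecticGroup (Fin d) F := mem_iff_f.2 fun u v => by
    rw [← Matrix.toLin'_apply, ← Matrix.toLin'_apply, Matrix.toLin'_toMatrix', ← sb_apply, ← sb_apply]
    show sb F d (e (T (e.symm u))) (e (T (e.symm v))) = _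
    rw [he, hT, ← he, e.apply_symm_apply, e.apply_symm_apply]
  refine ⟨⟨_, hmem⟩, e, ?_, ?_, he, fun v => ?_⟩
  · refine Subtype.ext (Matrix.toLin'.injective ?_)
    rw [SubmonoidClass.coe_pow, Matrix.toLin'_pow, Matrix.toLin'_toMatrix', OneMemClass.coe_one, Matrix.toLin'_one,
      show e.conj T ^ r = e.conj (T ^ r) from (map_pow e.conjRingEquiv T r).symm, hr]
    exact map_one e.conjRingEquiv
  · rw [cp, ← Matrix.charpoly_toLin', Matrix.toLin'_toMatrix', LinearEquiv.charpoly_conj]
  · show Matrix.toLin' (LinearMap.toMatrix' (e.conj T)) (e v) = _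
    rw [Matrix.toLin'_toMatrix', LinearEquiv.conj_apply_apply, e.symm_apply_apply]

theorem lin_inj {d : ℕ} (y : G d) : Function.Injective (lin y) :=
  Function.LeftInverse.injective (g := app y⁻¹) (app_inv y)

theorem prodMap_pow_one {V W : Type u} [AddCommGroup V] [Module F V] [AddCommGroup W] [Module F W] {f : End F V}
    {g : End F W} {r : ℕ} (hf : f ^ r = 1) (hg : g ^ r = 1) : (LinearMap.prodMap f g : End F (V × W)) ^ r = 1 := by
  show (LinearMap.prodMapRingHom F V W (f, g)) ^ r = 1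
  rw [← map_pow, Prod.pow_mk, hf, hg]
  exact map_one _

theorem finrank_std (n : ℕ) : finrank F (Fin n ⊕ Fin n → F) = 2 * n := by
  rw [Module.finrank_pi]; simp; ring

variable [Fintype F] {p : ℕ} [hp : Fact p.Prime] [CharP F p] {q r i t : ℕ} {D : Finset F[X]}

include hp in
/-- Elements of order dividing `r` with one characteristic polynomial are conjugate. -/
theorem isConj_of_cp (X' : Ctx F p q r i t D) {d : ℕ} (y z : G d) (hy : y ^ r = 1) (hz : z ^ r = 1)
    (h : cp y = cp z) : IsConj y z := by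
  have hco : r.Coprime p := (Nat.coprime_primes X'.prime hp.out).mpr X'.ne_char
  exact SympClasses.isConj_of_charpoly_eq (p := p) y z (hco.coprime_dvd_left (orderOf_dvd_of_pow_eq_one hy))
    (hco.coprime_dvd_left (orderOf_dvd_of_pow_eq_one hz)) h

include hp in
/-- The shape of an element. -/
theorem exists_shaped_cp (X' : Ctx F p q r i t D) {d : ℕ} (y : G d) (hy : y ^ r = 1) :
    ∃ e K, Shaped i D (cp y) e K ∧ e + unitDim i * K = 2 * d := by
  refine exists_shaped X'.facts ⟨Matrix.charpoly_monic _, by rw [Matrix.charpoly_natDegree_eq_dim]; simp; ring, ?_,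
    fun P hi hm hd => ?_⟩
  · obtain ⟨h0, hrev⟩ := SympCompanion.charpoly_palindromic y
    exact (SympPrimeOrder.tw_eq_reverse h0).trans hrev
  · haveI := Fact.mk hi
    refine (X'.facts.dvd P hi hm).mp (SemisimpleClasses.dvd_of_dvd_charpoly _ hd ?_)
    rw [map_sub, map_pow, aeval_X, map_one, ← SubmonoidClass.coe_pow, hy]
    simp

include hp in
/-- The shape of an isometry. -/
theorem shaped_of_isometry (X' : Ctx F p q r i t D) {V : Type u} [AddCommGroup V] [Module F V]
    [FiniteDimensional F V] {B : LinearMap.BilinForm F V} (hB : Symp B) {d : ℕ} (hd : finrank F V = 2 * d)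
    (T : End F V) (hT : ∀ x y, B (T x) (T y) = B x y) (hr : T ^ r = 1) :
    ∃ e K, Shaped i D T.charpoly e K ∧ e + unitDim i * K = 2 * d := by
  obtain ⟨y, -, hy, hc, -⟩ := exists_std hB hd T hT hr
  rw [← hc]
  exact exists_shaped_cp X' y hy

include hp in
/-- Every shape occurs. -/
theorem exists_of_shaped (X' : Ctx F p q r i t D) {d : ℕ} {f : F[X]} {e K : ℕ} (hf : Shaped i D f e K)
    (hd : e + unitDim i * K = 2 * d) : ∃ y : G d, y ^ r = 1 ∧ cp y = f := by
  classical
  have hT := hd ▸ hf.isT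
  obtain ⟨g, hfg, hg, hgd⟩ := hf
  have heven : Even e := by
    obtain ⟨w, hw⟩ : Even (unitDim i * K) := even_unitDim.mul_right K
    exact ⟨d - w, by omega⟩
  have hg0 : g.coeff 0 = 1 := SympPrimeOrder.coeff_zero_eq_one hg.monic (fun h => by
    have hX : (X : F[X]) ∈ D := hg.factors X irreducible_X monic_X (X_dvd_iff.2 h)
    exact X'.facts.c0 X hX coeff_X_zero) hg.fixed (hg.eval_one X'.facts)
  have h0 : f.coeff 0 = 1 := by
    rw [hfg, mul_coeff_zero, hg0, mul_one, coeff_zero_eq_eval_zero]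
    simp [heven.neg_one_pow]
  have hrev : f.reverse = f := (SympPrimeOrder.tw_eq_reverse h0).symm.trans hT.2.2.1
  obtain ⟨y, hy, hc⟩ := SympCompanion.exists_semisimple (p := p) f hT.1 hT.2.1 h0 hrev
  refine ⟨y, Subtype.ext ?_, hc⟩
  rw [SubmonoidClass.coe_pow, OneMemClass.coe_one]
  refine pow_eq_one_of_factors (p := p) X'.prime.pos _ hy
    (by rw [← SubmonoidClass.coe_pow, pow_orderOf_eq_one]; rfl) fun P hi hd' => ?_
  obtain ⟨hm, hn⟩ := (⟨monic_normalize hi.ne_zero, normalize_associated P⟩ :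
    (normalize P).Monic ∧ Associated (normalize P) P)
  have hPi := hn.symm.irreducible hi
  exact hn.symm.dvd.trans ((X'.facts.dvd _ hPi hm).mpr (hT.2.2.2 _ hPi hm (hn.dvd.trans (hc ▸ hd'))))

include hp in
/-- An element fixes a subspace as soon as one with the same polynomial does. -/
theorem transport (X' : Ctx F p q r i t D) {d : ℕ} (y z : G d) (hy : y ^ r = 1) (hz : z ^ r = 1)
    (h : cp y = cp z) (L : Submodule F (Fin d ⊕ Fin d → F)) (hL : ∀ v ∈ L, lin y v ∈ L) :
    ∃ k : G d, (∀ v ∈ L.map (lin k), lin z v ∈ L.map (lin k)) ∧ finrank F ↥(L.map (lin k)) = finrank F L := by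
  obtain ⟨k, hk⟩ := isConj_iff.mp (isConj_of_cp X' y z hy hz h)
  refine ⟨k, ?_, ?_⟩
  · rintro _ ⟨v, hv, rfl⟩
    refine ⟨lin y v, hL v hv, ?_⟩
    show app k (app y v) = app z (app k v)
    rw [← hk, ← app_mul, ← app_mul, inv_mul_cancel_right]
  · exact (Submodule.equivMapOfInjective (lin k) (fun a b hab => lin_inj k hab) L).finrank_eq.symm

include hp in
/-- A split shape gives an invariant non-degenerate subspace. -/
theorem exists_nondeg (X' : Ctx F p q r i t D) {d a b : ℕ} (hab : a + b = d) (y : G d) (hy : y ^ r = 1)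
    {fA fB : F[X]} {e K e' A : ℕ} (hA : Shaped i D fA e' A) (hAd : e' + unitDim i * A = 2 * a)
    (hB : Shaped i D fB e K) (hBd : e + unitDim i * K = 2 * b) (hc : cp y = fA * fB) :
    ∃ W : Submodule F (Fin d ⊕ Fin d → F), finrank F W = 2 * a ∧
      (∀ u ∈ W, (∀ v ∈ W, sb F d u v = 0) → u = 0) ∧ ∀ v ∈ W, lin y v ∈ W := by
  classical
  obtain ⟨ya, hya, hca⟩ := exists_of_shaped X' hA hAd
  obtain ⟨yb, hyb, hcb⟩ := exists_of_shaped X' hB hBd
  let T := LinearMap.prodMap (lin ya) (lin yb)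
  obtain ⟨z, e₀, hz, hzc, hiso, hint⟩ := exists_std (d := d) (r := r) ((symp_sb F a).prod (symp_sb F b))
    (by rw [Module.finrank_prod, finrank_std, finrank_std]; omega) T
    (fun x w => by
      simp only [prodForm_apply, T, LinearMap.prodMap_apply]
      rw [app_isometry, app_isometry])
    (prodMap_pow_one (lin_pow ya hya) (lin_pow yb hyb))
  rw [LinearMap.charpoly_prodMap, Matrix.charpoly_toLin', Matrix.charpoly_toLin'] at hzc
  let f : (Fin a ⊕ Fin a → F) →ₗ[F] (Fin d ⊕ Fin d → F) := e₀.toLinearMap ∘ₗ LinearMap.inl F _ _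
  have hf : Function.Injective f := fun u v h => congrArg Prod.fst (e₀.injective h)
  obtain ⟨k, hk, hkd⟩ := transport X' z y hz hy (by rw [hzc, hc, ← hca, ← hcb]) (LinearMap.range f) (by
    rintro _ ⟨u, rfl⟩
    refine ⟨lin ya u, ?_⟩
    show e₀ (lin ya u, 0) = lin z (e₀ (u, 0))
    rw [hint]
    show e₀ (lin ya u, 0) = e₀ (lin ya u, lin yb 0)
    rw [map_zero])
  refine ⟨(LinearMap.range f).map (lin k), ?_, ?_, hk⟩
  · rw [hkd, LinearMap.finrank_range_of_inj hf, finrank_std]
  · rintro _ ⟨_, ⟨u, rfl⟩, rfl⟩ h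
    have h0 : u = 0 := (symp_sb F a).nd u fun v => by
      have h1 := h _ ⟨f v, ⟨v, rfl⟩, rfl⟩
      rw [app_isometry] at h1
      show sb F a u v = 0
      have h3 : sb F d (e₀ (u, 0)) (e₀ (v, 0)) = 0 := h1
      rw [hiso, prodForm_apply, map_zero, add_zero] at h3
      exact h3
    rw [h0, map_zero, map_zero]

omit [Fintype F] in
theorem restrict_pow {V : Type u} [AddCommGroup V] [Module F V] {T : End F V} {W : Submodule F V}
    (hW : ∀ v ∈ W, T v ∈ W) {r : ℕ} (hr : T ^ r = 1) : (T.restrict hW) ^ r = 1 := LinearMap.ext fun v => Subtype.ext (by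
  rw [Module.End.pow_restrict]
  show (T ^ r) v = v
  rw [hr]; rfl)

/-- The isometries of a form respect orthogonals. -/
theorem invariant_orthogonal {d : ℕ} (y : G d) {W : Submodule F (Fin d ⊕ Fin d → F)} (hW : ∀ v ∈ W, lin y v ∈ W) :
    ∀ v ∈ (sb F d).orthogonal W, lin y v ∈ (sb F d).orthogonal W := fun v hv => by
  rw [LinearMap.BilinForm.mem_orthogonal_iff] at hv ⊢
  intro u hu
  have hinj : Function.Injective ((lin y).restrict hW) := fun a b h =>
    Subtype.ext (lin_inj y (congrArg Subtype.val h))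
  obtain ⟨u₀, hu₀⟩ := (LinearMap.injective_iff_surjective.mp hinj) ⟨u, hu⟩
  have e : lin y (u₀ : Fin d ⊕ Fin d → F) = u := congrArg Subtype.val hu₀
  rw [← e]
  exact (app_isometry y _ _).trans (hv _ u₀.2)

theorem sb_refl (d : ℕ) : (sb F d).IsRefl := (symp_sb F d).alt.isRefl

theorem sb_nondeg (d : ℕ) : (sb F d).Nondegenerate :=
  ⟨(symp_sb F d).nd, fun v h => (symp_sb F d).nd v fun w => sb_refl d w v (h w)⟩

include hp in
/-- An invariant non-degenerate subspace splits the shape. -/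
theorem shapes_of_nondeg (X' : Ctx F p q r i t D) {d a : ℕ} (y : G d) (hy : y ^ r = 1)
    {W : Submodule F (Fin d ⊕ Fin d → F)} (hd : finrank F W = 2 * a)
    (hn : ∀ u ∈ W, (∀ v ∈ W, sb F d u v = 0) → u = 0) (hW : ∀ v ∈ W, lin y v ∈ W) :
    ∃ fA fB e K e' A, Shaped i D fA e' A ∧ e' + unitDim i * A = 2 * a ∧ Shaped i D fB e K ∧ cp y = fA * fB := by
  classical
  set W' := (sb F d).orthogonal W
  have hdisj : Disjoint W W' := Submodule.disjoint_def.2 fun u hu hu' => hn u hu fun v hv =>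
    sb_refl d v u (LinearMap.BilinForm.mem_orthogonal_iff.1 hu' v hv)
  have hc : IsCompl W W' := (LinearMap.BilinForm.isCompl_orthogonal_iff_disjoint (sb_refl d)).2 hdisj
  obtain ⟨hS, hS'⟩ := (symp_sb F d).restrict hc fun k hk v hv =>
    sb_refl d k v (LinearMap.BilinForm.mem_orthogonal_iff.1 hv k hk)
  have hW' := invariant_orthogonal y hW
  obtain ⟨b, hb⟩ := SympCount.even_finrank hS'
  obtain ⟨e', A, hA, hAd⟩ := shaped_of_isometry X' hS hd ((lin y).restrict hW) (fun u v => app_isometry y _ _)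
    (restrict_pow hW (lin_pow y hy))
  obtain ⟨e, K, hK, -⟩ := shaped_of_isometry X' hS' hb ((lin y).restrict hW') (fun u v => app_isometry y _ _)
    (restrict_pow hW' (lin_pow y hy))
  refine ⟨_, _, e, K, e', A, hA, hAd, hK, ?_⟩
  rw [cp, ← Matrix.charpoly_toLin', charpoly_of_isCompl _ hW hW' hc]

include hp in
/-- A pair of dual blocks gives an invariant totally isotropic subspace. -/
theorem exists_isotropic (X' : Ctx F p q r i t D) {d m b : ℕ} (hmb : m + b = d) (y : G d) (hy : y ^ r = 1)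
    {h g : F[X]} {e' A e K : ℕ} (hh : Half D h e' A) (hhd : e' + i * A = m) (hg : Shaped i D g e K)
    (hgd : e + unitDim i * K = 2 * b) (hc : cp y = h * τ h * g) :
    ∃ W : Submodule F (Fin d ⊕ Fin d → F), finrank F W = m ∧ (∀ u ∈ W, ∀ v ∈ W, sb F d u v = 0) ∧
      ∀ v ∈ W, lin y v ∈ W := by
  classical
  obtain ⟨hm, hd, h0, hP, -⟩ := hh.facts X'.facts
  obtain ⟨A', hA, hAc⟩ := SemisimpleClasses.exists_semisimple (p := p) h hm (hd.trans hhd) h0
  have hAr : (A' : Matrix (Fin m) (Fin m) F) ^ r = 1 := pow_eq_one_of_factors (p := p) X'.prime.pos _ hA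
    (by rw [← Units.val_pow_eq_pow_val, pow_orderOf_eq_one, Units.val_one]) (hAc ▸ hP)
  set N := (((A'⁻¹ : GL (Fin m) F) : Matrix (Fin m) (Fin m) F)).transpose with hNdef
  have hNr : N ^ r = 1 := by
    rw [hNdef, ← Matrix.transpose_pow, ← Units.val_pow_eq_pow_val, inv_pow,
      show A' ^ r = 1 from Units.ext (by rw [Units.val_pow_eq_pow_val]; exact hAr), inv_one, Units.val_one,
      Matrix.transpose_one]
  have hNM : ∀ u v, (N *ᵥ u) ⬝ᵥ ((A' : Matrix (Fin m) (Fin m) F) *ᵥ v) = u ⬝ᵥ v := fun u v => by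
    rw [hNdef, Matrix.mulVec_transpose, ← Matrix.dotProduct_mulVec, Matrix.mulVec_mulVec,
      show (((A'⁻¹ : GL (Fin m) F) : Matrix (Fin m) (Fin m) F)) * (A' : Matrix (Fin m) (Fin m) F) = 1 from A'.inv_mul,
      Matrix.one_mulVec]
  obtain ⟨yb, hyb, hcb⟩ := exists_of_shaped X' hg hgd
  let P := LinearMap.prodMap (Matrix.toLin' (A' : Matrix (Fin m) (Fin m) F)) (Matrix.toLin' N)
  obtain ⟨z, e₀, hz, hzc, hiso, hint⟩ := exists_std (d := d) (r := r) ((lagForm_symp (F := F) m).prod (symp_sb F b))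
    (by rw [Module.finrank_prod, Module.finrank_prod, finrank_std, Module.finrank_fin_fun]; omega)
    (LinearMap.prodMap P (lin yb))
    (fun x w => by
      simp only [prodForm_apply, LinearMap.prodMap_apply]
      rw [app_isometry]
      congr 1
      simp only [P, lagForm_apply, LinearMap.prodMap_apply, Matrix.toLin'_apply]
      rw [dotProduct_comm (_ *ᵥ x.1.1), hNM, hNM, dotProduct_comm w.1.2])
    (prodMap_pow_one (prodMap_pow_one
      (by rw [← Matrix.toLin'_pow, hAr]; exact Matrix.toLin'_one)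
      (by rw [← Matrix.toLin'_pow, hNr]; exact Matrix.toLin'_one)) (lin_pow yb hyb))
  rw [LinearMap.charpoly_prodMap, LinearMap.charpoly_prodMap, Matrix.charpoly_toLin', Matrix.charpoly_toLin',
    Matrix.charpoly_toLin', hNdef, Matrix.charpoly_transpose, charpoly_inv_tw, hAc] at hzc
  let f : (Fin m → F) →ₗ[F] (Fin d ⊕ Fin d → F) :=
    e₀.toLinearMap ∘ₗ LinearMap.inl F _ _ ∘ₗ LinearMap.inl F _ _
  have hf : Function.Injective f := fun u v h => congrArg (fun z => z.1.1) (e₀.injective h)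
  obtain ⟨k, hk, hkd⟩ := transport X' z y hz hy (by rw [hzc, hc, ← hcb]) (LinearMap.range f) (by
    rintro _ ⟨u, rfl⟩
    refine ⟨(A' : Matrix (Fin m) (Fin m) F) *ᵥ u, ?_⟩
    show e₀ ((_, 0), 0) = lin z (e₀ ((u, 0), 0))
    rw [hint]
    simp [P, LinearMap.prodMap_apply])
  refine ⟨(LinearMap.range f).map (lin k), ?_, ?_, hk⟩
  · rw [hkd, LinearMap.finrank_range_of_inj hf, Module.finrank_fin_fun]
  · rintro _ ⟨_, ⟨u, rfl⟩, rfl⟩ _ ⟨_, ⟨v, rfl⟩, rfl⟩
    rw [app_isometry]
    show sb F d (e₀ ((u, 0), 0)) (e₀ ((v, 0), 0)) = 0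
    rw [hiso, prodForm_apply]
    simp

include hp in
/-- An invariant totally isotropic subspace gives a pair of dual blocks. -/
theorem shapes_of_isotropic (X' : Ctx F p q r i t D) {d m : ℕ} (y : G d) (hy : y ^ r = 1)
    {W : Submodule F (Fin d ⊕ Fin d → F)} (hd : finrank F W = m) (hs : ∀ u ∈ W, ∀ v ∈ W, sb F d u v = 0)
    (hW : ∀ v ∈ W, lin y v ∈ W) :
    ∃ h g e' A e K, Half D h e' A ∧ e' + i * A = m ∧ Shaped i D g e K ∧ cp y = h * τ h * g := by
  classical
  set T := lin y with hT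
  have hTr := lin_pow y hy
  set W' := (sb F d).orthogonal W
  have hTW' : ∀ v ∈ W', T v ∈ W' := invariant_orthogonal y hW
  obtain ⟨C, hC, hCc⟩ := Module.End.isSemisimple_iff.1
    (SemisimpleDet.isSemisimple_of_pow p T (k := r)
      (fun h => X'.ne_char ((Nat.prime_dvd_prime_iff_eq hp.out X'.prime).mp h).symm) hTr) W' hTW'
  have hTC : ∀ c ∈ C, T c ∈ C := hC
  have hWo : W ≤ W' := fun u hu => LinearMap.BilinForm.mem_orthogonal_iff.2 fun v hv => hs v hv u hu
  have hCd : finrank F C = m := by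
    have h1 := Submodule.finrank_add_eq_of_isCompl hCc
    have h3 : finrank F W' = _ := LinearMap.BilinForm.finrank_orthogonal (sb_nondeg d) W
    have h4 := Submodule.finrank_le W
    rw [hd] at h3 h4
    omega
  let ψ : C →ₗ[F] Module.Dual F W := LinearMap.domRestrict₁₂ (sb F d) C W
  have hψ : ∀ c w, ψ c w = sb F d (c : Fin d ⊕ Fin d → F) (w : Fin d ⊕ Fin d → F) := fun c w => rfl
  have hψi : Function.Injective ψ := LinearMap.ker_eq_bot.1 (LinearMap.ker_eq_bot'.2 fun c hc => Subtype.ext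
    (Submodule.disjoint_def.1 hCc.disjoint _ (LinearMap.BilinForm.mem_orthogonal_iff.2 fun w hw =>
      sb_refl d _ _ ((hψ c ⟨w, hw⟩).symm.trans (LinearMap.congr_fun hc ⟨w, hw⟩))) c.2))
  have hTWr := restrict_pow hW hTr
  set S := (T.restrict hW) ^ (r - 1) with hS
  have hTS : T.restrict hW * S = 1 := by
    rw [hS, ← pow_succ', Nat.sub_add_cancel X'.prime.one_le, hTWr]
  let eψ : C ≃ₗ[F] Module.Dual F W :=
    LinearEquiv.ofBijective ψ ⟨hψi, (LinearMap.injective_iff_surjective_of_finrank_eq_finrank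
      (by rw [Subspace.dual_finrank_eq, hCd, hd])).1 hψi⟩
  have hdual : LinearMap.dualMap S = eψ.conj (T.restrict hTC) := LinearMap.ext fun l => by
    obtain ⟨c, rfl⟩ := eψ.surjective l
    rw [LinearEquiv.conj_apply_apply, eψ.symm_apply_apply]
    refine LinearMap.ext fun w => ?_
    show ψ c (S w) = ψ (T.restrict hTC c) w
    rw [hψ, hψ]
    have h1 : T (S w : Fin d ⊕ Fin d → F) = (w : Fin d ⊕ Fin d → F) := congrArg Subtype.val (LinearMap.congr_fun hTS w)
    conv_rhs => rw [← h1]
    exact (app_isometry y _ _).symm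
  have hC' : (T.restrict hTC).charpoly = τ (T.restrict hW).charpoly := by
    rw [← LinearEquiv.charpoly_conj eψ, ← hdual]
    exact charpoly_dual_inv _ _ hTS
  set U := W ⊔ C with hU
  have hUn : ∀ u ∈ U, (∀ v ∈ U, sb F d u v = 0) → u = 0 := fun u hu hh => by
    obtain ⟨w, hw, c, hc, rfl⟩ := Submodule.mem_sup.1 hu
    have hc0 : c = 0 := congrArg Subtype.val (hψi (a₁ := ⟨c, hc⟩) (a₂ := 0) (by
      rw [map_zero]
      refine LinearMap.ext fun w' => ?_
      rw [hψ]
      have := hh w' (Submodule.mem_sup_left w'.2)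
      rw [map_add, LinearMap.add_apply, hs w hw _ w'.2, zero_add] at this
      exact this))
    subst hc0
    rw [add_zero] at hh ⊢
    refine (symp_sb F d).nd w fun z => ?_
    obtain ⟨a, ha, c, hc, rfl⟩ := Submodule.mem_sup.1 (hCc.sup_eq_top ▸ Submodule.mem_top (x := z))
    rw [map_add, LinearMap.BilinForm.mem_orthogonal_iff.1 ha w hw, hh c (Submodule.mem_sup_right hc), add_zero]
  have hTU : ∀ u ∈ U, T u ∈ U := fun u hu => by
    obtain ⟨w, hw, c, hc, rfl⟩ := Submodule.mem_sup.1 hu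
    rw [map_add]; exact add_mem (Submodule.mem_sup_left (hW w hw)) (Submodule.mem_sup_right (hTC c hc))
  have hWC : Disjoint W C := hCc.disjoint.mono_left hWo
  have hUW : (T.restrict hTU).charpoly = (T.restrict hW).charpoly * τ (T.restrict hW).charpoly := by
    let φ : (W × C) →ₗ[F] U := (LinearMap.coprod W.subtype C.subtype).codRestrict U fun z =>
      add_mem (Submodule.mem_sup_left z.1.2) (Submodule.mem_sup_right z.2.2)
    have hφ : Function.Bijective φ := by
      refine ⟨LinearMap.ker_eq_bot.1 (LinearMap.ker_eq_bot'.2 fun z hz => ?_), fun u => ?_⟩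
      · have h : (z.1 : Fin d ⊕ Fin d → F) + z.2 = 0 := congrArg Subtype.val hz
        have h1 : (z.1 : Fin d ⊕ Fin d → F) = 0 := Submodule.disjoint_def.1 hWC _ z.1.2 (by
          rw [eq_neg_of_add_eq_zero_left h]; exact C.neg_mem z.2.2)
        rw [h1, zero_add] at h
        exact Prod.ext (Subtype.ext h1) (Subtype.ext h)
      · obtain ⟨w, hw, c, hc, h⟩ := Submodule.mem_sup.1 u.2
        exact ⟨(⟨w, hw⟩, ⟨c, hc⟩), Subtype.ext h⟩
    let e := LinearEquiv.ofBijective φ hφ
    have hconj : T.restrict hTU = e.conj ((T.restrict hW).prodMap (T.restrict hTC)) := LinearMap.ext fun u => by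
      obtain ⟨z, rfl⟩ := e.surjective u
      rw [LinearEquiv.conj_apply_apply, e.symm_apply_apply]
      exact Subtype.ext (map_add T _ _)
    rw [hconj, LinearEquiv.charpoly_conj, LinearMap.charpoly_prodMap, hC']
  have hUd : finrank F U = 2 * m := by
    have := Submodule.finrank_sup_add_finrank_inf_eq W C
    rw [hWC.eq_bot, finrank_bot, add_zero, hCd, hd] at this
    rw [hU, this]; ring
  set M := (sb F d).orthogonal U
  have hc : IsCompl U M := (LinearMap.BilinForm.isCompl_orthogonal_iff_disjoint (sb_refl d)).2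
    (Submodule.disjoint_def.2 fun u hu hu' => hUn u hu fun v hv =>
      sb_refl d v u (LinearMap.BilinForm.mem_orthogonal_iff.1 hu' v hv))
  have hTM := invariant_orthogonal y hTU
  obtain ⟨-, hSM⟩ := (symp_sb F d).restrict hc fun k hk v hv =>
    sb_refl d k v (LinearMap.BilinForm.mem_orthogonal_iff.1 hv k hk)
  obtain ⟨b, hb⟩ := SympCount.even_finrank hSM
  obtain ⟨e, K, hK, -⟩ := shaped_of_isometry X' hSM hb (T.restrict hTM) (fun u v => app_isometry y _ _)
    (restrict_pow hTM hTr)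
  have hcp : cp y = (T.restrict hW).charpoly * τ (T.restrict hW).charpoly * (T.restrict hTM).charpoly := by
    rw [cp, ← Matrix.charpoly_toLin', charpoly_of_isCompl _ hTU hTM hc, hUW]
  obtain ⟨e₁, K₁, hs₁, -⟩ := exists_shaped_cp X' y hy
  obtain ⟨e', A, hh⟩ := exists_half_of_factors (D := D) (LinearMap.charpoly_monic (T.restrict hW)) fun P hi hm hdvd =>
    hs₁.isT.2.2.2 P hi hm (hdvd.trans (by rw [hcp, mul_assoc]; exact dvd_mul_right _ _))
  refine ⟨_, _, e', A, e, K, hh, ?_, hK, hcp⟩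
  have h1 := (hh.facts X'.facts).2.1
  rwa [LinearMap.charpoly_natDegree, hd, eq_comm] at h1

end CfsgLib.Derange.Sp
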