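import Cfsg.Agent.Lib.Derange.SympUnitary
import Cfsg.Agent.Lib.Derange.SympReal
import Cfsg.Agent.Lib.Derange.LinearDecomp
import Cfsg.Agent.Lib.Classical.SemisimpleClasses

/-!
Fixed spaces of Kronecker products and of isometries of prime order.
-/

set_option autoImplicit false
set_option linter.style.haveILetI false
set_option linter.unusedSectionVars false

namespace CfsgLib.Derange.SpT

open Module Matrix Polynomial CfsgLib.Derange CfsgLib.SympCount CfsgLib.Classical CfsgLib.Classical.SympTrans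
open CfsgLib.Classical.SympClasses CfsgLib.Classical.UnitaryTwistPoly CfsgLib.Classical.OrthPrimeFactors
open CfsgLib.Classical.OrthPrimeReal
open scoped Kronecker

universe u

variable {F : Type u} [Field F] {a b : ℕ}

local notation "τ" => tw (RingHom.id F)

/-- The fixed space of a matrix. -/
noncomputable abbrev fix {n : Type} [Fintype n] [DecidableEq n] (M : Matrix n n F) : Submodule F (n → F) :=
  LinearMap.ker (Matrix.toLin' M - 1)

theorem mem_fix {n : Type} [Fintype n] [DecidableEq n] {M : Matrix n n F} {v : n → F} : v ∈ fix M ↔ M *ᵥ v = v := by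
  rw [LinearMap.mem_ker, LinearMap.sub_apply, Matrix.toLin'_apply, Module.End.one_apply, sub_eq_zero]

theorem kron_mulVec (A : Matrix (Fin a) (Fin a) F) (B : Matrix (Fin b) (Fin b) F) (u : Fin a → F) (w : Fin b → F) :
    (A ⊗ₖ B) *ᵥ (fun x => u x.1 * w x.2) = fun x => (A *ᵥ u) x.1 * (B *ᵥ w) x.2 := by
  funext x
  simp only [Matrix.mulVec, dotProduct, Matrix.kroneckerMap_apply, Fintype.sum_prod_type]
  rw [Finset.sum_mul_sum]
  exact Finset.sum_congr rfl fun s _ => Finset.sum_congr rfl fun t _ => by ring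

theorem one_kron_mulVec (B : Matrix (Fin b) (Fin b) F) (v : Fin a × Fin b → F) (s : Fin a) :
    (fun t => (((1 : Matrix (Fin a) (Fin a) F) ⊗ₖ B) *ᵥ v) (s, t)) = B *ᵥ fun t => v (s, t) := by
  funext t
  simp [Matrix.mulVec, dotProduct, Fintype.sum_prod_type, Matrix.one_apply]

theorem kron_one_mulVec (A : Matrix (Fin a) (Fin a) F) (v : Fin a × Fin b → F) (t : Fin b) :
    (fun s => ((A ⊗ₖ (1 : Matrix (Fin b) (Fin b) F)) *ᵥ v) (s, t)) = A *ᵥ fun s => v (s, t) := by
  funext s
  simp [Matrix.mulVec, dotProduct, Fintype.sum_prod_type, Matrix.one_apply]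

theorem kron_eq {A C : Matrix (Fin a) (Fin a) F} {B D : Matrix (Fin b) (Fin b) F} (hC : C ≠ 0) (hD : D ≠ 0)
    (h : A ⊗ₖ B = C ⊗ₖ D) : ∃ t : F, t ≠ 0 ∧ A = t • C ∧ B = t⁻¹ • D := by
  obtain ⟨i, j, hij⟩ : ∃ i j, C i j ≠ 0 := by
    by_contra hc
    push Not at hc
    exact hC (Matrix.ext hc)
  obtain ⟨k, l, hkl⟩ : ∃ k l, D k l ≠ 0 := by
    by_contra hc
    push Not at hc
    exact hD (Matrix.ext hc)
  have he : ∀ i' j' k' l', A i' j' * B k' l' = C i' j' * D k' l' := fun i' j' k' l' => by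
    simpa [kronecker_apply] using congrFun (congrFun h (i', k')) (j', l')
  have hB : B k l ≠ 0 := fun h0 => mul_ne_zero hij hkl (by rw [← he, h0, mul_zero])
  refine ⟨D k l / B k l, div_ne_zero hkl hB, Matrix.ext fun i' j' => ?_, Matrix.ext fun k' l' => ?_⟩
  · rw [Matrix.smul_apply, smul_eq_mul, div_mul_eq_mul_div, eq_div_iff hB, he]; ring
  · have hA : A i j = D k l / B k l * C i j := by rw [div_mul_eq_mul_div, eq_div_iff hB, he]; ring
    have h1 := he i j k' l'
    rw [hA] at h1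
    rw [Matrix.smul_apply, smul_eq_mul, inv_div, div_mul_eq_mul_div, eq_div_iff hkl]
    refine mul_left_cancel₀ hij ?_
    field_simp at h1
    linear_combination (C i j) * h1

/-- The space fixed by both factors. -/
theorem finrank_both (A : Matrix (Fin a) (Fin a) F) (B : Matrix (Fin b) (Fin b) F)
    (S : Submodule F (Fin a × Fin b → F)) (hA : ∀ v ∈ S, (A ⊗ₖ (1 : Matrix (Fin b) (Fin b) F)) *ᵥ v = v)
    (hB : ∀ v ∈ S, ((1 : Matrix (Fin a) (Fin a) F) ⊗ₖ B) *ᵥ v = v) :
    finrank F S ≤ finrank F (fix A) * finrank F (fix B) := by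
  classical
  obtain ⟨π, hπ⟩ := (fix A).subtype.exists_leftInverse_of_injective (fix A).ker_subtype
  let bA := Module.finBasis F (fix A)
  let Φ : S →ₗ[F] (Fin (finrank F (fix A)) → Fin b → F) :=
    { toFun := fun v i t => bA.coord i (π fun s => (v : Fin a × Fin b → F) (s, t))
      map_add' := fun v w => by
        funext i t
        show bA.coord i (π ((fun s => (v : Fin a × Fin b → F) (s, t)) + fun s => (w : Fin a × Fin b → F) (s, t))) = _
        rw [map_add, map_add]; rfl
      map_smul' := fun c v => by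
        funext i t
        show bA.coord i (π (c • fun s => (v : Fin a × Fin b → F) (s, t))) = _
        rw [map_smul, map_smul]; rfl }
  have hcol : ∀ (v : S) t, (fun s => (v : Fin a × Fin b → F) (s, t)) ∈ fix A := fun v t => by
    rw [mem_fix, ← kron_one_mulVec, hA _ v.2]
  have hrow : ∀ (v : S) i, Φ v i ∈ fix B := fun v i => by
    rw [mem_fix]
    funext t
    have hv : (fun s => (v : Fin a × Fin b → F) (s, t)) = ∑ t', B t t' • fun s => (v : Fin a × Fin b → F) (s, t') := by
      funext s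
      have := congrFun (one_kron_mulVec B (v : Fin a × Fin b → F) s) t
      simp only [hB _ v.2] at this
      rw [this]
      simp [Matrix.mulVec, dotProduct, Finset.sum_apply]
    show _ = bA.coord i (π fun s => (v : Fin a × Fin b → F) (s, t))
    conv_rhs => rw [hv, map_sum, map_sum]
    simp [Matrix.mulVec, dotProduct, Φ]
  let Ψ : S →ₗ[F] (Fin (finrank F (fix A)) → fix B) :=
    LinearMap.pi fun i => (LinearMap.proj i ∘ₗ Φ).codRestrict (fix B) fun v => hrow v i
  have hinj : Function.Injective Ψ := LinearMap.ker_eq_bot.1 (LinearMap.ker_eq_bot'.2 fun v hv => by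
    refine Subtype.ext (funext fun ⟨s, t⟩ => ?_)
    have h0 : π (fun s => (v : Fin a × Fin b → F) (s, t)) = 0 := bA.repr.injective (Finsupp.ext fun i => by
      rw [map_zero]
      exact congrFun (congrArg Subtype.val (congrFun hv i)) t)
    have h1 := LinearMap.congr_fun hπ ⟨_, hcol v t⟩
    rw [LinearMap.comp_apply, Submodule.subtype_apply, h0] at h1
    exact (congrFun (congrArg Subtype.val h1) s).symm)
  refine (LinearMap.finrank_le_finrank_of_injective hinj).trans ?_
  rw [Module.finrank_pi_fintype]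
  simp

theorem finrank_fix_le {n : ℕ} (M : Matrix (Fin n) (Fin n) F) : finrank F (fix M) ≤ n := by
  have := Submodule.finrank_le (fix M)
  rwa [Module.finrank_fin_fun] at this

/-- A Kronecker product fixing more than a line less than everything is trivial. -/
theorem eq_one_of_fix {A : Matrix (Fin a) (Fin a) F} {B : Matrix (Fin b) (Fin b) F}
    {S : Submodule F (Fin a × Fin b → F)} (hS : ∀ v ∈ S, (A ⊗ₖ B) *ᵥ v = v) {c : ℕ} (hcb : c < b) (hca : c < a)
    (hd : a * b ≤ finrank F S + c) : A ⊗ₖ B = 1 := by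
  classical
  have hline : ∀ u : Fin a → F, ∃ l : F, A *ᵥ u = l • u := by
    intro u
    by_cases hu : u = 0
    · exact ⟨0, by rw [hu, Matrix.mulVec_zero, smul_zero]⟩
    obtain ⟨s₀, hs₀⟩ : ∃ s, u s ≠ 0 := Function.ne_iff.1 hu
    let f : (Fin b → F) →ₗ[F] (Fin a × Fin b → F) :=
      { toFun := fun w x => u x.1 * w x.2
        map_add' := fun w w' => funext fun x => mul_add _ _ _
        map_smul' := fun k w => funext fun x => by simp; ring }
    have hf : Function.Injective f := fun w w' h => funext fun t => mul_left_cancel₀ hs₀ (congrFun h (s₀, t))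
    have h1 := Submodule.finrank_sup_add_finrank_inf_eq S (LinearMap.range f)
    have h2 := Submodule.finrank_le (S ⊔ LinearMap.range f)
    rw [Module.finrank_fintype_fun_eq_card, Fintype.card_prod, Fintype.card_fin, Fintype.card_fin] at h2
    rw [LinearMap.finrank_range_of_inj hf, Module.finrank_fin_fun] at h1
    obtain ⟨v, hv, hv0⟩ := (S ⊓ LinearMap.range f).exists_mem_ne_zero_of_ne_bot fun h => by
      rw [h, finrank_bot] at h1; omega
    obtain ⟨hvS, w, rfl⟩ := hv
    obtain ⟨t₀, ht₀⟩ : ∃ t, w t ≠ 0 := Function.ne_iff.1 fun h => hv0 (by rw [h]; exact map_zero f)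
    have h3 := hS _ hvS
    rw [show f w = fun x => u x.1 * w x.2 from rfl, kron_mulVec] at h3
    by_cases hBw : (B *ᵥ w) t₀ = 0
    · exact absurd (congrFun h3 (s₀, t₀)) (by simp [hBw, hs₀, ht₀, eq_comm])
    refine ⟨w t₀ / (B *ᵥ w) t₀, funext fun s => ?_⟩
    have h4 := congrFun h3 (s, t₀)
    simp only [Pi.smul_apply, smul_eq_mul]
    rw [div_mul_eq_mul_div, eq_div_iff hBw]
    linear_combination h4
  obtain ⟨l, hl⟩ : ∃ l : F, A = l • 1 := by
    choose g hg using hline
    have hcol : ∀ i j, A i j = if i = j then g (Pi.single j 1) else 0 := fun i j => by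
      have := congrFun (hg (Pi.single j 1)) i
      rw [Matrix.mulVec_single_one] at this
      simp [Pi.single_apply] at this
      exact this
    rcases Nat.eq_zero_or_pos a with ha | ha
    · exact ⟨0, Matrix.ext fun i => absurd i.2 (by omega)⟩
    refine ⟨g (Pi.single ⟨0, ha⟩ 1), Matrix.ext fun i j => ?_⟩
    rw [hcol, Matrix.smul_apply, Matrix.one_apply, smul_eq_mul]
    split_ifs with hij
    · rw [mul_one]
      subst hij
      by_cases h0 : i = ⟨0, ha⟩
      · rw [h0]
      have h5 := hg (Pi.single i 1 + Pi.single ⟨0, ha⟩ 1)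
      rw [Matrix.mulVec_add, hg, hg] at h5
      have e1 := congrFun h5 i
      have e2 := congrFun h5 ⟨0, ha⟩
      simp [Pi.single_apply, h0, Ne.symm h0] at e1 e2
      rw [e1, e2]
    · rw [mul_zero]
  have hAB : A ⊗ₖ B = (1 : Matrix (Fin a) (Fin a) F) ⊗ₖ (l • B) := by
    rw [hl, Matrix.smul_kronecker, ← Matrix.kronecker_smul]
  rw [hAB] at hS ⊢
  have h6 := finrank_both (1 : Matrix (Fin a) (Fin a) F) (l • B) S
    (fun v _ => by rw [Matrix.one_kronecker_one, Matrix.one_mulVec]) hS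
  have h7 := finrank_fix_le (1 : Matrix (Fin a) (Fin a) F)
  have h8 := finrank_fix_le (l • B)
  have h9 : finrank F (fix (l • B)) = b := by
    by_contra hne
    have h10 : finrank F (fix (1 : Matrix (Fin a) (Fin a) F)) * finrank F (fix (l • B)) ≤ a * (b - 1) :=
      Nat.mul_le_mul h7 (by omega)
    have h11 : a * (b - 1) + a = a * b := by rw [← Nat.mul_succ]; congr 1; omega
    omega
  have htop : fix (l • B) = ⊤ := Submodule.eq_top_of_finrank_eq (by rw [h9, Module.finrank_fin_fun])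
  have hone : l • B = 1 := Matrix.ext_iff_mulVec.2 fun v => by
    rw [Matrix.one_mulVec]
    exact mem_fix.1 (htop.symm ▸ Submodule.mem_top)
  rw [hone, Matrix.one_kronecker_one]

variable [Fintype F] {p : ℕ} [hp : Fact p.Prime] [CharP F p] {q r : ℕ}

include hp in
/-- An isometry of odd prime order moves at least a unit. -/
theorem moved_ge (hq : Fintype.card F = q) (hr : r.Prime) (hr2 : r ≠ 2) (hrp : r ≠ p) {n : ℕ}
    {M : GL (Fin n) F} {G : GL (Fin n) F} (hG : (M : Matrix (Fin n) (Fin n) F)ᵀ * (G : Matrix (Fin n) (Fin n) F) *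
      (M : Matrix (Fin n) (Fin n) F) = G) (hMr : (M : Matrix (Fin n) (Fin n) F) ^ r = 1)
    (hM : (M : Matrix (Fin n) (Fin n) F) ≠ 1) :
    finrank F (fix (M : Matrix (Fin n) (Fin n) F)) + unitDim (orderOf (q : ZMod r)) ≤ n := by
  classical
  obtain ⟨t, D, X'⟩ := exists_ctx (p := p) hq hr hr2 hrp (rfl : orderOf (q : ZMod r) = _)
  set T : End F (Fin n → F) := Matrix.toLin' (M : Matrix (Fin n) (Fin n) F) with hTdef
  have hT : T ^ r = 1 := by rw [hTdef, ← Matrix.toLin'_pow, hMr, Matrix.toLin'_one]; rfl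
  have hss : T.IsSemisimple := semisimple_of_pow_smul (p := p) T hr hrp one_ne_zero (by rw [hT, one_smul])
  have hcp : τ T.charpoly = T.charpoly := by
    rw [hTdef, Matrix.charpoly_toLin', ← charpoly_inv_tw]
    have h1 : ((M⁻¹ : GL (Fin n) F) : Matrix (Fin n) (Fin n) F) = ((G⁻¹ : GL (Fin n) F) : Matrix (Fin n) (Fin n) F) *
        (M : Matrix (Fin n) (Fin n) F)ᵀ * (G : Matrix (Fin n) (Fin n) F) := by
      have h2 := congrArg (fun Z => ((G⁻¹ : GL (Fin n) F) : Matrix (Fin n) (Fin n) F) * Z *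
        ((M⁻¹ : GL (Fin n) F) : Matrix (Fin n) (Fin n) F)) hG
      simpa [mul_assoc] using h2.symm
    rw [h1, Matrix.coe_units_inv, Matrix.charpoly_units_conj', Matrix.charpoly_transpose]
  set K := LinearMap.ker (T - 1)
  have hfix : ∀ x ∈ K, T x = x := fun x hx => sub_eq_zero.1 (LinearMap.mem_ker.1 hx)
  have hK : ∀ x ∈ K, T x ∈ K := fun x hx => by rw [hfix x hx]; exact hx
  obtain ⟨U, hU, hKU⟩ := End.isSemisimple_iff.1 hss K hK
  set g := (T.restrict hU : End F U).charpoly with hg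
  have hroot : ¬ g.IsRoot 1 := by
    intro hroot
    obtain ⟨v, hv⟩ := ((Module.End.hasEigenvalue_iff_isRoot_charpoly (T.restrict hU : End F U) 1).2 hroot).exists_hasEigenvector
    have h1' : T (v : Fin n → F) = (v : Fin n → F) := by
      have := congrArg Subtype.val hv.apply_eq_smul
      rwa [one_smul] at this
    exact hv.2 (Subtype.ext (Submodule.disjoint_def.1 hKU.disjoint _
      (LinearMap.mem_ker.2 (sub_eq_zero.2 h1')) v.2))
  have hcK : (T.restrict hK : End F K).charpoly = (X - C (1 : F)) ^ finrank F K := by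
    rw [map_one, ← LinearMap.charpoly_one]
    exact congrArg LinearMap.charpoly (LinearMap.ext fun x => Subtype.ext (hfix x.1 x.2))
  have heq := charpoly_of_isCompl T hK hU hKU
  rw [hcK, map_one, ← hg] at heq
  have hsum := Submodule.finrank_add_eq_of_isCompl hKU
  rw [Module.finrank_fin_fun] at hsum
  have hgd : g.natDegree = finrank F U := LinearMap.charpoly_natDegree _
  have hgu : ¬ IsUnit g := fun h => by
    have h0 := natDegree_eq_zero_of_isUnit h
    rw [hgd] at h0
    have htop : K = ⊤ := by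
      have := hKU.sup_eq_top
      rwa [Submodule.finrank_eq_zero.1 h0, sup_bot_eq] at this
    exact hM (Matrix.ext_iff_mulVec.2 fun v => by
      rw [Matrix.one_mulVec, ← Matrix.toLin'_apply]
      exact hfix v (htop.symm ▸ Submodule.mem_top))
  obtain ⟨P, hPm, hPi, hPg⟩ : ∃ P : F[X], P.Monic ∧ Irreducible P ∧ P ∣ g :=
    Polynomial.exists_monic_irreducible_factor g hgu
  have hPcp : P ∣ T.charpoly := heq ▸ hPg.mul_left _
  have hP1 : P ≠ X - 1 := fun h => hroot (dvd_iff_isRoot.1 (by rw [map_one, ← h]; exact hPg))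
  have hPr : P ∣ X ^ r - 1 := by
    have := factor_dvd_pow T (r := r) (c := (1 : F)) (by rw [one_smul, hT]) hPi hPcp
    rwa [map_one] at this
  have hPD : P ∈ D := ((X'.facts.dvd P hPi hPm).1 hPr).resolve_left hP1
  obtain ⟨hτ, -⟩ := X'.facts.tmem P hPD
  obtain ⟨hTm, hTi, hTd⟩ := X'.facts.mem _ hτ
  have hPd := (X'.facts.mem P hPD).2.2
  have hg0 : g ≠ 0 := (LinearMap.charpoly_monic _).ne_zero
  show finrank F K + _ ≤ n
  by_cases ho : Odd (orderOf (q : ZMod r))
  · have hne : τ P ≠ P := fun e => (X'.facts.self P hPD).1 e ho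
    obtain ⟨h, hh⟩ := hPcp
    have hτcp : τ P ∣ (X - 1) ^ finrank F K * g := by
      rw [← heq, ← hcp, hh, tw_mul]; exact dvd_mul_right _ _
    have hτg : τ P ∣ g := (hTi.prime.dvd_or_dvd hτcp).resolve_left fun h1 => X'.facts.one (by
      have := eq_of_monic_of_associated hTm (by simpa using monic_X_sub_C (1 : F))
        (hTi.associated_of_dvd (by simpa using irreducible_X_sub_C (1 : F)) (hTi.prime.dvd_of_dvd_pow h1))
      exact this ▸ hτ)
    have hco : IsCoprime P (τ P) := hPi.coprime_iff_not_dvd.2 fun h1 =>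
      hne (eq_of_monic_of_associated hPm hTm (hPi.associated_of_dvd hTi h1)).symm
    have := natDegree_le_of_dvd (hco.mul_dvd hPg hτg) hg0
    rw [hPm.natDegree_mul hTm, hPd, hTd, hgd] at this
    rw [unitDim_odd ho]
    omega
  · have := natDegree_le_of_dvd hPg hg0
    rw [hPd, hgd] at this
    rw [unitDim_even ho]
    omega

include hp in
/-- Two isometries of odd prime order fix little of the tensor product. -/
theorem fix_bound (hr : r.Prime) (hr2 : r ≠ 2) (hrp : r ≠ p) {A : GL (Fin a) F} {G : GL (Fin a) F}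
    (hG : (A : Matrix (Fin a) (Fin a) F)ᵀ * (G : Matrix (Fin a) (Fin a) F) * (A : Matrix (Fin a) (Fin a) F) = G)
    (hA : (A : Matrix (Fin a) (Fin a) F) ^ r = 1) (B : Matrix (Fin b) (Fin b) F) (hB : B ^ r = 1)
    (S : Submodule F (Fin a × Fin b → F)) (hS : ∀ v ∈ S, ((A : Matrix (Fin a) (Fin a) F) ⊗ₖ B) *ᵥ v = v) :
    2 * finrank F S ≤ a * b + finrank F (fix (A : Matrix (Fin a) (Fin a) F)) * finrank F (fix B) := by
  classical
  have hco : ∀ g : GL (Fin a) F, g ^ r = 1 → (orderOf g).Coprime p := fun g hg =>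
    ((Nat.coprime_primes hr hp.out).mpr hrp).coprime_dvd_left (orderOf_dvd_of_pow_eq_one hg)
  have hAr : A ^ r = 1 := Units.ext (by rw [Units.val_pow_eq_pow_val]; exact hA)
  have hcpi : ((A⁻¹ : GL (Fin a) F) : Matrix (Fin a) (Fin a) F).charpoly = (A : Matrix (Fin a) (Fin a) F).charpoly := by
    have h1 : ((A⁻¹ : GL (Fin a) F) : Matrix (Fin a) (Fin a) F) = ((G⁻¹ : GL (Fin a) F) : Matrix (Fin a) (Fin a) F) *
        (A : Matrix (Fin a) (Fin a) F)ᵀ * (G : Matrix (Fin a) (Fin a) F) := by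
      have h2 := congrArg (fun Z => ((G⁻¹ : GL (Fin a) F) : Matrix (Fin a) (Fin a) F) * Z *
        ((A⁻¹ : GL (Fin a) F) : Matrix (Fin a) (Fin a) F)) hG
      simpa [mul_assoc] using h2.symm
    rw [h1, Matrix.coe_units_inv, Matrix.charpoly_units_conj', Matrix.charpoly_transpose]
  obtain ⟨C, hC⟩ := isConj_iff.1 (SemisimpleClasses.isConj_of_charpoly_eq (p := p) A A⁻¹ (hco A hAr)
    (hco A⁻¹ (by rw [inv_pow, hAr, inv_one])) hcpi.symm)
  set Am := (A : Matrix (Fin a) (Fin a) F)
  set E := (C : Matrix (Fin a) (Fin a) F) ⊗ₖ (1 : Matrix (Fin b) (Fin b) F) with hE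
  have hEi : Function.Injective (Matrix.toLin' E) := by
    refine Function.LeftInverse.injective (g := fun v => (((C⁻¹ : GL (Fin a) F) : Matrix (Fin a) (Fin a) F) ⊗ₖ (1 : Matrix (Fin b) (Fin b) F)) *ᵥ v) fun v => ?_
    show _ *ᵥ Matrix.toLin' ((C : Matrix (Fin a) (Fin a) F) ⊗ₖ (1 : Matrix (Fin b) (Fin b) F)) v = v
    rw [Matrix.toLin'_apply, Matrix.mulVec_mulVec, ← Matrix.mul_kronecker_mul, Units.inv_mul, mul_one,
      Matrix.one_kronecker_one, Matrix.one_mulVec]
  have hCA : (C : Matrix (Fin a) (Fin a) F) * Am = ((A⁻¹ : GL (Fin a) F) : Matrix (Fin a) (Fin a) F) * C := by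
    have := congrArg (fun g : GL (Fin a) F => (g : Matrix (Fin a) (Fin a) F) * (C : Matrix (Fin a) (Fin a) F)) hC
    simpa [mul_assoc] using this
  have hinf : finrank F (S ⊓ S.map (Matrix.toLin' E) : Submodule F _) ≤ finrank F (fix Am) * finrank F (fix B) := by
    have key : ∀ v ∈ S ⊓ S.map (Matrix.toLin' E),
        (Am ⊗ₖ (1 : Matrix (Fin b) (Fin b) F)) *ᵥ v = v ∧ ((1 : Matrix (Fin a) (Fin a) F) ⊗ₖ B) *ᵥ v = v := by
      rintro v ⟨hv, v', hv', rfl⟩
      rw [Matrix.toLin'_apply] at hv ⊢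
      set w := E *ᵥ v'
      have h1 : (Am ⊗ₖ B) *ᵥ w = w := hS _ hv
      have h2 : (((A⁻¹ : GL (Fin a) F) : Matrix (Fin a) (Fin a) F) ⊗ₖ B) *ᵥ w = w := by
        show _ *ᵥ (E *ᵥ v') = E *ᵥ v'
        conv_rhs => rw [← hS _ hv']
        rw [Matrix.mulVec_mulVec, Matrix.mulVec_mulVec, hE, ← Matrix.mul_kronecker_mul, ← Matrix.mul_kronecker_mul,
          hCA, mul_one, one_mul]
      have h3 : ((Am * Am) ⊗ₖ (1 : Matrix (Fin b) (Fin b) F)) *ᵥ w = w := by
        have h4 : (Am ⊗ₖ (1 : Matrix (Fin b) (Fin b) F)) *ᵥ w = (((A⁻¹ : GL (Fin a) F) : Matrix (Fin a) (Fin a) F) ⊗ₖ 1) *ᵥ w := by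
          obtain ⟨k, hk⟩ : ∃ k, r = k + 1 := ⟨r - 1, by have := hr.pos; omega⟩
          have hB' : B * B ^ k = 1 := by rw [← pow_succ', ← hk, hB]
          have e : ∀ M : Matrix (Fin a) (Fin a) F, (M ⊗ₖ (1 : Matrix (Fin b) (Fin b) F)) *ᵥ w =
              ((1 : Matrix (Fin a) (Fin a) F) ⊗ₖ (B ^ k)) *ᵥ ((M ⊗ₖ B) *ᵥ w) := fun M => by
            rw [Matrix.mulVec_mulVec w, ← Matrix.mul_kronecker_mul, one_mul, mul_eq_one_comm.1 hB']
          rw [e, e, h1, h2]
        have h5 := congrArg (fun u => (Am ⊗ₖ (1 : Matrix (Fin b) (Fin b) F)) *ᵥ u) h4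
        simp only [Matrix.mulVec_mulVec, ← Matrix.mul_kronecker_mul, mul_one] at h5
        rwa [show Am * ((A⁻¹ : GL (Fin a) F) : Matrix (Fin a) (Fin a) F) = 1 from Units.mul_inv A,
          Matrix.one_kronecker_one, Matrix.one_mulVec] at h5
      have h6 : (Am ⊗ₖ (1 : Matrix (Fin b) (Fin b) F)) *ᵥ w = w := by
        have hp : ∀ k : ℕ, (((Am * Am) ^ k) ⊗ₖ (1 : Matrix (Fin b) (Fin b) F)) *ᵥ w = w := by
          intro k
          induction k with
          | zero => rw [pow_zero, Matrix.one_kronecker_one, Matrix.one_mulVec]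
          | succ k ih =>
            rw [pow_succ, show ((Am * Am) ^ k * (Am * Am)) ⊗ₖ (1 : Matrix (Fin b) (Fin b) F) =
              ((((Am * Am) ^ k)) ⊗ₖ (1 : Matrix (Fin b) (Fin b) F)) * ((Am * Am) ⊗ₖ (1 : Matrix (Fin b) (Fin b) F)) by
                rw [← Matrix.mul_kronecker_mul, one_mul], ← Matrix.mulVec_mulVec, h3, ih]
        obtain ⟨k, hk⟩ := hr.odd_of_ne_two hr2
        have := hp (k + 1)
        rwa [← pow_two, ← pow_mul, show 2 * (k + 1) = r + 1 by omega, pow_succ, hA, one_mul] at this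
      refine ⟨h6, ?_⟩
      conv_lhs => rw [← h6]
      rw [Matrix.mulVec_mulVec, ← Matrix.mul_kronecker_mul, one_mul, mul_one]
      exact h1
    exact finrank_both Am B _ (fun v hv => (key v hv).1) (fun v hv => (key v hv).2)
  have h2 := Submodule.finrank_sup_add_finrank_inf_eq S (S.map (Matrix.toLin' E))
  have h3 := Submodule.finrank_le (S ⊔ S.map (Matrix.toLin' E))
  rw [Module.finrank_fintype_fun_eq_card, Fintype.card_prod, Fintype.card_fin, Fintype.card_fin] at h3
  rw [← (Submodule.equivMapOfInjective _ hEi S).finrank_eq] at h2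
  omega

include hp in
/-- An element of odd prime order moving one unit. -/
theorem exists_sample {d : ℕ} (hq : Fintype.card F = q) (hr : r.Prime) (hr2 : r ≠ 2) (hrp : r ≠ p)
    (hd : unitDim (orderOf (q : ZMod r)) ≤ 2 * d) :
    ∃ z : Matrix.symplecticGroup (Fin d) F, z ^ r = 1 ∧
      (∀ c : F, (z : Matrix (Fin d ⊕ Fin d) (Fin d ⊕ Fin d) F) ≠ c • 1) ∧
      ∃ U : Submodule F (Fin d ⊕ Fin d → F), finrank F U + unitDim (orderOf (q : ZMod r)) = 2 * d ∧
        ∀ v ∈ U, (z : Matrix (Fin d ⊕ Fin d) (Fin d ⊕ Fin d) F) *ᵥ v = v := by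
  classical
  obtain ⟨t, D, X'⟩ := exists_ctx (p := p) hq hr hr2 hrp (rfl : orderOf (q : ZMod r) = _)
  set i := orderOf (q : ZMod r)
  obtain ⟨a, ha⟩ := even_unitDim (i := i)
  have hupos := unitDim_pos X'.i_pos
  obtain ⟨u, hu⟩ := exists_of_shape X'.facts X'.t_pos 0 1
  obtain ⟨y, hy, hcy⟩ := Sp.exists_of_shaped X' (d := a) hu (by omega)
  set S := (y : Matrix (Fin a ⊕ Fin a) (Fin a ⊕ Fin a) F) with hSdef
  have hfix : ∀ v, (S *ᵥ v = v) → v = 0 := fun v hv => by
    by_contra hv0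
    refine absurd ((hu.eval_one_eq_zero_iff X'.facts).1 ?_) (lt_irrefl 0)
    rw [← hcy, Sp.cp, Matrix.eval_charpoly, Matrix.scalar_apply, Matrix.diagonal_one]
    exact Matrix.exists_mulVec_eq_zero_iff.1 ⟨v, hv0, by rw [Matrix.sub_mulVec, Matrix.one_mulVec, hv, sub_self]⟩
  obtain ⟨z, e, hz, -, hiso, hint⟩ := Sp.exists_std (d := d) (r := r) ((symp_sb F a).prod (symp_sb F (d - a)))
    (by rw [Module.finrank_prod, Sp.finrank_std, Sp.finrank_std]; omega)
    (LinearMap.prodMap (Sp.lin y) LinearMap.id)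
    (fun x w => by
      simp only [prodForm_apply, LinearMap.prodMap_apply, LinearMap.id_apply]
      rw [show sb F a (Sp.lin y x.1) (Sp.lin y w.1) = sb F a x.1 w.1 from app_isometry y _ _])
    (Sp.prodMap_pow_one (Sp.lin_pow y hy) (one_pow r))
  have hint' : ∀ v w, (z : Matrix (Fin d ⊕ Fin d) (Fin d ⊕ Fin d) F) *ᵥ e (v, w) = e (S *ᵥ v, w) :=
    fun v w => hint (v, w)
  refine ⟨z, hz, fun c hc => ?_, LinearMap.range (e.toLinearMap ∘ₗ LinearMap.inr F _ _), ?_, ?_⟩
  · haveI : Nonempty (Fin a ⊕ Fin a) := ⟨Sum.inl ⟨0, by omega⟩⟩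
    haveI : Nonempty (Fin d ⊕ Fin d) := ⟨Sum.inl ⟨0, by omega⟩⟩
    have hcr : c ^ r = 1 := by
      have h1 : (z : Matrix (Fin d ⊕ Fin d) (Fin d ⊕ Fin d) F) ^ r = 1 := by rw [← SubmonoidClass.coe_pow, hz]; rfl
      rw [hc, _root_.smul_pow, one_pow] at h1
      have h2 := congrFun (congrFun h1 (Sum.inl ⟨0, by omega⟩)) (Sum.inl ⟨0, by omega⟩)
      simpa using h2
    have hS1 : ∀ v, S *ᵥ v = c • v := fun v => by
      have h1 := hint' v 0
      rw [hc, Matrix.smul_mulVec, Matrix.one_mulVec, ← map_smul] at h1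
      exact congrArg Prod.fst (e.injective h1.symm)
    have hinv : c * c = 1 := by
      obtain ⟨v, hv⟩ : ∃ v : Fin a ⊕ Fin a → F, v ≠ 0 := exists_ne 0
      obtain ⟨w, hw⟩ : ∃ w, sb F a v w ≠ 0 := by
        by_contra hcon
        push Not at hcon
        exact hv ((symp_sb F a).nd v hcon)
      have h1 : sb F a (S *ᵥ v) (S *ᵥ w) = sb F a v w := app_isometry y v w
      rw [hS1, hS1, map_smul, map_smul, LinearMap.smul_apply, smul_smul, smul_eq_mul] at h1
      exact mul_eq_right₀ hw |>.1 h1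
    have hc1 : c = 1 := by
      obtain ⟨k, hk⟩ := hr.odd_of_ne_two hr2
      rwa [hk, pow_succ, pow_mul, sq, hinv, one_pow, one_mul] at hcr
    obtain ⟨v, hv⟩ : ∃ v : Fin a ⊕ Fin a → F, v ≠ 0 := exists_ne 0
    exact hv (hfix v (by rw [hS1, hc1, one_smul]))
  · rw [LinearMap.finrank_range_of_inj (f := e.toLinearMap ∘ₗ LinearMap.inr F _ _)
      (fun v w h => congrArg Prod.snd (e.injective h)), Sp.finrank_std]
    omega
  · rintro _ ⟨w, rfl⟩
    show (z : Matrix (Fin d ⊕ Fin d) (Fin d ⊕ Fin d) F) *ᵥ e (0, w) = e (0, w)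
    rw [hint', Matrix.mulVec_zero]

end CfsgLib.Derange.SpT
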