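import Cfsg.Agent.Lib.Classical.SympClasses
import Cfsg.Agent.Lib.Classical.RestrictScalars
import Cfsg.Prelude.Def_GeometricClasses

/-!
Skew square roots of a non-square on a symplectic space: they form one orbit, they commute or anticommute with
given isometries of order two modulo scalars, and their centralizers contain unitary groups.
-/

set_option autoImplicit false
set_option linter.style.haveILetI false
set_option linter.unusedSectionVars false

namespace CfsgLib.Derange.SpU

open Module Matrix CfsgLib.SympCount CfsgLib.Classical CfsgLib.Classical.SympTrans CfsgLib.Classical.SympClasses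

universe u

variable {F : Type u} [Field F]

/-- Hyperbolic pairs orthogonal to each other. -/
structure Hyp {W : Type u} [AddCommGroup W] [Module F W] (B : LinearMap.BilinForm F W) {k : ℕ} (v w : Fin k → W) :
    Prop where
  vw : ∀ i j, B (v i) (w j) = if i = j then 1 else 0
  vv : ∀ i j, B (v i) (v j) = 0
  ww : ∀ i j, B (w i) (w j) = 0

variable {W : Type u} [AddCommGroup W] [Module F W] [FiniteDimensional F W] {B : LinearMap.BilinForm F W}

theorem antisymm (hB : Symp B) (x y : W) : B y x = -B x y := (hB.alt.neg_eq x y).symm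

/-- Orthogonal to all the pairs. -/
def Perp (B : LinearMap.BilinForm F W) {k : ℕ} (v w : Fin k → W) (x : W) : Prop :=
  ∀ i, B (v i) x = 0 ∧ B (w i) x = 0

/-- The part outside the pairs. -/
def cut (B : LinearMap.BilinForm F W) {k : ℕ} (v w : Fin k → W) (x : W) : W :=
  x - ∑ i, (-(B (w i) x) • v i + B (v i) x • w i)

theorem perp_cut (hB : Symp B) {k : ℕ} {v w : Fin k → W} (h : Hyp B v w) (x : W) : Perp B v w (cut B v w x) := by
  intro j
  have hwv : ∀ i, B (w j) (v i) = if i = j then -1 else 0 := fun i => by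
    rw [antisymm hB, h.vw]; split_ifs <;> simp
  constructor
  · simp [cut, map_sub, map_sum, map_add, h.vv, h.vw]
  · simp [cut, map_sub, map_sum, map_add, h.ww, hwv]

theorem eq_sum_cut (B : LinearMap.BilinForm F W) {k : ℕ} (v w : Fin k → W) (x : W) :
    x = cut B v w x + ∑ i, (-(B (w i) x) • v i + B (v i) x • w i) := (sub_add_cancel _ _).symm

theorem pair_cut (hB : Symp B) {k : ℕ} {v w : Fin k → W} {u : W} (hu : Perp B v w u) (x : W) :
    B u (cut B v w x) = B u x := by
  have h1 : ∀ i, B u (v i) = 0 := fun i => by rw [antisymm hB, (hu i).1, neg_zero]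
  have h2 : ∀ i, B u (w i) = 0 := fun i => by rw [antisymm hB, (hu i).2, neg_zero]
  simp [cut, map_sub, map_sum, map_add, h1, h2]

theorem exists_perp (hB : Symp B) {k : ℕ} {v w : Fin k → W} (h : Hyp B v w) (hk : 2 * k < finrank F W) :
    ∃ u, u ≠ 0 ∧ Perp B v w u := by
  classical
  by_contra hc
  push Not at hc
  have hsub : (⊤ : Submodule F W) ≤ Submodule.span F (Set.range (Sum.elim v w)) := by
    intro x _
    have hx : cut B v w x = 0 := by
      by_contra hne
      exact hc _ hne (perp_cut hB h x)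
    rw [eq_sum_cut B v w x, hx, zero_add]
    exact Submodule.sum_mem _ fun i _ => Submodule.add_mem _
      (Submodule.smul_mem _ _ (Submodule.subset_span ⟨Sum.inl i, rfl⟩))
      (Submodule.smul_mem _ _ (Submodule.subset_span ⟨Sum.inr i, rfl⟩))
  have h1 := (Submodule.finrank_mono hsub).trans (finrank_range_le_card (R := F) (Sum.elim v w))
  rw [finrank_top, Fintype.card_sum, Fintype.card_fin] at h1
  omega

theorem Hyp.cons (hB : Symp B) {k : ℕ} {v w : Fin k → W} (h : Hyp B v w) {a b : W} (ha : Perp B v w a)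
    (hb : Perp B v w b) (hab : B a b = 1) : Hyp B (Fin.cons a v) (Fin.cons b w) := by
  refine ⟨fun i j => ?_, fun i j => ?_, fun i j => ?_⟩
  · induction i using Fin.cases <;> induction j using Fin.cases <;>
      simp [hab, h.vw, (hb _).1, antisymm hB _ a, (ha _).2, Fin.succ_ne_zero, (Fin.succ_ne_zero _).symm]
  · induction i using Fin.cases <;> induction j using Fin.cases <;>
      simp [h.vv, hB.alt.self_eq_zero, (ha _).1, antisymm hB _ a]
  · induction i using Fin.cases <;> induction j using Fin.cases <;>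
      simp [h.ww, hB.alt.self_eq_zero, (hb _).2, antisymm hB _ b]

theorem Hyp.basis (hB : Symp B) {k : ℕ} {v w : Fin k → W} (h : Hyp B v w) (hk : finrank F W = 2 * k) :
    ∃ b : Basis (Fin k ⊕ Fin k) F W, (∀ i, b (Sum.inl i) = v i) ∧ ∀ i, b (Sum.inr i) = w i := by
  classical
  have hli : LinearIndependent F (Sum.elim v w) := by
    rw [Fintype.linearIndependent_iff]
    intro g hg
    have hwv : ∀ i j, B (w j) (v i) = if i = j then -1 else 0 := fun i j => by
      rw [antisymm hB, h.vw]; split_ifs <;> simp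
    rintro (j | j)
    · have := congrArg (B (w j)) hg
      simpa [Fintype.sum_sum_type, map_sum, h.ww, hwv] using this
    · have := congrArg (B (v j)) hg
      simpa [Fintype.sum_sum_type, map_sum, h.vv, h.vw] using this
  rcases Nat.eq_zero_or_pos k with rfl | hk0
  · exact ⟨(Module.finBasisOfFinrankEq F W hk).reindex ((finCongr (by simp)).trans finSumFinEquiv.symm), fun i => i.elim0, fun i => i.elim0⟩
  haveI : Nonempty (Fin k ⊕ Fin k) := ⟨Sum.inl ⟨0, hk0⟩⟩
  refine ⟨basisOfLinearIndependentOfCardEqFinrank hli (by rw [hk]; simp; ring), fun i => ?_, fun i => ?_⟩ <;>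
    rw [coe_basisOfLinearIndependentOfCardEqFinrank] <;> rfl

/-- A skew map with square `ν`. -/
structure Skew (B : LinearMap.BilinForm F W) (ν : F) (J : End F W) : Prop where
  skew : ∀ x y, B (J x) y = -B x (J y)
  sq : ∀ x, J (J x) = ν • x

variable {ν : F}

theorem Skew.jj {J : End F W} (hJ : Skew B ν J) (x y : W) : B (J x) (J y) = -(ν * B x y) := by
  rw [hJ.skew, hJ.sq, map_smul, smul_eq_mul]

variable [Fintype F]

/-- An orthonormal family for the hermitian form of a skew root. -/
theorem exists_family (h2 : (2 : F) ≠ 0) (hν : ∀ c : F, c * c ≠ ν) (hB : Symp B) {d : ℕ}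
    (hd : finrank F W = 2 * d) {J : End F W} (hJ : Skew B ν J) :
    ∀ k ≤ d, ∃ v : Fin k → W, Hyp B (fun i => J (v i)) v := by
  intro k
  induction k with
  | zero => exact fun _ => ⟨fun i => i.elim0, ⟨fun i => i.elim0, fun i => i.elim0, fun i => i.elim0⟩⟩
  | succ k ih =>
    intro hk
    obtain ⟨v, hv⟩ := ih (by omega)
    obtain ⟨u, hu0, hu⟩ := exists_perp hB hv (by omega)
    have hPJ : ∀ x, Perp B (fun i => J (v i)) v x → Perp B (fun i => J (v i)) v (J x) := fun x hx i =>
      ⟨by rw [hJ.jj, (hx i).2, mul_zero, neg_zero], by rw [← neg_eq_zero, ← hJ.skew]; exact (hx i).1⟩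
    obtain ⟨z, hz, hzc⟩ : ∃ z, Perp B (fun i => J (v i)) v z ∧ B (J z) z ≠ 0 := by
      by_contra hc
      push Not at hc
      have hsymm : ∀ x y, B (J x) y = B (J y) x := fun x y => by rw [hJ.skew, ← antisymm hB]
      have h0 : ∀ x y, Perp B (fun i => J (v i)) v x → Perp B (fun i => J (v i)) v y → B (J x) y = 0 := by
        intro x y hx hy
        have hxy := hc (x + y) (fun i => ⟨by rw [map_add, (hx i).1, (hy i).1, add_zero],
          by rw [map_add, (hx i).2, (hy i).2, add_zero]⟩)
        simp only [map_add, LinearMap.add_apply, hc x hx, hc y hy, hsymm y x, zero_add, add_zero] at hxy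
        exact (mul_eq_zero.1 (show (2 : F) * B (J x) y = 0 by linear_combination hxy)).resolve_left h2
      have hJu : J u = 0 := hB.nd _ fun x => by
        rw [← pair_cut hB (hPJ u hu) x]
        exact h0 u _ hu (perp_cut hB hv x)
      refine hu0 ?_
      have h1 := hJ.sq u
      rw [hJu, map_zero] at h1
      exact (smul_eq_zero.1 h1.symm).resolve_left fun e => hν 0 (by rw [mul_zero, e])
    have hν0 : ν ≠ 0 := fun e => hν 0 (by rw [mul_zero, e])
    set c := B (J z) z with hcdef
    obtain ⟨a, b, hab⟩ := FiniteField.exists_root_sum_quadratic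
      (f := Polynomial.X ^ 2 - Polynomial.C c⁻¹) (g := Polynomial.C (-ν) * Polynomial.X ^ 2)
      (Polynomial.degree_X_pow_sub_C two_pos _) (Polynomial.degree_C_mul_X_pow 2 (neg_ne_zero.2 hν0))
      (FiniteField.odd_card_of_char_ne_two fun hchar => h2 (by
        have : CharP F 2 := ringChar.of_eq hchar
        exact CharTwo.two_eq_zero))
    simp only [Polynomial.eval_sub, Polynomial.eval_pow, Polynomial.eval_X, Polynomial.eval_C,
      Polynomial.eval_mul] at hab
    set y := a • z + b • J z with hy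
    have hyP : Perp B (fun i => J (v i)) v y := fun i => by
      constructor
      · rw [hy, map_add, map_smul, map_smul, (hz i).1, (hPJ z hz i).1, smul_zero, smul_zero, add_zero]
      · rw [hy, map_add, map_smul, map_smul, (hz i).2, (hPJ z hz i).2, smul_zero, smul_zero, add_zero]
    have hy1 : B (J y) y = 1 := by
      have e1 : B z (J z) = -c := by rw [hcdef, antisymm hB]
      have e2 : B z z = 0 := hB.alt.self_eq_zero z
      have e3 : B (J z) (J z) = 0 := hB.alt.self_eq_zero _
      have hJy : J y = a • J z + (b * ν) • z := by rw [hy, map_add, map_smul, map_smul, hJ.sq, smul_smul]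
      have : B (J y) y = (a ^ 2 - ν * b ^ 2) * c := by
        rw [hJy, hy]
        simp only [map_add, map_smul, LinearMap.add_apply, LinearMap.smul_apply, smul_eq_mul, e1, e2, e3,
          ← hcdef]
        ring
      rw [this, show a ^ 2 - ν * b ^ 2 = c⁻¹ by linear_combination hab, inv_mul_cancel₀ hzc]
    refine ⟨Fin.cons y v, ?_⟩
    have he : (fun i => J ((Fin.cons y v : Fin (k + 1) → W) i)) = Fin.cons (J y) (fun i => J (v i)) := by
      funext i; induction i using Fin.cases <;> simp
    rw [he]
    exact hv.cons hB (hPJ y hyP) hyP hy1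

/-- The skew roots form one orbit. -/
theorem exists_conj (h2 : (2 : F) ≠ 0) (hν : ∀ c : F, c * c ≠ ν) (hB : Symp B) {d : ℕ}
    (hd : finrank F W = 2 * d) {J J' : End F W} (hJ : Skew B ν J) (hJ' : Skew B ν J') :
    ∃ g : W ≃ₗ[F] W, (∀ x y, B (g x) (g y) = B x y) ∧ ∀ x, g (J x) = J' (g x) := by
  classical
  obtain ⟨v, hv⟩ := exists_family h2 hν hB hd hJ d le_rfl
  obtain ⟨v', hv'⟩ := exists_family h2 hν hB hd hJ' d le_rfl
  obtain ⟨b, hb1, hb2⟩ := hv.basis hB hd
  obtain ⟨b', hb1', hb2'⟩ := hv'.basis hB hd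
  refine ⟨b.equiv b' (Equiv.refl _), fun x y => ?_, fun x => ?_⟩
  · have : LinearMap.compl₁₂ B (b.equiv b' (Equiv.refl _)).toLinearMap (b.equiv b' (Equiv.refl _)).toLinearMap = B := by
      refine LinearMap.BilinForm.ext_basis b fun i j => ?_
      have hwv : ∀ {v w : Fin d → W}, Hyp B v w → ∀ i j, B (w j) (v i) = if i = j then -1 else 0 := fun h i j => by
        rw [antisymm hB, h.vw]; split_ifs <;> simp
      simp only [LinearMap.compl₁₂_apply, LinearEquiv.coe_coe, Basis.equiv_apply, Equiv.refl_apply]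
      rcases i with i | i <;> rcases j with j | j <;>
        simp [hb1, hb2, hb1', hb2', hv.vv, hv.ww, hv.vw, hv'.vv, hv'.ww, hv'.vw, hwv hv, hwv hv']
    exact congrArg (fun B' : LinearMap.BilinForm F W => B' x y) this
  · have : (b.equiv b' (Equiv.refl _)).toLinearMap ∘ₗ J = J' ∘ₗ (b.equiv b' (Equiv.refl _)).toLinearMap := by
      refine b.ext fun i => ?_
      rcases i with i | i
      · have e1 : J (b (Sum.inl i)) = ν • b (Sum.inr i) := by rw [hb1, hb2, hJ.sq]
        have e2 : J' (b' (Sum.inl i)) = ν • b' (Sum.inr i) := by rw [hb1', hb2', hJ'.sq]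
        simp [e1, e2]
      · have e1 : J (b (Sum.inr i)) = b (Sum.inl i) := by rw [hb1, hb2]
        have e2 : J' (b' (Sum.inr i)) = b' (Sum.inl i) := by rw [hb1', hb2']
        simp [e1, e2]
    exact LinearMap.congr_fun this x

/-- Pairs of eigenvectors of an isometry with scalar square. -/
theorem exists_eigen_family (h2 : (2 : F) ≠ 0) (hB : Symp B) {d : ℕ} (hd : finrank F W = 2 * d) {z : F}
    (hz : z * z = 1) {e : F} (he : e * e = z) (X : End F W) (hXi : ∀ x y, B (X x) (X y) = B x y)
    (hX : ∀ x, X (X x) = z • x) :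
    ∀ k ≤ d, ∃ (v w : Fin k → W) (ε : Fin k → F), Hyp B v w ∧
      ∀ i, X (v i) = ε i • v i ∧ X (w i) = (z * ε i) • w i := by
  intro k
  induction k with
  | zero => exact fun _ => ⟨fun i => i.elim0, fun i => i.elim0, fun i => i.elim0,
      ⟨fun i => i.elim0, fun i => i.elim0, fun i => i.elim0⟩, fun i => i.elim0⟩
  | succ k ih =>
    intro hk
    obtain ⟨v, w, ε, hvw, hev⟩ := ih (by omega)
    obtain ⟨u, hu0, hu⟩ := exists_perp hB hvw (by omega)
    have hz0 : z ≠ 0 := fun h => by rw [h, mul_zero] at hz; exact zero_ne_one hz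
    have hXadj : ∀ x y, B x (X y) = z * B (X x) y := fun x y => by
      have := hXi (X x) y
      rw [hX, map_smul, LinearMap.smul_apply, smul_eq_mul] at this
      rw [← this, ← mul_assoc, hz, one_mul]
    have hPX : ∀ x, Perp B v w x → Perp B v w (X x) := fun x hx i => by
      constructor
      · rw [hXadj, (hev i).1, map_smul, LinearMap.smul_apply, (hx i).1, smul_zero, mul_zero]
      · rw [hXadj, (hev i).2, map_smul, LinearMap.smul_apply, (hx i).2, smul_zero, mul_zero]
    obtain ⟨ε₀, a, hε, ha0, ha, haX⟩ : ∃ ε₀ a, ε₀ * ε₀ = z ∧ a ≠ 0 ∧ Perp B v w a ∧ X a = ε₀ • a := by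
      by_cases h : X u + e • u = 0
      · exact ⟨-e, u, by rw [neg_mul_neg, he], hu0, hu, by rw [neg_smul]; exact eq_neg_of_add_eq_zero_left h⟩
      · refine ⟨e, X u + e • u, he, h, fun i => ?_, ?_⟩
        · exact ⟨by rw [map_add, map_smul, (hPX u hu i).1, (hu i).1, smul_zero, add_zero],
            by rw [map_add, map_smul, (hPX u hu i).2, (hu i).2, smul_zero, add_zero]⟩
        · rw [map_add, map_smul, hX, smul_add, smul_smul, he, add_comm]
    have hε0 : ε₀ ≠ 0 := fun h => by rw [h, mul_zero] at hε; exact hz0 hε.symm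
    obtain ⟨b₀, hb₀⟩ : ∃ x, B a x ≠ 0 := by
      by_contra hc
      push Not at hc
      exact ha0 (hB.nd a hc)
    obtain ⟨b, hbdef⟩ : ∃ b, b = (B a b₀)⁻¹ • cut B v w b₀ := ⟨_, rfl⟩
    have hb : Perp B v w b := fun i => ⟨by rw [hbdef, map_smul, (perp_cut hB hvw b₀ i).1, smul_zero],
      by rw [hbdef, map_smul, (perp_cut hB hvw b₀ i).2, smul_zero]⟩
    have hab : B a b = 1 := by rw [hbdef, map_smul, pair_cut hB ha, smul_eq_mul, inv_mul_cancel₀ hb₀]
    obtain ⟨c, hcdef⟩ : ∃ c, c = (2 : F)⁻¹ • (b + ε₀ • X b) := ⟨_, rfl⟩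
    have hcP : Perp B v w c := fun i => ⟨by rw [hcdef, map_smul, map_add, map_smul, (hb i).1, (hPX b hb i).1,
      smul_zero, add_zero, smul_zero], by rw [hcdef, map_smul, map_add, map_smul, (hb i).2, (hPX b hb i).2,
      smul_zero, add_zero, smul_zero]⟩
    have hac : B a c = 1 := by
      rw [hcdef, map_smul, map_add, map_smul, hXadj, haX, map_smul, LinearMap.smul_apply, hab]
      simp only [smul_eq_mul]
      field_simp
      linear_combination z * hε + hz
    refine ⟨Fin.cons a v, Fin.cons c w, Fin.cons ε₀ ε, hvw.cons hB ha hcP hac, fun i => ?_⟩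
    induction i using Fin.cases with
    | succ i => simpa using hev i
    | zero =>
      refine ⟨by simpa using haX, ?_⟩
      simp only [Fin.cons_zero]
      rw [hcdef, map_smul, map_add, map_smul, hX, smul_comm _ (2 : F)⁻¹]
      congr 1
      rw [smul_add, smul_smul, smul_smul]
      rw [show z * ε₀ * ε₀ = 1 by linear_combination z * hε + hz, one_smul, mul_comm z ε₀, add_comm]

/-- A skew root commuting or anticommuting with an isometry with scalar square. -/
theorem exists_skew (h2 : (2 : F) ≠ 0) (hν : ∀ c : F, c * c ≠ ν) (hB : Symp B) {d : ℕ}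
    (hd : finrank F W = 2 * d) {z : F} (hz : z * z = 1) (X : End F W) (hXi : ∀ x y, B (X x) (X y) = B x y)
    (hX : ∀ x, X (X x) = z • x) :
    ∃ (J : End F W) (s : F), (s = 1 ∨ s = -1) ∧ Skew B ν J ∧ ∀ x, X (J x) = s • J (X x) := by
  classical
  by_cases hsq : IsSquare z
  · obtain ⟨e, he⟩ := hsq
    obtain ⟨v, w, ε, hvw, hev⟩ := exists_eigen_family h2 hB hd hz he.symm X hXi hX d le_rfl
    obtain ⟨b, hb1, hb2⟩ := hvw.basis hB hd
    refine ⟨b.constr F (Sum.elim w fun i => ν • v i), z, mul_self_eq_one_iff.1 hz, ?_, ?_⟩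
    · set J := b.constr F (Sum.elim w fun i => ν • v i) with hJdef
      have hJ1 : ∀ i, J (v i) = w i := fun i => by rw [← hb1, hJdef, Basis.constr_basis]; rfl
      have hJ2 : ∀ i, J (w i) = ν • v i := fun i => by rw [← hb2, hJdef, Basis.constr_basis]; rfl
      refine ⟨fun x y => ?_, fun x => ?_⟩
      · have hwv : ∀ i j, B (w j) (v i) = if i = j then -1 else 0 := fun i j => by
          rw [antisymm hB, hvw.vw]; split_ifs <;> simp
        have : LinearMap.compl₁₂ B J LinearMap.id = -LinearMap.compl₁₂ B LinearMap.id J := by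
          refine LinearMap.BilinForm.ext_basis b fun i j => ?_
          rcases i with i | i <;> rcases j with j | j <;>
            simp [hb1, hb2, hJ1, hJ2, hvw.vv, hvw.ww, hvw.vw, hwv, LinearMap.compl₁₂_apply, eq_comm] <;>
            split_ifs <;> simp
        simpa using congrArg (fun B' : LinearMap.BilinForm F W => B' x y) this
      · have : J ∘ₗ J = ν • LinearMap.id := by
          refine b.ext fun i => ?_
          rcases i with i | i <;> simp [hb1, hb2, hJ1, hJ2]
        exact LinearMap.congr_fun this x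
    · intro x
      have : X ∘ₗ b.constr F (Sum.elim w fun i => ν • v i) = z • (b.constr F (Sum.elim w fun i => ν • v i) ∘ₗ X) := by
        refine b.ext fun i => ?_
        rcases i with i | i
        · simp only [LinearMap.comp_apply, LinearMap.smul_apply, Basis.constr_basis, Sum.elim_inl]
          rw [(hev i).2, hb1, (hev i).1, map_smul, ← hb1, Basis.constr_basis, Sum.elim_inl, smul_smul]
        · simp only [LinearMap.comp_apply, LinearMap.smul_apply, Basis.constr_basis, Sum.elim_inr, map_smul]
          rw [(hev i).1, hb2, (hev i).2, map_smul, ← hb2, Basis.constr_basis, Sum.elim_inr, smul_smul, smul_smul,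
            smul_smul]
          congr 1
          linear_combination (-(ν * ε i)) * hz
      exact LinearMap.congr_fun this x
  · have hchar : ringChar F ≠ 2 := fun hchar => h2 (by
      have : CharP F 2 := ringChar.of_eq hchar
      exact CharTwo.two_eq_zero)
    have hz1 : z = -1 := (mul_self_eq_one_iff.1 hz).resolve_left fun h => hsq (h ▸ IsSquare.one)
    obtain ⟨c, hc⟩ : IsSquare (-ν) := by
      have hν0 : ν ≠ 0 := fun e => hν 0 (by rw [mul_zero, e])
      rw [hz1] at hsq
      rw [FiniteField.isSquare_iff hchar (neg_ne_zero.2 hν0), neg_pow]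
      have e1 : (-1 : F) ^ (Fintype.card F / 2) = -1 :=
        ((FiniteField.pow_dichotomy hchar (neg_ne_zero.2 one_ne_zero)).resolve_left
          fun h => hsq ((FiniteField.isSquare_iff hchar (neg_ne_zero.2 one_ne_zero)).2 h))
      have e2 : ν ^ (Fintype.card F / 2) = -1 :=
        ((FiniteField.pow_dichotomy hchar hν0).resolve_left
          fun h => by
            obtain ⟨c, hc⟩ := (FiniteField.isSquare_iff hchar hν0).2 h
            exact hν c hc.symm)
      rw [e1, e2, neg_mul_neg, one_mul]
    refine ⟨c • X, 1, Or.inl rfl, ⟨fun x y => ?_, fun x => ?_⟩, fun x => ?_⟩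
    · have h1 := hXi (X x) y
      rw [hX, map_smul, LinearMap.smul_apply, smul_eq_mul, hz1] at h1
      simp only [LinearMap.smul_apply, map_smul, smul_eq_mul]
      linear_combination (-c) * h1
    · rw [LinearMap.smul_apply, LinearMap.smul_apply, map_smul, smul_smul, hX, smul_smul, hz1, ← hc]
      congr 1; ring
    · rw [LinearMap.smul_apply, map_smul, one_smul]; rfl

/-- A unitary group commuting with a skew root. -/
theorem exists_unitary (hν : ∀ c : F, c * c ≠ ν) (K : Type) [Field K] [Fintype K] {q : ℕ}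
    (hK : Fintype.card K = q ^ 2) (hF : Fintype.card F = q) (d : ℕ) :
    ∃ (J : End F (Fin d ⊕ Fin d → F)) (φ : Cfsg.GU d K q →* GL (Fin d ⊕ Fin d) F), Function.Injective φ ∧
      Skew (sb F d) ν J ∧ ∀ g, φ g ∈ Cfsg.spGL d F ∧
        ∀ x, J ((φ g : Matrix (Fin d ⊕ Fin d) (Fin d ⊕ Fin d) F) *ᵥ x) = (φ g : Matrix _ _ F) *ᵥ J x := by
  classical
  have hab : ∀ z₁ z₂ : F, z₁ ^ 2 + 0 * z₁ * z₂ + (-ν) * z₂ ^ 2 = 0 → z₁ = 0 ∧ z₂ = 0 := fun z₁ z₂ h => by
    by_cases h2 : z₂ = 0
    · subst h2
      exact ⟨by simpa using h, rfl⟩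
    · exfalso
      refine hν (z₁ / z₂) ?_
      field_simp
      linear_combination h
  obtain ⟨fr⟩ := RestrictScalars.exists_Frame hF hK 0 (-ν) hab
  letI := fr.emb.toAlgebra
  obtain ⟨L, hL⟩ := RestrictScalars.exists_equiv (ι := Fin d) (κ := Fin d ⊕ Fin d) (F := F) (K := K)
    (fun v => Sum.elim (fun i => (fr.co (v i)).1) (fun i => (fr.co (v i)).2))
    (fun u v => by funext s; rcases s with i | i <;> simp [RestrictScalars.Frame.co_add])
    (fun c u => by
      funext s
      rcases s with i | i <;> simp [show algebraMap F K = fr.emb from rfl, RestrictScalars.Frame.co_smul])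
    (fun u h => funext fun i => fr.co_eq_zero (Prod.ext (congrFun h (Sum.inl i)) (congrFun h (Sum.inr i))))
    (by rw [hK, hF, ← pow_mul, Fintype.card_sum, Fintype.card_fin, two_mul])
  have hσ : fr.σ fr.ω = -fr.ω := by
    have := fr.sum_eq
    rw [map_zero] at this
    exact eq_neg_of_add_eq_zero_right this
  have hω : fr.ω * fr.ω = fr.emb ν := by
    have := fr.prod_eq
    rw [hσ, map_neg, mul_neg, neg_inj] at this
    exact this
  have key : ∀ u v, Cfsg.sympForm d F (L u) (L v) = fr.φ (Cfsg.hermForm d K q u v) := by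
    intro u v
    simp only [f_apply, hL, Sum.elim_inl, Sum.elim_inr, Cfsg.hermForm, fr.φ_sum, ← fr.σ_eq, fr.φ_herm]
  let m : (Fin d → K) →ₗ[F] (Fin d → K) := ((fr.ω • LinearMap.id : (Fin d → K) →ₗ[K] (Fin d → K))).restrictScalars F
  refine ⟨L.toLinearMap ∘ₗ m ∘ₗ L.symm.toLinearMap, (RestrictScalars.tGL L).comp (Cfsg.GU d K q).subtype,
    fun g h e => Subtype.ext (RestrictScalars.tGL_injective L e), ⟨fun x y => ?_, fun x => ?_⟩, fun g => ⟨?_, fun x => ?_⟩⟩
  · obtain ⟨x, rfl⟩ := L.surjective x
    obtain ⟨y, rfl⟩ := L.surjective y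
    simp only [LinearMap.comp_apply, LinearEquiv.coe_coe, LinearEquiv.symm_apply_apply, sb_apply, key]
    rw [← fr.φ_neg]
    congr 1
    simp only [m, Cfsg.hermForm, LinearMap.coe_restrictScalars, LinearMap.smul_apply, LinearMap.id_apply,
      Pi.smul_apply, smul_eq_mul, ← fr.σ_eq, map_mul, hσ, ← Finset.sum_neg_distrib]
    exact Finset.sum_congr rfl fun i _ => by ring
  · obtain ⟨x, rfl⟩ := L.surjective x
    simp only [LinearMap.comp_apply, LinearEquiv.coe_coe, LinearEquiv.symm_apply_apply]
    rw [← L.map_smul]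
    congr 1
    funext i
    simp only [m, LinearMap.coe_restrictScalars, LinearMap.smul_apply, LinearMap.id_apply, Pi.smul_apply, smul_eq_mul]
    rw [← mul_assoc, hω, Algebra.smul_def]
    rfl
  · intro u v
    obtain ⟨u, rfl⟩ := L.surjective u
    obtain ⟨v, rfl⟩ := L.surjective v
    show Cfsg.sympForm d F ((RestrictScalars.tGL L g.1 : Matrix _ _ F) *ᵥ L u)
      ((RestrictScalars.tGL L g.1 : Matrix _ _ F) *ᵥ L v) = _
    rw [RestrictScalars.tGL_mulVec, RestrictScalars.tGL_mulVec, key, key, RestrictScalars.gu_mem.mp g.2]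
  · obtain ⟨x, rfl⟩ := L.surjective x
    simp only [LinearMap.comp_apply, LinearEquiv.coe_coe, LinearEquiv.symm_apply_apply, MonoidHom.coe_comp,
      Function.comp_apply, Subgroup.coe_subtype, RestrictScalars.tGL_mulVec]
    congr 1
    simp only [m, LinearMap.coe_restrictScalars, LinearMap.smul_apply, LinearMap.id_apply, Matrix.mulVec_smul]

end CfsgLib.Derange.SpU
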