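import Mathlib

/-!
Conjugacy in `SL₂` of matrices with the same characteristic polynomial `X² - tX + 1`.
-/

set_option autoImplicit false
set_option linter.unusedSectionVars false

namespace CfsgLib.Derange.TwoByTwo

open Matrix Polynomial

variable {F : Type*} [Field F]

local notation "M2" => Matrix (Fin 2) (Fin 2) F

theorem cayley_two (X : M2) : X * X = X.trace • X - X.det • 1 := by
  ext i j
  fin_cases i <;> fin_cases j <;>
    simp [Matrix.mul_apply, Fin.sum_univ_two, Matrix.trace_fin_two, Matrix.det_fin_two] <;> ring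

/-- A nonscalar matrix has a frame in which it is a companion matrix. -/
theorem exists_frame (X : M2) (hns : ∀ c : F, X ≠ c • 1) :
    ∃ P : M2, P.det ≠ 0 ∧ X * P = P * !![0, -X.det; 1, X.trace] := by
  have h : X 0 1 ≠ 0 ∨ X 1 0 ≠ 0 ∨ X 0 0 ≠ X 1 1 := by
    by_contra! h
    refine hns (X 0 0) ?_
    ext i j
    fin_cases i <;> fin_cases j <;> simp [h.1, h.2.1, ← h.2.2]
  rcases h with h | h | h
  · refine ⟨!![0, X 0 1; 1, X 1 1], by simp [Matrix.det_fin_two, h], ?_⟩
    ext i j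
    fin_cases i <;> fin_cases j <;>
      simp [Matrix.mul_apply, Fin.sum_univ_two, Matrix.trace_fin_two, Matrix.det_fin_two] <;> ring
  · refine ⟨!![1, X 0 0; 0, X 1 0], by simp [Matrix.det_fin_two, h], ?_⟩
    ext i j
    fin_cases i <;> fin_cases j <;>
      simp [Matrix.mul_apply, Fin.sum_univ_two, Matrix.trace_fin_two, Matrix.det_fin_two] <;> ring
  · by_cases h' : X 0 1 = 0 ∧ X 1 0 = 0
    · refine ⟨!![1, X 0 0; 1, X 1 1], ?_, ?_⟩
      · simpa [Matrix.det_fin_two, sub_eq_zero] using Ne.symm h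
      · ext i j
        fin_cases i <;> fin_cases j <;>
          simp [Matrix.mul_apply, Fin.sum_univ_two, Matrix.trace_fin_two, Matrix.det_fin_two, h'.1, h'.2] <;> ring
    · rcases not_and_or.1 h' with h1 | h1
      · refine ⟨!![0, X 0 1; 1, X 1 1], by simp [Matrix.det_fin_two, h1], ?_⟩
        ext i j
        fin_cases i <;> fin_cases j <;>
          simp [Matrix.mul_apply, Fin.sum_univ_two, Matrix.trace_fin_two, Matrix.det_fin_two] <;> ring
      · refine ⟨!![1, X 0 0; 0, X 1 0], by simp [Matrix.det_fin_two, h1], ?_⟩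
        ext i j
        fin_cases i <;> fin_cases j <;>
          simp [Matrix.mul_apply, Fin.sum_univ_two, Matrix.trace_fin_two, Matrix.det_fin_two] <;> ring

/-- Norms from a nondegenerate quadratic algebra are onto. -/
theorem exists_form_eq [Fintype F] (h2 : (2 : F) ≠ 0) {t : F} (ht : t ^ 2 - 4 ≠ 0) (d : F) :
    ∃ u v : F, u ^ 2 + t * u * v + v ^ 2 = d := by
  classical
  have hc : 1 - t ^ 2 / 4 ≠ 0 := by
    have h4 : (4 : F) ≠ 0 := by rw [show (4 : F) = 2 * 2 by norm_num]; exact mul_ne_zero h2 h2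
    intro h
    apply ht
    field_simp at h
    linear_combination -h
  have hodd : Fintype.card F % 2 = 1 := FiniteField.odd_card_of_char_ne_two fun h => h2 (by
    have : ((2 : ℕ) : F) = 0 := (ringChar.spec F 2).2 (by rw [h])
    exact_mod_cast this)
  obtain ⟨a, b, hab⟩ := FiniteField.exists_root_sum_quadratic (f := (X : F[X]) ^ 2)
    (g := C (1 - t ^ 2 / 4) * X ^ 2 - C d) (degree_X_pow 2)
    (by
      rw [degree_sub_eq_left_of_degree_lt, degree_C_mul_X_pow 2 hc] <;> try rfl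
      rw [degree_C_mul_X_pow 2 hc]
      exact lt_of_le_of_lt degree_C_le (by norm_num)) hodd
  refine ⟨a - t * b / 2, b, ?_⟩
  simp only [eval_pow, eval_X, eval_sub, eval_mul, eval_C] at hab
  have h4 : (4 : F) ≠ 0 := by rw [show (4 : F) = 2 * 2 by norm_num]; exact mul_ne_zero h2 h2
  field_simp at hab ⊢
  linear_combination hab

/-- Nonscalar matrices of determinant `1` with the same trace are conjugate in `SL₂`. -/
theorem conj_of_trace [Fintype F] (h2 : (2 : F) ≠ 0) {X Y : M2} (hX : X.det = 1) (hY : Y.det = 1)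
    (ht : X.trace ^ 2 - 4 ≠ 0) (htr : Y.trace = X.trace)
    (hXs : ∀ c : F, X ≠ c • 1) (hYs : ∀ c : F, Y ≠ c • 1) :
    ∃ g : M2, g.det = 1 ∧ X * g = g * Y := by
  obtain ⟨P, hP, hXP⟩ := exists_frame X hXs
  obtain ⟨Q, hQ, hYQ⟩ := exists_frame Y hYs
  rw [hX] at hXP
  rw [hY, htr] at hYQ
  set C₀ : M2 := !![0, -1; 1, X.trace] with hC
  obtain ⟨u, v, huv⟩ := exists_form_eq h2 ht (Q.det / P.det)
  set L : M2 := u • 1 + v • C₀ with hL
  have hLd : L.det = Q.det / P.det := by
    rw [← huv, hL, hC]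
    simp [Matrix.det_fin_two]
    ring
  have hcomm : C₀ * L = L * C₀ := by
    rw [hL]; simp only [mul_add, add_mul, Matrix.mul_smul, Matrix.smul_mul, Matrix.mul_one, Matrix.one_mul]
  have hQu : IsUnit Q.det := isUnit_iff_ne_zero.2 hQ
  refine ⟨P * L * Q⁻¹, ?_, ?_⟩
  · rw [Matrix.det_mul, Matrix.det_mul, Matrix.det_nonsing_inv, hLd, Ring.inverse_eq_inv']
    field_simp
  · calc X * (P * L * Q⁻¹) = (X * P) * L * Q⁻¹ := by simp only [Matrix.mul_assoc]
      _ = P * (C₀ * L) * Q⁻¹ := by rw [hXP]; simp only [Matrix.mul_assoc]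
      _ = P * L * (C₀ * Q⁻¹) := by rw [hcomm]; simp only [Matrix.mul_assoc]
      _ = P * L * (Q⁻¹ * Y) := by
        congr 1
        calc C₀ * Q⁻¹ = Q⁻¹ * (Q * C₀) * Q⁻¹ := by
              rw [← Matrix.mul_assoc Q⁻¹, Matrix.nonsing_inv_mul _ hQu, Matrix.one_mul]
          _ = Q⁻¹ * (Y * Q) * Q⁻¹ := by rw [hYQ]
          _ = Q⁻¹ * Y := by
              rw [Matrix.mul_assoc, Matrix.mul_assoc Y, Matrix.mul_nonsing_inv _ hQu, Matrix.mul_one]
      _ = P * L * Q⁻¹ * Y := by simp only [Matrix.mul_assoc]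

end CfsgLib.Derange.TwoByTwo
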