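import Cfsg.Agent.Lib.Derange.Shape

/-!
Sub-multisets stable under an involution, and sub-multisets meeting their images.
-/

set_option autoImplicit false

namespace CfsgLib.Derange.UEl

variable {α : Type*} [DecidableEq α] {D : Finset α} {τ : α → α} {sf : Prop} [Decidable sf]

/-- The size of a stable block. -/
def blockSize (sf : Prop) [Decidable sf] : ℕ := if sf then 1 else 2

/-- The pairs certain to occur among `K` blocks. -/
def pairCount (sf : Prop) [Decidable sf] (t K : ℕ) : ℕ := if sf then (K - t + 1) / 2 else K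

/-- The involution is trivial, or free. -/
structure UInv (D : Finset α) (τ : α → α) (sf : Prop) : Prop where
  mem : ∀ P ∈ D, τ P ∈ D ∧ τ (τ P) = P
  iff : ∀ P ∈ D, (τ P = P ↔ sf)

theorem map_fixed (h : UInv D τ sf) (hs : sf) {R : Multiset α} (hR : ∀ P ∈ R, P ∈ D) : R.map τ = R := by
  rw [Multiset.map_congr rfl fun P hP => (h.iff P (hR P hP)).2 hs, Multiset.map_id']

theorem count_map (h : UInv D τ sf) {R : Multiset α} (hR : ∀ P ∈ R, P ∈ D) {P : α} (hP : P ∈ D) :
    (R.map τ).count P = R.count (τ P) := by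
  conv_lhs => rw [← (h.mem P hP).2]
  rw [Multiset.count_map, ← Multiset.card_replicate (R.count (τ P)) (τ P), ← Multiset.filter_eq]
  refine congrArg Multiset.card (Multiset.filter_congr fun a ha => ⟨fun e => ?_, fun e => by rw [← e, (h.mem P hP).2]⟩)
  have := congrArg τ e
  rw [(h.mem P hP).2, (h.mem a (hR a ha)).2] at this
  exact this

/-- Half of `D`. -/
theorem exists_half_set (h : UInv D τ sf) (hs : ¬ sf) : ∃ D₁ ⊆ D, ∀ P ∈ D, (P ∈ D₁ ↔ τ P ∉ D₁) := by
  classical
  let e := D.equivFin
  refine ⟨D.filter fun P => ∃ (hP : P ∈ D) (hP' : τ P ∈ D), e ⟨P, hP⟩ < e ⟨τ P, hP'⟩, Finset.filter_subset _ _,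
    fun P hP => ?_⟩
  obtain ⟨hτ, hττ⟩ := h.mem P hP
  simp only [Finset.mem_filter, hP, hτ, hττ, true_and, exists_true_left]
  have hne : e ⟨P, hP⟩ ≠ e ⟨τ P, hτ⟩ := fun h' => hs ((h.iff P hP).1 (congrArg Subtype.val (e.injective h')).symm)
  exact ⟨fun h' => not_lt.mpr h'.le, fun h' => lt_of_le_of_ne (not_lt.mp h') hne⟩

/-- A stable multiset without fixed points is a multiset and its image. -/
theorem exists_halves (h : UInv D τ sf) (hs : ¬ sf) {R : Multiset α} (hR : ∀ P ∈ R, P ∈ D)
    (hfix : R.map τ = R) : ∃ R₁ : Multiset α, R = R₁ + R₁.map τ ∧ ∀ P ∈ R₁, P ∈ D := by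
  classical
  obtain ⟨D₁, hD₁, hiff⟩ := exists_half_set h hs
  refine ⟨R.filter (· ∈ D₁), ?_, fun P hP => hR P (Multiset.mem_of_mem_filter hP)⟩
  refine (Multiset.filter_add_not (· ∈ D₁) R).symm.trans (congrArg (R.filter (· ∈ D₁) + ·) ?_)
  have e : R.filter (fun P => P ∉ D₁) = (R.map τ).filter (fun P => P ∉ D₁) := by rw [hfix]
  rw [e, Multiset.filter_map]
  refine congrArg (Multiset.map τ) (Multiset.filter_congr fun P hP => ?_)
  exact (hiff P (hR P hP)).symm

/-- A stable multiset has a number of blocks. -/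
theorem exists_blocks (h : UInv D τ sf) {R : Multiset α} (hR : ∀ P ∈ R, P ∈ D) (hfix : R.map τ = R) :
    ∃ K, Multiset.card R = blockSize sf * K := by
  by_cases hs : sf
  · exact ⟨_, by rw [blockSize, if_pos hs, one_mul]⟩
  · obtain ⟨R₁, rfl, -⟩ := exists_halves h hs hR hfix
    exact ⟨Multiset.card R₁, by rw [blockSize, if_neg hs, Multiset.card_add, Multiset.card_map]; ring⟩

/-- Stable sub-multisets of every possible size. -/
theorem exists_stable_sub (h : UInv D τ sf) {R : Multiset α} (hR : ∀ P ∈ R, P ∈ D) (hfix : R.map τ = R) {K A : ℕ}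
    (hK : Multiset.card R = blockSize sf * K) (hA : A ≤ K) :
    ∃ T ≤ R, T.map τ = T ∧ Multiset.card T = blockSize sf * A := by
  by_cases hs : sf
  · rw [blockSize, if_pos hs, one_mul] at hK ⊢
    obtain ⟨T, hT, hTc⟩ := CfsgLib.Derange.exists_le_card_eq R (hK ▸ hA : A ≤ Multiset.card R)
    exact ⟨T, hT, map_fixed h hs fun P hP => hR P (Multiset.mem_of_le hT hP), hTc⟩
  · obtain ⟨R₁, rfl, hR₁⟩ := exists_halves h hs hR hfix
    rw [blockSize, if_neg hs, Multiset.card_add, Multiset.card_map] at hK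
    rw [blockSize, if_neg hs]
    obtain ⟨T, hT, hTc⟩ := CfsgLib.Derange.exists_le_card_eq R₁ (show A ≤ Multiset.card R₁ by omega)
    refine ⟨T + T.map τ, add_le_add hT (Multiset.map_le_map hT), ?_, by rw [Multiset.card_add, Multiset.card_map, hTc]; ring⟩
    rw [Multiset.map_add, Multiset.map_map, Multiset.map_congr rfl (g := id) (f := τ ∘ τ)
      (fun P hP => (h.mem P (hR₁ P (Multiset.mem_of_le hT hP))).2), Multiset.map_id, add_comm]

/-- Enough pairs. -/
theorem exists_pair_sub (h : UInv D τ sf) {t : ℕ} (ht : D.card = t) {R : Multiset α} (hR : ∀ P ∈ R, P ∈ D)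
    (hfix : R.map τ = R) {K A : ℕ} (hK : Multiset.card R = blockSize sf * K) (hA : A ≤ pairCount sf t K) :
    ∃ H : Multiset α, H + H.map τ ≤ R ∧ Multiset.card H = A := by
  by_cases hs : sf
  · rw [blockSize, if_pos hs, one_mul] at hK
    rw [pairCount, if_pos hs] at hA
    set M₀ := ∑ P ∈ D, Multiset.replicate (R.count P / 2) P with hM₀
    have hcount : ∀ P, M₀.count P = if P ∈ D then R.count P / 2 else 0 := fun P => by
      rw [hM₀, Multiset.count_sum']
      simp [Multiset.count_replicate]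
    have hle₀ : A ≤ Multiset.card M₀ := by
      have hsum : ∑ P ∈ D, R.count P = K := by rw [← hK]; exact Multiset.sum_count_eq_card hR
      have hcard₀ : Multiset.card M₀ = ∑ P ∈ D, R.count P / 2 := by rw [hM₀, Multiset.card_sum]; simp
      have hb : ∑ P ∈ D, R.count P ≤ 2 * (∑ P ∈ D, R.count P / 2) + t := by
        rw [Finset.mul_sum, ← ht, Finset.card_eq_sum_ones, ← Finset.sum_add_distrib]
        exact Finset.sum_le_sum fun P _ => by omega
      omega
    obtain ⟨M, hle, hMc⟩ := CfsgLib.Derange.exists_le_card_eq M₀ hle₀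
    have hM : ∀ P ∈ M, P ∈ D := fun P hP => by
      have h1 := (Multiset.count_pos.2 hP).trans_le (Multiset.count_le_of_le P hle)
      rw [hcount] at h1
      by_contra hc
      rw [if_neg hc] at h1
      exact lt_irrefl 0 h1
    refine ⟨M, ?_, hMc⟩
    rw [map_fixed h hs hM]
    refine Multiset.le_iff_count.2 fun P => ?_
    have h1 := Multiset.count_le_of_le P hle
    rw [hcount] at h1
    rw [Multiset.count_add]
    split_ifs at h1 <;> omega
  · obtain ⟨R₁, rfl, -⟩ := exists_halves h hs hR hfix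
    rw [blockSize, if_neg hs, Multiset.card_add, Multiset.card_map] at hK
    rw [pairCount, if_neg hs] at hA
    obtain ⟨T, hT, hTc⟩ := CfsgLib.Derange.exists_le_card_eq R₁ (show A ≤ Multiset.card R₁ by omega)
    exact ⟨T, add_le_add hT (Multiset.map_le_map hT), hTc⟩

/-- A multiset with no more pairs than that. -/
theorem exists_worst_blocks (h : UInv D τ sf) {t : ℕ} (ht : D.card = t) (ht0 : 0 < t) (K : ℕ) :
    ∃ R : Multiset α, (∀ P ∈ R, P ∈ D) ∧ R.map τ = R ∧ Multiset.card R = blockSize sf * K ∧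
      ∀ H : Multiset α, H + H.map τ ≤ R → Multiset.card H ≤ pairCount sf t K := by
  obtain ⟨P₀, hP₀⟩ : D.Nonempty := Finset.card_pos.mp (ht.symm ▸ ht0)
  by_cases hs : sf
  · obtain ⟨o, hoK, hot, hpar, hval⟩ : ∃ o, o ≤ K ∧ o ≤ t ∧ Even (K - o) ∧ (K - o) / 2 = (K - t + 1) / 2 := by
      rcases le_or_gt K t with h' | h'
      · exact ⟨K, le_rfl, h', by simp, by omega⟩
      · rcases Nat.even_or_odd (K - t) with ⟨w, hw⟩ | ⟨w, hw⟩
        · exact ⟨t, h'.le, le_rfl, ⟨w, hw⟩, by omega⟩
        · exact ⟨t - 1, by omega, by omega, ⟨w + 1, by omega⟩, by omega⟩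
    obtain ⟨S₀, hS₀, hS₀c⟩ := Finset.exists_subset_card_eq (s := D) (ht.symm ▸ hot)
    have hR : ∀ P ∈ S₀.val + Multiset.replicate (K - o) P₀, P ∈ D := fun P hP => by
      rcases Multiset.mem_add.1 hP with h' | h'
      · exact hS₀ h'
      · exact Multiset.eq_of_mem_replicate h' ▸ hP₀
    refine ⟨_, hR, map_fixed h hs hR, ?_, fun H hH => ?_⟩
    · rw [blockSize, if_pos hs, Multiset.card_add, Multiset.card_replicate, ← Finset.card_def, hS₀c]; omega
    · have hHD : ∀ P ∈ H, P ∈ D := fun P hP => hR P (Multiset.mem_of_le ((Multiset.le_add_right _ _).trans hH) hP)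
      rw [map_fixed h hs hHD] at hH
      have hle : H ≤ Multiset.replicate ((K - o) / 2) P₀ := Multiset.le_iff_count.2 fun P => by
        have h1 := Multiset.count_le_of_le P hH
        rw [Multiset.count_add, Multiset.count_add, Multiset.count_replicate] at h1
        have h2 : S₀.val.count P ≤ 1 := Multiset.nodup_iff_count_le_one.1 S₀.nodup P
        rw [Multiset.count_replicate]
        obtain ⟨w, hw⟩ := hpar
        split_ifs at h1 ⊢ <;> omega
      have := Multiset.card_le_card hle
      rw [Multiset.card_replicate, hval] at this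
      rwa [pairCount, if_pos hs]
  · refine ⟨Multiset.replicate K P₀ + Multiset.replicate K (τ P₀), fun P hP => ?_, ?_, ?_, fun H hH => ?_⟩
    · rcases Multiset.mem_add.1 hP with h' | h'
      · exact Multiset.eq_of_mem_replicate h' ▸ hP₀
      · exact Multiset.eq_of_mem_replicate h' ▸ (h.mem P₀ hP₀).1
    · rw [Multiset.map_add, Multiset.map_replicate, Multiset.map_replicate, (h.mem P₀ hP₀).2, add_comm]
    · rw [blockSize, if_neg hs, Multiset.card_add, Multiset.card_replicate, Multiset.card_replicate]; ring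
    · have := Multiset.card_le_card hH
      rw [Multiset.card_add, Multiset.card_map, Multiset.card_add, Multiset.card_replicate, Multiset.card_replicate] at this
      rw [pairCount, if_neg hs]
      omega

end CfsgLib.Derange.UEl
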