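import Mathlib
import Cfsg.Agent.Lib.Derange.UnitComb

/-!
Arithmetical criteria for the unitary shapes.
-/

set_option autoImplicit false

namespace CfsgLib.Derange.UEl

/-- Every shape has room for a non-degenerate `m`-space. -/
theorem units_arith {c n m : ℕ} (hc : 0 < c) (hcn : c ≤ n) (hmn : m ≤ n) (hwin : n % c < m) :
    (∀ e K, 0 < K → e + c * K = n → ∃ e' A, e' ≤ e ∧ A ≤ K ∧ e' + c * A = m) ↔ c ≤ m ∧ m % c ≤ n % c := by
  have hN := Nat.mod_add_div n c
  have hM := Nat.mod_add_div m c
  constructor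
  · intro H
    obtain ⟨e', A, h2, -, h1⟩ := H (n % c) (n / c) (Nat.div_pos hcn hc) hN
    refine ⟨?_, ?_⟩
    · by_contra h
      have : A = 0 := by
        by_contra hA
        have := Nat.le_mul_of_pos_right c (Nat.pos_of_ne_zero hA)
        omega
      subst this
      omega
    · rw [← h1, Nat.add_mul_mod_self_left]
      exact (Nat.mod_le _ _).trans h2
  · rintro ⟨hcm, hμ⟩ e K hK he
    by_cases hle : m / c ≤ K
    · refine ⟨m % c, m / c, ?_, hle, hM⟩
      have hKN : K ≤ n / c := (Nat.le_div_iff_mul_le hc).2 (by rw [mul_comm]; omega)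
      have := Nat.mul_le_mul_left c hKN
      omega
    · push Not at hle
      have := Nat.mul_le_mul_left c hle.le
      exact ⟨m - c * K, K, by omega, le_rfl, by omega⟩

/-- Every shape has room for a totally isotropic `m`-space. -/
theorem pairs_arith {sf : Prop} [Decidable sf] {b t n m : ℕ} (hb : 0 < b) (hcn : blockSize sf * b ≤ n)
    (hmn : 2 * m ≤ n) (hwin : n % (blockSize sf * b) < 2 * m) :
    (∀ e K, 0 < K → e + blockSize sf * b * K = n →
        ∃ e' A, 2 * e' ≤ e ∧ A ≤ pairCount sf t K ∧ e' + b * A = m) ↔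
      b ≤ m ∧ 2 * (m % b) ≤ n % (blockSize sf * b) ∧ (sf → t + 2 * (m / b) ≤ n / b) := by
  set c := blockSize sf * b with hcdef
  have hc0 : 0 < c := Nat.mul_pos (by unfold blockSize; split <;> omega) hb
  have hN := Nat.mod_add_div n c
  have hM := Nat.mod_add_div m b
  have h4 := Nat.mod_lt n hb
  constructor
  · intro H
    obtain ⟨e', A, he, -, hm⟩ := H (n % c) (n / c) (Nat.div_pos hcn hc0) hN
    have hbm : b ≤ m := by
      by_contra h
      have : A = 0 := by
        by_contra hA
        have := Nat.le_mul_of_pos_right b (Nat.pos_of_ne_zero hA)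
        omega
      subst this
      omega
    have hμ : m % b ≤ e' := by
      rw [← hm, Nat.add_mul_mod_self_left]; exact Nat.mod_le _ _
    refine ⟨hbm, by omega, fun hs => ?_⟩
    by_contra hlt
    push Not at hlt
    have hcb : c = b := by rw [hcdef, blockSize, if_pos hs, one_mul]
    rw [hcb] at hN hwin hcn
    by_cases htN : t ≤ n / b
    · obtain ⟨K, u, hu, hKN, hKN'⟩ : ∃ K u, K = t + 2 * u ∧ K ≤ n / b ∧ n / b ≤ K + 1 :=
        ⟨_, (n / b - t) / 2, rfl, by omega, by omega⟩
      have hbK : b * K ≤ b * (n / b) := Nat.mul_le_mul_left b hKN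
      have hbK' : b * (n / b) ≤ b * (K + 1) := Nat.mul_le_mul_left b hKN'
      have h3 : b * (u + 1) ≤ b * (m / b) := Nat.mul_le_mul_left b (by omega)
      rw [mul_add, mul_one] at hbK' h3
      by_cases hK : 0 < K
      · obtain ⟨e₁, A₁, he₁, hA₁, hm₁⟩ := H (n - b * K) K hK (by rw [hcb]; omega)
        rw [pairCount, if_pos hs] at hA₁
        have h2 : b * A₁ ≤ b * u := Nat.mul_le_mul_left b (by omega)
        omega
      · obtain rfl : K = 0 := by omega
        rw [mul_zero] at hbK'
        have := Nat.mul_le_mul_left b hbm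
        have : n / b ≤ 1 := by omega
        have h5 : b * (n / b) ≤ b * 1 := Nat.mul_le_mul_left b this
        obtain ⟨e₁, A₁, he₁, hA₁, hm₁⟩ := H (n % b) (n / b) (Nat.div_pos hcn hb) (by rw [hcb]; omega)
        rw [pairCount, if_pos hs] at hA₁
        have h2 : b * A₁ ≤ b * 1 := Nat.mul_le_mul_left b (by omega)
        omega
    · obtain ⟨e₁, A₁, he₁, hA₁, hm₁⟩ := H (n % b) (n / b) (Nat.div_pos hcn hb) (by rw [hcb]; omega)
      rw [pairCount, if_pos hs] at hA₁
      obtain rfl : A₁ = 0 := by omega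
      omega
  · rintro ⟨hbm, hμ, hroom⟩ e K hK he
    have hKN : K ≤ n / c := (Nat.le_div_iff_mul_le hc0).2 (by rw [mul_comm]; omega)
    have hcK : c * K ≤ c * (n / c) := Nat.mul_le_mul_left c hKN
    by_cases ha : m / b ≤ pairCount sf t K
    · exact ⟨m % b, m / b, by omega, ha, hM⟩
    push Not at ha
    have hia : b * pairCount sf t K ≤ b * (m / b) := Nat.mul_le_mul_left b ha.le
    refine ⟨m - b * pairCount sf t K, pairCount sf t K, ?_, le_rfl, by omega⟩
    by_cases hs : sf
    · have hcb : c = b := by rw [hcdef, blockSize, if_pos hs, one_mul]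
      have h1 : b * K ≤ b * (t + 2 * pairCount sf t K) :=
        Nat.mul_le_mul_left b (by rw [pairCount, if_pos hs]; omega)
      have h2 : b * (t + 2 * (m / b)) ≤ b * (n / b) := Nat.mul_le_mul_left b (hroom hs)
      rw [mul_add, mul_left_comm] at h1 h2
      rw [hcb] at he hN hμ
      omega
    · rw [pairCount, if_neg hs] at hia ⊢
      rw [hcdef, blockSize, if_neg hs, mul_assoc] at he
      omega

/-- Parts of size at most two split off every dimension of the right parity. -/
theorem two_parts_iff {n m : ℕ} (hmn : m ≤ n) :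
    (∀ μ : Multiset ℕ, (∀ a ∈ μ, 0 < a ∧ a ≤ 2) → μ.sum = n → ∃ ν : Multiset ℕ, ν ≤ μ ∧ ν.sum = m) ↔
      Odd n ∨ Even m := by
  constructor
  · intro H
    by_contra hc
    push Not at hc
    obtain ⟨h1, h2⟩ := hc
    obtain ⟨k, hk⟩ := Nat.not_odd_iff_even.1 h1
    obtain ⟨ν, hν, hνs⟩ := H (Multiset.replicate k 2) (fun a ha => by rw [Multiset.eq_of_mem_replicate ha]; omega)
      (by rw [Multiset.sum_replicate, smul_eq_mul]; omega)
    have e : ν = Multiset.replicate (Multiset.card ν) 2 :=
      Multiset.eq_replicate_card.2 fun a ha => Multiset.eq_of_mem_replicate (Multiset.mem_of_le hν ha)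
    rw [e, Multiset.sum_replicate, smul_eq_mul] at hνs
    exact h2 ⟨Multiset.card ν, by omega⟩
  · intro hpar μ hμ hsum
    have hdec : μ = Multiset.replicate (μ.count 1) 1 + Multiset.replicate (μ.count 2) 2 := by
      ext a
      rw [Multiset.count_add, Multiset.count_replicate, Multiset.count_replicate]
      by_cases ha : a ∈ μ
      · have := hμ a ha
        have : a = 1 ∨ a = 2 := by omega
        rcases this with rfl | rfl <;> simp
      · rw [Multiset.count_eq_zero.2 ha]
        split_ifs with h1 h2 h3 <;> (try subst h1) <;> (try subst h2) <;> simp_all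
    set x := μ.count 1
    set y := μ.count 2
    rw [hdec, Multiset.sum_add, Multiset.sum_replicate, Multiset.sum_replicate, smul_eq_mul, smul_eq_mul] at hsum
    obtain ⟨x', y', hx, hy, hs⟩ : ∃ x' y', x' ≤ x ∧ y' ≤ y ∧ x' + 2 * y' = m :=
      ⟨m - 2 * min y (m / 2), min y (m / 2), by
        rcases hpar with ⟨c, hc⟩ | ⟨c, hc⟩ <;> omega, min_le_left _ _, by omega⟩
    refine ⟨Multiset.replicate x' 1 + Multiset.replicate y' 2, ?_, ?_⟩
    · rw [hdec]
      exact add_le_add ((Multiset.replicate_le_replicate _).2 hx) ((Multiset.replicate_le_replicate _).2 hy)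
    · rw [Multiset.sum_add, Multiset.sum_replicate, Multiset.sum_replicate, smul_eq_mul, smul_eq_mul]; omega

end CfsgLib.Derange.UEl
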