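import Cfsg.Agent.Lib.Derange.UnitaryPairsOrder
import Cfsg.Agent.Lib.Derange.Invariant
import Cfsg.Agent.Lib.SUParabolic.Count

/-!
Invariant non-degenerate and totally isotropic subspaces of unitary matrices, in terms of blocks.
-/

set_option autoImplicit false
set_option linter.unusedSectionVars false
set_option linter.style.haveILetI false
set_option maxHeartbeats 1000000

namespace CfsgLib.Derange.UEl

open Matrix Module Polynomial Cfsg
open CfsgLib.Classical.Herm CfsgLib.Classical.UnitaryTwistPoly CfsgLib.Classical.UnitaryConj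
open CfsgLib.Classical.UnitarySemisimple CfsgLib.SUParabolic
open CfsgLib.ClassicalAut (Unitary.Conj Unitary.herm_apply)

variable {F : Type*} [Field F] [Fintype F] {q : ℕ} (K : Unitary.Conj F q) {n m : ℕ}

/-- `M` leaves invariant a non-degenerate `m`-space. -/
def Nd (q m : ℕ) {n : ℕ} (M : Matrix (Fin n) (Fin n) F) : Prop :=
  ∃ W : Submodule F (Fin n → F), finrank F W = m ∧ Nondeg (q := q) W ∧ ∀ v ∈ W, M *ᵥ v ∈ W

/-- `M` leaves invariant a totally isotropic `m`-space. -/
def Tis (q m : ℕ) {n : ℕ} (M : Matrix (Fin n) (Fin n) F) : Prop :=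
  ∃ W : Submodule F (Fin n → F), finrank F W = m ∧ (∀ u ∈ W, ∀ v ∈ W, hermForm n F q u v = 0) ∧
    ∀ v ∈ W, M *ᵥ v ∈ W

theorem inv_smul_matrix {W : Submodule F (Fin n → F)} {M : Matrix (Fin n) (Fin n) F} (c : F)
    (h : ∀ v ∈ W, M *ᵥ v ∈ W) : ∀ v ∈ W, (c • M) *ᵥ v ∈ W := fun v hv => by
  rw [Matrix.smul_mulVec]; exact W.smul_mem c (h v hv)

theorem Nd.smul {M : Matrix (Fin n) (Fin n) F} (c : F) : Nd q m M → Nd q m (c • M) :=
  fun ⟨W, h1, h2, h3⟩ => ⟨W, h1, h2, inv_smul_matrix c h3⟩

theorem Tis.smul {M : Matrix (Fin n) (Fin n) F} (c : F) : Tis q m M → Tis q m (c • M) :=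
  fun ⟨W, h1, h2, h3⟩ => ⟨W, h1, h2, inv_smul_matrix c h3⟩

/-- The adjoint is the inverse on the unitary group. -/
theorem gu_iff {g : GL (Fin n) F} : g ∈ GU n F q ↔ adjU K.bar.toRingHom g * g = 1 :=
  mem_gu_iff K.bar.toRingHom K.bar_apply K.bar_bar g

/-! ### The summands of a sum of coordinates -/

/-- The coordinates of a sum. -/
def idx {d e : ℕ} (h : d + e = n) : Fin d ⊕ Fin e ≃ Fin n := finSumFinEquiv.trans (finCongr h)

/-- The first coordinates. -/
def emb {d e : ℕ} (h : d + e = n) : (Fin d → F) →ₗ[F] (Fin n → F) where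
  toFun v j := Sum.elim v (0 : Fin e → F) ((idx h).symm j)
  map_add' a b := by
    funext j
    rcases hj : (idx h).symm j with i | i <;> simp [hj]
  map_smul' c a := by
    funext j
    rcases hj : (idx h).symm j with i | i <;> simp [hj]

theorem emb_apply {d e : ℕ} (h : d + e = n) (v : Fin d → F) (i : Fin d ⊕ Fin e) :
    emb h v (idx h i) = Sum.elim v 0 i := by
  show Sum.elim v (0 : Fin e → F) ((idx h).symm (idx h i)) = _
  rw [Equiv.symm_apply_apply]

theorem emb_injective {d e : ℕ} (h : d + e = n) : Function.Injective (emb (F := F) h) := fun a b hab => by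
  funext i
  simpa [emb_apply] using congrFun hab (idx h (Sum.inl i))

include K in
theorem h_emb {d e : ℕ} (h : d + e = n) (u v : Fin d → F) :
    hermForm n F q (emb h u) (emb h v) = hermForm d F q u v := by
  rw [Unitary.herm_apply K, Unitary.herm_apply K, ← (idx h).sum_comp, Fintype.sum_sum_type]
  simp [emb_apply]

theorem pair_mulVec {d e : ℕ} (h : d + e = n) (A : Matrix (Fin d) (Fin d) F) (B : Matrix (Fin e) (Fin e) F)
    (v : Fin d → F) : blockPair d e h (A, B) *ᵥ emb h v = emb h (A *ᵥ v) := by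
  funext j
  obtain ⟨i, rfl⟩ := (idx h).surjective j
  rw [emb_apply]
  show (((Matrix.fromBlocks A 0 0 B).reindex (idx h) (idx h)) *ᵥ emb h v) (idx h i) = _
  rw [Matrix.reindex_apply, Matrix.submatrix_mulVec_equiv, Equiv.symm_symm]
  have e1 : (emb h v) ∘ (idx h) = Sum.elim v (0 : Fin e → F) := funext fun i => emb_apply h v i
  simp only [Function.comp_apply, Equiv.symm_apply_apply, e1, Matrix.fromBlocks_mulVec]
  rcases i with i | i
  · simp [Function.comp_def]
  · simp [Function.comp_def, show (fun _ : Fin d => (0 : F)) = 0 from rfl, show (fun _ : Fin e => (0 : F)) = 0 from rfl]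

theorem blockPair_injective {d e : ℕ} (h : d + e = n) :
    Function.Injective (blockPair (K := F) d e h) := fun a b hab => by
  have := (Matrix.reindex (idx h) (idx h)).injective (show (Matrix.reindex (idx h) (idx h)) (Matrix.fromBlocks a.1 0 0 a.2) =
    (Matrix.reindex (idx h) (idx h)) (Matrix.fromBlocks b.1 0 0 b.2) from hab)
  exact Prod.ext (congrArg Matrix.toBlocks₁₁ this) (congrArg Matrix.toBlocks₂₂ this)

/-- The sum of two invertible blocks. -/
noncomputable def pairGL {d e : ℕ} (h : d + e = n) (A : GL (Fin d) F) (B : GL (Fin e) F) : GL (Fin n) F :=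
  Units.map (blockPair (K := F) d e h) (MulEquiv.prodUnits.symm (A, B))

theorem pairGL_val {d e : ℕ} (h : d + e = n) (A : GL (Fin d) F) (B : GL (Fin e) F) :
    (pairGL h A B : Matrix (Fin n) (Fin n) F) = blockPair d e h ((A : Matrix (Fin d) (Fin d) F), (B : Matrix (Fin e) (Fin e) F)) :=
  rfl

theorem pairGL_pow {d e : ℕ} (h : d + e = n) (A : GL (Fin d) F) (B : GL (Fin e) F) (k : ℕ) :
    pairGL h A B ^ k = pairGL h (A ^ k) (B ^ k) := by
  rw [pairGL, ← map_pow, ← map_pow, Prod.pow_mk]; rfl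

include K in
theorem pairGL_mem_iff {d e : ℕ} (h : d + e = n) (A : GL (Fin d) F) (B : GL (Fin e) F) :
    pairGL h A B ∈ GU n F q ↔ A ∈ GU d F q ∧ B ∈ GU e F q := by
  rw [gu_iff K, gu_iff K, gu_iff K, Units.ext_iff, Units.ext_iff, Units.ext_iff]
  show adj K.bar.toRingHom (blockPair d e h _) * blockPair d e h _ = 1 ↔
    adj K.bar.toRingHom (A : Matrix (Fin d) (Fin d) F) * (A : Matrix (Fin d) (Fin d) F) = 1 ∧
      adj K.bar.toRingHom (B : Matrix (Fin e) (Fin e) F) * (B : Matrix (Fin e) (Fin e) F) = 1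
  rw [blockPair_adj, ← map_mul, ← map_one (blockPair (K := F) d e h), (blockPair_injective h).eq_iff]
  exact Prod.ext_iff

/-! ### Conjugation -/

theorem conj_mulVec (k x : GL (Fin n) F) (v : Fin n → F) :
    ((k * x * k⁻¹ : GL (Fin n) F) : Matrix (Fin n) (Fin n) F) *ᵥ ((k : Matrix (Fin n) (Fin n) F) *ᵥ v) =
      (k : Matrix (Fin n) (Fin n) F) *ᵥ ((x : Matrix (Fin n) (Fin n) F) *ᵥ v) := by
  rw [Matrix.mulVec_mulVec, Matrix.mulVec_mulVec, ← Units.val_mul, ← Units.val_mul, inv_mul_cancel_right]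

theorem glmap_injective (k : GL (Fin n) F) : Function.Injective (Matrix.toLin' (k : Matrix (Fin n) (Fin n) F)) :=
  UPair.lmap_injective k

theorem finrank_map_gl (k : GL (Fin n) F) (W : Submodule F (Fin n → F)) :
    finrank F ↥(W.map (Matrix.toLin' (k : Matrix (Fin n) (Fin n) F))) = finrank F W :=
  (Submodule.equivMapOfInjective _ (glmap_injective k) W).finrank_eq.symm

theorem map_inv_of {W : Submodule F (Fin n → F)} (k : GL (Fin n) F) {x : GL (Fin n) F}
    (h : ∀ v ∈ W, (x : Matrix (Fin n) (Fin n) F) *ᵥ v ∈ W) :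
    ∀ v ∈ W.map (Matrix.toLin' (k : Matrix (Fin n) (Fin n) F)),
      ((k * x * k⁻¹ : GL (Fin n) F) : Matrix (Fin n) (Fin n) F) *ᵥ v ∈ W.map (Matrix.toLin' (k : Matrix (Fin n) (Fin n) F)) := by
  rintro _ ⟨v, hv, rfl⟩
  exact ⟨_, h v hv, by rw [Matrix.toLin'_apply, Matrix.toLin'_apply, conj_mulVec]⟩

theorem Nd.conj {k : GL (Fin n) F} (hk : k ∈ GU n F q) {x : GL (Fin n) F}
    (hx : Nd q m (x : Matrix (Fin n) (Fin n) F)) : Nd q m ((k * x * k⁻¹ : GL (Fin n) F) : Matrix (Fin n) (Fin n) F) := by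
  obtain ⟨W, hWd, hW, hinv⟩ := hx
  refine ⟨_, (finrank_map_gl k W).trans hWd, ?_, map_inv_of k hinv⟩
  rintro _ ⟨u, hu, rfl⟩ h0
  obtain ⟨v, hv, hne⟩ := hW u hu fun e => h0 (by rw [e, map_zero])
  exact ⟨_, ⟨v, hv, rfl⟩, fun h => hne ((UPair.lmap_h hk u v).symm.trans h)⟩

theorem Tis.conj {k : GL (Fin n) F} (hk : k ∈ GU n F q) {x : GL (Fin n) F}
    (hx : Tis q m (x : Matrix (Fin n) (Fin n) F)) : Tis q m ((k * x * k⁻¹ : GL (Fin n) F) : Matrix (Fin n) (Fin n) F) := by
  obtain ⟨W, hWd, hW, hinv⟩ := hx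
  refine ⟨_, (finrank_map_gl k W).trans hWd, ?_, map_inv_of k hinv⟩
  rintro _ ⟨u, hu, rfl⟩ _ ⟨v, hv, rfl⟩
  exact (UPair.lmap_h hk u v).trans (hW u hu v hv)

include K in
/-- The first coordinates of a sum of unitary blocks. -/
theorem nd_pair {e : ℕ} (h : m + e = n) (A : GL (Fin m) F) (B : GL (Fin e) F) :
    Nd q m (pairGL h A B : Matrix (Fin n) (Fin n) F) := by
  refine ⟨LinearMap.range (emb h), ?_, ?_, ?_⟩
  · rw [LinearMap.finrank_range_of_inj (emb_injective h), Module.finrank_fin_fun]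
  · rintro _ ⟨u, rfl⟩ h0
    by_contra hc
    push Not at hc
    refine h0 ?_
    rw [show u = 0 from h_nondeg K fun v => (h_emb K h u v).symm.trans (hc _ ⟨v, rfl⟩), map_zero]
  · rintro _ ⟨u, rfl⟩
    exact ⟨(A : Matrix (Fin m) (Fin m) F) *ᵥ u, by rw [pairGL_val, pair_mulVec]⟩

include K in
/-- An element with an invariant non-degenerate subspace is a sum of unitary blocks. -/
theorem exists_pair_of_nd {x : GL (Fin n) F} (hx : x ∈ GU n F q) (h : Nd q m (x : Matrix (Fin n) (Fin n) F)) :
    ∃ (e : ℕ) (he : m + e = n), ∃ A ∈ GU m F q, ∃ B ∈ GU e F q, ∃ k ∈ GU n F q, x = k * pairGL he A B * k⁻¹ := by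
  classical
  obtain ⟨W, hWd, hW, hinv⟩ := h
  obtain ⟨w₁, hw₁, ho₁⟩ := UPair.exists_onb K hW
  obtain ⟨w₂, hw₂, ho₂⟩ := UPair.exists_onb K (nondeg_orth K hW)
  have hsum := finrank_orth K hW
  subst hWd
  refine ⟨finrank F (orth K W), hsum, ?_⟩
  let u : Fin (finrank F W) ⊕ Fin (finrank F (orth K W)) → (Fin n → F) := Sum.elim w₁ w₂
  have hu : ∀ a b, hermForm n F q (u a) (u b) = if a = b then 1 else 0 := by
    rintro (a | a) (b | b) <;> simp only [u, Sum.elim_inl, Sum.elim_inr, ho₁, ho₂, Sum.inl.injEq, Sum.inr.injEq,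
      reduceCtorEq, if_false]
    · exact hw₂ b _ (hw₁ a)
    · exact h_eq_zero_symm K (hw₂ a _ (hw₁ b))
  let b := Pi.basisFun F (Fin n)
  let T : End F (Fin n → F) := b.constr ℕ fun i => u ((idx hsum).symm i)
  have hT : ∀ a, T (Pi.single (idx hsum a) 1) = u a := fun a => by
    have := b.constr_basis ℕ (fun i => u ((idx hsum).symm i)) (idx hsum a)
    rwa [Pi.basisFun_apply, Equiv.symm_apply_apply] at this
  have hstd : ∀ i j : Fin n, hermForm n F q (Pi.single i 1) (Pi.single j 1) = if i = j then 1 else 0 := fun i j => by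
    rw [h_single_single K]
  have hiso := UPair.iso_of_basis K b T fun i j => by
    obtain ⟨a, rfl⟩ := (idx hsum).surjective i
    obtain ⟨c, rfl⟩ := (idx hsum).surjective j
    rw [Pi.basisFun_apply, Pi.basisFun_apply, hT, hT, hu, hstd]
    simp only [(idx hsum).injective.eq_iff]
  have hinj : Function.Injective T := (injective_iff_map_eq_zero T).2 fun v hv => h_nondeg K fun y => by
    rw [← hiso, hv, h_zero_left K]
  obtain ⟨k, hk⟩ := exists_GU T hiso hinj
  have hkv : ∀ v, (((k : GL (Fin n) F)) : Matrix (Fin n) (Fin n) F) *ᵥ v = T v := hk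
  set y : GL (Fin n) F := (k : GL (Fin n) F)⁻¹ * x * (k : GL (Fin n) F) with hy
  have hyU : y ∈ GU n F q := (GU n F q).mul_mem ((GU n F q).mul_mem ((GU n F q).inv_mem k.2) hx) k.2
  have hxy : x = (k : GL (Fin n) F) * y * (k : GL (Fin n) F)⁻¹ := by rw [hy]; group
  -- the image of a coordinate
  have hcol : ∀ c j, hermForm n F q ((x : Matrix (Fin n) (Fin n) F) *ᵥ u j) (u c) =
      (y : Matrix (Fin n) (Fin n) F) (idx hsum c) (idx hsum j) := fun c j => by
    rw [← hT j, ← hkv (Pi.single (idx hsum j) 1), hxy, conj_mulVec, hkv, ← hT c, hiso, Matrix.mulVec_single_one,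
      h_single K]
    rfl
  have hsurj : ∀ w ∈ W, ∃ w' ∈ W, (x : Matrix (Fin n) (Fin n) F) *ᵥ w' = w := fun w hw => by
    obtain ⟨⟨w', hw'⟩, e⟩ := ((Matrix.toLin' (x : Matrix (Fin n) (Fin n) F)).restrict
      (p := W) (q := W) fun v hv => by rw [Matrix.toLin'_apply]; exact hinv v hv).surjective_of_injective
      (fun a c e => Subtype.ext (glmap_injective x (congrArg Subtype.val e))) ⟨w, hw⟩
    exact ⟨w', hw', congrArg Subtype.val e⟩
  have h21 : ∀ a c, (y : Matrix (Fin n) (Fin n) F) (idx hsum (Sum.inr c)) (idx hsum (Sum.inl a)) = 0 := fun a c => by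
    rw [← hcol]
    exact hw₂ c _ (hinv _ (hw₁ a))
  have h12 : ∀ a c, (y : Matrix (Fin n) (Fin n) F) (idx hsum (Sum.inl a)) (idx hsum (Sum.inr c)) = 0 := fun a c => by
    rw [← hcol]
    obtain ⟨w', hw', e⟩ := hsurj _ (hw₁ a)
    show hermForm n F q (_ *ᵥ w₂ c) (w₁ a) = 0
    rw [← e]
    exact (hx _ _).trans (h_eq_zero_symm K (hw₂ c _ hw'))
  set M := (Matrix.reindex (idx hsum) (idx hsum)).symm (y : Matrix (Fin n) (Fin n) F) with hM
  have hblk : (y : Matrix (Fin n) (Fin n) F) = blockPair _ _ hsum (M.toBlocks₁₁, M.toBlocks₂₂) := by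
    refine ((Matrix.reindex (idx hsum) (idx hsum)).apply_symm_apply _).symm.trans ?_
    show Matrix.reindex (idx hsum) (idx hsum) M = Matrix.reindex (idx hsum) (idx hsum) (Matrix.fromBlocks _ 0 0 _)
    congr 1
    conv_lhs => rw [← Matrix.fromBlocks_toBlocks M]
    congr 1
    · ext a c; exact h12 a c
    · ext a c; exact h21 c a
  have hdet : M.toBlocks₁₁.det * M.toBlocks₂₂.det ≠ 0 := by
    rw [← blockPair_det _ _ hsum, ← hblk]; exact y.det_ne_zero
  let A := Matrix.GeneralLinearGroup.mkOfDetNeZero M.toBlocks₁₁ (left_ne_zero_of_mul hdet)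
  let B := Matrix.GeneralLinearGroup.mkOfDetNeZero M.toBlocks₂₂ (right_ne_zero_of_mul hdet)
  have hyAB : y = pairGL hsum A B := Units.ext hblk
  obtain ⟨hA, hB⟩ := (pairGL_mem_iff K hsum A B).1 (hyAB ▸ hyU)
  exact ⟨A, hA, B, hB, (k : GL (Fin n) F), k.2, hyAB ▸ hxy⟩

/-! ### Totally isotropic subspaces -/

section std

variable (θ : F) (hθ : θ * K.bar θ = -1) (k j : ℕ)

/-- Coordinates of a vector in the three summands. -/
def co (v : Fin (k + k + j) → F) : Fin k ⊕ (Fin j ⊕ Fin k) → F :=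
  Sum.elim (fun i => v (Fin.castAdd j (Fin.castAdd k i)))
    (Sum.elim (fun i => v (Fin.natAdd (k + k) i))
      fun i => v (Fin.castAdd j (Fin.natAdd k i)) - θ * v (Fin.castAdd j (Fin.castAdd k i)))

/-- Coordinates adapted to the standard isotropic subspace. -/
def coEquiv : (Fin (k + k + j) → F) ≃ₗ[F] (Fin k ⊕ (Fin j ⊕ Fin k) → F) where
  toFun := co θ k j
  map_add' a b := by
    funext i
    rcases i with i | i | i <;> simp [co] <;> ring
  map_smul' c a := by
    funext i
    rcases i with i | i | i <;> simp [co] <;> ring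
  invFun w := Fin.append (Fin.append (fun i => w (Sum.inl i)) (fun i => θ * w (Sum.inl i) + w (Sum.inr (Sum.inr i))))
    fun i => w (Sum.inr (Sum.inl i))
  left_inv v := by
    funext i
    induction i using Fin.addCases with
    | left i => induction i using Fin.addCases <;> simp [co, -Fin.natAdd_eq_addNat]
    | right i => simp [co]
  right_inv w := by
    funext i
    rcases i with i | i | i <;> simp [co, -Fin.natAdd_eq_addNat]

include K hθ in
/-- A matrix fixing the standard isotropic subspace. -/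
theorem charpoly_of_fix_std {y : GL (Fin (k + k + j)) F} (hy : y ∈ GU (k + k + j) F q)
    (hinv : ∀ i, (y : Matrix (Fin (k + k + j)) (Fin (k + k + j)) F) *ᵥ stdVec θ k j i ∈
      Submodule.span F (Set.range (stdVec θ k j))) :
    ∃ h g : F[X], h.Monic ∧ h.natDegree = k ∧
      (y : Matrix (Fin (k + k + j)) (Fin (k + k + j)) F).charpoly = h * tw K.bar.toRingHom h * g := by
  classical
  set Y := (y : Matrix (Fin (k + k + j)) (Fin (k + k + j)) F)
  let b : Basis (Fin k ⊕ (Fin j ⊕ Fin k)) F (Fin (k + k + j) → F) := Basis.ofEquivFun (coEquiv θ k j)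
  have hb : ∀ c, b c = (coEquiv θ k j).symm (Pi.single c 1) := fun c => congrFun (Basis.coe_ofEquivFun _) c
  set N := LinearMap.toMatrix b b (Matrix.toLin' Y) with hN
  have hNe : ∀ a c, N a c = co θ k j (Y *ᵥ b c) a := fun a c => by
    rw [hN, LinearMap.toMatrix_apply, Matrix.toLin'_apply]; rfl
  have he : ∀ i, b (Sum.inl i) = stdVec θ k j i := fun i => by
    rw [hb]
    refine (coEquiv θ k j).injective ?_
    rw [LinearEquiv.apply_symm_apply]
    funext a
    show _ = co θ k j (stdVec θ k j i) a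
    rcases a with a | a | a <;> simp [co, stdVec, Pi.single_apply, -Fin.natAdd_eq_addNat]
  have hspan : ∀ v ∈ Submodule.span F (Set.range (stdVec θ k j)), ∀ l,
      co θ k j v (Sum.inr l) = 0 := by
    intro v hv l
    obtain ⟨c, rfl⟩ := (Submodule.mem_span_range_iff_exists_fun F).1 hv
    rw [std_combo]
    rcases l with l | l <;> simp [co, -Fin.natAdd_eq_addNat]
    ring
  have hHe : ∀ v i, co θ k j v (Sum.inr (Sum.inr i)) = -θ * (hermForm (k + k + j) F q) v (stdVec θ k j i) := fun v i => by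
    conv_rhs => rw [← Fin.append_castAdd_natAdd (f := v), ← Fin.append_castAdd_natAdd
      (f := fun l : Fin (k + k) => v (Fin.castAdd j l))]
    rw [show stdVec θ k j i = Fin.append (Fin.append (Pi.single i 1) (Pi.single i θ)) 0 from rfl,
      herm_append K]
    simp [co, Pi.single_apply, apply_ite K.bar, -Fin.natAdd_eq_addNat]
    linear_combination (v (Fin.castAdd j (Fin.natAdd k i))) * hθ
  -- the image of a vector orthogonal to the subspace
  have hperp : ∀ v, (∀ i, (hermForm (k + k + j) F q) v (stdVec θ k j i) = 0) → ∀ i, (hermForm (k + k + j) F q) (Y *ᵥ v) (stdVec θ k j i) = 0 := fun v hv i => by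
    let S : Submodule F (Fin (k + k + j) → F) := Submodule.span F (Set.range (stdVec θ k j))
    obtain ⟨⟨w, hw⟩, e⟩ := ((Matrix.toLin' Y).restrict (p := S) (q := S) fun v hv => by
        rw [Matrix.toLin'_apply]
        induction hv using Submodule.span_induction with
        | mem a ha => obtain ⟨l, rfl⟩ := ha; exact hinv l
        | zero => rw [Matrix.mulVec_zero]; exact S.zero_mem
        | add a c _ _ ha hc => rw [Matrix.mulVec_add]; exact S.add_mem ha hc
        | smul c a _ ha => rw [Matrix.mulVec_smul]; exact S.smul_mem _ ha).surjective_of_injective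
      (fun a c e => Subtype.ext (glmap_injective y (congrArg Subtype.val e)))
      ⟨stdVec θ k j i, Submodule.subset_span ⟨i, rfl⟩⟩
    have e' : Y *ᵥ w = stdVec θ k j i := congrArg Subtype.val e
    rw [← e']
    refine (hy v w).trans ?_
    obtain ⟨c, rfl⟩ := (Submodule.mem_span_range_iff_exists_fun F).1 hw
    refine (map_sum (AddMonoidHom.mk' (fun u => (hermForm (k + k + j) F q) v u) (h_add_right K v)) (fun l => c l • stdVec θ k j l) Finset.univ).trans ?_
    exact Finset.sum_eq_zero fun l _ => by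
      show (hermForm (k + k + j) F q) v (c l • stdVec θ k j l) = 0
      rw [h_smul_right K, hv, mul_zero]
  have hgg : ∀ (i : Fin k) (v : Fin (k + k + j) → F), co θ k j v (Sum.inr (Sum.inr i)) = 0 → (hermForm (k + k + j) F q) v (stdVec θ k j i) = 0 :=
    fun i v h => by
      rw [hHe, mul_eq_zero, neg_eq_zero] at h
      exact h.resolve_left fun h0 => by simp [h0] at hθ
  -- the shape of the matrix
  have hblk : N = Matrix.fromBlocks N.toBlocks₁₁ N.toBlocks₁₂ 0
      (Matrix.fromBlocks N.toBlocks₂₂.toBlocks₁₁ N.toBlocks₂₂.toBlocks₁₂ 0 N.toBlocks₂₂.toBlocks₂₂) := by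
    conv_lhs => rw [← Matrix.fromBlocks_toBlocks N]
    congr 1
    · ext l i
      show N (Sum.inr l) (Sum.inl i) = 0
      rw [hNe, he]
      exact hspan _ (hinv i) l
    · conv_lhs => rw [← Matrix.fromBlocks_toBlocks N.toBlocks₂₂]
      congr 1
      ext l i
      show N (Sum.inr (Sum.inr l)) (Sum.inr (Sum.inl i)) = 0
      rw [hNe, hHe, hperp _ (fun r => hgg r _ ?_), mul_zero]
      have := congrFun ((coEquiv θ k j).apply_symm_apply (Pi.single (Sum.inr (Sum.inl i)) 1)) (Sum.inr (Sum.inr r))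
      rw [← hb] at this
      exact this.trans (by simp)
  set A := N.toBlocks₁₁ with hA
  set C := N.toBlocks₂₂.toBlocks₂₂ with hC
  have hAC : adj K.bar.toRingHom A * C = 1 := by
    ext i l
    have h0 : (hermForm (k + k + j) F q) (b (Sum.inr (Sum.inr l))) (stdVec θ k j i) = if i = l then K.bar θ else 0 := by
      have h1 := hHe (b (Sum.inr (Sum.inr l))) i
      rw [show co θ k j (b (Sum.inr (Sum.inr l))) = Pi.single (Sum.inr (Sum.inr l)) 1 from by
        rw [hb]; exact (coEquiv θ k j).apply_symm_apply _] at h1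
      have h2 : (hermForm (k + k + j) F q) (b (Sum.inr (Sum.inr l))) (stdVec θ k j i) =
          K.bar θ * (if i = l then 1 else 0) := by
        rw [show (if i = l then (1 : F) else 0) =
          (Pi.single (Sum.inr (Sum.inr l)) 1 : Fin k ⊕ (Fin j ⊕ Fin k) → F) (Sum.inr (Sum.inr i)) by
            simp [Pi.single_apply], h1]
        linear_combination (hermForm (k + k + j) F q) (b (Sum.inr (Sum.inr l))) (stdVec θ k j i) * hθ
      rw [h2]; split <;> simp
    have hcol : Y *ᵥ stdVec θ k j i = ∑ r, N (Sum.inl r) (Sum.inl i) • stdVec θ k j r := by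
      conv_lhs => rw [← b.sum_repr (Y *ᵥ stdVec θ k j i)]
      rw [Fintype.sum_sum_type, ← add_zero (∑ r, N (Sum.inl r) (Sum.inl i) • stdVec θ k j r)]
      refine congrArg₂ (· + ·) (Finset.sum_congr rfl fun r _ => ?_) (Finset.sum_eq_zero fun r _ => ?_)
      · rw [hNe, he, he]; rfl
      · have := hspan _ (hinv i) r
        rw [show (b.repr (Y *ᵥ stdVec θ k j i)) (Sum.inr r) = 0 from this, zero_smul]
    have h3 : (hermForm (k + k + j) F q) (Y *ᵥ b (Sum.inr (Sum.inr l))) (Y *ᵥ stdVec θ k j i) = if i = l then K.bar θ else 0 :=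
      (hy _ _).trans h0
    rw [hcol] at h3
    replace h3 := (map_sum (AddMonoidHom.mk' (fun u => (hermForm (k + k + j) F q) (Y *ᵥ b (Sum.inr (Sum.inr l))) u) (h_add_right K _))
      (fun r => N (Sum.inl r) (Sum.inl i) • stdVec θ k j r) Finset.univ).symm.trans h3
    have hθ0 : K.bar θ ≠ 0 := fun h => by simp [h] at hθ
    rw [Matrix.mul_apply, Matrix.one_apply]
    refine mul_left_cancel₀ hθ0 ?_
    rw [mul_ite, mul_one, mul_zero, ← h3, Finset.mul_sum]
    refine Finset.sum_congr rfl fun r _ => ?_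
    show K.bar θ * (K.bar (A r i) * C r l) = (hermForm (k + k + j) F q) (Y *ᵥ b (Sum.inr (Sum.inr l))) (N (Sum.inl r) (Sum.inl i) • stdVec θ k j r)
    rw [h_smul_right K, show C r l = N (Sum.inr (Sum.inr r)) (Sum.inr (Sum.inr l)) from rfl, hNe, hHe]
    show K.bar θ * (K.bar (N (Sum.inl r) (Sum.inl i)) * _) = _
    linear_combination (-(K.bar (N (Sum.inl r) (Sum.inl i)) * (hermForm (k + k + j) F q) (Y *ᵥ b (Sum.inr (Sum.inr l))) (stdVec θ k j r))) * hθ
  have hdA : A.det ≠ 0 := fun h => by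
    have := congrArg Matrix.det hAC
    rw [Matrix.det_mul, Matrix.det_one, adj, Matrix.det_transpose,
      show (A.map K.bar.toRingHom).det = K.bar.toRingHom A.det from (RingHom.map_det K.bar.toRingHom A).symm,
      h, map_zero, zero_mul] at this
    exact zero_ne_one this
  let A' := Matrix.GeneralLinearGroup.mkOfDetNeZero A hdA
  have hC' : C = (((adjU K.bar.toRingHom A')⁻¹ : GL (Fin k) F) : Matrix (Fin k) (Fin k) F) :=
    (Units.inv_eq_of_mul_eq_one_right hAC).symm
  refine ⟨A.charpoly, N.toBlocks₂₂.toBlocks₁₁.charpoly, Matrix.charpoly_monic _, ?_, ?_⟩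
  · rw [Matrix.charpoly_natDegree_eq_dim, Fintype.card_fin]
  · have h1 : Y.charpoly = N.charpoly := by rw [hN, LinearMap.charpoly_toMatrix, Matrix.charpoly_toLin']
    rw [h1]
    conv_lhs => rw [hblk, Matrix.charpoly_fromBlocks_zero₂₁, Matrix.charpoly_fromBlocks_zero₂₁]
    show A.charpoly * (_ * C.charpoly) = _
    rw [hC', charpoly_twist]
    show A.charpoly * (_ * tw K.bar.toRingHom A.charpoly) = _
    ring

end std

include K in
/-- An invariant totally isotropic subspace shows in the characteristic polynomial. -/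
theorem charpoly_of_tis (hmn : 2 * m ≤ n) {x : GL (Fin n) F} (hx : x ∈ GU n F q)
    (h : Tis q m (x : Matrix (Fin n) (Fin n) F)) :
    ∃ h g : F[X], h.Monic ∧ h.natDegree = m ∧
      (x : Matrix (Fin n) (Fin n) F).charpoly = h * tw K.bar.toRingHom h * g := by
  classical
  obtain ⟨θ, hθ⟩ := exists_norm_neg_one K
  obtain ⟨j, rfl⟩ : ∃ j, n = m + m + j := ⟨n - 2 * m, by omega⟩
  obtain ⟨W, hWd, hW, hinv⟩ := h
  let bW := Module.finBasisOfFinrankEq F W hWd
  let f : Frame (m + m + j) F q m := ⟨fun i => (bW i : Fin (m + m + j) → F),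
    bW.linearIndependent.map' W.subtype W.ker_subtype, fun i l => hW _ (bW i).2 _ (bW l).2⟩
  obtain ⟨g, hg⟩ := exists_move_frame K (stdFrame K θ hθ m j) f
  have hspanW : Submodule.span F (Set.range f.1) = W :=
    Submodule.eq_of_le_of_finrank_eq (Submodule.span_le.2 (by rintro _ ⟨i, rfl⟩; exact (bW i).2))
      (by rw [finrank_span_eq_card f.2.1, Fintype.card_fin, hWd])
  set y : GL (Fin (m + m + j)) F := (g : GL (Fin (m + m + j)) F)⁻¹ * x * (g : GL (Fin (m + m + j)) F) with hy
  have hyU : y ∈ GU (m + m + j) F q := (GU _ F q).mul_mem ((GU _ F q).mul_mem ((GU _ F q).inv_mem g.2) hx) g.2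
  obtain ⟨h', g', h1, h2, h3⟩ := charpoly_of_fix_std K θ hθ m j hyU fun i => by
    have h1 : (x : Matrix _ _ F) *ᵥ f.1 i ∈ W := hinv _ (bW i).2
    rw [← hspanW] at h1
    obtain ⟨c, hc⟩ := (Submodule.mem_span_range_iff_exists_fun F).1 h1
    refine (Submodule.mem_span_range_iff_exists_fun F).2 ⟨c, gap_injective g ?_⟩
    rw [← gapL_apply, map_sum]
    simp only [map_smul, gapL_apply]
    refine (Finset.sum_congr rfl fun l _ => congrArg (c l • ·) (hg l)).trans (hc.trans ?_)
    rw [← hg i, show x = (g : GL (Fin (m + m + j)) F) * y * (g : GL (Fin (m + m + j)) F)⁻¹ by rw [hy]; group]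
    exact conj_mulVec _ y _
  refine ⟨h', g', h1, h2, ?_⟩
  rw [← h3]
  refine charpoly_conj_eq (isConj_iff.2 ⟨(g : GL (Fin (m + m + j)) F)⁻¹, ?_⟩)
  rw [inv_inv]

include K in
/-- A dual system in twice the dimension. -/
theorem exists_dual_std (m : ℕ) : ∃ e f : Fin m → (Fin (m + m) → F), UPair.Dual q e f := by
  classical
  obtain ⟨θ, hθ⟩ := exists_norm_neg_one K
  obtain ⟨y, hy⟩ := K.exists_trace
  set t := y + K.bar y with ht
  set c := y / t with hc
  have htr : c + K.bar c = 1 := by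
    rw [hc, map_div₀, show K.bar t = t by rw [ht, map_add, K.bar_bar, add_comm], ← add_div]
    exact div_self hy
  let vec : F → F → Fin m → (Fin (m + m) → F) := fun a b i => Fin.append (Pi.single i a) (Pi.single i b)
  have hH : ∀ a b a' b' i l, hermForm (m + m) F q (vec a b i) (vec a' b' l) =
      if i = l then a * K.bar a' + b * K.bar b' else 0 := by
    intro a b a' b' i l
    rw [Unitary.herm_apply K, Fin.sum_univ_add]
    simp only [vec, Fin.append_left, Fin.append_right, Pi.single_apply, apply_ite K.bar, map_zero, ite_mul, zero_mul,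
      Finset.sum_ite_eq', Finset.mem_univ, if_true]
    split <;> simp
  refine ⟨vec 1 θ, vec c (θ * c - θ), ⟨fun i l => ?_, fun i l => ?_, fun i l => ?_⟩⟩ <;> rw [hH]
  · simp [hθ]
  · rw [map_sub, map_mul]
    split
    · linear_combination (c * K.bar c - c - K.bar c + 1) * hθ + htr
    · rfl
  · rw [map_sub, map_mul]
    split
    · linear_combination (K.bar c - 1) * hθ
    · rfl

include K in
/-- A pair of dual blocks. -/
theorem exists_dual_block (hm : 0 < m) (A : GL (Fin m) F) :
    ∃ Y : GL (Fin (m + m)) F, Y ∈ GU (m + m) F q ∧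
      (∀ k, A ^ k = 1 → Y ^ k = 1) ∧ Tis q m (Y : Matrix (Fin (m + m)) (Fin (m + m)) F) ∧
      (Y : Matrix (Fin (m + m)) (Fin (m + m)) F).charpoly =
        (A : Matrix (Fin m) (Fin m) F).charpoly * tw K.bar.toRingHom (A : Matrix (Fin m) (Fin m) F).charpoly := by
  classical
  obtain ⟨e, f, E⟩ := exists_dual_std K m
  let b := E.basis K hm rfl
  let T : GL (Fin m) F →* End F (Fin (m + m) → F) :=
    ((Matrix.toLinAlgEquiv b).toAlgHom.toRingHom.toMonoidHom).comp (UPair.blocks K)
  have hT : ∀ A i, T A (b i) = ∑ j, UPair.blocks K A j i • b j := fun A i => Matrix.toLinAlgEquiv_self b _ i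
  let ψ₀ : GL (Fin m) F →* GL (Fin (m + m)) F :=
    ((LinearMap.toMatrixAlgEquiv' (R := F) (n := Fin (m + m))).toAlgHom.toRingHom.toMonoidHom.comp T).toHomUnits
  have hψ : ∀ v, (ψ₀ A : Matrix (Fin (m + m)) (Fin (m + m)) F) *ᵥ v = T A v := fun v => by
    show LinearMap.toMatrix' (T A) *ᵥ v = T A v
    rw [LinearMap.toMatrix'_mulVec]
  have hTe : ∀ j, T A (e j) = ∑ i, (A : Matrix (Fin m) (Fin m) F) i j • e i := fun j => by
    have := hT A (Sum.inl j)
    simpa [b, E.basis_apply, UPair.blocks, Fintype.sum_sum_type] using this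
  have hTf : ∀ j, T A (f j) = ∑ i, K.bar (((A⁻¹ : GL (Fin m) F) : Matrix (Fin m) (Fin m) F) j i) • f i := fun j => by
    have := hT A (Sum.inr j)
    simpa [b, E.basis_apply, UPair.blocks, Fintype.sum_sum_type] using this
  have hiso := UPair.iso_of_basis K b (T A) fun i j => by
    have h_sum_right : ∀ (u : Fin (m + m) → F) (g : Fin m → (Fin (m + m) → F)),
        hermForm (m + m) F q u (∑ l, g l) = ∑ l, hermForm (m + m) F q u (g l) := fun u g =>
      map_sum (AddMonoidHom.mk' (fun v => hermForm (m + m) F q u v) (h_add_right K u)) g Finset.univ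
    rcases i with i | i <;> rcases j with j | j <;>
      simp only [b, E.basis_apply, Sum.elim_inl, Sum.elim_inr, hTe, hTf, UPair.h_sum_left K, h_sum_right,
        h_smul_left K, h_smul_right K, E.ee, E.ff, E.ef, E.fe K, mul_zero, Finset.sum_const_zero, mul_ite, mul_one,
        Finset.sum_ite_eq, Finset.mem_univ, if_true, K.bar_bar]
    · have := congrFun (congrFun (A.inv_mul) j) i
      rw [Matrix.mul_apply, Matrix.one_apply] at this
      refine Eq.trans (Finset.sum_congr rfl fun k _ => mul_comm _ _) (this.trans ?_)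
      exact if_congr eq_comm rfl rfl
    · have := congrArg K.bar (congrFun (congrFun (A.inv_mul) i) j)
      rw [Matrix.mul_apply, Matrix.one_apply, map_sum] at this
      simp only [map_mul] at this
      refine this.trans ?_
      split <;> simp
  refine ⟨ψ₀ A, fun u v => ?_, fun k hk => by rw [← map_pow, hk, map_one], ?_, ?_⟩
  · show hermForm (m + m) F q ((ψ₀ A : Matrix (Fin (m + m)) (Fin (m + m)) F) *ᵥ u) ((ψ₀ A : Matrix (Fin (m + m)) (Fin (m + m)) F) *ᵥ v) = _
    rw [hψ, hψ, hiso]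
  · have hli : LinearIndependent F e := by
      simpa using (E.linearIndependent K).comp _ Sum.inl_injective
    refine ⟨Submodule.span F (Set.range e), ?_, fun u hu v hv => h_span_zero K ⟨e, hli, E.ee⟩ hu hv, fun v hv => ?_⟩
    · rw [finrank_span_eq_card hli, Fintype.card_fin]
    · obtain ⟨c, rfl⟩ := (Submodule.mem_span_range_iff_exists_fun F).1 hv
      rw [hψ, map_sum]
      refine Submodule.sum_mem _ fun i _ => ?_
      rw [map_smul, hTe]
      exact Submodule.smul_mem _ _ (Submodule.sum_mem _ fun l _ => Submodule.smul_mem _ _ (Submodule.subset_span ⟨l, rfl⟩))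
  · show (LinearMap.toMatrix' (T A)).charpoly = _
    rw [← Matrix.charpoly_toLin', Matrix.toLin'_toMatrix', ← LinearMap.charpoly_toMatrix (T A) b,
      show LinearMap.toMatrix b b (T A) = UPair.blocks K A from LinearMap.toMatrix_toLin b b _]
    show (Matrix.fromBlocks _ 0 0 _).charpoly = _
    rw [Matrix.charpoly_fromBlocks_zero₂₁, ← charpoly_twist, ← adjU_inv]
    rfl

end CfsgLib.Derange.UEl
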