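import Cfsg.Agent.Lib.Derange.UnitBlocks

/-!
Prime divisors of the numbers of totally isotropic and of non-degenerate subspaces of a Hermitian space.
-/

set_option autoImplicit false
set_option linter.unusedSectionVars false
set_option linter.style.haveILetI false
set_option maxHeartbeats 1000000

namespace CfsgLib.Derange.UEl

open Matrix Module Cfsg Finset
open CfsgLib.Classical.Herm CfsgLib.SUParabolic
open CfsgLib.ClassicalAut (Unitary.Conj)

variable {F : Type*} [Field F] [Fintype F] {q : ℕ} (K : Unitary.Conj F q) {n m : ℕ}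

/-- The factors of the order of the unitary group. -/
def ufac (q i : ℕ) : ℕ := if Even i then q ^ (i + 1) + 1 else q ^ (i + 1) - 1

/-- The part of the order of the unitary group prime to `q`. -/
def uprod (q n : ℕ) : ℕ := ∏ i ∈ range n, ufac q i

theorem guOrder_eq (q n : ℕ) : guOrder q n = q ^ (n.choose 2) * uprod q n := by
  rw [guOrder, Nat.choose_two_right]; rfl

theorem ufac_pos {q : ℕ} (hq : 2 ≤ q) (i : ℕ) : 0 < ufac q i := by
  unfold ufac
  split
  · omega
  · exact Nat.sub_pos_of_lt (Nat.one_lt_pow (by omega) hq)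

theorem gl_prod_choose (Q : ℕ) : ∀ m : ℕ, ∏ i : Fin m, (Q ^ m - Q ^ (i : ℕ)) =
    Q ^ (m.choose 2) * ∏ k ∈ range m, (Q ^ (k + 1) - 1) := by
  intro m
  induction m with
  | zero => simp
  | succ m ih =>
    have e : ∀ i : Fin m, Q ^ (m + 1) - Q ^ ((i.succ : Fin (m + 1)) : ℕ) = Q * (Q ^ m - Q ^ (i : ℕ)) := fun i => by
      rw [Fin.val_succ, pow_succ', pow_succ', Nat.mul_sub]
    rw [Fin.prod_univ_succ, Finset.prod_congr rfl fun i _ => e i, Finset.prod_mul_distrib, ih,
      Finset.prod_const, Finset.card_univ, Fintype.card_fin, Finset.prod_range_succ, Fin.val_zero, pow_zero,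
      Nat.choose_succ_succ, Nat.choose_one_right, pow_add]
    ring

/-- The action on subspaces. -/
noncomputable abbrev subspaceAct (n : ℕ) : MulAction (GU n F q) (Submodule F (Fin n → F)) where
  smul g W := W.map (gapL g)
  one_smul W := by
    show W.map (gapL (1 : GU n F q)) = W
    rw [show gapL (1 : GU n F q) = LinearMap.id from LinearMap.ext fun v => gap_one v, Submodule.map_id]
  mul_smul g h W := by
    show W.map (gapL (g * h)) = (W.map (gapL h)).map (gapL g)
    rw [← Submodule.map_comp]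
    exact congrArg W.map (LinearMap.ext fun v => gap_mul g h v)

/-- Orbit times stabiliser. -/
theorem card_mul_stab {P : Submodule F (Fin n → F) → Prop} {W₀ : Submodule F (Fin n → F)} (h₀ : P W₀)
    (hP : ∀ (g : GU n F q) W, P W → P (W.map (gapL g)))
    (htr : ∀ W, P W → ∃ g : GU n F q, W₀.map (gapL g) = W) :
    Nat.card {W // P W} * Nat.card (stabGU (q := q) W₀) = Nat.card (GU n F q) := by
  letI := subspaceAct (F := F) (q := q) n
  have h1 : MulAction.orbit (GU n F q) W₀ = {W | P W} := Set.ext fun W =>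
    ⟨fun ⟨g, hg⟩ => hg ▸ hP g W₀ h₀, fun hW => htr W hW⟩
  have h2 : MulAction.stabilizer (GU n F q) W₀ = stabGU W₀ := by
    ext g
    rw [MulAction.mem_stabilizer_iff, mem_stabGU]
    show W₀.map (gapL g) = W₀ ↔ _
    constructor
    · intro h v
      constructor
      · intro hv; rw [← h]; exact ⟨v, hv, rfl⟩
      · intro hv
        rw [← h] at hv
        obtain ⟨w, hw, e⟩ := hv
        exact gap_injective g e ▸ hw
    · intro h
      refine Submodule.eq_of_le_of_finrank_eq ?_
        ((Submodule.equivMapOfInjective (gapL g) (gap_injective g) W₀).finrank_eq.symm)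
      rintro _ ⟨v, hv, rfl⟩
      exact (h v).1 hv
  have h3 : Nat.card {W // P W} = (MulAction.stabilizer (GU n F q) W₀).index := by
    rw [MulAction.index_stabilizer, h1]; exact Nat.card_coe_set_eq _
  rw [h3, h2, Subgroup.index_mul_card]

theorem finrank_gap (g : GU n F q) (W : Submodule F (Fin n → F)) :
    finrank F (W.map (gapL g)) = finrank F W :=
  (Submodule.equivMapOfInjective (gapL g) (gap_injective g) W).finrank_eq.symm

include K in
/-- The number of totally isotropic subspaces. -/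
theorem card_tis (hmn : 2 * m ≤ n) :
    Nat.card {W : Submodule F (Fin n → F) // finrank F ↥W = m ∧ ∀ u ∈ W, ∀ v ∈ W, hermForm n F q u v = 0} *
      (q ^ (m * (2 * n - 3 * m) + 2 * m.choose 2 + (n - 2 * m).choose 2) *
        ((∏ k ∈ range m, ((q ^ 2) ^ (k + 1) - 1)) * uprod q (n - 2 * m))) =
      q ^ (n.choose 2) * uprod q n := by
  classical
  obtain ⟨f, -⟩ := exists_frame K (n := n) hmn
  set W₀ := Submodule.span F (Set.range f.1)
  have hd : finrank F W₀ = m := by rw [finrank_span_eq_card f.2.1, Fintype.card_fin]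
  have h0 : ∀ u ∈ W₀, ∀ v ∈ W₀, hermForm n F q u v = 0 := fun u hu v hv => h_span_zero K f hu hv
  have h := card_mul_stab (q := q) (P := fun W : Submodule F (Fin n → F) =>
      finrank F W = m ∧ ∀ u ∈ W, ∀ v ∈ W, hermForm n F q u v = 0) (W₀ := W₀) ⟨hd, h0⟩
    (fun g W hW => ⟨(finrank_gap g W).trans hW.1, by
      rintro _ ⟨u, hu, rfl⟩ _ ⟨v, hv, rfl⟩
      exact (gap_h g u v).trans (hW.2 u hu v hv)⟩)
    (fun W hW => by
      let bW := Module.finBasisOfFinrankEq F W hW.1
      let f' : Frame n F q m := ⟨fun i => (bW i : Fin n → F),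
        bW.linearIndependent.map' W.subtype W.ker_subtype, fun i l => hW.2 _ (bW i).2 _ (bW l).2⟩
      obtain ⟨g, hg⟩ := exists_move_frame K f f'
      refine ⟨g, Submodule.eq_of_le_of_finrank_eq ?_ (by rw [finrank_gap, hd, hW.1])⟩
      rw [Submodule.map_span, Submodule.span_le]
      rintro _ ⟨_, ⟨i, rfl⟩, rfl⟩
      show gap g (f.1 i) ∈ W
      rw [hg i]
      exact (bW i).2)
  rw [card_stabGU K hmn W₀ hd h0, show Nat.card (GU n F q) = guOrder q n from card_GU K, gl_prod_choose,
    guOrder_eq, guOrder_eq] at h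
  rw [← h, pow_add, pow_add, pow_mul q 2]
  ring

include K in
/-- The number of non-degenerate subspaces. -/
theorem card_nd (hmn : m ≤ n) :
    Nat.card {W : Submodule F (Fin n → F) // finrank F ↥W = m ∧ Nondeg (q := q) W} *
      (q ^ (m.choose 2 + (n - m).choose 2) * (uprod q m * uprod q (n - m))) = q ^ (n.choose 2) * uprod q n := by
  classical
  have he : m + (n - m) = n := by omega
  set W₀ := LinearMap.range (emb (F := F) he) with hW₀
  have hd : finrank F W₀ = m := by rw [hW₀, LinearMap.finrank_range_of_inj (emb_injective he), Module.finrank_fin_fun]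
  have h0 : Nondeg (q := q) W₀ := by
    rintro _ ⟨u, rfl⟩ hne
    by_contra hc
    push Not at hc
    refine hne ?_
    rw [show u = 0 from h_nondeg K fun v => (h_emb K he u v).symm.trans (hc _ ⟨v, rfl⟩), map_zero]
  have h := card_mul_stab (q := q) (P := fun W : Submodule F (Fin n → F) => finrank F W = m ∧ Nondeg (q := q) W)
    (W₀ := W₀) ⟨hd, h0⟩
    (fun g W hW => ⟨(finrank_gap g W).trans hW.1, by
      rintro _ ⟨u, hu, rfl⟩ hne
      obtain ⟨v, hv, hv'⟩ := hW.2 u hu fun e => hne (by rw [e, map_zero])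
      exact ⟨_, ⟨v, hv, rfl⟩, fun h => hv' ((gap_h g u v).symm.trans h)⟩⟩)
    (fun W hW => by
      obtain ⟨w₁, hw₁, ho₁⟩ := UPair.exists_onb K hW.2
      obtain ⟨w₂, hw₂, ho₂⟩ := UPair.exists_onb K (nondeg_orth K hW.2)
      have hsum := finrank_orth K hW.2
      obtain ⟨hd', hWn⟩ := hW
      subst hd'
      let u : Fin (finrank F W) ⊕ Fin (n - finrank F W) → (Fin n → F) :=
        Sum.elim w₁ fun i => w₂ (Fin.cast (by omega) i)
      have hu : ∀ a b, hermForm n F q (u a) (u b) = if a = b then 1 else 0 := by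
        rintro (a | a) (b | b) <;> simp only [u, Sum.elim_inl, Sum.elim_inr, ho₁, ho₂, Sum.inl.injEq, Sum.inr.injEq,
          reduceCtorEq, if_false, Fin.cast_inj]
        · exact hw₂ _ _ (hw₁ a)
        · exact h_eq_zero_symm K (hw₂ _ _ (hw₁ b))
      let b := Pi.basisFun F (Fin n)
      let T : End F (Fin n → F) := b.constr ℕ fun i => u ((idx he).symm i)
      have hT : ∀ a, T (Pi.single (idx he a) 1) = u a := fun a => by
        have := b.constr_basis ℕ (fun i => u ((idx he).symm i)) (idx he a)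
        rwa [Pi.basisFun_apply, Equiv.symm_apply_apply] at this
      have hiso := UPair.iso_of_basis K b T fun i j => by
        obtain ⟨a, rfl⟩ := (idx he).surjective i
        obtain ⟨c, rfl⟩ := (idx he).surjective j
        rw [Pi.basisFun_apply, Pi.basisFun_apply, hT, hT, hu, h_single_single K]
        simp only [(idx he).injective.eq_iff]
      have hinj : Function.Injective T := (injective_iff_map_eq_zero T).2 fun v hv => h_nondeg K fun y => by
        rw [← hiso, hv, h_zero_left K]
      obtain ⟨k, hk⟩ := exists_GU T hiso hinj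
      refine ⟨k, (Submodule.eq_of_le_of_finrank_eq ?_ (by rw [finrank_gap, hd])).symm⟩
      have hli : LinearIndependent F w₁ := by
        rw [Fintype.linearIndependent_iff]
        intro c hc i
        have h1 := congrArg (fun z => hermForm n F q z (w₁ i)) hc
        simpa [UPair.h_sum_left K, h_smul_left K, ho₁, h_zero_left K] using h1
      have hsp : Submodule.span F (Set.range w₁) = W :=
        Submodule.eq_of_le_of_finrank_eq (Submodule.span_le.2 (by rintro _ ⟨i, rfl⟩; exact hw₁ i))
          (by rw [finrank_span_eq_card hli, Fintype.card_fin])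
      conv_lhs => rw [← hsp]
      rw [Submodule.span_le]
      rintro _ ⟨a, rfl⟩
      refine ⟨Pi.single (idx he (Sum.inl a)) 1, ⟨Pi.single a 1, ?_⟩, (hk _).trans (hT (Sum.inl a))⟩
      funext j
      obtain ⟨i, rfl⟩ := (idx he).surjective j
      rw [emb_apply]
      rcases i with i | i <;> simp [Pi.single_apply])
  have hstab : Nat.card (stabGU (q := q) W₀) = guOrder q m * guOrder q (n - m) := by
    have hz : ∀ u ∈ W₀, (∀ v ∈ W₀, hermForm n F q u v = 0) → u = 0 := fun u hu hv => by
      by_contra hne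
      obtain ⟨v, hv', hne'⟩ := h0 u hu hne
      exact hne' (hv v hv')
    obtain ⟨E⟩ := CfsgLib.Classical.IsoProd.gu_stab_equiv_prod (q := q)
      (by rw [← Nat.card_eq_fintype_card]; exact K.card) n m hmn W₀ hd hz
    rw [show guOrder q m = Nat.card (GU m F q) from (card_GU K).symm,
      show guOrder q (n - m) = Nat.card (GU (n - m) F q) from (card_GU K).symm, ← Nat.card_prod]
    exact Nat.card_congr E.toEquiv
  rw [hstab, show Nat.card (GU n F q) = guOrder q n from card_GU K, guOrder_eq, guOrder_eq, guOrder_eq] at h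
  rw [← h, pow_add]
  ring

/-- A prime dividing a factor gives a multiple of `c`. -/
theorem dvd_index {q r i c j : ℕ} (hr : r.Prime) (hr2 : r ≠ 2) (hq : 2 ≤ q) (hi : i = orderOf (q : ZMod r))
    (hc : c = if i % 4 = 0 then i else if i % 4 = 2 then i / 2 else 2 * i) (h : r ∣ ufac q j) : c ∣ j + 1 := by
  haveI := Fact.mk hr
  haveI : Fact (2 < r) := ⟨lt_of_le_of_ne hr.two_le (Ne.symm hr2)⟩
  have hcast := (ZMod.natCast_eq_zero_iff (ufac q j) r).2 h
  unfold ufac at hcast
  set J := j + 1
  by_cases he : Even j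
  · have hJ : Odd J := he.add_one
    rw [if_pos he] at hcast
    push_cast at hcast
    have h1 : (q : ZMod r) ^ J = -1 := eq_neg_of_add_eq_zero_left hcast
    have h2 : i ∣ 2 * J := hi ▸ orderOf_dvd_of_pow_eq_one (by rw [mul_comm, pow_mul, h1, neg_one_sq])
    have h3 : ¬ i ∣ J := fun hd => ZMod.neg_one_ne_one (by rw [← h1, orderOf_dvd_iff_pow_eq_one.1 (hi ▸ hd)])
    obtain ⟨e, rfl⟩ : Even i := by
      by_contra hodd
      exact h3 ((Nat.Coprime.dvd_mul_left (Nat.coprime_two_right.2 (Nat.not_even_iff_odd.1 hodd))).1 h2)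
    rw [← two_mul] at h2 hc
    have h4 : e ∣ J := Nat.dvd_of_mul_dvd_mul_left two_pos h2
    have h5 : Odd e := hJ.of_dvd_nat h4
    rw [Nat.odd_iff] at h5
    rw [if_neg (by omega), if_pos (by omega)] at hc
    rw [hc, show 2 * e / 2 = e by omega]
    exact h4
  · have hJ : Even J := (Nat.not_even_iff_odd.1 he).add_one
    rw [if_neg he, Nat.cast_sub (Nat.one_le_pow _ _ (by omega))] at hcast
    push_cast at hcast
    have h1 : i ∣ J := hi ▸ orderOf_dvd_of_pow_eq_one (sub_eq_zero.1 hcast)
    rw [hc]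
    split_ifs with h4 h2
    · exact h1
    · exact dvd_trans (Nat.div_dvd_of_dvd (by omega)) h1
    · exact (Nat.coprime_two_left.2 (Nat.odd_iff.2 (by omega))).mul_dvd_of_dvd_of_dvd hJ.two_dvd h1

theorem not_dvd_uprod {q p : ℕ} (hp : p.Prime) (hq : 2 ≤ q) (hpq : p ∣ q) (n : ℕ) : ¬ p ∣ uprod q n := by
  intro h
  obtain ⟨i, -, hi⟩ := (hp.prime.dvd_finsetProd_iff _).1 h
  have hd : p ∣ q ^ (i + 1) := hpq.trans (dvd_pow_self q (Nat.succ_ne_zero i))
  unfold ufac at hi
  split at hi
  · exact hp.one_lt.ne' (Nat.dvd_one.1 ((Nat.dvd_add_right hd).1 hi))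
  · have h2 := Nat.dvd_sub hd hi
    rw [Nat.sub_sub_self (Nat.one_le_pow _ _ (by omega))] at h2
    exact hp.one_lt.ne' (Nat.dvd_one.1 h2)

/-- The prime divides one of the top factors. -/
theorem exists_top {q r N a b k n : ℕ} {X : ℕ} (hr : r.Prime) (hrq : ¬ r ∣ q) (hq : 2 ≤ q) (hkn : k ≤ n)
    (hN : r ∣ N) (h : N * (q ^ a * (X * uprod q k)) = q ^ b * uprod q n) :
    ∃ j, k ≤ j ∧ j < n ∧ r ∣ ufac q j := by
  have hsplit : uprod q k * ∏ i ∈ Ico k n, ufac q i = uprod q n := Finset.prod_range_mul_prod_Ico _ hkn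
  rw [← hsplit] at h
  have hk : 0 < uprod q k := Finset.prod_pos fun i _ => ufac_pos hq i
  have h1 : uprod q k * (N * q ^ a * X) = uprod q k * (q ^ b * ∏ i ∈ Ico k n, ufac q i) := by
    linarith
  have h2 : r ∣ q ^ b * ∏ i ∈ Ico k n, ufac q i :=
    Nat.eq_of_mul_eq_mul_left hk h1 ▸ dvd_mul_of_dvd_left (dvd_mul_of_dvd_left hN _) _
  obtain ⟨j, hj, hd⟩ := (hr.prime.dvd_finsetProd_iff _).1
    ((hr.dvd_mul.1 h2).resolve_left fun h => hrq (hr.dvd_of_dvd_pow h))
  rw [Finset.mem_Ico] at hj
  exact ⟨j, hj.1, hj.2, hd⟩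

/-- The window of a totally isotropic count. -/
theorem window_of_top {r i c k n j : ℕ} {q : ℕ} (hr : r.Prime) (hr2 : r ≠ 2) (hq : 2 ≤ q)
    (hi : i = orderOf (q : ZMod r)) (hc : c = if i % 4 = 0 then i else if i % 4 = 2 then i / 2 else 2 * i)
    (hkj : k ≤ j) (hjn : j < n) (h : r ∣ ufac q j) : c ≤ n ∧ n % c < n - k := by
  have hd := dvd_index hr hr2 hq hi hc h
  refine ⟨(Nat.le_of_dvd (Nat.succ_pos j) hd).trans (by omega), ?_⟩
  obtain ⟨l, hl⟩ := hd
  rw [show n = (n - (j + 1)) + c * l by omega, Nat.add_mul_mod_self_left]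
  exact (Nat.mod_le _ _).trans_lt (by omega)

include K in
theorem two_le_q : 2 ≤ q := K.two_le

include K in
/-- The characteristic does not divide the number of totally isotropic subspaces. -/
theorem not_dvd_card_tis {p : ℕ} (hp : p.Prime) (hpq : p ∣ q) (hmn : 2 * m ≤ n) :
    ¬ p ∣ Nat.card {W : Submodule F (Fin n → F) // finrank F ↥W = m ∧ ∀ u ∈ W, ∀ v ∈ W, hermForm n F q u v = 0} := by
  intro hd
  have h := card_tis K hmn
  have hexp : m * (2 * n - 3 * m) + 2 * m.choose 2 + (n - 2 * m).choose 2 = n.choose 2 := by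
    obtain ⟨j, rfl⟩ : ∃ j, n = 2 * m + j := ⟨n - 2 * m, by omega⟩
    have h2 : ∀ a : ℕ, (2 * a.choose 2 : ℤ) = a * (a - 1) := fun a => by
      induction a with
      | zero => simp
      | succ a ih => push_cast [Nat.choose_succ_succ, Nat.choose_one_right]; linarith
    rw [show 2 * (2 * m + j) - 3 * m = m + 2 * j by omega, show 2 * m + j - 2 * m = j by omega]
    zify
    have e1 := h2 m
    have e2 := h2 j
    have e3 := h2 (2 * m + j)
    push_cast at e3
    nlinarith
  rw [hexp, mul_left_comm] at h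
  refine not_dvd_uprod hp K.two_le hpq n ?_
  rw [← Nat.eq_of_mul_eq_mul_left (pow_pos (by have := K.two_le; omega) _) h]
  exact dvd_mul_of_dvd_left hd _

end CfsgLib.Derange.UEl
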