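import Cfsg.Agent.Lib.Derange.UnitPoly
import Cfsg.Agent.Lib.Classical.UnitaryPrimeOrder

/-!
The factors of `X ^ r - 1` over a field with `q ^ 2` elements and the twist-stable products of them.
-/

set_option autoImplicit false
set_option linter.unusedSectionVars false
set_option linter.style.haveILetI false
set_option maxHeartbeats 1000000

namespace CfsgLib.Derange.UEl

open Polynomial UniqueFactorizationMonoid CfsgLib.Classical.UnitaryTwistPoly CfsgLib.Classical.TwistPairCount
  CfsgLib.Classical.PrimeOrderCount CfsgLib.Classical.UnitaryPrimeOrder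
open CfsgLib.ClassicalAut (Unitary.Conj)

variable {F : Type*} [Field F] [Fintype F] {p : ℕ} [hp : Fact p.Prime] [CharP F p] {q : ℕ}

/-- The factors other than `X - 1`. -/
structure UFacts (σ : F →+* F) (r b : ℕ) (sf : Prop) (t : ℕ) (D : Finset F[X]) : Prop where
  pos : 0 < b
  mem : ∀ P ∈ D, P.Monic ∧ Irreducible P ∧ P.natDegree = b
  one : X - 1 ∉ D
  card : D.card = t
  dvd : ∀ P : F[X], Irreducible P → P.Monic → (P ∣ X ^ r - 1 ↔ P = X - 1 ∨ P ∈ D)
  tmem : ∀ P ∈ D, tw σ P ∈ D ∧ tw σ (tw σ P) = P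
  self_iff : ∀ P ∈ D, (tw σ P = P ↔ sf)

include hp in
theorem exists_ufacts (K : Unitary.Conj F q) {r i b s : ℕ} (hr : r.Prime) (hr2 : r ≠ 2) (hrp : r ≠ p)
    (hi : i = orderOf (q : ZMod r)) (hb : b = if Odd i then i else i / 2) (hs : s * b = r - 1) :
    ∃ D : Finset F[X], UFacts K.bar.toRingHom r b (i % 4 = 2) s D := by
  classical
  have hK := card_eq K
  let σ : F →+* F := K.bar.toRingHom
  have σ_eq : ∀ x, σ x = x ^ q := K.bar_apply
  have σσ : ∀ x, σ (σ x) = x := K.bar_bar
  haveI := Fact.mk hr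
  have hnr : p.Coprime r := (Nat.coprime_primes hp.out hr).mpr (Ne.symm hrp)
  obtain ⟨k, hk⟩ := FiniteField.card F p
  have hKp : Fintype.card F = p ^ (k : ℕ) := hk.2
  obtain ⟨cq, -, hcq⟩ : ∃ j, j ≤ (k : ℕ) ∧ q = p ^ j :=
    (Nat.dvd_prime_pow hp.out).1 (by rw [← hKp, hK]; exact dvd_pow_self _ two_ne_zero)
  have hqu : IsUnit (q : ZMod r) :=
    ((ZMod.isUnit_iff_coprime p r).mpr hnr).pow cq |> fun h => by rw [hcq]; exact_mod_cast h
  have hi0 : 0 < i := by
    rw [hi, ← hqu.unit_spec, orderOf_units]; exact orderOf_pos _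
  have hb0 : 0 < b := by
    rw [hb]; split_ifs with h
    · exact hi0
    · obtain ⟨e, he⟩ := Nat.not_odd_iff_even.mp h; omega
  have hbu : b = orderOf (ZMod.unitOfCoprime _ (hnr.pow_left (k : ℕ))) := by
    rw [← orderOf_units, ZMod.coe_unitOfCoprime, ← hKp, hK, Nat.cast_pow, orderOf_pow' _ two_ne_zero, ← hi, hb]
    split_ifs with h
    · rw [Nat.coprime_two_right.mpr h, Nat.div_one]
    · rw [Nat.gcd_eq_right (even_iff_two_dvd.mp (Nat.not_odd_iff_even.mp h))]
  have hsep : (X ^ r - C (1 : F)).Separable :=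
    separable_X_pow_sub_C 1 (fun h => by
      rw [CharP.cast_eq_zero_iff F p] at h
      exact hrp ((Nat.prime_dvd_prime_iff_eq hp.out hr).mp h).symm) one_ne_zero
  rw [map_one] at hsep
  have hfac := cyclotomic_prime_mul_X_sub_one F r
  have hR0 : (X ^ r - 1 : F[X]) ≠ 0 := hsep.ne_zero
  set D := (normalizedFactors (cyclotomic r F)).toFinset with hDdef
  have hD : ∀ P ∈ D, P.Monic ∧ Irreducible P ∧ P.natDegree = b := by
    intro P hP
    rw [hDdef, Multiset.mem_toFinset] at hP
    exact ⟨normalizedFactor_monic (cyclotomic_ne_zero r F) hP, irreducible_of_normalized_factor P hP,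
      hbu ▸ natDegree_of_mem_normalizedFactors_cyclotomic hKp hnr hP⟩
  have hX1m : (X - 1 : F[X]).Monic := by simpa using monic_X_sub_C (1 : F)
  have hX1i : Irreducible (X - 1 : F[X]) := by simpa using irreducible_X_sub_C (1 : F)
  have h1 : X - 1 ∉ D := by
    intro h
    rw [hDdef, Multiset.mem_toFinset] at h
    have h2 : (X - 1) * (X - 1) ∣ (X ^ r - 1 : F[X]) :=
      hfac ▸ mul_dvd_mul_right (dvd_of_mem_normalizedFactors h) _
    exact hX1i.not_isUnit (hsep.squarefree _ h2)
  have hcyc0 : (cyclotomic r F).natDegree = r - 1 := by rw [natDegree_cyclotomic, Nat.totient_prime hr]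
  have hcard : D.card = s := by
    have hsq : Squarefree (cyclotomic r F) := hsep.squarefree.squarefree_of_dvd (Dvd.intro _ hfac)
    rw [hDdef, Multiset.toFinset_card_of_nodup
      ((squarefree_iff_nodup_normalizedFactors (cyclotomic_ne_zero r F)).mp hsq)]
    have h2 := congrArg natDegree (prod_nf (cyclotomic.monic r F))
    rw [natDegree_multiset_prod_of_monic _ (fun P hP => normalizedFactor_monic (cyclotomic_ne_zero r F) hP),
      Multiset.map_congr rfl (fun P hP => (hD P (by rw [hDdef, Multiset.mem_toFinset]; exact hP)).2.2),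
      Multiset.map_const', Multiset.sum_replicate, smul_eq_mul, hcyc0, ← hs] at h2
    exact Nat.eq_of_mul_eq_mul_right hb0 h2
  have hmemD : ∀ P : F[X], P.Monic → Irreducible P → (P ∈ D ↔ P ∣ cyclotomic r F) := fun P hPm hP => by
    rw [hDdef, Multiset.mem_toFinset, mem_normalizedFactors_iff' (cyclotomic_ne_zero r F)]
    exact ⟨fun h => h.2.2, fun h => ⟨hP, hPm.normalize_eq_self, h⟩⟩
  have hdiv : ∀ P : F[X], Irreducible P → P.Monic → (P ∣ X ^ r - 1 ↔ P = X - 1 ∨ P ∈ D) := by
    intro P hP hPm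
    rw [hmemD P hPm hP]
    constructor
    · intro h
      rw [← hfac] at h
      rcases hP.prime.dvd_or_dvd h with h' | h'
      · exact Or.inr h'
      · exact Or.inl (eq_of_monic_of_associated hPm hX1m (hP.associated_of_dvd hX1i h'))
    · rintro (rfl | h)
      · exact hfac ▸ dvd_mul_left _ _
      · exact hfac ▸ h.mul_right _
  have hD0 : ∀ P ∈ D, P.coeff 0 ≠ 0 := fun P hP h => by
    have hX : X ∣ (X ^ r - 1 : F[X]) := (X_dvd_iff.mpr h).trans
      ((hdiv P (hD P hP).2.1 (hD P hP).1).mpr (Or.inr hP))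
    rw [X_dvd_iff] at hX
    simp [coeff_X_pow, hr.ne_zero.symm] at hX
  have hcycτ : tw σ (cyclotomic r F) = cyclotomic r F := by
    have hco : ∀ j, (cyclotomic r F).coeff j = if j < r then 1 else 0 := fun j => by
      rw [cyclotomic_prime, finsetSum_coeff]
      simp [coeff_X_pow, Finset.sum_ite_eq, Finset.mem_range]
    ext j
    rw [coeff_tw, hcyc0, hco, hco, hco, if_pos hr.pos, map_one, inv_one, one_mul]
    rcases Nat.lt_or_ge (r - 1) j with h | h
    · rw [revAt_eq_self_of_lt h, if_neg (by omega), map_zero]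
    · rw [revAt_le h, if_pos (show r - 1 - j < r by have := hr.pos; omega),
        if_pos (show j < r by have := hr.pos; omega), map_one]
  have hτD : ∀ P ∈ D, tw σ P ∈ D := by
    intro P hP
    obtain ⟨hPm, hPi, hPd⟩ := hD P hP
    have hm' := monic_tw σ (hD0 P hP)
    have hdvd : tw σ P ∣ cyclotomic r F := hcycτ ▸ tw_dvd _ ((hmemD P hPm hPi).mp hP)
    have hdeg : (tw σ P).natDegree = b := (natDegree_tw _ (hD0 P hP)).trans hPd
    obtain ⟨R, hR, hRd⟩ := exists_irreducible_of_natDegree_pos (f := tw σ P) (hdeg ▸ hb0)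
    have hRm := monic_normalize hR.ne_zero
    have hRi := (normalize_associated R).symm.irreducible hR
    have hRmem : normalize R ∈ D := (hmemD _ hRm hRi).mpr ((normalize_dvd_iff.mpr hRd).trans hdvd)
    have : tw σ P = normalize R := (eq_of_monic_of_dvd_of_natDegree_le hRm hm' (normalize_dvd_iff.mpr hRd)
      (by rw [(hD _ hRmem).2.2, hdeg]))
    exact this ▸ hRmem
  have hττ : ∀ P ∈ D, tw σ (tw σ P) = P := fun P hP => tw_tw _ σσ (hD P hP).1 (hD0 P hP)
  have hself : ∀ P ∈ D, (tw σ P = P ↔ i % 4 = 2) := by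
    intro P hP
    obtain ⟨hPm, hPi, hPd⟩ := hD P hP
    haveI := Fact.mk hPi
    haveI : Module.Finite F (AdjoinRoot P) := (AdjoinRoot.powerBasis hPi.ne_zero).finite
    haveI : Finite (AdjoinRoot P) := Module.finite_of_finite F
    set x := AdjoinRoot.root P
    have hx : aeval x P = 0 := by rw [AdjoinRoot.aeval_eq, AdjoinRoot.mk_self]
    have hxr : x ^ r = 1 := by
      obtain ⟨c, hc⟩ := (hdiv P hPi hPm).mpr (Or.inr hP)
      have := congrArg (aeval x) hc
      rw [map_sub, map_pow, aeval_X, map_one, map_mul, hx, zero_mul, sub_eq_zero] at this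
      exact this
    have hx0 : x ≠ 0 := fun h => zero_ne_one ((zero_pow hr.ne_zero).symm.trans (h ▸ hxr))
    have hx1 : x ≠ 1 := by
      intro h
      rw [h] at hx
      have e : aeval (1 : AdjoinRoot P) P = algebraMap F (AdjoinRoot P) (P.eval 1) := by
        rw [← map_one (algebraMap F (AdjoinRoot P)), aeval_algebraMap_apply_eq_algebraMap_eval]
      rw [e, _root_.map_eq_zero] at hx
      have hd := dvd_iff_isRoot.mpr (show P.IsRoot 1 from hx)
      rw [map_one] at hd
      exact h1 (eq_of_monic_of_associated hPm hX1m (hX1i.associated_of_dvd hPi hd).symm ▸ hP)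
    have hord : orderOf x = r := orderOf_eq_prime hxr hx1
    have hq0 : q ≠ 0 := by
      intro h
      have := Fintype.one_lt_card (α := F)
      rw [hK, h] at this
      simp at this
    have key : tw σ P = P ↔ aeval (x⁻¹ ^ q) P = 0 := by
      have e1 : aeval x (tw σ P) = 0 ↔ aeval x⁻¹ (P.map σ) = 0 := by
        rw [tw, map_mul, aeval_C, mul_eq_zero, or_iff_right (by simp [hD0 P hP]),
          Polynomial.reverse, FormRep.Adj.aeval_reflect_aux (mul_inv_cancel₀ hx0) _ _ le_rfl, mul_eq_zero,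
          or_iff_right (pow_ne_zero _ hx0)]
      have e2 : aeval x⁻¹ (P.map σ) = 0 ↔ aeval (x⁻¹ ^ q) P = 0 := by
        have h := aeval_map_pow hcq σ σ_eq x⁻¹ (P.map σ)
        rw [Polynomial.map_map, show σ.comp σ = RingHom.id F from RingHom.ext σσ, Polynomial.map_id] at h
        rw [h, pow_eq_zero_iff hq0]
      rw [← e2, ← e1]
      refine ⟨fun h => h.symm ▸ hx, fun h => ?_⟩
      exact (minpoly.eq_of_irreducible_of_monic (hD _ (hτD P hP)).2.1 h (hD _ (hτD P hP)).1).trans
        (minpoly.eq_of_irreducible_of_monic hPi hx hPm).symm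
    have hexp : ∀ j, x⁻¹ ^ q = x ^ Fintype.card F ^ j ↔ (q : ZMod r) ^ (2 * j) + q = 0 := by
      intro j
      have hiff : ∀ y : AdjoinRoot P, (x⁻¹) ^ q = y ↔ y * x ^ q = 1 := fun y => by
        rw [inv_pow]
        exact ⟨fun h => h ▸ inv_mul_cancel₀ (pow_ne_zero _ hx0), fun h => (eq_inv_of_mul_eq_one_left h).symm⟩
      rw [hiff, ← pow_add, ← orderOf_dvd_iff_pow_eq_one, hord, ← ZMod.natCast_eq_zero_iff, hK, ← pow_mul]
      push_cast
      rfl
    rw [key]
    constructor
    · intro h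
      obtain ⟨j, hj⟩ := FormRep.exists_conj_pow hPi hPm hx h
      rw [hexp] at hj
      have hqi : (q : ZMod r) ^ i = 1 := hi ▸ pow_orderOf_eq_one _
      have hE : (q : ZMod r) ^ (2 * j + i - 1) = -1 := by
        rw [show 2 * j + i - 1 = 2 * j + (i - 1) by omega, pow_add, eq_neg_of_add_eq_zero_left hj, neg_mul,
          ← pow_succ', Nat.sub_add_cancel hi0, hqi]
      have hnd : ¬ i ∣ 2 * j + i - 1 := fun h => by
        rw [orderOf_dvd_iff_pow_eq_one.mp (hi ▸ h)] at hE
        exact hr2 ((Nat.prime_dvd_prime_iff_eq hr Nat.prime_two).mp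
          ((ZMod.natCast_eq_zero_iff _ _).mp (by push_cast; linear_combination hE)))
      have h2' : (q : ZMod r) ^ (2 * (2 * j + i - 1)) = 1 := by rw [mul_comm 2 (2 * j + i - 1), pow_mul, hE, neg_one_sq]
      have h2 : i ∣ 2 * (2 * j + i - 1) := by
        have h3 := orderOf_dvd_of_pow_eq_one h2'
        rwa [← hi] at h3
      rcases Nat.even_or_odd i with ⟨e, he⟩ | ho
      · have he' : e ∣ 2 * j + i - 1 := Nat.dvd_of_mul_dvd_mul_left two_pos (by rwa [show 2 * e = i by omega])
        rcases Nat.even_or_odd e with hee | heo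
        · have := (even_iff_two_dvd.mp hee).trans he'; omega
        · obtain ⟨e', rfl⟩ := heo; omega
      · exact absurd ((Nat.Coprime.dvd_mul_left (Nat.coprime_two_right.mpr ho)).mp h2) hnd
    · intro h4
      have hhalf : (q : ZMod r) ^ (i / 2) = -1 := by
        have h2 : ((q : ZMod r) ^ (i / 2)) * ((q : ZMod r) ^ (i / 2)) = 1 := by
          rw [← pow_add, show i / 2 + i / 2 = i by omega, hi, pow_orderOf_eq_one]
        refine (mul_self_eq_one_iff.mp h2).resolve_left fun h => ?_
        have := Nat.le_of_dvd (by omega) (orderOf_dvd_of_pow_eq_one h)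
        rw [← hi] at this
        omega
      have hj := (hexp ((i / 2 + 1) / 2)).mpr (by
        rw [show 2 * ((i / 2 + 1) / 2) = i / 2 + 1 by omega, pow_succ, hhalf, neg_one_mul, neg_add_cancel])
      have e := congrFun (FiniteField.coe_frobeniusAlgEquivOfAlgebraic_iterate F (AdjoinRoot P) ((i / 2 + 1) / 2)) x
      rw [← AlgEquiv.coe_pow] at e
      rw [hj, ← e, aeval_algHom_apply, hx, map_zero]
  exact ⟨D, hb0, hD, h1, hcard, hdiv, fun P hP => ⟨hτD P hP, hττ P hP⟩, hself⟩

end CfsgLib.Derange.UEl
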