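import Cfsg.Agent.Lib.Derange.UnitBlocks

/-!
Roots and orders among the elements of norm one, and multiplication of unitary matrices by them.
-/

set_option autoImplicit false
set_option linter.unusedSectionVars false
set_option linter.style.haveILetI false

namespace CfsgLib.Derange.UEl

open Matrix Cfsg
open CfsgLib.Classical.Herm
open CfsgLib.ClassicalAut (Unitary.Conj Unitary.normOne Unitary.mem_normOne Unitary.card_normOne)

variable {F : Type*} [Field F] [Fintype F] {q : ℕ} (K : Unitary.Conj F q) {n : ℕ}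

include K in
theorem pow_card_norm {a : F} (ha : a * K.bar a = 1) : a ^ (q + 1) = 1 := by
  rw [pow_succ', ← K.bar_apply]; exact ha

include K in
theorem norm_iff_pow {a : F} : a * K.bar a = 1 ↔ a ^ (q + 1) = 1 := by
  rw [pow_succ', ← K.bar_apply]

include K in
/-- A generator of the group of norm one. -/
theorem exists_norm_gen : ∃ g : F, g * K.bar g = 1 ∧ orderOf g = q + 1 ∧
    ∀ a : F, a * K.bar a = 1 → ∃ k : ℕ, g ^ k = a := by
  haveI : Finite Fˣ := Finite.of_injective _ Units.val_injective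
  obtain ⟨g, hg⟩ := IsCyclic.exists_generator (α := Unitary.normOne K)
  refine ⟨((g : Fˣ) : F), (Unitary.mem_normOne K).1 g.2, ?_, fun a ha => ?_⟩
  · rw [orderOf_units, Subgroup.orderOf_coe, orderOf_eq_card_of_forall_mem_zpowers hg, Unitary.card_normOne K]
  · have ha0 : a ≠ 0 := UPair.bar_mul_self_ne K ha
    obtain ⟨k, hk⟩ := (Submonoid.mem_powers_iff _ _).mp
      (mem_powers_iff_mem_zpowers.mpr (hg ⟨Units.mk0 a ha0, (Unitary.mem_normOne K).2 ha⟩))
    exact ⟨k, by simpa using congrArg (fun u : Unitary.normOne K => ((u : Fˣ) : F)) hk⟩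

include K in
/-- Roots of norm one for exponents prime to `q + 1`. -/
theorem exists_norm_root {r : ℕ} (hr : r.Prime) (hco : ¬ r ∣ q + 1) {z : F} (hz : z * K.bar z = 1) :
    ∃ w : F, w * K.bar w = 1 ∧ w ^ r = z := by
  haveI : Finite Fˣ := Finite.of_injective _ Units.val_injective
  have h : (Nat.card (Unitary.normOne K)).Coprime r := by
    rw [Unitary.card_normOne K]; exact (hr.coprime_iff_not_dvd.2 hco).symm
  obtain ⟨w, hw⟩ := (powCoprime h).surjective ⟨Units.mk0 z (UPair.bar_mul_self_ne K hz), (Unitary.mem_normOne K).2 hz⟩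
  exact ⟨((w : Fˣ) : F), (Unitary.mem_normOne K).1 w.2,
    by simpa using congrArg (fun u : Unitary.normOne K => ((u : Fˣ) : F)) hw⟩

include K in
/-- Roots of norm one scalars have norm one. -/
theorem norm_root {r : ℕ} (hr : r.Prime) (hco : ¬ r ∣ q - 1) {b z : F} (hz : z * K.bar z = 1) (hb : b ^ r = z) :
    b * K.bar b = 1 := by
  set u := b * K.bar b with hu
  have h1 : u ^ r = 1 := by rw [hu, mul_pow, ← map_pow, hb, hz]
  have hu0 : u ≠ 0 := fun h => by rw [h, zero_pow hr.ne_zero] at h1; exact zero_ne_one h1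
  have hfix : K.bar u = u := by rw [hu, map_mul, K.bar_bar, mul_comm]
  have h2 : u ^ (q - 1) = 1 := by
    refine mul_left_cancel₀ hu0 ?_
    rw [← pow_succ', Nat.sub_add_cancel (by have := K.two_le; omega), mul_one, ← K.bar_apply, hfix]
  have := (pow_gcd_eq_one (a := u) (m := r) (n := q - 1)).2 ⟨h1, h2⟩
  rwa [(hr.coprime_iff_not_dvd.2 hco).gcd_eq_one, pow_one] at this

include K in
/-- A norm one element without a norm one root is not annihilated by small exponents. -/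
theorem le_of_nonroot {r s : ℕ} (hr : r.Prime) {z : F} (hz : z * K.bar z = 1)
    (hno : ∀ w : F, w * K.bar w = 1 → w ^ r ≠ z) (hs : z ^ s = 1) (hs0 : s ≠ 0) :
    padicValNat r (q + 1) ≤ padicValNat r s := by
  haveI := Fact.mk hr
  by_contra hlt
  obtain ⟨g, hg, hgo, hgen⟩ := exists_norm_gen K
  obtain ⟨k, rfl⟩ := hgen z hz
  have h1 : q + 1 ∣ k * s := hgo ▸ orderOf_dvd_of_pow_eq_one (by rw [pow_mul]; exact hs)
  have hrk : ¬ r ∣ k := by
    rintro ⟨l, rfl⟩
    exact hno (g ^ l) (by rw [map_pow, ← mul_pow, hg, one_pow]) (by rw [← pow_mul, mul_comm])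
  have h2 : r ^ padicValNat r (q + 1) ∣ s :=
    ((hr.coprime_iff_not_dvd.mpr hrk).pow_left _).dvd_of_dvd_mul_left (pow_padicValNat_dvd.trans h1)
  exact hlt ((padicValNat_dvd_iff_le hs0).1 h2)

include K in
/-- A norm one element that is no power, annihilated by a given exponent. -/
theorem exists_nonroot {r s : ℕ} (hr : r.Prime) (hrq : r ∣ q + 1) (hco : ¬ r ∣ q - 1)
    (hs : padicValNat r (q + 1) ≤ padicValNat r s) :
    ∃ z : F, z * K.bar z = 1 ∧ z ^ s = 1 ∧ ∀ b : F, b ^ r ≠ z := by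
  haveI := Fact.mk hr
  obtain ⟨g, hg, hgo, -⟩ := exists_norm_gen K
  obtain ⟨e, he⟩ : r ^ padicValNat r (q + 1) ∣ q + 1 := pow_padicValNat_dvd
  refine ⟨g ^ e, by rw [map_pow, ← mul_pow, hg, one_pow], ?_, fun b hb => ?_⟩
  · obtain ⟨l, hl⟩ : r ^ padicValNat r (q + 1) ∣ s :=
      (pow_dvd_pow r hs).trans pow_padicValNat_dvd
    rw [← pow_mul, hl, ← mul_assoc, mul_comm e, ← he, pow_mul, ← hgo, pow_orderOf_eq_one, one_pow]
  · have hbn := norm_root K hr hco (by rw [map_pow, ← mul_pow, hg, one_pow]) hb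
    obtain ⟨d, hd⟩ := hrq
    have h1 : q + 1 ∣ e * d := hgo ▸ orderOf_dvd_of_pow_eq_one (by
      rw [pow_mul, ← hb, ← pow_mul, ← hd, pow_card_norm K hbn])
    have h2 : r * d ∣ e * d := hd ▸ h1
    have h3 : r ∣ e := Nat.dvd_of_mul_dvd_mul_right (by
      rcases Nat.eq_zero_or_pos d with h | h
      · rw [h, mul_zero] at hd; omega
      · exact h) h2
    obtain ⟨e', rfl⟩ := h3
    exact pow_succ_padicValNat_not_dvd (p := r) (n := q + 1) (by omega) ⟨e', by rw [pow_succ, mul_assoc]; exact he⟩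

/-- An element of order dividing `2 * B` exactly. -/
theorem two_val_lt {y : F} {A B : ℕ} (h2 : (-1 : F) ≠ 1) (hA : y ^ A = 1) (hB : y ^ B = -1) (hA0 : A ≠ 0)
    (hB0 : B ≠ 0) : padicValNat 2 B < padicValNat 2 A := by
  haveI : Fact (Nat.Prime 2) := ⟨Nat.prime_two⟩
  by_contra hle
  push Not at hle
  obtain ⟨a, ha⟩ : 2 ^ padicValNat 2 A ∣ A := pow_padicValNat_dvd
  obtain ⟨b, hb⟩ : 2 ^ padicValNat 2 A ∣ B := (pow_dvd_pow 2 hle).trans pow_padicValNat_dvd
  have hao : Odd a := Nat.not_even_iff_odd.1 fun hev => by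
    obtain ⟨a', rfl⟩ := hev.two_dvd
    exact pow_succ_padicValNat_not_dvd (p := 2) hA0 ⟨a', ha.trans (by rw [pow_succ, mul_assoc])⟩
  have h3 : y ^ (B * a) = -1 := by rw [pow_mul, hB, hao.neg_one_pow]
  have h4 : y ^ (B * a) = 1 := by
    have e : B * a = A * b := by
      calc B * a = 2 ^ padicValNat 2 A * b * a := by rw [← hb]
        _ = 2 ^ padicValNat 2 A * a * b := by ring
        _ = A * b := by rw [← ha]
    rw [e, pow_mul, hA, one_pow]
  exact h2 (h3.symm.trans h4)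

include K in
/-- A norm one scalar with `n`-th power `-1`. -/
theorem exists_half (n : ℕ) (hn : n ≠ 0) (hlt : padicValNat 2 n < padicValNat 2 (q + 1)) :
    ∃ μ : F, μ * K.bar μ = 1 ∧ μ ^ n = -1 := by
  haveI : Fact (Nat.Prime 2) := ⟨Nat.prime_two⟩
  obtain ⟨g, hg, hgo, -⟩ := exists_norm_gen K
  set v := padicValNat 2 n
  obtain ⟨e, he⟩ : 2 ^ (v + 1) ∣ q + 1 := (padicValNat_dvd_iff_le (by omega)).2 hlt
  obtain ⟨o, ho⟩ : 2 ^ v ∣ n := pow_padicValNat_dvd
  have hoo : Odd o := Nat.not_even_iff_odd.1 fun hev => by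
    obtain ⟨o', rfl⟩ := hev.two_dvd
    exact pow_succ_padicValNat_not_dvd (p := 2) hn ⟨o', ho.trans (by rw [pow_succ, mul_assoc])⟩
  refine ⟨g ^ e, by rw [map_pow, ← mul_pow, hg, one_pow], ?_⟩
  have h1 : g ^ (e * 2 ^ v) * g ^ (e * 2 ^ v) = 1 := by
    rw [← pow_add, show e * 2 ^ v + e * 2 ^ v = 2 ^ (v + 1) * e by ring, ← he, ← hgo, pow_orderOf_eq_one]
  have h2 : g ^ (e * 2 ^ v) ≠ 1 := fun h => by
    have h3 := orderOf_dvd_of_pow_eq_one h
    rw [hgo, he, mul_comm (2 ^ (v + 1)) e] at h3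
    have he0 : 0 < e := Nat.pos_of_ne_zero fun h => by rw [h, mul_zero] at he; omega
    have h4 := Nat.le_of_dvd (pow_pos two_pos v) (Nat.dvd_of_mul_dvd_mul_left he0 h3)
    rw [pow_succ] at h4
    have := pow_pos (two_pos (α := ℕ)) v
    omega
  rw [ho, ← pow_mul, ← mul_assoc, pow_mul, (mul_self_eq_one_iff.1 h1).resolve_left h2, hoo.neg_one_pow]

include K in
/-- An element of norm `-1` whose square's negative has a given annihilator. -/
theorem exists_anti (hqo : Odd q) (h : ℕ) (hh : q % 4 = 1 ∨ padicValNat 2 (q + 1) ≤ padicValNat 2 h) :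
    ∃ w : F, w * K.bar w = -1 ∧ (-(w * w)) ^ h = 1 := by
  haveI : Fact (Nat.Prime 2) := ⟨Nat.prime_two⟩
  haveI : Finite Fˣ := Finite.of_injective _ Units.val_injective
  obtain ⟨G, hG⟩ := K.exists_gen
  obtain ⟨t, ht⟩ := hqo
  set v := padicValNat 2 (q + 1)
  obtain ⟨o, ho⟩ : 2 ^ v ∣ q + 1 := pow_padicValNat_dvd
  have hoo : Odd o := Nat.not_even_iff_odd.1 fun hev => by
    obtain ⟨o', rfl⟩ := hev.two_dvd
    exact pow_succ_padicValNat_not_dvd (p := 2) (n := q + 1) (by omega) ⟨o', ho.trans (by rw [pow_succ, mul_assoc])⟩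
  have hv : 1 ≤ v := one_le_padicValNat_of_dvd (by omega) ⟨t + 1, by omega⟩
  have hqq : q ^ 2 - 1 = (q + 1) * (2 * t) := by
    rw [ht]
    have : (2 * t + 1) ^ 2 = (2 * t + 1 + 1) * (2 * t) + 1 := by ring
    omega
  have ht0 : 0 < t := by have := K.two_le; omega
  set x : F := ((G : Fˣ) : F) ^ (o * t) with hx
  have hord : orderOf x = 2 ^ (v + 1) := by
    have hGo : orderOf ((G : Fˣ) : F) = 2 ^ (v + 1) * (o * t) := by
      rw [orderOf_units, hG, hqq, ho]; ring
    rw [hx, orderOf_pow' _ (Nat.mul_pos hoo.pos ht0).ne', hGo, Nat.gcd_mul_left_left,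
      Nat.mul_div_cancel _ (Nat.mul_pos hoo.pos ht0)]
  have hhalf : x ^ (2 ^ v) = -1 := by
    have h1 : x ^ (2 ^ v) * x ^ (2 ^ v) = 1 := by
      rw [← pow_add, ← two_mul, ← pow_succ', ← hord, pow_orderOf_eq_one]
    refine (mul_self_eq_one_iff.1 h1).resolve_left fun h0 => ?_
    have h3 := orderOf_dvd_of_pow_eq_one h0
    rw [hord] at h3
    have := Nat.le_of_dvd (pow_pos two_pos _) h3
    rw [pow_succ] at this
    have := pow_pos (two_pos (α := ℕ)) v
    omega
  refine ⟨x, by rw [K.bar_apply, ← pow_succ', ho, pow_mul, hhalf, hoo.neg_one_pow], ?_⟩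
  rcases hh with h4 | hle
  · have hv1 : v = 1 := by
      refine le_antisymm ?_ hv
      by_contra hgt
      have : 4 ∣ q + 1 := (pow_dvd_pow 2 (show 2 ≤ v by omega)).trans pow_padicValNat_dvd
      omega
    rw [hv1, pow_one, sq] at hhalf
    rw [hhalf, neg_neg, one_pow]
  · obtain ⟨l, hl⟩ : 2 ^ v ∣ h := (pow_dvd_pow 2 hle).trans pow_padicValNat_dvd
    have hev : Even (2 ^ v) := Nat.even_pow.2 ⟨even_two, by omega⟩
    rw [hl, pow_mul, hev.neg_pow, ← sq, ← pow_mul x 2, ← pow_succ', ← hord, pow_orderOf_eq_one, one_pow]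

include K in
/-- Multiplication by a norm one scalar. -/
theorem exists_scaled {x : GL (Fin n) F} (hx : x ∈ GU n F q) {w : F} (hw : w * K.bar w = 1) :
    ∃ y : GL (Fin n) F, y ∈ GU n F q ∧ (y : Matrix (Fin n) (Fin n) F) = w • (x : Matrix (Fin n) (Fin n) F) := by
  let s : GL (Fin n) F := Units.map (Matrix.scalar (Fin n) (α := F)).toMonoidHom (Units.mk0 w (UPair.bar_mul_self_ne K hw))
  have hs : (s : Matrix (Fin n) (Fin n) F) = w • 1 := (Matrix.smul_one_eq_diagonal w).symm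
  refine ⟨s * x, fun u v => ?_, by rw [Units.val_mul, hs, Matrix.smul_mul, one_mul]⟩
  show hermForm n F q (((s * x : GL (Fin n) F) : Matrix (Fin n) (Fin n) F) *ᵥ u)
    (((s * x : GL (Fin n) F) : Matrix (Fin n) (Fin n) F) *ᵥ v) = _
  rw [Units.val_mul, hs, Matrix.smul_mul, one_mul, Matrix.smul_mulVec, Matrix.smul_mulVec, h_smul_left K,
    h_smul_right K, ← mul_assoc, hw, one_mul]
  exact hx u v

end CfsgLib.Derange.UEl
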