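import Cfsg.Agent.Lib.Derange.UnitPoly
import Cfsg.Agent.Lib.Derange.UnitNorm

/-!
Special unitary matrices with scalar square in odd characteristic.
-/

set_option autoImplicit false
set_option linter.unusedSectionVars false
set_option linter.style.haveILetI false
set_option maxHeartbeats 1000000

namespace CfsgLib.Derange.UEl

open Matrix Polynomial UniqueFactorizationMonoid Cfsg
open CfsgLib.Classical.UnitaryTwistPoly CfsgLib.Classical.TwistPairCount
open CfsgLib.ClassicalAut (Unitary.Conj)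

variable {F : Type*} [Field F] [Fintype F]

theorem tw_binom (σ : F →+* F) {r : ℕ} (hr : 0 < r) {a : F} (ha : a ≠ 0) :
    tw σ (X ^ r - C a : F[X]) = X ^ r - C (σ a)⁻¹ := by
  ext i
  rw [coeff_tw, natDegree_X_pow_sub_C]
  have ha' : σ a ≠ 0 := (map_ne_zero σ).2 ha
  rcases lt_trichotomy i r with h | h | h
  · rw [revAt_le h.le]
    rcases Nat.eq_zero_or_pos i with rfl | h0
    · simp [coeff_C, hr.ne, hr.ne']
    · simp [coeff_C, coeff_X_pow, h.ne, h0.ne', show r - i ≠ r by omega, show r - i ≠ 0 by omega, hr.ne]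
  · subst h
    rw [revAt_le le_rfl]
    simp [coeff_C, coeff_X_pow, hr.ne, hr.ne', ha']
  · rw [revAt_eq_self_of_lt h]
    simp [coeff_C, coeff_X_pow, show i ≠ 0 by omega, h.ne', hr.ne]

theorem tw_linear (σ : F →+* F) {a : F} (ha : a ≠ 0) : tw σ (X - C a : F[X]) = X - C (σ a)⁻¹ := by
  simpa using tw_binom σ one_pos ha

theorem tw_pow (σ : F →+* F) (P : F[X]) (k : ℕ) : tw σ (P ^ k) = tw σ P ^ k := by
  induction k with
  | zero => rw [pow_zero, pow_zero, tw_one]
  | succ k ih => rw [pow_succ, pow_succ, tw_mul, ih]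

theorem eq_mul_pows {f P Q : F[X]} (hm : f.Monic) (hPQ : P ≠ Q)
    (h : ∀ R : F[X], Irreducible R → R.Monic → R ∣ f → R = P ∨ R = Q) :
    ∃ a c : ℕ, f = P ^ a * Q ^ c := by
  classical
  refine ⟨(normalizedFactors f).count P, (normalizedFactors f).count Q, ?_⟩
  have e : normalizedFactors f = Multiset.replicate ((normalizedFactors f).count P) P +
      Multiset.replicate ((normalizedFactors f).count Q) Q := by
    ext R
    rw [Multiset.count_add, Multiset.count_replicate, Multiset.count_replicate]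
    by_cases hR : R ∈ normalizedFactors f
    · rcases h R (irreducible_of_normalized_factor R hR)
        (CfsgLib.Classical.PrimeOrderCount.normalizedFactor_monic hm.ne_zero hR) (dvd_of_mem_normalizedFactors hR) with rfl | rfl
      · rw [if_pos rfl, if_neg (Ne.symm hPQ), add_zero]
      · rw [if_neg hPQ, if_pos rfl, zero_add]
    · rw [Multiset.count_eq_zero.2 hR]
      split_ifs with h1 h2 <;> (try subst h1) <;> (try subst h2) <;> simp_all
  conv_lhs => rw [← prod_nf hm, e, Multiset.prod_add, Multiset.prod_replicate, Multiset.prod_replicate]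

theorem le_of_pows_dvd {P Q : F[X]} (hP : P.Monic) (hPi : Irreducible P) (hQ : Q.Monic) (hQi : Irreducible Q)
    (hPQ : P ≠ Q) {a c a' c' : ℕ} (h : P ^ a * Q ^ c ∣ P ^ a' * Q ^ c') : a ≤ a' ∧ c ≤ c' := by
  classical
  have hne : ∀ a c : ℕ, P ^ a * Q ^ c ≠ 0 := fun a c => ((hP.pow a).mul (hQ.pow c)).ne_zero
  have e : ∀ a c : ℕ, normalizedFactors (P ^ a * Q ^ c) = Multiset.replicate a P + Multiset.replicate c Q := fun a c => by
    rw [← Multiset.prod_replicate, ← Multiset.prod_replicate, ← Multiset.prod_add, nf_prod]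
    intro R hR
    rcases Multiset.mem_add.1 hR with h | h <;> rw [Multiset.eq_of_mem_replicate h]
    exacts [⟨hP, hPi⟩, ⟨hQ, hQi⟩]
  have hle := (dvd_iff_normalizedFactors_le_normalizedFactors (hne a c) (hne a' c')).1 h
  rw [e, e] at hle
  have h1 := Multiset.count_le_of_le P hle
  have h2 := Multiset.count_le_of_le Q hle
  rw [Multiset.count_add, Multiset.count_add, Multiset.count_replicate, Multiset.count_replicate,
    Multiset.count_replicate, Multiset.count_replicate] at h1 h2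
  simp [hPQ, Ne.symm hPQ] at h1 h2
  exact ⟨h1, h2⟩

theorem linear_mi (a : F) : (X - C a : F[X]).Monic ∧ Irreducible (X - C a : F[X]) :=
  ⟨monic_X_sub_C a, irreducible_X_sub_C a⟩

theorem deg_lin_pows (a b : F) (i j : ℕ) : ((X - C a) ^ i * (X - C b) ^ j : F[X]).natDegree = i + j := by
  rw [((monic_X_sub_C a).pow i).natDegree_mul ((monic_X_sub_C b).pow j), natDegree_pow, natDegree_pow,
    natDegree_X_sub_C, natDegree_X_sub_C, mul_one, mul_one]

theorem c0_lin_pows (a b : F) {i j n : ℕ} (hn : i + j = n) :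
    (-1 : F) ^ n * ((X - C a) ^ i * (X - C b) ^ j : F[X]).coeff 0 = a ^ i * b ^ j := by
  subst hn
  rw [coeff_zero_eq_eval_zero, eval_mul, eval_pow, eval_pow, eval_sub, eval_sub, eval_X, eval_C, eval_C, zero_sub,
    zero_sub, pow_add, mul_mul_mul_comm, ← mul_pow, ← mul_pow, neg_one_mul, neg_one_mul, neg_neg, neg_neg]

variable {p : ℕ} [hp : Fact p.Prime] [CharP F p] {q : ℕ} (K : Unitary.Conj F q) {n m : ℕ}

local notation "τ" => tw (K.bar.toRingHom)

theorem neg_ne (h2 : (2 : F) ≠ 0) {w : F} (hw : w ≠ 0) : (X - C w : F[X]) ≠ X - C (-w) := fun h => by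
  have h1 : w = -w := C_injective (sub_right_inj.1 h)
  exact mul_ne_zero h2 hw (by linear_combination h1)

include K hp in
theorem two_shape (hp2 : 2 ≠ p) (hn : 0 < n) {x : GL (Fin n) F} (hx : x ∈ GU n F q)
    (hdet : (x : Matrix (Fin n) (Fin n) F).det = 1) {z : F} (hz : (x : Matrix (Fin n) (Fin n) F) ^ 2 = z • 1) :
    ∃ (w : F) (a c : ℕ), w ≠ 0 ∧ (w * K.bar w = 1 ∨ w * K.bar w = -1) ∧ a + c = n ∧ w ^ a * (-w) ^ c = 1 ∧
      (x : Matrix (Fin n) (Fin n) F).charpoly = (X - C w) ^ a * (X - C (-w)) ^ c ∧ (orderOf x).Coprime p := by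
  classical
  have hzn := norm_of_pow K hn hx hz
  have hz0 : z ≠ 0 := UPair.bar_mul_self_ne K hzn
  have h2 : (2 : F) ≠ 0 := fun h => hp2 ((Nat.prime_dvd_prime_iff_eq hp.out Nat.prime_two).1
    ((CharP.cast_eq_zero_iff F p 2).1 (by exact_mod_cast h))).symm
  have hqo : Odd q := by
    obtain ⟨k, -, hk⟩ := FiniteField.card F p
    rw [card_eq K] at hk
    exact Nat.not_even_iff_odd.1 fun he => hp2 ((Nat.prime_dvd_prime_iff_eq Nat.prime_two hp.out).1
      (Nat.prime_two.dvd_of_dvd_pow (hk ▸ (even_iff_two_dvd.1 he).trans (dvd_pow_self q two_ne_zero))))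
  obtain ⟨w, hw⟩ : IsSquare z := by
    have hF : ringChar F ≠ 2 := fun h => h2 (by
      have := (ringChar.spec F 2).2 (by rw [h])
      exact_mod_cast this)
    rw [FiniteField.isSquare_iff hF hz0]
    obtain ⟨t, rfl⟩ := hqo
    rw [card_eq K, show ((2 * t + 1) ^ 2) / 2 = (2 * t + 1 + 1) * t by
      have : (2 * t + 1) ^ 2 = 1 + 2 * ((2 * t + 1 + 1) * t) := by ring
      omega, pow_mul, pow_card_norm K hzn, one_pow]
  have hw0 : w ≠ 0 := fun h => hz0 (by rw [hw, h, mul_zero])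
  have hPQ := neg_ne h2 hw0
  obtain ⟨a, c, hf⟩ := eq_mul_pows (Matrix.charpoly_monic (x : Matrix (Fin n) (Fin n) F)) hPQ fun R hR hRm hd => by
    have h1 := factor_dvd hz hR hd
    rw [show (X ^ 2 - C z : F[X]) = (X - C w) * (X - C (-w)) by rw [hw, map_mul, map_neg]; ring] at h1
    rcases hR.prime.dvd_or_dvd h1 with h | h
    · exact Or.inl (eq_of_monic_of_associated hRm (linear_mi w).1 (hR.associated_of_dvd (linear_mi w).2 h))
    · exact Or.inr (eq_of_monic_of_associated hRm (linear_mi (-w)).1 (hR.associated_of_dvd (linear_mi (-w)).2 h))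
  have hac : a + c = n := by
    rw [← deg_lin_pows w (-w) a c, ← hf, Matrix.charpoly_natDegree_eq_dim, Fintype.card_fin]
  refine ⟨w, a, c, hw0, mul_self_eq_one_iff.1 ?_, hac, ?_, hf, coprime_of_pow Nat.prime_two hp2 hn hz⟩
  · rw [← hzn, hw, map_mul]; ring
  · rw [← c0_lin_pows w (-w) hac, ← hf]
    rw [Matrix.det_eq_sign_charpoly_coeff, Fintype.card_fin] at hdet
    exact hdet

include K in
theorem tw_pm {w : F} (hw : w ≠ 0) {e : F} (he : e = 1 ∨ e = -1) (h : w * K.bar w = e) :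
    τ (X - C w : F[X]) = X - C (e * w) ∧ τ (X - C (-w) : F[X]) = X - C (e * -w) := by
  have hb : (K.bar.toRingHom w)⁻¹ = e * w := by
    refine inv_eq_of_mul_eq_one_left ?_
    show e * w * K.bar w = 1
    rw [mul_assoc, h]
    rcases he with rfl | rfl <;> simp
  refine ⟨by rw [tw_linear _ hw, hb], ?_⟩
  rw [tw_linear _ (neg_ne_zero.2 hw), map_neg, inv_neg, hb, mul_neg]

include K hp in
/-- Invariant non-degenerate subspaces for scalar squares. -/
theorem two_nd (hp2 : 2 ≠ p) (hn : 0 < n) (hmn : m ≤ n) {x : GL (Fin n) F} (hx : x ∈ GU n F q)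
    (hdet : (x : Matrix (Fin n) (Fin n) F).det = 1) {z : F} (hz : (x : Matrix (Fin n) (Fin n) F) ^ 2 = z • 1)
    (hc : Odd n ∨ Even m ∨ (padicValNat 2 n ≤ padicValNat 2 (q + 1) ∧ q % 4 = 3)) :
    Nd q m (x : Matrix (Fin n) (Fin n) F) := by
  obtain ⟨w, a, c, hw, hN, hac, hdetw, hf, hxo⟩ := two_shape K hp2 hn hx hdet hz
  refine (nd_iff (p := p) K hmn hx hxo).2 ?_
  rcases hN with hN | hN
  · obtain ⟨h1, h2⟩ := tw_pm K hw (Or.inl rfl) hN
    rw [one_mul] at h1 h2
    refine ⟨(X - C w) ^ (min m a) * (X - C (-w)) ^ (m - min m a),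
      (X - C w) ^ (a - min m a) * (X - C (-w)) ^ (c - (m - min m a)), ((linear_mi w).1.pow _).mul ((linear_mi _).1.pow _),
      ((linear_mi w).1.pow _).mul ((linear_mi _).1.pow _), by rw [tw_mul, tw_pow, tw_pow, h1, h2],
      by rw [tw_mul, tw_pow, tw_pow, h1, h2], by rw [deg_lin_pows]; omega, ?_⟩
    rw [hf, mul_mul_mul_comm, ← pow_add, ← pow_add]
    congr 2 <;> omega
  · obtain ⟨h1, h2⟩ := tw_pm K hw (Or.inr rfl) hN
    rw [neg_one_mul] at h1 h2
    rw [neg_neg] at h2
    have h2' : (2 : F) ≠ 0 := fun h => hp2 ((Nat.prime_dvd_prime_iff_eq hp.out Nat.prime_two).1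
      ((CharP.cast_eq_zero_iff F p 2).1 (by exact_mod_cast h))).symm
    have hPQ := neg_ne h2' hw
    have hca : a = c := by
      have h := tw_charpoly K hx
      rw [hf, tw_mul, tw_pow, tw_pow, h1, h2, mul_comm] at h
      have h3 := le_of_pows_dvd (linear_mi w).1 (linear_mi w).2 (linear_mi (-w)).1 (linear_mi (-w)).2 hPQ h.dvd
      omega
    subst hca
    obtain ⟨k, rfl⟩ : Even m := by
      rcases hc with h | h | ⟨hv, hq4⟩
      · obtain ⟨j, hj⟩ := h; omega
      · exact h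
      · exfalso
        haveI : Fact (Nat.Prime 2) := ⟨Nat.prime_two⟩
        obtain ⟨t, ht⟩ : ∃ t, q + 1 = 4 * t := ⟨(q + 1) / 4, by omega⟩
        have hy1 : (-(w * w)) ^ a = 1 := by rw [← hdetw, ← mul_pow, mul_neg]
        have hy2 : (-(w * w)) ^ (2 * t) = -1 := by
          rw [pow_mul, neg_sq, ← pow_mul, ← sq, ← pow_mul, show 2 * (2 * t) = q + 1 by omega, pow_succ',
            ← K.bar_apply, hN]
        have hne : (-1 : F) ≠ 1 := fun h => h2' (by linear_combination -h)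
        have hlt := two_val_lt hne hy1 hy2 (by omega) (by omega)
        rw [show n = 2 * a by omega, show q + 1 = 2 * (2 * t) by omega, padicValNat.mul two_ne_zero (by omega),
          padicValNat.mul two_ne_zero (by omega : 2 * t ≠ 0)] at hv
        omega
    refine ⟨(X - C w) ^ k * (X - C (-w)) ^ k, (X - C w) ^ (a - k) * (X - C (-w)) ^ (a - k),
      ((linear_mi w).1.pow _).mul ((linear_mi _).1.pow _), ((linear_mi w).1.pow _).mul ((linear_mi _).1.pow _),
      by rw [tw_mul, tw_pow, tw_pow, h1, h2, mul_comm], by rw [tw_mul, tw_pow, tw_pow, h1, h2, mul_comm],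
      by rw [deg_lin_pows], ?_⟩
    rw [hf, mul_mul_mul_comm, ← pow_add, ← pow_add]
    congr 2 <;> omega

include K hp in
/-- Invariant totally isotropic subspaces for scalar squares. -/
theorem two_tis (hp2 : 2 ≠ p) (hm : 0 < m) (hmn : 2 * m ≤ n) {x : GL (Fin n) F} (hx : x ∈ GU n F q)
    (hdet : (x : Matrix (Fin n) (Fin n) F).det = 1) {z : F} (hz : (x : Matrix (Fin n) (Fin n) F) ^ 2 = z • 1)
    (hc : 2 * m < n ∨ padicValNat 2 (q + 1) ≤ padicValNat 2 n) :
    Tis q m (x : Matrix (Fin n) (Fin n) F) := by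
  obtain ⟨w, a, c, hw, hN, hac, hdetw, hf, hxo⟩ := two_shape K hp2 (by omega) hx hdet hz
  refine (tis_iff (p := p) K hm hmn hx hxo).2 ?_
  have h2' : (2 : F) ≠ 0 := fun h => hp2 ((Nat.prime_dvd_prime_iff_eq hp.out Nat.prime_two).1
      ((CharP.cast_eq_zero_iff F p 2).1 (by exact_mod_cast h))).symm
  rcases hN with hN | hN
  · obtain ⟨h1, h2⟩ := tw_pm K hw (Or.inl rfl) hN
    rw [one_mul] at h1 h2
    obtain ⟨a', c', hs, ha', hc'⟩ : ∃ a' c', a' + c' = m ∧ 2 * a' ≤ a ∧ 2 * c' ≤ c := by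
      refine ⟨min m (a / 2), m - min m (a / 2), by omega, by omega, ?_⟩
      rcases hc with hlt | hv
      · omega
      by_contra hbad
      have hbad' : Odd a ∧ Even n := by
        constructor
        · rw [Nat.odd_iff]; omega
        · rw [Nat.even_iff]; omega
      obtain ⟨⟨e, he⟩, ⟨f', hf'⟩⟩ := hbad'
      haveI : Fact (Nat.Prime 2) := ⟨Nat.prime_two⟩
      have hwn : w ^ n = -1 := by
        have hco : Odd c := by rw [Nat.odd_iff]; omega
        rw [hco.neg_pow, mul_neg, ← pow_add, hac] at hdetw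
        linear_combination -hdetw
      have hwq := pow_card_norm K hN
      have := two_val_lt (fun h => h2' (by linear_combination -h)) hwq hwn (by omega) (by omega)
      omega
    refine ⟨(X - C w) ^ a' * (X - C (-w)) ^ c', (X - C w) ^ (a - 2 * a') * (X - C (-w)) ^ (c - 2 * c'),
      ((linear_mi w).1.pow _).mul ((linear_mi _).1.pow _), by rw [deg_lin_pows]; exact hs, ?_⟩
    rw [hf, tw_mul, tw_pow, tw_pow, h1, h2, mul_mul_mul_comm _ _ ((X - C w) ^ a') _, ← pow_add, ← pow_add,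
      mul_mul_mul_comm, ← pow_add, ← pow_add]
    congr 2 <;> omega
  · obtain ⟨h1, h2⟩ := tw_pm K hw (Or.inr rfl) hN
    rw [neg_one_mul] at h1 h2
    rw [neg_neg] at h2
    have hPQ := neg_ne h2' hw
    have hca : a = c := by
      have h := tw_charpoly K hx
      rw [hf, tw_mul, tw_pow, tw_pow, h1, h2, mul_comm] at h
      have h3 := le_of_pows_dvd (linear_mi w).1 (linear_mi w).2 (linear_mi (-w)).1 (linear_mi (-w)).2 hPQ h.dvd
      omega
    subst hca
    refine ⟨(X - C w) ^ m, (X - C w) ^ (a - m) * (X - C (-w)) ^ (a - m), (linear_mi w).1.pow _, by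
      rw [natDegree_pow, natDegree_X_sub_C, mul_one], ?_⟩
    rw [hf, tw_pow, h1, mul_mul_mul_comm, ← pow_add, ← pow_add]
    congr 2 <;> omega

include K hp in
/-- A special unitary matrix without invariant non-degenerate `m`-space. -/
theorem two_nd_witness (hp2 : 2 ≠ p) (hqo : Odd q) {k : ℕ} (hk : 0 < k) (hm : Odd m) (hmn : m ≤ k + k)
    (hh : q % 4 = 1 ∨ padicValNat 2 (q + 1) ≤ padicValNat 2 k) :
    ∃ (x : Matrix.SpecialLinearGroup (Fin (k + k)) F) (z : F), x ∈ SU (k + k) F q ∧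
      (x : Matrix (Fin (k + k)) (Fin (k + k)) F) ^ 2 = z • 1 ∧
      (∀ c : F, (x : Matrix (Fin (k + k)) (Fin (k + k)) F) ≠ c • 1) ∧
      ¬ Nd q m (x : Matrix (Fin (k + k)) (Fin (k + k)) F) := by
  have h2' : (2 : F) ≠ 0 := fun h => hp2 ((Nat.prime_dvd_prime_iff_eq hp.out Nat.prime_two).1
      ((CharP.cast_eq_zero_iff F p 2).1 (by exact_mod_cast h))).symm
  obtain ⟨w, hN, hy⟩ := exists_anti K hqo k hh
  have hw : w ≠ 0 := fun h => by rw [h, zero_mul] at hN; exact one_ne_zero (neg_eq_zero.1 hN.symm)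
  obtain ⟨h1, h2⟩ := tw_pm K hw (Or.inr rfl) hN
  rw [neg_one_mul] at h1 h2
  rw [neg_neg] at h2
  have hPQ := neg_ne h2' hw
  set f : F[X] := (X - C w) ^ k * (X - C (-w)) ^ k
  obtain ⟨x, hx, hxz, hxc⟩ := exists_su (p := p) K Nat.prime_two hp2 (z := w * w) (mul_ne_zero hw hw) f
    (((linear_mi w).1.pow _).mul ((linear_mi _).1.pow _)) (deg_lin_pows _ _ _ _)
    (by rw [tw_mul, tw_pow, tw_pow, h1, h2, mul_comm])
    (by rw [c0_lin_pows _ _ rfl, ← mul_pow, mul_neg]; exact hy)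
    (fun P hP hd => by
      rw [show (X ^ 2 - C (w * w) : F[X]) = (X - C w) * (X - C (-w)) by rw [map_mul, map_neg]; ring]
      rcases hP.prime.dvd_or_dvd hd with h | h
      · exact (hP.prime.dvd_of_dvd_pow h).mul_right _
      · exact (hP.prime.dvd_of_dvd_pow h).mul_left _)
  refine ⟨x, w * w, hx, hxz, fun c hc => ?_, fun hnd => ?_⟩
  · have h : (X - C w) ^ k * (X - C (-w)) ^ k = (X - C c) ^ (k + k) := by
      rw [show (X - C w) ^ k * (X - C (-w)) ^ k = f from rfl, ← hxc, hc, scalar_charpoly]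
    have e1 := congrArg (Polynomial.eval w) h
    have e2 := congrArg (Polynomial.eval (-w)) h
    simp [zero_pow hk.ne'] at e1 e2
    have f1 := pow_eq_zero_iff (show (k + k) ≠ 0 by omega) |>.1 e1.symm
    have f2 := pow_eq_zero_iff (show (k + k) ≠ 0 by omega) |>.1 e2.symm
    exact mul_ne_zero h2' hw (by linear_combination f1 - f2)
  · obtain ⟨fA, fB, hA, -, hAt, -, hAd, hfac⟩ := (nd_iff (p := p) K hmn (toGL_mem hx)
      (coprime_of_pow Nat.prime_two hp2 (by omega) (z := w * w) hxz)).1 hnd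
    change (x : Matrix (Fin (k + k)) (Fin (k + k)) F).charpoly = fA * fB at hfac
    rw [hxc] at hfac
    obtain ⟨a, c, rfl⟩ := eq_mul_pows hA hPQ fun R hR hRm hd => by
      have h := hd.trans (dvd_mul_right fA fB)
      rw [← hfac] at h
      rcases hR.prime.dvd_or_dvd h with h | h
      · exact Or.inl (eq_of_monic_of_associated hRm (linear_mi w).1 (hR.associated_of_dvd (linear_mi w).2 (hR.prime.dvd_of_dvd_pow h)))
      · exact Or.inr (eq_of_monic_of_associated hRm (linear_mi (-w)).1 (hR.associated_of_dvd (linear_mi (-w)).2 (hR.prime.dvd_of_dvd_pow h)))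
    rw [tw_mul, tw_pow, tw_pow, h1, h2, mul_comm] at hAt
    have h3 := le_of_pows_dvd (linear_mi w).1 (linear_mi w).2 (linear_mi (-w)).1 (linear_mi (-w)).2 hPQ hAt.dvd
    rw [deg_lin_pows] at hAd
    obtain ⟨j, hj⟩ := hm
    omega

include K hp in
/-- A special unitary matrix without invariant totally isotropic `n / 2`-space. -/
theorem two_tis_witness (hp2 : 2 ≠ p) (hm : 0 < m) {μ : F} (hμ : μ * K.bar μ = 1) (hμn : μ ^ (2 * m) = -1) :
    ∃ (x : Matrix.SpecialLinearGroup (Fin (2 * m)) F) (z : F), x ∈ SU (2 * m) F q ∧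
      (x : Matrix (Fin (2 * m)) (Fin (2 * m)) F) ^ 2 = z • 1 ∧
      (∀ c : F, (x : Matrix (Fin (2 * m)) (Fin (2 * m)) F) ≠ c • 1) ∧
      ¬ Tis q m (x : Matrix (Fin (2 * m)) (Fin (2 * m)) F) := by
  have h2' : (2 : F) ≠ 0 := fun h => hp2 ((Nat.prime_dvd_prime_iff_eq hp.out Nat.prime_two).1
      ((CharP.cast_eq_zero_iff F p 2).1 (by exact_mod_cast h))).symm
  have hw : μ ≠ 0 := UPair.bar_mul_self_ne K hμ
  obtain ⟨h1, h2⟩ := tw_pm K hw (Or.inl rfl) hμ
  rw [one_mul] at h1 h2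
  have hPQ := neg_ne h2' hw
  obtain ⟨k, hk⟩ : ∃ k, 2 * m = k + 1 := ⟨2 * m - 1, by omega⟩
  set f : F[X] := (X - C μ) ^ k * (X - C (-μ)) ^ 1
  obtain ⟨x, hx, hxz, hxc⟩ := exists_su (p := p) K Nat.prime_two hp2 (z := μ * μ) (n := 2 * m) (mul_ne_zero hw hw) f
    (((linear_mi μ).1.pow _).mul ((linear_mi _).1.pow _)) ((deg_lin_pows _ _ _ _).trans hk.symm)
    (by rw [tw_mul, tw_pow, tw_pow, h1, h2])
    (by rw [c0_lin_pows _ _ hk.symm, pow_one, mul_neg, ← pow_succ, ← hk, hμn, neg_neg])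
    (fun P hP hd => by
      rw [show (X ^ 2 - C (μ * μ) : F[X]) = (X - C μ) * (X - C (-μ)) by rw [map_mul, map_neg]; ring]
      rcases hP.prime.dvd_or_dvd hd with h | h
      · exact (hP.prime.dvd_of_dvd_pow h).mul_right _
      · exact (hP.prime.dvd_of_dvd_pow h).mul_left _)
  refine ⟨x, μ * μ, hx, hxz, fun c hc => ?_, fun htis => ?_⟩
  · have h : (X - C μ) ^ k * (X - C (-μ)) ^ 1 = (X - C c) ^ (2 * m) := by
      rw [show (X - C μ) ^ k * (X - C (-μ)) ^ 1 = f from rfl, ← hxc, hc, scalar_charpoly]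
    have e1 := congrArg (Polynomial.eval μ) h
    have e2 := congrArg (Polynomial.eval (-μ)) h
    simp [zero_pow (show k ≠ 0 by omega)] at e1 e2
    have f1 := pow_eq_zero_iff (show (2 * m) ≠ 0 by omega) |>.1 e1.symm
    have f2 := pow_eq_zero_iff (show (2 * m) ≠ 0 by omega) |>.1 e2.symm
    exact mul_ne_zero h2' hw (by linear_combination f1 - f2)
  · obtain ⟨h', g, hh, hhd, hfac⟩ := (tis_iff (p := p) K hm le_rfl (toGL_mem hx)
      (coprime_of_pow Nat.prime_two hp2 (by omega) (z := μ * μ) hxz)).1 htis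
    change (x : Matrix (Fin (2 * m)) (Fin (2 * m)) F).charpoly = h' * τ h' * g at hfac
    rw [hxc] at hfac
    obtain ⟨a, c, rfl⟩ := eq_mul_pows hh hPQ fun R hR hRm hd => by
      have h := (hd.trans (dvd_mul_right h' (τ h'))).trans (dvd_mul_right _ g)
      rw [← hfac] at h
      rcases hR.prime.dvd_or_dvd h with h | h
      · exact Or.inl (eq_of_monic_of_associated hRm (linear_mi μ).1 (hR.associated_of_dvd (linear_mi μ).2 (hR.prime.dvd_of_dvd_pow h)))
      · exact Or.inr (eq_of_monic_of_associated hRm (linear_mi (-μ)).1 (hR.associated_of_dvd (linear_mi (-μ)).2 (hR.prime.dvd_of_dvd_pow h)))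
    rw [tw_mul, tw_pow, tw_pow, h1, h2, mul_mul_mul_comm, ← pow_add, ← pow_add] at hfac
    have h3 := le_of_pows_dvd (linear_mi μ).1 (linear_mi μ).2 (linear_mi (-μ)).1 (linear_mi (-μ)).2 hPQ
      (Dvd.intro g hfac.symm)
    rw [deg_lin_pows] at hhd
    omega

end CfsgLib.Derange.UEl
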