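import Cfsg.Agent.Lib.Derange.UnitPoly
import Cfsg.Agent.Lib.Derange.UnitNorm
import Cfsg.Agent.Lib.Derange.UnitTwo
import Cfsg.Agent.Lib.Derange.Twist
import Cfsg.Agent.Lib.Derange.Shape

/-!
Special unitary matrices of odd prime order modulo scalars: normalisation and the special witnesses.
-/

set_option autoImplicit false
set_option linter.unusedSectionVars false
set_option linter.style.haveILetI false
set_option maxHeartbeats 1000000

namespace CfsgLib.Derange.UEl

open Matrix Polynomial UniqueFactorizationMonoid Cfsg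
open CfsgLib.Classical.UnitaryTwistPoly CfsgLib.Classical.TwistPairCount
open CfsgLib.ClassicalAut (Unitary.Conj)

variable {F : Type*} [Field F] [Fintype F] {p : ℕ} [hp : Fact p.Prime] [CharP F p] {q : ℕ}
  (K : Unitary.Conj F q) {n m r : ℕ}

local notation "τ" => tw (K.bar.toRingHom)

include K hp in
/-- Either a root of the scalar has norm one, or the scalar is no power. -/
theorem root_or_twist (hr : r.Prime) (hr2 : r ≠ 2) (hrp : r ≠ p) (hn : 0 < n) {x : GL (Fin n) F} (hx : x ∈ GU n F q)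
    (hdet : (x : Matrix (Fin n) (Fin n) F).det = 1) (hns : ∀ c : F, (x : Matrix (Fin n) (Fin n) F) ≠ c • 1) {z : F}
    (hz : (x : Matrix (Fin n) (Fin n) F) ^ r = z • 1) :
    (∃ (y : GL (Fin n) F) (w : F), y ∈ GU n F q ∧ (y : Matrix (Fin n) (Fin n) F) ^ r = 1 ∧
      (y : Matrix (Fin n) (Fin n) F) ≠ 1 ∧ (orderOf y).Coprime p ∧
      (x : Matrix (Fin n) (Fin n) F) = w • (y : Matrix (Fin n) (Fin n) F)) ∨
    (r ∣ q + 1 ∧ (∀ b : F, b ^ r ≠ z) ∧ padicValNat r (q + 1) < padicValNat r n ∧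
      ∃ s, n = r * s ∧ (x : Matrix (Fin n) (Fin n) F).charpoly = (X ^ r - C z) ^ s) := by
  have hzn := norm_of_pow K hn hx hz
  by_cases h : ∃ w : F, w * K.bar w = 1 ∧ w ^ r = z
  · obtain ⟨w, hw, hwr⟩ := h
    have hw0 := UPair.bar_mul_self_ne K hw
    have hwi : w⁻¹ * K.bar w⁻¹ = 1 := by rw [map_inv₀, ← mul_inv, hw, inv_one]
    obtain ⟨y, hy, hyx⟩ := exists_scaled K hx hwi
    have hyr : (y : Matrix (Fin n) (Fin n) F) ^ r = 1 := by
      rw [hyx, _root_.smul_pow, hz, smul_smul, inv_pow, hwr, inv_mul_cancel₀ (UPair.bar_mul_self_ne K hzn), one_smul]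
    have hxy : (x : Matrix (Fin n) (Fin n) F) = w • (y : Matrix (Fin n) (Fin n) F) := by
      rw [hyx, smul_smul, mul_inv_cancel₀ hw0, one_smul]
    exact Or.inl ⟨y, w, hy, hyr, fun h => hns w (by rw [hxy, h]), coprime_of_pow hr hrp hn (z := (1 : F))
      (by rw [hyr, one_smul]), hxy⟩
  push Not at h
  have hrq : r ∣ q + 1 := by
    by_contra hco
    obtain ⟨w, hw, hwr⟩ := exists_norm_root K hr hco hzn
    exact h w hw hwr
  have hco : ¬ r ∣ q - 1 := fun hd => hr2 ((Nat.prime_dvd_prime_iff_eq hr Nat.prime_two).1 (by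
    have := Nat.dvd_sub hrq hd
    rwa [show q + 1 - (q - 1) = 2 by have := K.two_le; omega] at this))
  have hnb : ∀ b : F, b ^ r ≠ z := fun b hb => h b (norm_root K hr hco hzn hb) hb
  obtain ⟨s, hs, hns'⟩ := charpoly_of_not_power hr (Matrix.toLin' (x : Matrix (Fin n) (Fin n) F)) (c := z)
    (by rw [← Matrix.toLin'_pow, hz, map_smul, Matrix.toLin'_one]; rfl) hnb
  rw [Matrix.charpoly_toLin'] at hs
  rw [Module.finrank_fin_fun] at hns'
  refine Or.inr ⟨hrq, hnb, ?_, s, hns', hs⟩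
  have hs0 : s ≠ 0 := by rintro rfl; omega
  have hzs : z ^ s = 1 := by
    rw [← hdet, Matrix.det_eq_sign_charpoly_coeff, Fintype.card_fin, hs, coeff_zero_eq_eval_zero, eval_pow, eval_sub,
      eval_pow, eval_X, eval_C, zero_pow hr.ne_zero, zero_sub, hns', pow_mul, (hr.odd_of_ne_two hr2).neg_one_pow,
      ← mul_pow, neg_one_mul, neg_neg]
  haveI := Fact.mk hr
  have := le_of_nonroot K hr hzn (fun w _ => hnb w) hzs hs0
  rw [hns', padicValNat.mul hr.ne_zero hs0, padicValNat.self hr.one_lt]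
  omega

include K hp in
/-- With a scalar that is no power the dimensions are the multiples of `r`. -/
theorem twist_fix (hr : r.Prime) (hrp : r ≠ p) (hn : 0 < n) (hrm : r ∣ m) {x : GL (Fin n) F} (hx : x ∈ GU n F q) {z : F}
    (hz : (x : Matrix (Fin n) (Fin n) F) ^ r = z • 1) {s : ℕ} (hns : n = r * s)
    (hf : (x : Matrix (Fin n) (Fin n) F).charpoly = (X ^ r - C z) ^ s) :
    (m ≤ n → Nd q m (x : Matrix (Fin n) (Fin n) F)) ∧
      (0 < m → 2 * m ≤ n → Tis q m (x : Matrix (Fin n) (Fin n) F)) := by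
  obtain ⟨a, rfl⟩ := hrm
  have hzn := norm_of_pow K hn hx hz
  have hxo := coprime_of_pow hr hrp hn hz
  have ht : τ (X ^ r - C z : F[X]) = X ^ r - C z := by
    rw [tw_binom _ hr.pos (UPair.bar_mul_self_ne K hzn)]
    congr 2
    exact inv_eq_of_mul_eq_one_left hzn
  have hm' := monic_X_pow_sub_C z hr.ne_zero
  refine ⟨fun hmn => ?_, fun hm hmn => ?_⟩
  · have has : a ≤ s := Nat.le_of_mul_le_mul_left (hns ▸ hmn) hr.pos
    exact (nd_iff (p := p) K hmn hx hxo).2 ⟨_, _, hm'.pow a, hm'.pow (s - a), by rw [tw_pow, ht], by rw [tw_pow, ht],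
      by rw [natDegree_pow, natDegree_X_pow_sub_C, mul_comm], by rw [hf, ← pow_add, Nat.add_sub_cancel' has]⟩
  · have has : 2 * a ≤ s := Nat.le_of_mul_le_mul_left (by rw [← hns, mul_left_comm]; exact hmn) hr.pos
    exact (tis_iff (p := p) K hm hmn hx hxo).2 ⟨_, (X ^ r - C z) ^ (s - 2 * a), hm'.pow a,
      by rw [natDegree_pow, natDegree_X_pow_sub_C, mul_comm],
      by rw [hf, tw_pow, ht, ← pow_add, ← pow_add, ← two_mul, Nat.add_sub_cancel' has]⟩

include K hp in
/-- An element all of whose invariant dimensions are multiples of `r`. -/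
theorem twist_witness (hr : r.Prime) (hr2 : r ≠ 2) (hrp : r ≠ p) (hrq : r ∣ q + 1) (hn : 0 < n)
    (hrm : ¬ r ∣ m) (hm : 0 < m) (hv : padicValNat r (q + 1) < padicValNat r n) :
    ∃ (x : Matrix.SpecialLinearGroup (Fin n) F) (z : F), x ∈ SU n F q ∧
      (x : Matrix (Fin n) (Fin n) F) ^ r = z • 1 ∧ (∀ c : F, (x : Matrix (Fin n) (Fin n) F) ≠ c • 1) ∧
      (m ≤ n → ¬ Nd q m (x : Matrix (Fin n) (Fin n) F)) ∧
      (2 * m ≤ n → ¬ Tis q m (x : Matrix (Fin n) (Fin n) F)) := by
  classical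
  haveI := Fact.mk hr
  have hco : ¬ r ∣ q - 1 := fun hd => hr2 ((Nat.prime_dvd_prime_iff_eq hr Nat.prime_two).1 (by
    have := Nat.dvd_sub hrq hd
    rwa [show q + 1 - (q - 1) = 2 by have := K.two_le; omega] at this))
  obtain ⟨s, rfl⟩ : r ∣ n := dvd_of_one_le_padicValNat (by omega)
  have hs0 : s ≠ 0 := by rintro rfl; simp at hn
  rw [padicValNat.mul hr.ne_zero hs0, padicValNat.self hr.one_lt] at hv
  obtain ⟨z, hzn, hzs, hnb⟩ := exists_nonroot K hr hrq hco (s := s) (by omega)
  have hz0 := UPair.bar_mul_self_ne K hzn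
  have hPi := X_pow_sub_C_irreducible_of_prime hr hnb
  have hPm := monic_X_pow_sub_C z hr.ne_zero
  have ht : τ (X ^ r - C z : F[X]) = X ^ r - C z := by
    rw [tw_binom _ hr.pos hz0]
    congr 2
    exact inv_eq_of_mul_eq_one_left hzn
  obtain ⟨x, hx, hxz, hxc⟩ := exists_su (p := p) K hr hrp (n := r * s) hz0 ((X ^ r - C z) ^ s) (hPm.pow s)
    (by rw [natDegree_pow, natDegree_X_pow_sub_C, mul_comm]) (by rw [tw_pow, ht])
    (by rw [coeff_zero_eq_eval_zero, eval_pow, eval_sub, eval_pow, eval_X, eval_C, zero_pow hr.ne_zero, zero_sub,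
      pow_mul, (hr.odd_of_ne_two hr2).neg_one_pow, ← mul_pow, neg_one_mul, neg_neg, hzs])
    (fun P hP hd => hP.prime.dvd_of_dvd_pow hd)
  have hxo : (orderOf (Matrix.SpecialLinearGroup.toGL x)).Coprime p := coprime_of_pow hr hrp hn hxz
  have key : ∀ h : F[X], h.Monic → h.natDegree = m → h ∣ (X ^ r - C z) ^ s → False := fun h hh hd hdvd => by
    obtain ⟨j, -, hj⟩ := (dvd_prime_pow hPi.prime s).1 hdvd
    rw [eq_of_monic_of_associated hh (hPm.pow j) hj, natDegree_pow, natDegree_X_pow_sub_C] at hd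
    exact hrm ⟨j, by rw [← hd, mul_comm]⟩
  refine ⟨x, z, hx, hxz, fun c hc => ?_, fun hmn h => ?_, fun hmn h => ?_⟩
  · rw [hc, _root_.smul_pow, one_pow] at hxz
    exact hnb c (by simpa using congrFun (congrFun hxz ⟨0, hn⟩) ⟨0, hn⟩)
  · obtain ⟨fA, fB, hA, -, -, -, hAd, hfac⟩ := (nd_iff (p := p) K hmn (toGL_mem hx) hxo).1 h
    change (x : Matrix (Fin (r * s)) (Fin (r * s)) F).charpoly = fA * fB at hfac
    exact key fA hA hAd (hxc ▸ hfac ▸ dvd_mul_right _ _)
  · obtain ⟨h', g, hh, hhd, hfac⟩ := (tis_iff (p := p) K hm hmn (toGL_mem hx) hxo).1 h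
    change (x : Matrix (Fin (r * s)) (Fin (r * s)) F).charpoly = h' * τ h' * g at hfac
    exact key h' hh hhd (hxc ▸ hfac ▸ (dvd_mul_right h' _).trans (dvd_mul_right _ g))

omit [Fintype F] in
theorem sign_roots (A : Multiset F) :
    (-1 : F) ^ Multiset.card A * ((A.map fun a => X - C a).prod).coeff 0 = A.prod := by
  induction A using Multiset.induction with
  | empty => simp
  | cons a A ih =>
    rw [Multiset.map_cons, Multiset.prod_cons, Multiset.card_cons, mul_coeff_zero, Multiset.prod_cons, ← ih, pow_succ]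
    simp
    ring

include K hp in
/-- With `r` dividing `q + 1`, too few repetitions among the eigenvalues. -/
theorem exists_few_pairs (hr : r.Prime) (hr2 : r ≠ 2) (hrp : r ≠ p) (hrq : r ∣ q + 1) (hm : 0 < m) (hmn : 2 * m ≤ n)
    (hlt : n + 2 ≤ r + 2 * m) :
    ∃ x : Matrix.SpecialLinearGroup (Fin n) F, x ∈ SU n F q ∧ (x : Matrix (Fin n) (Fin n) F) ^ r = 1 ∧
      (∀ c : F, (x : Matrix (Fin n) (Fin n) F) ≠ c • 1) ∧ ¬ Tis q m (x : Matrix (Fin n) (Fin n) F) := by
  classical
  haveI := Fact.mk hr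
  obtain ⟨g, hg, hgo, -⟩ := exists_norm_gen K
  obtain ⟨e, he⟩ := hrq
  set ζ := g ^ e
  have he0 : e ≠ 0 := fun h => by rw [h, mul_zero] at he; omega
  have hζo : orderOf ζ = r := by
    rw [orderOf_pow' _ he0, hgo, he, Nat.gcd_mul_left_left, Nat.mul_div_cancel _ (Nat.pos_of_ne_zero he0)]
  have hζn : ζ * K.bar ζ = 1 := by rw [map_pow, ← mul_pow, hg, one_pow]
  set J := n - 2 * m + 2 with hJ
  -- the shift
  obtain ⟨d, hd⟩ : ∃ d : ℕ, r ∣ ∑ j ∈ Finset.range J, (d + j) := by
    rcases (show J ≤ r by omega).lt_or_eq with h | h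
    · refine ⟨(-((∑ j ∈ Finset.range J, j : ℕ) : ZMod r) / (J : ZMod r)).val, (ZMod.natCast_eq_zero_iff _ _).1 ?_⟩
      have hJ0 : (J : ZMod r) ≠ 0 := fun h0 => by
        have := Nat.le_of_dvd (by omega) ((ZMod.natCast_eq_zero_iff _ _).1 h0)
        omega
      rw [Finset.sum_add_distrib, Finset.sum_const, Finset.card_range, smul_eq_mul, Nat.cast_add, Nat.cast_mul,
        ZMod.natCast_val, ZMod.cast_id, mul_div_cancel₀ _ hJ0, neg_add_cancel]
    · refine ⟨0, ?_⟩
      simp only [zero_add]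
      rw [h]
      obtain ⟨k, hk⟩ := hr.odd_of_ne_two hr2
      refine ⟨k, Nat.eq_of_mul_eq_mul_left two_pos ?_⟩
      rw [mul_comm 2 (∑ j ∈ _, j), Finset.sum_range_id_mul_two, hk]
      simp
      ring
  set A₀ : Multiset F := (Multiset.range J).map fun j => ζ ^ (d + j)
  set A : Multiset F := A₀ + Multiset.replicate (2 * (m - 1)) 1
  have hA₀ : A₀.Nodup := Multiset.Nodup.map_on (fun i hi j hj h => by
    rw [Multiset.mem_range] at hi hj
    have h0 : ζ ≠ 0 := UPair.bar_mul_self_ne K hζn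
    rw [pow_add, pow_add] at h
    exact pow_injOn_Iio_orderOf (x := ζ) (by rw [Set.mem_Iio, hζo]; omega) (by rw [Set.mem_Iio, hζo]; omega)
      (mul_left_cancel₀ (pow_ne_zero d h0) h)) (Multiset.nodup_range J)
  have hAr : ∀ a ∈ A, a ^ r = 1 ∧ a * K.bar a = 1 := fun a ha => by
    rcases Multiset.mem_add.1 ha with h | h
    · obtain ⟨j, -, rfl⟩ := Multiset.mem_map.1 h
      exact ⟨by rw [← pow_mul, mul_comm, pow_mul, ← hζo, pow_orderOf_eq_one, one_pow],
        by rw [map_pow, ← mul_pow, hζn, one_pow]⟩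
    · rw [Multiset.eq_of_mem_replicate h]; simp
  have hAc : Multiset.card A = n := by
    rw [Multiset.card_add, Multiset.card_map, Multiset.card_range, Multiset.card_replicate]; omega
  have hAp : A.prod = 1 := by
    rw [Multiset.prod_add, Multiset.prod_replicate, one_pow, mul_one,
      show A₀.prod = ∏ j ∈ Finset.range J, ζ ^ (d + j) from rfl, Finset.prod_pow_eq_pow_sum]
    obtain ⟨l, hl⟩ := hd
    rw [hl, pow_mul, ← hζo, pow_orderOf_eq_one, one_pow]
  set f := (A.map fun a => X - C a).prod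
  have hft : τ f = f := by
    rw [tw_prod, Multiset.map_map]
    refine congrArg Multiset.prod (Multiset.map_congr rfl fun a ha => ?_)
    show τ (X - C a : F[X]) = X - C a
    rw [tw_linear _ (UPair.bar_mul_self_ne K (hAr a ha).2)]
    congr 2
    exact inv_eq_of_mul_eq_one_left (hAr a ha).2
  obtain ⟨x, hx, hxr, hxc⟩ := exists_su (p := p) K hr hrp (z := (1 : F)) one_ne_zero f
    (monic_multiset_prod_of_monic _ _ fun a _ => monic_X_sub_C a)
    ((natDegree_multiset_prod_X_sub_C_eq_card A).trans hAc) hft (by rw [← hAc, sign_roots, hAp])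
    (fun P hP hd => by
      obtain ⟨Q, hQ, hdQ⟩ := hP.prime.exists_mem_multiset_dvd hd
      obtain ⟨a, ha, rfl⟩ := Multiset.mem_map.1 hQ
      refine hdQ.trans (dvd_iff_isRoot.2 ?_)
      simp [(hAr a ha).1])
  rw [one_smul] at hxr
  refine ⟨x, hx, hxr, fun c hc => ?_, fun h => ?_⟩
  · have h1 := congrArg Polynomial.roots (hxc.symm.trans (by rw [hc, scalar_charpoly]))
    rw [roots_multiset_prod_X_sub_C, roots_pow, roots_X_sub_C, Multiset.nsmul_singleton] at h1
    have hmem : ∀ j < J, ζ ^ (d + j) = c := fun j hj =>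
      Multiset.eq_of_mem_replicate (n := n) (by
        rw [← h1]
        exact Multiset.mem_add.2 (Or.inl (Multiset.mem_map.2 ⟨j, Multiset.mem_range.2 hj, rfl⟩)))
    have h2 := (hmem 0 (by omega)).trans (hmem 1 (by omega)).symm
    have h0 : ζ ≠ 0 := UPair.bar_mul_self_ne K hζn
    rw [pow_succ, add_zero] at h2
    have h3 : ζ = 1 := (mul_right_eq_self₀.1 h2.symm).resolve_right (pow_ne_zero d h0)
    rw [h3, orderOf_one] at hζo
    exact hr.ne_one hζo.symm
  · obtain ⟨h', g', hh, hhd, hfac⟩ := (tis_iff (p := p) K hm hmn (toGL_mem hx)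
      (coprime_of_pow hr hrp (by omega) (z := (1 : F)) (by rw [one_smul]; exact hxr))).1 h
    change (x : Matrix (Fin n) (Fin n) F).charpoly = h' * τ h' * g' at hfac
    rw [hxc] at hfac
    have hmi : ∀ P ∈ A.map fun a => X - C a, Irreducible P ∧ P.Monic := fun P hP => by
      obtain ⟨a, -, rfl⟩ := Multiset.mem_map.1 hP
      exact ⟨irreducible_X_sub_C a, monic_X_sub_C a⟩
    obtain ⟨T, hT, rfl⟩ := CfsgLib.Derange.divisor_multiset hmi hh
      ((dvd_mul_right h' (τ h')).trans (Dvd.intro g' hfac.symm))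
    have hTτ : τ T.prod = T.prod := by
      rw [tw_prod, Multiset.map_congr rfl fun P hP => ?_, Multiset.map_id']
      obtain ⟨a, ha, rfl⟩ := Multiset.mem_map.1 (Multiset.mem_of_le hT hP)
      rw [tw_linear _ (UPair.bar_mul_self_ne K (hAr a ha).2)]
      congr 2
      exact inv_eq_of_mul_eq_one_left (hAr a ha).2
    have hTd : Multiset.card T = m := by
      rw [← hhd, CfsgLib.Derange.natDegree_prod_const T 1 (fun P hP => (hmi P (Multiset.mem_of_le hT hP)).2)
        (fun P hP => by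
          obtain ⟨a, -, rfl⟩ := Multiset.mem_map.1 (Multiset.mem_of_le hT hP)
          exact natDegree_X_sub_C a), mul_one]
    rw [hTτ, ← Multiset.prod_add] at hfac
    have hne : f ≠ 0 := (monic_multiset_prod_of_monic _ _ fun a _ => monic_X_sub_C a).ne_zero
    have hmiT : ∀ P ∈ T + T, P.Monic ∧ Irreducible P := fun P hP =>
      have h' := Multiset.mem_of_le hT ((Multiset.mem_add.1 hP).elim id id)
      ⟨(hmi P h').2, (hmi P h').1⟩
    have hle := (dvd_iff_normalizedFactors_le_normalizedFactors (fun h0 => hne (by rw [hfac, h0, zero_mul])) hne).1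
      (Dvd.intro g' hfac.symm)
    rw [nf_prod _ hmiT, nf_prod _ fun P hP => ⟨(hmi P hP).2, (hmi P hP).1⟩] at hle
    have hinj : Function.Injective fun a : F => (X - C a : F[X]) := fun a b h => C_injective (sub_right_inj.1 h)
    have hle' : T ≤ Multiset.replicate (m - 1) (X - C (1 : F)) := Multiset.le_iff_count.2 fun P => by
      by_cases hP : P ∈ T
      · obtain ⟨a, ha, rfl⟩ := Multiset.mem_map.1 (Multiset.mem_of_le hT hP)
        have h1 := Multiset.count_le_of_le (X - C a) hle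
        rw [Multiset.count_add, Multiset.count_map_eq_count' _ _ hinj, Multiset.count_add,
          Multiset.count_replicate] at h1
        have h2 := Multiset.nodup_iff_count_le_one.1 hA₀ a
        rw [Multiset.count_replicate]
        by_cases h1a : (1 : F) = a
        · rw [if_pos h1a] at h1; rw [if_pos (by rw [h1a])]; omega
        · rw [if_neg h1a] at h1; rw [if_neg (fun h => h1a (hinj h))]; omega
      · rw [Multiset.count_eq_zero.2 hP]; exact Nat.zero_le _
    have := Multiset.card_le_card hle'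
    rw [Multiset.card_replicate] at this
    omega

end CfsgLib.Derange.UEl
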