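import Cfsg.Agent.Lib.Derange.UnitBlocks
import Cfsg.Agent.Lib.Classical.UnitaryUnipotent

/-!
Unipotent unitary matrices and their invariant non-degenerate subspaces.
-/

set_option autoImplicit false
set_option linter.unusedSectionVars false
set_option linter.style.haveILetI false
set_option maxHeartbeats 1000000

namespace CfsgLib.Derange.UEl

open Matrix Module Cfsg
open CfsgLib.Classical.Herm CfsgLib.Classical.UnitaryUnipotent CfsgLib.Classical.UnitaryConj
open CfsgLib.ClassicalAut (Unitary.Conj Unitary.mem_normOne)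

variable {F : Type*} [Field F] [Fintype F] {q : ℕ} (K : Unitary.Conj F q) {n m : ℕ}

/-- The lengths of the blocks of `M`. -/
def HasT (M : Matrix (Fin n) (Fin n) F) (μ : Multiset ℕ) : Prop :=
  ∀ k, ((M - 1) ^ k).rank = (μ.map fun a => a - k).sum

theorem rank_eq_finrank (A : Matrix (Fin n) (Fin n) F) (k : ℕ) :
    (A ^ k).rank = finrank F (LinearMap.range (Matrix.toLin' A ^ k)) := by
  rw [Matrix.rank, ← Matrix.toLin'_apply', ← Matrix.toLin'_pow]

theorem eq_zero_of_rank (A : Matrix (Fin n) (Fin n) F) (k : ℕ) (h : (A ^ k).rank = 0) : A ^ k = 0 := by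
  rw [rank_eq_finrank, Submodule.finrank_eq_zero, LinearMap.range_eq_bot, ← Matrix.toLin'_pow] at h
  exact Matrix.toLin'.injective (h.trans (map_zero _).symm)

/-- Every unipotent matrix has block lengths. -/
theorem exists_hasT {M : Matrix (Fin n) (Fin n) F} {p : ℕ} (h : (M - 1) ^ p = 0) :
    ∃ μ : Multiset ℕ, (∀ a ∈ μ, 0 < a ∧ a ≤ p) ∧ μ.sum = n ∧ HasT M μ := by
  classical
  obtain ⟨ι, hι, d, hd, ⟨C⟩⟩ := CfsgLib.NilClasses.exists_chains n (Matrix.toLin' (M - 1))
    (Module.finrank_fin_fun F) ⟨p, by rw [← Matrix.toLin'_pow, h, map_zero]⟩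
  set μ := (Finset.univ : Finset ι).val.map d
  have hT : HasT M μ := fun k => by
    rw [rank_eq_finrank, C.finrank_range_pow, Finset.sum_eq_multiset_sum, Multiset.map_map]
    rfl
  refine ⟨μ, fun a ha => ⟨?_, ?_⟩, ?_, hT⟩
  · obtain ⟨i, -, rfl⟩ := Multiset.mem_map.1 ha; exact hd i
  · have h0 := hT p
    rw [h, Matrix.rank_zero] at h0
    have h1 : a - p ≤ (μ.map fun x => x - p).sum :=
      Multiset.le_sum_of_mem (m := μ.map fun x => x - p) (Multiset.mem_map.2 ⟨a, ha, rfl⟩)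
    omega
  · have h0 := hT 0
    rw [pow_zero, Matrix.rank_one, Fintype.card_fin] at h0
    simpa using h0.symm

theorem HasT.unique {M : Matrix (Fin n) (Fin n) F} {μ ν : Multiset ℕ} (h : HasT M μ) (h' : HasT M ν)
    (hμ : ∀ a ∈ μ, 0 < a) (hν : ∀ a ∈ ν, 0 < a) : μ = ν :=
  CfsgLib.NilClasses.multiset_eq_of_sums hμ hν fun k => (h k).symm.trans (h' k)

theorem rank_conj (c : GL (Fin n) F) (g : GL (Fin n) F) (k : ℕ) :
    ((((c * g * c⁻¹ : GL (Fin n) F) : Matrix (Fin n) (Fin n) F) - 1) ^ k).rank =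
      (((g : Matrix (Fin n) (Fin n) F) - 1) ^ k).rank := by
  have e : ((c * g * c⁻¹ : GL (Fin n) F) : Matrix (Fin n) (Fin n) F) - 1 =
      (c : Matrix (Fin n) (Fin n) F) * ((g : Matrix (Fin n) (Fin n) F) - 1) * (c⁻¹ : GL (Fin n) F) := by
    rw [mul_sub, mul_one, sub_mul, Units.mul_inv, Units.val_mul, Units.val_mul]
  rw [e, Units.conj_pow c, Matrix.rank_mul_eq_left_of_isUnit_det _ _
    ((Matrix.isUnit_iff_isUnit_det _).1 (c⁻¹).isUnit),
    Matrix.rank_mul_eq_right_of_isUnit_det _ _ ((Matrix.isUnit_iff_isUnit_det _).1 c.isUnit)]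

include K in
/-- Every collection of block lengths occurs. -/
theorem exists_gu_type {μ : Multiset ℕ} (hsum : μ.sum = n) :
    ∃ B : GL (Fin n) F, B ∈ GU n F q ∧ HasT (B : Matrix (Fin n) (Fin n) F) μ := by
  classical
  let d : Fin μ.toList.length → ℕ := μ.toList.get
  have hd : (Finset.univ : Finset (Fin μ.toList.length)).val.map d = μ := by
    rw [Fin.univ_val_map, List.ofFn_get, Multiset.coe_toList]
  obtain ⟨f, hf, ⟨C⟩⟩ := CfsgLib.NilClasses.exists_model (F := F) (n := n) d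
    (by rw [Finset.sum_eq_multiset_sum, hd, hsum])
  have hnil : IsNilpotent (LinearMap.toMatrix' f) := hf.map LinearMap.toMatrixAlgEquiv'
  let g : GL (Fin n) F := hnil.isUnit_one_add.unit
  have hg : (g : Matrix (Fin n) (Fin n) F) - 1 = LinearMap.toMatrix' f := by
    rw [show (g : Matrix (Fin n) (Fin n) F) = 1 + LinearMap.toMatrix' f from hnil.isUnit_one_add.unit_spec,
      add_sub_cancel_left]
  obtain ⟨B, hB⟩ := exists_gu_conj (K := F) (q := q) (by rw [← Nat.card_eq_fintype_card]; exact K.card) g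
    (by rw [hg]; exact hnil)
  obtain ⟨c, hc⟩ := isConj_iff.1 hB
  refine ⟨B, B.2, fun k => ?_⟩
  rw [← hc, rank_conj, hg, rank_eq_finrank, Matrix.toLin'_toMatrix', C.finrank_range_pow, Finset.sum_eq_multiset_sum]
  conv_rhs => rw [← hd, Multiset.map_map]
  rfl

theorem rank_pair {d e : ℕ} (h : d + e = n) (A : Matrix (Fin d) (Fin d) F) (B : Matrix (Fin e) (Fin e) F) :
    (CfsgLib.Classical.UnitarySemisimple.blockPair d e h (A, B)).rank = A.rank + B.rank := by
  show (Matrix.reindex (idx h) (idx h) (Matrix.fromBlocks A 0 0 B)).rank = _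
  rw [Matrix.rank_reindex]
  let E : (Fin d ⊕ Fin e → F) ≃ₗ[F] (Fin d → F) × (Fin e → F) := LinearEquiv.sumArrowLequivProdArrow _ _ F F
  have key : (LinearMap.range (Matrix.fromBlocks A 0 0 B).mulVecLin).map E.toLinearMap =
      (LinearMap.range A.mulVecLin).prod (LinearMap.range B.mulVecLin) := by
    ext x
    constructor
    · rintro ⟨_, ⟨v, rfl⟩, rfl⟩
      refine Submodule.mem_prod.2 ⟨⟨v ∘ Sum.inl, ?_⟩, ⟨v ∘ Sum.inr, ?_⟩⟩ <;>
        · funext i
          simp [E, Matrix.mulVecLin_apply, Matrix.fromBlocks_mulVec]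
    · intro hx
      obtain ⟨⟨u, hu⟩, ⟨v, hv⟩⟩ := Submodule.mem_prod.1 hx
      refine ⟨_, ⟨Sum.elim u v, rfl⟩, ?_⟩
      refine Prod.ext (funext fun i => ?_) (funext fun i => ?_)
      · rw [← hu]; simp [E, Matrix.mulVecLin_apply, Matrix.fromBlocks_mulVec]
      · rw [← hv]; simp [E, Matrix.mulVecLin_apply, Matrix.fromBlocks_mulVec]
  rw [Matrix.rank, Matrix.rank, Matrix.rank, ← LinearEquiv.finrank_map_eq E]
  refine (congrArg (fun S : Submodule F ((Fin d → F) × (Fin e → F)) => finrank F S) key).trans ?_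
  have hr : (LinearMap.range A.mulVecLin).prod (LinearMap.range B.mulVecLin) =
      LinearMap.range (LinearMap.prodMap (LinearMap.range A.mulVecLin).subtype (LinearMap.range B.mulVecLin).subtype) := by
    rw [LinearMap.range_prodMap, Submodule.range_subtype, Submodule.range_subtype]
  rw [hr, LinearMap.finrank_range_of_inj
    (Function.Injective.prodMap (Submodule.injective_subtype _) (Submodule.injective_subtype _)), Module.finrank_prod]

theorem rank_pair_pow {d e : ℕ} (h : d + e = n) (A : GL (Fin d) F) (B : GL (Fin e) F) (k : ℕ) :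
    (((pairGL h A B : Matrix (Fin n) (Fin n) F) - 1) ^ k).rank =
      (((A : Matrix (Fin d) (Fin d) F) - 1) ^ k).rank + (((B : Matrix (Fin e) (Fin e) F) - 1) ^ k).rank := by
  rw [← rank_pair h]
  congr 1
  rw [show (((A : Matrix (Fin d) (Fin d) F) - 1) ^ k, ((B : Matrix (Fin e) (Fin e) F) - 1) ^ k) =
    (((A : Matrix (Fin d) (Fin d) F) - 1, (B : Matrix (Fin e) (Fin e) F) - 1)) ^ k from rfl, map_pow]
  congr 1
  rw [pairGL_val]
  ext i j
  obtain ⟨a, rfl⟩ := (idx h).surjective i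
  obtain ⟨c, rfl⟩ := (idx h).surjective j
  show Matrix.reindex (idx h) (idx h) (Matrix.fromBlocks (A : Matrix (Fin d) (Fin d) F) 0 0 (B : Matrix (Fin e) (Fin e) F))
      (idx h a) (idx h c) - (1 : Matrix (Fin n) (Fin n) F) (idx h a) (idx h c) =
    Matrix.reindex (idx h) (idx h) (Matrix.fromBlocks ((A : Matrix (Fin d) (Fin d) F) - 1) 0 0
      ((B : Matrix (Fin e) (Fin e) F) - 1)) (idx h a) (idx h c)
  simp only [Matrix.reindex_apply, Matrix.submatrix_apply, Equiv.symm_apply_apply, Matrix.one_apply,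
    (idx h).injective.eq_iff]
  rcases a with a | a <;> rcases c with c | c <;> simp [Matrix.one_apply]

theorem HasT.pair {d e : ℕ} (h : d + e = n) {A : GL (Fin d) F} {B : GL (Fin e) F} {μ ν : Multiset ℕ}
    (hA : HasT (A : Matrix (Fin d) (Fin d) F) μ) (hB : HasT (B : Matrix (Fin e) (Fin e) F) ν) :
    HasT (pairGL h A B : Matrix (Fin n) (Fin n) F) (μ + ν) := fun k => by
  rw [Multiset.map_add, Multiset.sum_add, ← hA k, ← hB k, rank_pair_pow]

include K in
/-- Invariant non-degenerate subspaces of a unipotent matrix are sub-multisets of the block lengths. -/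
theorem nd_iff_sub {p : ℕ} {y : GL (Fin n) F} (hy : y ∈ GU n F q)
    (hyp : ((y : Matrix (Fin n) (Fin n) F) - 1) ^ p = 0) {μ : Multiset ℕ} (hμ : ∀ a ∈ μ, 0 < a)
    (hsum : μ.sum = n) (hT : HasT (y : Matrix (Fin n) (Fin n) F) μ) :
    Nd q m (y : Matrix (Fin n) (Fin n) F) ↔ ∃ ν : Multiset ℕ, ν ≤ μ ∧ ν.sum = m := by
  constructor
  · intro h
    obtain ⟨e, he, A, -, B, -, k, -, rfl⟩ := exists_pair_of_nd K hy h
    have hAB : ((pairGL he A B : Matrix (Fin n) (Fin n) F) - 1) ^ p = 0 := by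
      have h2 := rank_conj k (pairGL he A B) p
      rw [hyp, Matrix.rank_zero] at h2
      exact eq_zero_of_rank _ _ h2.symm
    have hA0 : ((A : Matrix (Fin m) (Fin m) F) - 1) ^ p = 0 ∧ ((B : Matrix (Fin e) (Fin e) F) - 1) ^ p = 0 := by
      have h1 := congrArg Matrix.rank hAB
      rw [Matrix.rank_zero] at h1
      have key := rank_pair_pow he A B p
      rw [key] at h1
      exact ⟨eq_zero_of_rank _ _ (by omega), eq_zero_of_rank _ _ (by omega)⟩
    obtain ⟨α, hα, hαs, hαT⟩ := exists_hasT hA0.1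
    obtain ⟨β, hβ, -, hβT⟩ := exists_hasT hA0.2
    refine ⟨α, ?_, hαs⟩
    have hu : μ = α + β := HasT.unique hT (fun k' => (rank_conj k _ k').trans ((hαT.pair he hβT) k')) hμ
      fun a ha => (Multiset.mem_add.1 ha).elim (fun h => (hα a h).1) fun h => (hβ a h).1
    rw [hu]
    exact Multiset.le_add_right _ _
  · rintro ⟨ν, hν, hνs⟩
    obtain ⟨ρ, rfl⟩ := Multiset.le_iff_exists_add.1 hν
    rw [Multiset.sum_add, hνs] at hsum
    obtain ⟨A, hA, hAT⟩ := exists_gu_type K hνs
    obtain ⟨B, hB, hBT⟩ := exists_gu_type K (rfl : ρ.sum = ρ.sum)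
    have hP := (pairGL_mem_iff K hsum A B).2 ⟨hA, hB⟩
    have hnil : IsNilpotent ((pairGL hsum A B : Matrix (Fin n) (Fin n) F) - 1) :=
      ⟨p, eq_zero_of_rank _ _ ((hAT.pair hsum hBT p).trans ((hT p).symm.trans (by rw [hyp, Matrix.rank_zero])))⟩
    have hc := isConj_of_rank (pairGL hsum A B) y hnil ⟨p, hyp⟩ fun k => ((hAT.pair hsum hBT) k).trans (hT k).symm
    obtain ⟨k, hk⟩ := isConj_iff.1 ((gu_isConj_iff (by rw [← Nat.card_eq_fintype_card]; exact K.card)
      ⟨_, hP⟩ ⟨y, hy⟩).2 hc)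
    have hy' : (k : GL (Fin n) F) * pairGL hsum A B * (k : GL (Fin n) F)⁻¹ = y := congrArg Subtype.val hk
    exact hy' ▸ (nd_pair K hsum A B).conj k.2

end CfsgLib.Derange.UEl
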