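import Cfsg.Agent.Lib.Derange.UnitShapes
import Cfsg.Agent.Lib.Derange.UnitArith
import Cfsg.Agent.Lib.Derange.UnitCard
import Cfsg.Agent.Lib.Derange.UnitUnip
import Cfsg.Agent.Lib.Derange.UnitOdd
import Cfsg.Agent.Lib.Classical.UnitaryDetClasses

/-!
Elements of prime order in special unitary groups and invariant subspaces: the criteria, case by case.
-/

set_option autoImplicit false
set_option linter.unusedSectionVars false
set_option linter.style.haveILetI false
set_option maxHeartbeats 1000000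

namespace CfsgLib.Derange.UEl

open Matrix Polynomial Cfsg
open CfsgLib.ClassicalAut (Unitary.Conj)

variable {F : Type*} [Field F] [Fintype F] {p : ℕ} [hp : Fact p.Prime] [CharP F p] {q : ℕ}
  (K : Unitary.Conj F q) {n m r : ℕ}

/-- Every non-scalar special unitary matrix with scalar `r`-th power has the property `P`. -/
def AllEl (q r : ℕ) {n : ℕ} (P : Matrix (Fin n) (Fin n) F → Prop) : Prop :=
  ∀ x : Matrix.SpecialLinearGroup (Fin n) F, x ∈ SU n F q →
    (∃ z : F, ((x ^ r : Matrix.SpecialLinearGroup (Fin n) F) : Matrix (Fin n) (Fin n) F) = z • 1) →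
    (∀ z : F, (x : Matrix (Fin n) (Fin n) F) ≠ z • 1) → P (x : Matrix (Fin n) (Fin n) F)

theorem AllEl.apply {P : Matrix (Fin n) (Fin n) F → Prop} (h : AllEl q r P) {x : Matrix.SpecialLinearGroup (Fin n) F}
    (hx : x ∈ SU n F q) {z : F} (hz : (x : Matrix (Fin n) (Fin n) F) ^ r = z • 1)
    (hns : ∀ c : F, (x : Matrix (Fin n) (Fin n) F) ≠ c • 1) : P (x : Matrix (Fin n) (Fin n) F) :=
  h x hx ⟨z, by rw [Matrix.SpecialLinearGroup.coe_pow, hz]⟩ hns

theorem AllEl.intro {P : Matrix (Fin n) (Fin n) F → Prop}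
    (h : ∀ (x : GL (Fin n) F) (z : F), x ∈ GU n F q → (x : Matrix (Fin n) (Fin n) F).det = 1 →
      (x : Matrix (Fin n) (Fin n) F) ^ r = z • 1 → (∀ c : F, (x : Matrix (Fin n) (Fin n) F) ≠ c • 1) →
      P (x : Matrix (Fin n) (Fin n) F)) : AllEl q r P := fun x hx ⟨z, hz⟩ hns =>
  h (Matrix.SpecialLinearGroup.toGL x) z (toGL_mem hx) x.2
    (by rw [Matrix.SpecialLinearGroup.coe_pow] at hz; exact hz) hns

include K hp in
theorem dvd_q : p ∣ q := by
  obtain ⟨k, -, hk⟩ := FiniteField.card F p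
  exact hp.out.dvd_of_dvd_pow (n := 2) (by rw [← card_eq K, hk]; exact dvd_pow_self p k.ne_zero)

include K hp in
theorem eq_of_dvd_q {s : ℕ} (hs : s.Prime) (h : s ∣ q) : s = p := by
  obtain ⟨k, -, hk⟩ := FiniteField.card F p
  refine (Nat.prime_dvd_prime_iff_eq hs hp.out).1 (hs.dvd_of_dvd_pow (n := (k : ℕ)) ?_)
  rw [← hk, card_eq K]
  exact dvd_pow h two_ne_zero

include K hp in
theorem odd_q (hp2 : p ≠ 2) : Odd q := by
  rw [Nat.odd_iff, ← Nat.two_dvd_ne_zero]
  exact fun h => hp2 (eq_of_dvd_q (p := p) K Nat.prime_two h).symm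

/-! ### The characteristic -/

include hp in
theorem sub_one_pow [Nonempty (Fin n)] (M : Matrix (Fin n) (Fin n) F) : (M - 1) ^ p = M ^ p - 1 := by
  rw [sub_pow_char_of_commute p (Commute.one_right M), one_pow]

include K hp in
/-- A scalar `p`-th power leaves a scalar multiple of a unipotent matrix. -/
theorem unip_scale (hn : 0 < n) {x : GL (Fin n) F} (hx : x ∈ GU n F q) {z : F}
    (hz : (x : Matrix (Fin n) (Fin n) F) ^ p = z • 1) :
    ∃ (y : GL (Fin n) F) (w : F), y ∈ GU n F q ∧ ((y : Matrix (Fin n) (Fin n) F) - 1) ^ p = 0 ∧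
      (x : Matrix (Fin n) (Fin n) F) = w • (y : Matrix (Fin n) (Fin n) F) := by
  haveI : Nonempty (Fin n) := ⟨⟨0, hn⟩⟩
  haveI : ExpChar F p := ExpChar.prime hp.out
  have hzn := norm_of_pow K hn hx hz
  obtain ⟨w, hw⟩ := (PerfectRing.bijective_frobenius (R := F) (p := p)).2 z
  change w ^ p = z at hw
  have hwn : w * K.bar w = 1 := by
    apply frobenius_inj F p
    rw [frobenius_def, frobenius_def, mul_pow, ← map_pow, hw, hzn, one_pow]
  have hw0 := UPair.bar_mul_self_ne K hwn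
  obtain ⟨y, hy, hyx⟩ := exists_scaled K hx (w := w⁻¹) (by rw [map_inv₀, ← mul_inv, hwn, inv_one])
  refine ⟨y, w, hy, ?_, by rw [hyx, smul_smul, mul_inv_cancel₀ hw0, one_smul]⟩
  rw [sub_one_pow, hyx, _root_.smul_pow, hz, smul_smul, inv_pow, hw, inv_mul_cancel₀ (UPair.bar_mul_self_ne K hzn),
    one_smul, sub_self]

include K hp in
/-- Non-degenerate subspaces, in the characteristic. -/
theorem char_nd_iff (hn : 0 < n) (hmn : m ≤ n) :
    AllEl q p (fun M : Matrix (Fin n) (Fin n) F => Nd q m M) ↔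
      ∀ μ : Multiset ℕ, (∀ a ∈ μ, 0 < a ∧ a ≤ p) → μ.sum = n → ∃ ν : Multiset ℕ, ν ≤ μ ∧ ν.sum = m := by
  haveI : Nonempty (Fin n) := ⟨⟨0, hn⟩⟩
  constructor
  · intro h μ hμ hsum
    by_contra hno
    obtain ⟨B, hB, hT⟩ := exists_gu_type K hsum
    have hBp : ((B : Matrix (Fin n) (Fin n) F) - 1) ^ p = 0 := eq_zero_of_rank _ _ (by
      rw [hT p]
      exact Multiset.sum_eq_zero fun x hx => by
        obtain ⟨a, ha, rfl⟩ := Multiset.mem_map.1 hx
        exact Nat.sub_eq_zero_of_le (hμ a ha).2)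
    have hB1 : (B : Matrix (Fin n) (Fin n) F) ^ p = 1 := by
      rwa [sub_one_pow, sub_eq_zero] at hBp
    refine hno ((nd_iff_sub K hB hBp (fun a ha => (hμ a ha).1) hsum hT).1
      (h.apply (x := ⟨_, CfsgLib.Classical.UnitaryDetClasses.det_unipotent hBp⟩) (fun u v => hB u v) (z := 1)
        (by rw [one_smul]; exact hB1) fun c hc => hno ?_))
    have hc' : (B : Matrix (Fin n) (Fin n) F) = c • 1 := hc
    have hc1 : c = 1 := by
      haveI : ExpChar F p := ExpChar.prime hp.out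
      rw [hc', _root_.smul_pow, one_pow] at hB1
      exact frobenius_inj F p (by simpa [frobenius_def] using congrFun (congrFun hB1 ⟨0, hn⟩) ⟨0, hn⟩)
    have h1 := hT 1
    rw [hc', hc1, one_smul, sub_self, pow_one, Matrix.rank_zero] at h1
    have hμ1 : μ = Multiset.replicate (Multiset.card μ) 1 := Multiset.eq_replicate_card.2 fun a ha => by
      have := Multiset.sum_eq_zero_iff.1 h1.symm (a - 1) (Multiset.mem_map.2 ⟨a, ha, rfl⟩)
      have := (hμ a ha).1
      omega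
    rw [hμ1, Multiset.sum_replicate, smul_eq_mul, mul_one] at hsum
    refine ⟨Multiset.replicate m 1, ?_, by simp⟩
    rw [hμ1, hsum]
    exact (Multiset.replicate_le_replicate 1).2 hmn
  · refine fun h => AllEl.intro fun x z hx _ hz _ => ?_
    obtain ⟨y, w, hy, hyp, hxy⟩ := unip_scale (p := p) K hn hx hz
    obtain ⟨μ, hμ, hsum, hT⟩ := exists_hasT hyp
    rw [hxy]
    exact ((nd_iff_sub K hy hyp (fun a ha => (hμ a ha).1) hsum hT).2 (h μ hμ hsum)).smul w

/-! ### Involutions -/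

include K hp in
theorem two_nd_iff (hp2 : p ≠ 2) (hn : 0 < n) (hm : 0 < m) (hmn : m ≤ n) :
    AllEl q 2 (fun M : Matrix (Fin n) (Fin n) F => Nd q m M) ↔
      (Odd n ∨ Even m ∨ (padicValNat 2 n ≤ padicValNat 2 (q + 1) ∧ q % 4 = 3)) := by
  refine ⟨fun h => ?_, fun hc => AllEl.intro fun x z hx hd hz _ => two_nd K hp2.symm hn hmn hx hd hz hc⟩
  by_contra hc
  push Not at hc
  obtain ⟨hne, hmo, hh⟩ := hc
  rw [Nat.not_odd_iff_even] at hne
  rw [Nat.not_even_iff_odd] at hmo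
  obtain ⟨k, rfl⟩ := hne
  have hq := Nat.odd_iff.1 (odd_q (p := p) K hp2)
  obtain ⟨x, z, hx, hz, hns, hno⟩ := two_nd_witness (p := p) K hp2.symm (odd_q (p := p) K hp2) (k := k) (by omega) hmo hmn (by
    by_cases h4 : q % 4 = 1
    · exact Or.inl h4
    refine Or.inr ?_
    have h2 : padicValNat 2 (k + k) = 1 + padicValNat 2 k := by
      rw [← two_mul, padicValNat.mul two_ne_zero (by omega), padicValNat.self one_lt_two]
    have := mt hh
    have h3 : q % 4 = 3 := by omega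
    by_contra hlt
    exact hh (by omega) h3)
  exact hno (h.apply hx hz hns)

include K hp in
theorem two_tis_iff (hp2 : p ≠ 2) (hm : 0 < m) (hmn : 2 * m ≤ n) :
    AllEl q 2 (fun M : Matrix (Fin n) (Fin n) F => Tis q m M) ↔
      (2 * m < n ∨ padicValNat 2 (q + 1) ≤ padicValNat 2 n) := by
  refine ⟨fun h => ?_, fun hc => AllEl.intro fun x z hx hd hz _ => two_tis K hp2.symm hm hmn hx hd hz hc⟩
  by_contra hc
  push Not at hc
  obtain rfl : n = 2 * m := by omega
  obtain ⟨μ, hμ, hμn⟩ := exists_half K (2 * m) (by omega) hc.2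
  obtain ⟨x, z, hx, hz, hns, hno⟩ := two_tis_witness (p := p) K hp2.symm hm hμ hμn
  exact hno (h.apply hx hz hns)

/-! ### Odd primes -/

include K hp in
theorem coprime_q (hr : r.Prime) (hrp : r ≠ p) : ¬ r ∣ q := fun h => hrp (eq_of_dvd_q (p := p) K hr h)

include K hp in
/-- The order of `q` modulo an odd prime. -/
theorem order_facts {i : ℕ} (hr : r.Prime) (hr2 : r ≠ 2) (hrp : r ≠ p) (hi : i = orderOf (q : ZMod r)) :
    0 < i ∧ i ∣ r - 1 ∧ (i = 2 ↔ r ∣ q + 1) := by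
  haveI := Fact.mk hr
  have hq0 : (q : ZMod r) ≠ 0 := fun h => coprime_q (p := p) K hr hrp ((ZMod.natCast_eq_zero_iff q r).1 h)
  have hd : i ∣ r - 1 := hi ▸ ZMod.orderOf_dvd_card_sub_one hq0
  have h2r : (2 : ZMod r) ≠ 0 := fun h => hr2 ((Nat.prime_dvd_prime_iff_eq hr Nat.prime_two).1
    ((ZMod.natCast_eq_zero_iff 2 r).1 h))
  refine ⟨Nat.pos_of_ne_zero fun h => ?_, hd, ⟨fun h => ?_, fun h => ?_⟩⟩
  · rw [h, Nat.zero_dvd] at hd
    have := hr.two_le
    omega
  · refine (ZMod.natCast_eq_zero_iff _ _).1 ?_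
    have h1 : (q : ZMod r) ^ 2 = 1 := h ▸ hi ▸ pow_orderOf_eq_one _
    rcases sq_eq_one_iff.1 h1 with h1 | h1
    · rw [h1, orderOf_one] at hi; omega
    · simp [h1]
  · have h1 : (q : ZMod r) = -1 := eq_neg_of_add_eq_zero_left (by
      exact_mod_cast (ZMod.natCast_eq_zero_iff (q + 1) r).2 h)
    rw [hi, h1]
    exact orderOf_eq_prime (neg_one_sq) fun h => h2r (by linear_combination -h)

/-- The sizes in the statements. -/
theorem size_eq {i b c : ℕ} (hb : b = if Even i then i / 2 else i)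
    (hc : c = if i % 4 = 0 then i else if i % 4 = 2 then i / 2 else 2 * i) :
    c = blockSize (i % 4 = 2) * b ∧ b = (if Odd i then i else i / 2) ∧ (0 < i → 0 < b) ∧ b ∣ i := by
  unfold blockSize
  rcases Nat.even_or_odd i with h | h
  · rw [if_pos h] at hb
    rw [if_neg (Nat.not_odd_iff_even.2 h)]
    have := Nat.even_iff.1 h
    refine ⟨?_, hb, fun _ => by omega, hb ▸ ⟨2, by omega⟩⟩
    subst hb hc
    split_ifs <;> omega
  · rw [if_neg (Nat.not_even_iff_odd.2 h)] at hb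
    rw [if_pos h]
    have := Nat.odd_iff.1 h
    refine ⟨?_, hb, fun _ => by omega, hb ▸ dvd_rfl⟩
    subst hb hc
    split_ifs <;> omega

include K hp in
/-- The root case: a shape with a block. -/
theorem root_shape (hr : r.Prime) (hn : 0 < n) {b t : ℕ} {sf : Prop} [Decidable sf] {D : Finset F[X]}
    (X' : UFacts K.bar.toRingHom r b sf t D) {y : GL (Fin n) F} (hy : y ∈ GU n F q)
    (hyr : (y : Matrix (Fin n) (Fin n) F) ^ r = 1) (hy1 : (y : Matrix (Fin n) (Fin n) F) ≠ 1)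
    (hyo : (orderOf y).Coprime p) :
    ∃ (e : ℕ) (R : Multiset F[X]) (k : ℕ), (∀ P ∈ R, P ∈ D) ∧ R.map (CfsgLib.Classical.UnitaryTwistPoly.tw K.bar.toRingHom) = R ∧
      Multiset.card R = blockSize sf * k ∧
      (y : Matrix (Fin n) (Fin n) F).charpoly = (Multiset.replicate e (X - 1) + R).prod ∧
      e + blockSize sf * b * k = n ∧ 0 < k := by
  obtain ⟨e, R, k, hR, hfix, hk, hf, he⟩ := exists_shape X' hy hyr
  refine ⟨e, R, k, hR, hfix, hk, hf, he, Nat.pos_of_ne_zero fun hk0 => hy1 ?_⟩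
  rw [hk0, mul_zero, Multiset.card_eq_zero] at hk
  rw [hk0, mul_zero, add_zero] at he
  rw [hk, add_zero, he, Multiset.prod_replicate, ← map_one (C : F →+* F[X])] at hf
  rw [eq_scalar hyo hf, one_smul]

include K hp in
/-- Non-degenerate subspaces, odd primes. -/
theorem odd_nd_iff {i b c : ℕ} (hr : r.Prime) (hr2 : r ≠ 2) (hrp : r ≠ p) (hm : 0 < m) (hmn : m ≤ n)
    (hi : i = orderOf (q : ZMod r)) (hb : b = if Even i then i / 2 else i)
    (hc : c = if i % 4 = 0 then i else if i % 4 = 2 then i / 2 else 2 * i)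
    (hwin : c ≤ n ∧ n % c < m) :
    AllEl q r (fun M : Matrix (Fin n) (Fin n) F => Nd q m M) ↔
      ((i ≠ 2 ∧ c ≤ m ∧ m % c ≤ n % c) ∨ (i = 2 ∧ (r ∣ m ∨ padicValNat r n ≤ padicValNat r (q + 1)))) := by
  obtain ⟨hi0, hid, hi2⟩ := order_facts (p := p) K hr hr2 hrp hi
  obtain ⟨hcb, hb', hb0, hbi⟩ := size_eq hb hc
  obtain ⟨s, hs⟩ := hbi.trans hid
  obtain ⟨D, X'⟩ := exists_ufacts (p := p) K hr hr2 hrp hi hb' (s := s) (by rw [hs, mul_comm])
  have hs0 : 0 < s := Nat.pos_of_ne_zero fun h => by rw [h, mul_zero] at hs; have := hr.two_le; omega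
  have hn : 0 < n := by omega
  have hc0 : 0 < c := hcb ▸ Nat.mul_pos (by unfold blockSize; split <;> omega) (hb0 hi0)
  have hone : i = 2 → c = 1 := fun h => by subst h; simpa using hc
  constructor
  · intro h
    by_cases h2 : i = 2
    · refine Or.inr ⟨h2, ?_⟩
      by_contra hno
      push Not at hno
      obtain ⟨x, z, hx, hz, hns, hnd, -⟩ :=
        twist_witness (p := p) K hr hr2 hrp (hi2.1 h2) hn hno.1 hm hno.2
      exact hnd hmn (h.apply hx hz hns)
    · refine Or.inl ⟨h2, (units_arith hc0 hwin.1 hmn hwin.2).1 fun e k hk he => ?_⟩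
      obtain ⟨x, hx, hxr, hns, hnd, -⟩ := exists_worst_su (p := p) X' hr hrp (fun hd => h2 (hi2.2 hd)) hn hs0 (m := m)
        (e := e) hk (hcb ▸ he)
      obtain ⟨e', A, h1, h3, h4⟩ := hnd hmn (h.apply hx (z := 1) (by rw [one_smul]; exact hxr) hns)
      exact ⟨e', A, h1, h3, by rw [hcb]; exact h4⟩
  · refine fun hcond => AllEl.intro fun x z hx hd hz hns => ?_
    rcases root_or_twist (p := p) K hr hr2 hrp hn hx hd hns hz with ⟨y, w, hy, hyr, hy1, hyo, hxy⟩ |
        ⟨hrq, -, hv, s', hns', hf⟩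
    · have har : c ≤ m ∧ m % c ≤ n % c := by
        rcases hcond with ⟨-, hc2⟩ | ⟨h2, -⟩
        · exact hc2
        · rw [hone h2, Nat.mod_one, Nat.mod_one]; omega
      obtain ⟨e, R, k, hR, hfix, hk, hf, he, hk0⟩ := root_shape (p := p) K hr hn X' hy hyr hy1 hyo
      obtain ⟨e', A, h1, h3, h4⟩ := (units_arith hc0 hwin.1 hmn hwin.2).2 har e k hk0 (by rw [hcb]; exact he)
      rw [hxy]
      exact (nd_of_shape X' hy hyo hmn hR hfix hk hf h1 h3 (by rw [← hcb]; exact h4)).smul w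
    · rcases hcond with ⟨h2, -⟩ | ⟨-, hrm | hle⟩
      · exact absurd (hi2.2 hrq) h2
      · exact (twist_fix (p := p) K hr hrp hn hrm hx hz hns' hf).1 hmn
      · omega

include K hp in
/-- Totally isotropic subspaces, odd primes. -/
theorem odd_tis_iff {i b c : ℕ} (hr : r.Prime) (hr2 : r ≠ 2) (hrp : r ≠ p) (hm : 0 < m) (hmn : 2 * m ≤ n)
    (hi : i = orderOf (q : ZMod r)) (hb : b = if Even i then i / 2 else i)
    (hc : c = if i % 4 = 0 then i else if i % 4 = 2 then i / 2 else 2 * i)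
    (hwin : c ≤ n ∧ n % c < 2 * m) :
    AllEl q r (fun M : Matrix (Fin n) (Fin n) F => Tis q m M) ↔
      (b ≤ m ∧ 2 * (m % b) ≤ n % c ∧
        (i % 4 ≠ 2 ∨ (i % 4 = 2 ∧ (r - 1) / b + 2 * (m / b) ≤ n / b ∧
          (2 < i ∨ (i = 2 ∧ (r ∣ m ∨ padicValNat r n ≤ padicValNat r (q + 1))))))) := by
  obtain ⟨hi0, hid, hi2⟩ := order_facts (p := p) K hr hr2 hrp hi
  obtain ⟨hcb, hb', hb0', hbi⟩ := size_eq hb hc
  have hb0 := hb0' hi0
  obtain ⟨s, hs⟩ := hbi.trans hid
  have hsb : (r - 1) / b = s := by rw [hs, Nat.mul_div_cancel_left s hb0]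
  obtain ⟨D, X'⟩ := exists_ufacts (p := p) K hr hr2 hrp hi hb' (s := s) (by rw [hs, mul_comm])
  have hs0 : 0 < s := Nat.pos_of_ne_zero fun h => by rw [h, mul_zero] at hs; have := hr.two_le; omega
  have hn : 0 < n := by omega
  have hpairs := pairs_arith (sf := i % 4 = 2) (t := s) hb0 (hcb ▸ hwin.1) hmn (hcb ▸ hwin.2)
  rw [← hcb] at hpairs
  rw [hsb]
  constructor
  · intro h
    by_cases h2 : i = 2
    · have hb1 : b = 1 := by subst h2; simpa using hb
      have hs1 : s = r - 1 := by rw [hs, hb1, one_mul]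
      refine ⟨by omega, by rw [hb1, Nat.mod_one]; omega, Or.inr ⟨by omega, ?_, Or.inr ⟨h2, ?_⟩⟩⟩
      · by_contra hlt
        rw [hb1, Nat.div_one, Nat.div_one, hs1] at hlt
        obtain ⟨x, hx, hxr, hns, hno⟩ :=
          exists_few_pairs (p := p) K hr hr2 hrp (hi2.1 h2) hm hmn (by omega)
        exact hno (h.apply hx (z := 1) (by rw [one_smul]; exact hxr) hns)
      · by_contra hno
        push Not at hno
        obtain ⟨x, z, hx, hz, hns, -, ht⟩ :=
          twist_witness (p := p) K hr hr2 hrp (hi2.1 h2) hn hno.1 hm hno.2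
        exact ht hmn (h.apply hx hz hns)
    · obtain ⟨h1, h3, h4⟩ := hpairs.1 fun e k hk he => by
        obtain ⟨x, hx, hxr, hns, -, ht⟩ := exists_worst_su (p := p) X' hr hrp (fun hd => h2 (hi2.2 hd)) hn hs0 (m := m)
          (e := e) hk (hcb ▸ he)
        exact ht hm hmn (h.apply hx (z := 1) (by rw [one_smul]; exact hxr) hns)
      refine ⟨h1, h3, ?_⟩
      by_cases h42 : i % 4 = 2
      · exact Or.inr ⟨h42, h4 h42, Or.inl (by omega)⟩
      · exact Or.inl h42
  · rintro ⟨h1, h3, h4⟩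
    refine AllEl.intro fun x z hx hd hz hns => ?_
    rcases root_or_twist (p := p) K hr hr2 hrp hn hx hd hns hz with ⟨y, w, hy, hyr, hy1, hyo, hxy⟩ |
        ⟨hrq, -, hv, s', hns', hf⟩
    · obtain ⟨e, R, k, hR, hfix, hk, hf, he, hk0⟩ := root_shape (p := p) K hr hn X' hy hyr hy1 hyo
      obtain ⟨e', A, h5, h6, h7⟩ := hpairs.2 ⟨h1, h3, fun h42 => (h4.resolve_left (not_not.2 h42)).2.1⟩ e k hk0
        (by rw [hcb]; exact he)
      rw [hxy]
      exact (tis_of_shape X' hy hyo hm hmn hR hfix hk hf h5 h6 h7).smul w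
    · have h2 := hi2.2 hrq
      rcases h4 with h4 | ⟨-, -, h4 | ⟨-, hrm | hle⟩⟩
      · omega
      · omega
      · exact (twist_fix (p := p) K hr hrp hn hrm hx hz hns' hf).2 hm hmn
      · omega

/-! ### Windows -/

include K hp in
/-- Divisors of the number of non-degenerate subspaces. -/
theorem nd_window {i c : ℕ} (hr : r.Prime) (hr2 : r ≠ 2) (hrp : r ≠ p) (hmn : m ≤ n)
    (hi : i = orderOf (q : ZMod r)) (hc : c = if i % 4 = 0 then i else if i % 4 = 2 then i / 2 else 2 * i)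
    (h : r ∣ Nat.card {W : Submodule F (Fin n → F) // Module.finrank F ↥W = m ∧
      (∀ u ∈ W, u ≠ 0 → ∃ v ∈ W, hermForm n F q u v ≠ 0)}) : c ≤ n ∧ n % c < m := by
  obtain ⟨j, hkj, hjn, hj⟩ := exists_top hr (coprime_q (p := p) K hr hrp) (two_le_q K) (Nat.sub_le n m) h
    (X := uprod q m) (card_nd K hmn)
  have := window_of_top hr hr2 (two_le_q K) hi hc hkj hjn hj
  omega

include K hp in
/-- Divisors of the number of totally isotropic subspaces. -/
theorem tis_window {i c : ℕ} (hr : r.Prime) (hr2 : r ≠ 2) (hrp : r ≠ p) (hmn : 2 * m ≤ n)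
    (hi : i = orderOf (q : ZMod r)) (hc : c = if i % 4 = 0 then i else if i % 4 = 2 then i / 2 else 2 * i)
    (h : r ∣ Nat.card {W : Submodule F (Fin n → F) // Module.finrank F ↥W = m ∧
      (∀ u ∈ W, ∀ v ∈ W, hermForm n F q u v = 0)}) : c ≤ n ∧ n % c < 2 * m := by
  obtain ⟨j, hkj, hjn, hj⟩ := exists_top hr (coprime_q (p := p) K hr hrp) (two_le_q K) (Nat.sub_le n (2 * m)) h
    (card_tis K hmn)
  have := window_of_top hr hr2 (two_le_q K) hi hc hkj hjn hj
  omega

end CfsgLib.Derange.UEl
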