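import Cfsg.Agent.Lib.Derange.UnitBlocks
import Cfsg.Agent.Lib.Derange.Cases
import Cfsg.Agent.Lib.Classical.SemisimpleDet

/-!
Unitary matrices of semisimple type: invariant subspaces and realisation from the characteristic polynomial.
-/

set_option autoImplicit false
set_option linter.unusedSectionVars false
set_option linter.style.haveILetI false
set_option maxHeartbeats 1000000

namespace CfsgLib.Derange.UEl

open Matrix Module Polynomial Cfsg
open CfsgLib.Classical.Herm CfsgLib.Classical.UnitaryTwistPoly CfsgLib.Classical.UnitaryConj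
open CfsgLib.Classical.UnitarySemisimple CfsgLib.Classical.RestrictScalars
open CfsgLib.ClassicalAut (Unitary.Conj)

variable {F : Type*} [Field F] [Fintype F] {p : ℕ} [hp : Fact p.Prime] [CharP F p] {q : ℕ}
  (K : Unitary.Conj F q) {n m : ℕ}

local notation "τ" => tw (K.bar.toRingHom)

theorem card_eq (K : Unitary.Conj F q) : Fintype.card F = q ^ 2 := by
  rw [← Nat.card_eq_fintype_card]; exact K.card

include K in
omit hp [CharP F p] in
/-- The characteristic polynomial of a unitary matrix is fixed by the twist. -/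
theorem tw_charpoly {g : GL (Fin n) F} (hg : g ∈ GU n F q) :
    τ (g : Matrix (Fin n) (Fin n) F).charpoly = (g : Matrix (Fin n) (Fin n) F).charpoly := by
  rw [← charpoly_twist]
  have h := (gu_iff K).1 hg
  rw [eq_inv_of_mul_eq_one_left h, inv_inv]

include K hp in
/-- A unitary matrix of semisimple type with prescribed characteristic polynomial. -/
theorem exists_gu (f : F[X]) (hm : f.Monic) (hd : f.natDegree = n) (h0 : f.coeff 0 ≠ 0) (hf : τ f = f) :
    ∃ B : GL (Fin n) F, B ∈ GU n F q ∧ (orderOf B).Coprime p ∧ (B : Matrix (Fin n) (Fin n) F).charpoly = f := by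
  obtain ⟨F₀, _, _, hF₀⟩ := exists_field_of_card_sq (card_eq K)
  obtain ⟨a, b, hab⟩ := exists_ab (F := F₀)
  obtain ⟨fr⟩ := exists_Frame hF₀ (card_eq K) a b hab
  have e : fr.σ = K.bar.toRingHom := RingHom.ext fun x => (fr.σ_eq x).trans (K.bar_apply x).symm
  exact exists_gu_semisimple (p := p) (card_eq K) fr f hm hd h0 (by rw [e]; exact hf)

include K hp in
/-- Unitary matrices of semisimple type with one characteristic polynomial are conjugate. -/
theorem exists_conj_gu {y z : GL (Fin n) F} (hy : y ∈ GU n F q) (hz : z ∈ GU n F q)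
    (hyo : (orderOf y).Coprime p) (hzo : (orderOf z).Coprime p)
    (h : (y : Matrix (Fin n) (Fin n) F).charpoly = (z : Matrix (Fin n) (Fin n) F).charpoly) :
    ∃ k ∈ GU n F q, z = k * y * k⁻¹ := by
  obtain ⟨k, hk⟩ := isConj_iff.1 ((gu_isConj_iff (card_eq K) ⟨y, hy⟩ ⟨z, hz⟩).2
    (CfsgLib.Classical.SemisimpleClasses.isConj_of_charpoly_eq (p := p) y z hyo hzo h))
  exact ⟨k, k.2, (congrArg Subtype.val hk).symm⟩

omit hp [CharP F p] in
theorem coprime_pair {d e : ℕ} (h : d + e = n) {A : GL (Fin d) F} {B : GL (Fin e) F}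
    (hA : (orderOf A).Coprime p) (hB : (orderOf B).Coprime p) : (orderOf (pairGL h A B)).Coprime p := by
  refine Nat.Coprime.coprime_dvd_left (orderOf_dvd_of_pow_eq_one (n := orderOf A * orderOf B) ?_) (hA.mul_left hB)
  rw [pairGL_pow, pow_mul, pow_orderOf_eq_one, one_pow, mul_comm, pow_mul, pow_orderOf_eq_one, one_pow]
  exact Units.ext (map_one (blockPair (K := F) d e h))

omit [Fintype F] hp [CharP F p] in
theorem charpoly_c0 (g : GL (Fin n) F) : (g : Matrix (Fin n) (Fin n) F).charpoly.coeff 0 ≠ 0 := fun h => by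
  have := Matrix.det_eq_sign_charpoly_coeff (g : Matrix (Fin n) (Fin n) F)
  rw [h, mul_zero] at this
  exact g.det_ne_zero this

include K hp in
/-- Invariant non-degenerate subspaces and factorisations. -/
theorem nd_iff (hmn : m ≤ n) {y : GL (Fin n) F} (hy : y ∈ GU n F q) (hyo : (orderOf y).Coprime p) :
    Nd q m (y : Matrix (Fin n) (Fin n) F) ↔ ∃ fA fB : F[X], fA.Monic ∧ fB.Monic ∧ τ fA = fA ∧ τ fB = fB ∧
      fA.natDegree = m ∧ (y : Matrix (Fin n) (Fin n) F).charpoly = fA * fB := by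
  constructor
  · intro h
    obtain ⟨e, he, A, hA, B, hB, k, -, rfl⟩ := exists_pair_of_nd K hy h
    refine ⟨_, _, Matrix.charpoly_monic (A : Matrix (Fin m) (Fin m) F), Matrix.charpoly_monic (B : Matrix (Fin e) (Fin e) F),
      tw_charpoly K hA, tw_charpoly K hB, by rw [Matrix.charpoly_natDegree_eq_dim, Fintype.card_fin], ?_⟩
    rw [Units.val_mul, Units.val_mul, Matrix.coe_units_inv, Matrix.charpoly_units_conj, pairGL_val, blockPair_charpoly]
  · rintro ⟨fA, fB, hAm, hBm, hAt, hBt, hAd, hf⟩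
    have h0 := charpoly_c0 y
    rw [hf, mul_coeff_zero] at h0
    have hBd : fB.natDegree = n - m := by
      have := congrArg Polynomial.natDegree hf
      rw [Matrix.charpoly_natDegree_eq_dim, Fintype.card_fin, hAm.natDegree_mul hBm, hAd] at this
      omega
    obtain ⟨A, hA, hAo, hAc⟩ := exists_gu (p := p) K fA hAm hAd (left_ne_zero_of_mul h0) hAt
    obtain ⟨B, hB, hBo, hBc⟩ := exists_gu (p := p) K fB hBm hBd (right_ne_zero_of_mul h0) hBt
    obtain ⟨k, hk, hky⟩ := exists_conj_gu (p := p) K ((pairGL_mem_iff K (Nat.add_sub_cancel' hmn) A B).2 ⟨hA, hB⟩) hy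
      (coprime_pair _ hAo hBo) hyo (by rw [pairGL_val, blockPair_charpoly, hAc, hBc, hf])
    exact hky ▸ (nd_pair K _ A B).conj hk

include K hp in
/-- Invariant totally isotropic subspaces and factorisations. -/
theorem tis_iff (hm : 0 < m) (hmn : 2 * m ≤ n) {y : GL (Fin n) F} (hy : y ∈ GU n F q) (hyo : (orderOf y).Coprime p) :
    Tis q m (y : Matrix (Fin n) (Fin n) F) ↔ ∃ h g : F[X], h.Monic ∧ h.natDegree = m ∧
      (y : Matrix (Fin n) (Fin n) F).charpoly = h * τ h * g := by
  refine ⟨charpoly_of_tis K hmn hy, ?_⟩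
  rintro ⟨h, g, hh, hhd, hf⟩
  have h0 := charpoly_c0 y
  rw [hf, mul_coeff_zero, mul_coeff_zero] at h0
  have hh0 : h.coeff 0 ≠ 0 := left_ne_zero_of_mul (left_ne_zero_of_mul h0)
  have hhm : (h * τ h).Monic := hh.mul (monic_tw _ hh0)
  have hgm : g.Monic := hhm.of_mul_monic_left (hf ▸ Matrix.charpoly_monic _)
  have hgt : τ g = g := by
    have h1 := tw_charpoly K hy
    rw [hf, tw_mul, tw_mul, tw_tw _ K.bar_bar hh hh0, mul_comm (τ h) h] at h1
    exact mul_left_cancel₀ hhm.ne_zero h1
  have hgd : g.natDegree = n - (m + m) := by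
    have := congrArg Polynomial.natDegree hf
    rw [Matrix.charpoly_natDegree_eq_dim, Fintype.card_fin, hhm.natDegree_mul hgm, hh.natDegree_mul (monic_tw _ hh0),
      natDegree_tw _ hh0, hhd] at this
    omega
  obtain ⟨A, hAo, hAc⟩ := CfsgLib.Classical.SemisimpleClasses.exists_semisimple (p := p) h hh hhd hh0
  obtain ⟨Y, hY, hYp, ⟨W, hWd, hW, hWi⟩, hYc⟩ := exists_dual_block K hm A
  obtain ⟨B, hB, hBo, hBc⟩ := exists_gu (p := p) K g hgm hgd (right_ne_zero_of_mul h0) hgt
  have he : m + m + (n - (m + m)) = n := by omega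
  have hYo : (orderOf Y).Coprime p :=
    Nat.Coprime.coprime_dvd_left (orderOf_dvd_of_pow_eq_one (hYp _ (pow_orderOf_eq_one A))) hAo
  have hT : Tis q m (pairGL he Y B : Matrix (Fin n) (Fin n) F) := by
    refine ⟨W.map (emb he), ?_, ?_, ?_⟩
    · exact (Submodule.equivMapOfInjective _ (emb_injective he) W).finrank_eq.symm.trans hWd
    · rintro _ ⟨u, hu, rfl⟩ _ ⟨v, hv, rfl⟩
      exact (h_emb K he u v).trans (hW u hu v hv)
    · rintro _ ⟨u, hu, rfl⟩
      exact ⟨_, hWi u hu, by rw [pairGL_val, pair_mulVec]⟩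
  obtain ⟨k, hk, hky⟩ := exists_conj_gu (p := p) K ((pairGL_mem_iff K he Y B).2 ⟨hY, hB⟩) hy
    (coprime_pair _ hYo hBo) hyo (by rw [pairGL_val, blockPair_charpoly, hYc, hAc, hBc, hf])
  exact hky ▸ hT.conj hk

/-! ### Elements with scalar power -/

omit hp [CharP F p] in
theorem pow_card_sub_one {c : F} (hc : c ≠ 0) : c ^ (Fintype.card F - 1) = 1 := FiniteField.pow_card_sub_one_eq_one c hc

include hp in
/-- A matrix with scalar `r`-th power has order prime to the characteristic. -/
theorem coprime_of_pow {r : ℕ} (hr : r.Prime) (hrp : r ≠ p) (hn : 0 < n) {y : GL (Fin n) F} {z : F}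
    (h : (y : Matrix (Fin n) (Fin n) F) ^ r = z • 1) : (orderOf y).Coprime p := by
  have hz : z ≠ 0 := by
    rintro rfl
    haveI : Nonempty (Fin n) := ⟨⟨0, hn⟩⟩
    rw [zero_smul, ← Units.val_pow_eq_pow_val] at h
    exact (y ^ r).ne_zero h
  refine Nat.Coprime.coprime_dvd_left (orderOf_dvd_of_pow_eq_one (n := r * (Fintype.card F - 1)) (Units.ext ?_)) ?_
  · rw [pow_mul, Units.val_pow_eq_pow_val, Units.val_pow_eq_pow_val, h, _root_.smul_pow, one_pow, pow_card_sub_one hz,
      one_smul, Units.val_one]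
  · refine Nat.Coprime.mul_left ((Nat.coprime_primes hr hp.out).2 hrp) ?_
    obtain ⟨k, -, hk⟩ := FiniteField.card F p
    refine (hp.out.coprime_iff_not_dvd.2 fun hd => ?_).symm
    have h1 : p ∣ Fintype.card F := hk ▸ dvd_pow_self p k.ne_zero
    have h2 := Nat.dvd_sub h1 hd
    rw [Nat.sub_sub_self (Fintype.card_pos)] at h2
    exact hp.out.one_lt.ne' (Nat.dvd_one.1 h2)

omit [Fintype F] hp [CharP F p] in
theorem factor_dvd {r : ℕ} {M : Matrix (Fin n) (Fin n) F} {z : F} (h : M ^ r = z • 1) {P : F[X]}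
    (hP : Irreducible P) (hd : P ∣ M.charpoly) : P ∣ X ^ r - C z :=
  factor_dvd_pow (Matrix.toLin' M) (c := z) (by rw [← Matrix.toLin'_pow, h, map_smul, Matrix.toLin'_one]; rfl) hP
    (by rwa [Matrix.charpoly_toLin'])

omit [Fintype F] hp [CharP F p] in
theorem scalar_charpoly (c : F) :
    (c • (1 : Matrix (Fin n) (Fin n) F)).charpoly = (X - C c) ^ n := by
  rw [Matrix.smul_one_eq_diagonal, Matrix.charpoly_diagonal, Finset.prod_const, Finset.card_univ, Fintype.card_fin]

include hp in
/-- Only scalars of semisimple type have a single root. -/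
theorem eq_scalar {y : GL (Fin n) F} (hyo : (orderOf y).Coprime p) {c : F}
    (h : (y : Matrix (Fin n) (Fin n) F).charpoly = (X - C c) ^ n) : (y : Matrix (Fin n) (Fin n) F) = c • 1 := by
  rcases Nat.eq_zero_or_pos n with rfl | hn
  · exact Subsingleton.elim _ _
  have hc : c ≠ 0 := fun h0 => charpoly_c0 y (by
    rw [h, h0, map_zero, sub_zero, coeff_X_pow, if_neg hn.ne])
  set S : GL (Fin n) F := Units.map (Matrix.scalar (Fin n) (α := F)).toMonoidHom (Units.mk0 c hc)
  have hS : (S : Matrix (Fin n) (Fin n) F) = c • 1 := (Matrix.smul_one_eq_diagonal c).symm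
  have hSo : (orderOf S).Coprime p := by
    refine Nat.Coprime.coprime_dvd_left (orderOf_map_dvd _ (Units.mk0 c hc)) ?_
    refine Nat.Coprime.coprime_dvd_left (orderOf_dvd_of_pow_eq_one (n := Fintype.card F - 1)
      (Units.ext (pow_card_sub_one hc))) ?_
    obtain ⟨k, -, hk⟩ := FiniteField.card F p
    refine (hp.out.coprime_iff_not_dvd.2 fun hd => ?_).symm
    have h2 := Nat.dvd_sub (hk ▸ dvd_pow_self p k.ne_zero : p ∣ Fintype.card F) hd
    rw [Nat.sub_sub_self (Fintype.card_pos)] at h2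
    exact hp.out.one_lt.ne' (Nat.dvd_one.1 h2)
  obtain ⟨k, hk⟩ := isConj_iff.1 (CfsgLib.Classical.SemisimpleClasses.isConj_of_charpoly_eq (p := p) S y hSo hyo
    (by rw [hS, scalar_charpoly, h]))
  rw [← hk, Units.val_mul, Units.val_mul, hS, Matrix.mul_smul, mul_one, Matrix.smul_mul, Units.mul_inv]

include K in
omit hp [CharP F p] in
/-- The scalar `r`-th power of a unitary matrix has norm one. -/
theorem norm_of_pow (hn : 0 < n) {r : ℕ} {y : GL (Fin n) F} (hy : y ∈ GU n F q) {z : F}
    (h : (y : Matrix (Fin n) (Fin n) F) ^ r = z • 1) : z * K.bar z = 1 := by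
  have h1 := ((GU n F q).pow_mem hy r) (Pi.single (⟨0, hn⟩ : Fin n) 1) (Pi.single ⟨0, hn⟩ 1)
  change hermForm n F q (((y ^ r : GL (Fin n) F) : Matrix (Fin n) (Fin n) F) *ᵥ _)
    (((y ^ r : GL (Fin n) F) : Matrix (Fin n) (Fin n) F) *ᵥ _) = _ at h1
  rw [Units.val_pow_eq_pow_val, h, Matrix.smul_mulVec, Matrix.one_mulVec, h_smul_left K, h_smul_right K,
    h_single K] at h1
  simpa using h1

include K hp in
/-- Special unitary matrices with scalar power from their characteristic polynomials. -/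
theorem exists_su {r : ℕ} (hr : r.Prime) (hrp : r ≠ p) {z : F} (hz : z ≠ 0) (f : F[X]) (hm : f.Monic)
    (hd : f.natDegree = n) (ht : τ f = f) (hdet : (-1 : F) ^ n * f.coeff 0 = 1)
    (hfac : ∀ P : F[X], Irreducible P → P ∣ f → P ∣ X ^ r - C z) :
    ∃ x : Matrix.SpecialLinearGroup (Fin n) F, x ∈ SU n F q ∧
      (x : Matrix (Fin n) (Fin n) F) ^ r = z • 1 ∧ (x : Matrix (Fin n) (Fin n) F).charpoly = f := by
  classical
  have h0 : f.coeff 0 ≠ 0 := fun h => by rw [h, mul_zero] at hdet; exact zero_ne_one hdet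
  obtain ⟨B, hB, hBo, hBc⟩ := exists_gu (p := p) K f hm hd h0 ht
  set A := (B : Matrix (Fin n) (Fin n) F)
  have hdetA : A.det = 1 := by rw [Matrix.det_eq_sign_charpoly_coeff, Fintype.card_fin, hBc]; exact hdet
  refine ⟨⟨A, hdetA⟩, fun u v => hB u v, ?_, hBc⟩
  have hR : (X ^ r - C z : F[X]) ≠ 0 := X_pow_sub_C_ne_zero hr.pos z
  have hne : minpoly F A ≠ 0 := minpoly.ne_zero (IsIntegral.of_finite F A)
  have hsq : Squarefree (minpoly F A) := by
    have := (CfsgLib.Classical.SemisimpleClasses.isSemisimple_toLin' B hBo).minpoly_squarefree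
    rwa [Matrix.minpoly_toLin'] at this
  have hmin : minpoly F A ∣ X ^ r - C z := by
    rw [UniqueFactorizationMonoid.dvd_iff_normalizedFactors_le_normalizedFactors hne hR,
      Multiset.le_iff_subset ((UniqueFactorizationMonoid.squarefree_iff_nodup_normalizedFactors hne).mp hsq)]
    intro P hP
    have hPi := UniqueFactorizationMonoid.irreducible_of_normalized_factor P hP
    refine (UniqueFactorizationMonoid.mem_normalizedFactors_iff' hR).mpr
      ⟨hPi, ((UniqueFactorizationMonoid.mem_normalizedFactors_iff' hne).mp hP).2.1, hfac P hPi ?_⟩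
    exact hBc ▸ (UniqueFactorizationMonoid.dvd_of_mem_normalizedFactors hP).trans (Matrix.minpoly_dvd_charpoly A)
  obtain ⟨c, hc⟩ := hmin
  have h1 := congrArg (aeval A) hc
  rw [map_mul, minpoly.aeval, zero_mul, map_sub, map_pow, aeval_X, aeval_C, sub_eq_zero,
    Algebra.algebraMap_eq_smul_one] at h1
  exact h1

omit [Fintype F] hp [CharP F p] in
/-- A special unitary matrix in the general group. -/
theorem toGL_mem {x : Matrix.SpecialLinearGroup (Fin n) F} (hx : x ∈ SU n F q) :
    Matrix.SpecialLinearGroup.toGL x ∈ GU n F q := fun u v => hx u v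

end CfsgLib.Derange.UEl
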