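import Cfsg.Agent.Lib.Derange.UnitFacts
import Cfsg.Agent.Lib.Derange.UnitComb
import Cfsg.Agent.Lib.Classical.OrthPrimeReal

/-!
Unitary matrices whose odd prime power is one: shapes, invariant subspaces and worst cases.
-/

set_option autoImplicit false
set_option linter.unusedSectionVars false
set_option linter.style.haveILetI false
set_option maxHeartbeats 1000000

namespace CfsgLib.Derange.UEl

open Matrix Polynomial UniqueFactorizationMonoid Cfsg
open CfsgLib.Classical.UnitaryTwistPoly CfsgLib.Classical.TwistPairCount CfsgLib.Classical.PrimeOrderCount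
open CfsgLib.ClassicalAut (Unitary.Conj)

variable {F : Type*} [Field F] [Fintype F] {p : ℕ} [hp : Fact p.Prime] [CharP F p] {q : ℕ}
  {K : Unitary.Conj F q} {n m r b t : ℕ} {sf : Prop} [Decidable sf] {D : Finset F[X]}

local notation "τ" => tw (K.bar.toRingHom)

variable (X' : UFacts K.bar.toRingHom r b sf t D)
include X'

theorem UFacts.inv : UInv D τ sf := ⟨X'.tmem, X'.self_iff⟩

/-- All factors of `e` copies of `X - 1` with a multiset from `D`. -/
theorem mem_all {e : ℕ} {R : Multiset F[X]} (hR : ∀ P ∈ R, P ∈ D) :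
    ∀ P ∈ Multiset.replicate e (X - 1) + R, P.Monic ∧ Irreducible P ∧
      (P = X - 1 ∨ P ∈ D) := fun P hP => by
  rcases Multiset.mem_add.1 hP with h | h
  · rw [Multiset.eq_of_mem_replicate h]
    exact ⟨by simpa using monic_X_sub_C (1 : F), by simpa using irreducible_X_sub_C (1 : F), Or.inl rfl⟩
  · exact ⟨(X'.mem P (hR P h)).1, (X'.mem P (hR P h)).2.1, Or.inr (hR P h)⟩

theorem count_one {R : Multiset F[X]} [DecidableEq F[X]] (hR : ∀ P ∈ R, P ∈ D) : R.count (X - 1) = 0 :=
  Multiset.count_eq_zero_of_notMem fun h => X'.one (hR _ h)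

theorem deg_all {e : ℕ} {R : Multiset F[X]} (hR : ∀ P ∈ R, P ∈ D) :
    (Multiset.replicate e (X - 1) + R).prod.Monic ∧
      (Multiset.replicate e (X - 1) + R).prod.natDegree = e + b * Multiset.card R := by
  classical
  obtain ⟨h1, h2⟩ := CfsgLib.Derange.prod_two (S₁ := Multiset.replicate e (X - 1 : F[X])) (S₂ := R) le_rfl le_rfl
    (fun P hP => ⟨(mem_all X' hR P hP).2.1, (mem_all X' hR P hP).1⟩) (fun P hP => by
      rw [Multiset.eq_of_mem_replicate hP]; simpa using natDegree_X_sub_C (1 : F))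
    fun P hP => (X'.mem P (hR P hP)).2.2
  exact ⟨h1, by rw [h2, Multiset.card_replicate, mul_comm b]⟩

theorem tw_all {e : ℕ} {R : Multiset F[X]} (hR : ∀ P ∈ R, P ∈ D) :
    τ (Multiset.replicate e (X - 1) + R).prod = (Multiset.replicate e (X - 1) + R.map τ).prod := by
  rw [tw_prod, Multiset.map_add, Multiset.map_replicate, tw_X_sub_one]

theorem eq_of_prod_eq [DecidableEq F] {S T : Multiset F[X]} (hS : ∀ P ∈ S, P.Monic ∧ Irreducible P)
    (hT : ∀ P ∈ T, P.Monic ∧ Irreducible P) (h : S.prod = T.prod) : S = T := by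
  rw [← nf_prod S hS, ← nf_prod T hT, h]

theorem map_mem {R : Multiset F[X]} (hR : ∀ P ∈ R, P ∈ D) : ∀ P ∈ R.map τ, P ∈ D := fun P hP => by
  obtain ⟨Q, hQ, rfl⟩ := Multiset.mem_map.1 hP
  exact (X'.tmem Q (hR Q hQ)).1

/-- A product of allowed factors, read as a multiset. -/
theorem exists_all {f : F[X]} (hm : f.Monic)
    (hfac : ∀ P : F[X], Irreducible P → P.Monic → P ∣ f → P = X - 1 ∨ P ∈ D) :
    ∃ (e : ℕ) (R : Multiset F[X]), (∀ P ∈ R, P ∈ D) ∧ f = (Multiset.replicate e (X - 1) + R).prod := by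
  classical
  refine ⟨(normalizedFactors f).count (X - 1), (normalizedFactors f).filter fun P => ¬ P = X - 1,
    fun P hP => ?_, ?_⟩
  · rw [Multiset.mem_filter] at hP
    exact (hfac P (irreducible_of_normalized_factor P hP.1) (normalizedFactor_monic hm.ne_zero hP.1)
      (dvd_of_mem_normalizedFactors hP.1)).resolve_left hP.2
  · rw [← Multiset.filter_eq', Multiset.filter_add_not, prod_nf hm]

theorem fixed_of_tw {e : ℕ} {R : Multiset F[X]} (hR : ∀ P ∈ R, P ∈ D)
    (h : τ (Multiset.replicate e (X - 1) + R).prod = (Multiset.replicate e (X - 1) + R).prod) : R.map τ = R := by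
  classical
  rw [tw_all X' hR] at h
  exact add_left_cancel (eq_of_prod_eq X'
    (fun P hP => ⟨(mem_all X' (map_mem X' hR) P hP).1, (mem_all X' (map_mem X' hR) P hP).2.1⟩)
    (fun P hP => ⟨(mem_all X' hR P hP).1, (mem_all X' hR P hP).2.1⟩) h)

theorem split_le {e e' : ℕ} {R R' : Multiset F[X]} [DecidableEq F[X]] (hR : ∀ P ∈ R, P ∈ D) (hR' : ∀ P ∈ R', P ∈ D)
    (h : Multiset.replicate e' (X - 1) + R' ≤ Multiset.replicate e (X - 1) + R) : e' ≤ e ∧ R' ≤ R := by
  refine ⟨?_, Multiset.le_iff_count.2 fun P => ?_⟩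
  · have := Multiset.count_le_of_le (X - 1) h
    rw [Multiset.count_add, Multiset.count_add, count_one X' hR, count_one X' hR', Multiset.count_replicate,
      Multiset.count_replicate, if_pos rfl, if_pos rfl] at this
    omega
  · have := Multiset.count_le_of_le P h
    rw [Multiset.count_add, Multiset.count_add, Multiset.count_replicate, Multiset.count_replicate] at this
    by_cases hP : (X - 1 : F[X]) = P
    · rw [← hP, count_one X' hR']; exact Nat.zero_le _
    · rw [if_neg hP, if_neg hP, zero_add, zero_add] at this; exact this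

include hp in
/-- The shape of a unitary matrix with `y ^ r = 1`. -/
theorem exists_shape {y : GL (Fin n) F} (hy : y ∈ GU n F q) (hyr : (y : Matrix (Fin n) (Fin n) F) ^ r = 1) :
    ∃ (e : ℕ) (R : Multiset F[X]) (k : ℕ), (∀ P ∈ R, P ∈ D) ∧ R.map τ = R ∧ Multiset.card R = blockSize sf * k ∧
      (y : Matrix (Fin n) (Fin n) F).charpoly = (Multiset.replicate e (X - 1) + R).prod ∧
      e + blockSize sf * b * k = n := by
  classical
  obtain ⟨e, R, hR, hf⟩ := exists_all X' (Matrix.charpoly_monic (y : Matrix (Fin n) (Fin n) F)) fun P hP hm hd =>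
    (X'.dvd P hP hm).1 (by rw [← map_one C]; exact factor_dvd (by rw [hyr, one_smul]) hP hd)
  have hfix := fixed_of_tw X' hR (hf ▸ tw_charpoly K hy)
  obtain ⟨k, hk⟩ := exists_blocks (UFacts.inv X') hR hfix
  refine ⟨e, R, k, hR, hfix, hk, hf, ?_⟩
  have := (deg_all X' (e := e) hR).2
  rw [← hf, Matrix.charpoly_natDegree_eq_dim, Fintype.card_fin, hk] at this
  rw [this]; ring

include hp in
/-- Invariant non-degenerate subspaces from a shape. -/
theorem nd_of_shape {y : GL (Fin n) F} (hy : y ∈ GU n F q) (hyo : (orderOf y).Coprime p) (hmn : m ≤ n) {e k : ℕ}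
    {R : Multiset F[X]} (hR : ∀ P ∈ R, P ∈ D) (hfix : R.map τ = R) (hk : Multiset.card R = blockSize sf * k)
    (hf : (y : Matrix (Fin n) (Fin n) F).charpoly = (Multiset.replicate e (X - 1) + R).prod) {e' A : ℕ}
    (he : e' ≤ e) (hA : A ≤ k) (hsum : e' + blockSize sf * b * A = m) : Nd q m (y : Matrix (Fin n) (Fin n) F) := by
  classical
  obtain ⟨T, hT, hTfix, hTc⟩ := exists_stable_sub (UFacts.inv X') hR hfix hk hA
  obtain ⟨U, rfl⟩ := Multiset.le_iff_exists_add.1 hT
  have hU : ∀ P ∈ U, P ∈ D := fun P hP => hR P (Multiset.mem_add.2 (Or.inr hP))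
  have hTm : ∀ P ∈ T, P ∈ D := fun P hP => hR P (Multiset.mem_add.2 (Or.inl hP))
  have hUfix : U.map τ = U := by rw [Multiset.map_add, hTfix] at hfix; exact add_left_cancel hfix
  refine (nd_iff (p := p) K hmn hy hyo).2 ⟨_, _, (deg_all X' (e := e') hTm).1, (deg_all X' (e := e - e') hU).1,
    by rw [tw_all X' hTm, hTfix], by rw [tw_all X' hU, hUfix], ?_, ?_⟩
  · rw [(deg_all X' hTm).2, hTc, ← hsum]; ring
  · rw [hf, ← Multiset.prod_add]
    congr 1
    conv_lhs => rw [← Nat.add_sub_cancel' he, Multiset.replicate_add]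
    abel

include hp in
/-- Invariant totally isotropic subspaces from a shape. -/
theorem tis_of_shape {y : GL (Fin n) F} (hy : y ∈ GU n F q) (hyo : (orderOf y).Coprime p) (hm : 0 < m)
    (hmn : 2 * m ≤ n) {e k : ℕ} {R : Multiset F[X]} (hR : ∀ P ∈ R, P ∈ D) (hfix : R.map τ = R)
    (hk : Multiset.card R = blockSize sf * k)
    (hf : (y : Matrix (Fin n) (Fin n) F).charpoly = (Multiset.replicate e (X - 1) + R).prod) {e' A : ℕ}
    (he : 2 * e' ≤ e) (hA : A ≤ pairCount sf t k) (hsum : e' + b * A = m) : Tis q m (y : Matrix (Fin n) (Fin n) F) := by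
  classical
  obtain ⟨H, hH, hHc⟩ := exists_pair_sub (UFacts.inv X') X'.card hR hfix hk hA
  obtain ⟨U, rfl⟩ := Multiset.le_iff_exists_add.1 hH
  have hHm : ∀ P ∈ H, P ∈ D := fun P hP => hR P (Multiset.mem_add.2 (Or.inl (Multiset.mem_add.2 (Or.inl hP))))
  refine (tis_iff (p := p) K hm hmn hy hyo).2 ⟨_, (Multiset.replicate (e - 2 * e') (X - 1) + U).prod,
    (deg_all X' (e := e') hHm).1, by rw [(deg_all X' hHm).2, hHc, ← hsum], ?_⟩
  rw [hf, tw_all X' hHm, ← Multiset.prod_add, ← Multiset.prod_add]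
  congr 1
  conv_lhs => rw [← Nat.add_sub_cancel' he, two_mul, Multiset.replicate_add, Multiset.replicate_add]
  rw [two_mul]
  abel

include hp in
/-- A shape read off a non-degenerate invariant subspace. -/
theorem nd_shape_conv {y : GL (Fin n) F} (hy : y ∈ GU n F q) (hyo : (orderOf y).Coprime p) (hmn : m ≤ n) {e k : ℕ}
    {R : Multiset F[X]} (hR : ∀ P ∈ R, P ∈ D) (hk : Multiset.card R = blockSize sf * k)
    (hf : (y : Matrix (Fin n) (Fin n) F).charpoly = (Multiset.replicate e (X - 1) + R).prod)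
    (h : Nd q m (y : Matrix (Fin n) (Fin n) F)) :
    ∃ e' A, e' ≤ e ∧ A ≤ k ∧ e' + blockSize sf * b * A = m := by
  classical
  obtain ⟨fA, fB, hAm, -, hAt, -, hAd, hfac⟩ := (nd_iff (p := p) K hmn hy hyo).1 h
  have hS : ∀ P ∈ Multiset.replicate e (X - 1 : F[X]) + R, Irreducible P ∧ P.Monic := fun P hP =>
    ⟨(mem_all X' hR P hP).2.1, (mem_all X' hR P hP).1⟩
  obtain ⟨T, hT, rfl⟩ := CfsgLib.Derange.divisor_multiset hS hAm (by rw [← hf, hfac]; exact dvd_mul_right _ _)
  obtain ⟨e', T', hT'm, hTT⟩ := exists_all X' hAm fun P hP hPm hd => by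
    obtain ⟨Q, hQ, hdQ⟩ := hP.prime.exists_mem_multiset_dvd hd
    rw [eq_of_monic_of_associated hPm (hS Q (Multiset.mem_of_le hT hQ)).2
      (hP.associated_of_dvd (hS Q (Multiset.mem_of_le hT hQ)).1 hdQ)]
    exact (mem_all X' hR Q (Multiset.mem_of_le hT hQ)).2.2
  have hTe : T = Multiset.replicate e' (X - 1) + T' :=
    eq_of_prod_eq X' (fun P hP => ⟨(hS P (Multiset.mem_of_le hT hP)).2, (hS P (Multiset.mem_of_le hT hP)).1⟩)
      (fun P hP => ⟨(mem_all X' hT'm P hP).1, (mem_all X' hT'm P hP).2.1⟩) hTT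
  subst hTe
  obtain ⟨hee, hle⟩ := split_le X' hR hT'm hT
  obtain ⟨A, hA⟩ := exists_blocks (UFacts.inv X') hT'm (fixed_of_tw X' hT'm hAt)
  rw [(deg_all X' hT'm).2, hA] at hAd
  refine ⟨e', A, hee, ?_, by rw [← hAd]; ring⟩
  have := Multiset.card_le_card hle
  rw [hA, hk] at this
  exact Nat.le_of_mul_le_mul_left this (by unfold blockSize; split <;> omega)

include hp in
/-- A shape read off a totally isotropic invariant subspace. -/
theorem tis_shape_conv {y : GL (Fin n) F} (hy : y ∈ GU n F q) (hyo : (orderOf y).Coprime p) (hm : 0 < m)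
    (hmn : 2 * m ≤ n) {e : ℕ} {R : Multiset F[X]} (hR : ∀ P ∈ R, P ∈ D)
    (hf : (y : Matrix (Fin n) (Fin n) F).charpoly = (Multiset.replicate e (X - 1) + R).prod)
    (h : Tis q m (y : Matrix (Fin n) (Fin n) F)) :
    ∃ (e' : ℕ) (H : Multiset F[X]), 2 * e' ≤ e ∧ H + H.map τ ≤ R ∧ e' + b * Multiset.card H = m := by
  classical
  obtain ⟨h₁, g, hhm, hhd, hfac⟩ := (tis_iff (p := p) K hm hmn hy hyo).1 h
  have hS : ∀ P ∈ Multiset.replicate e (X - 1 : F[X]) + R, Irreducible P ∧ P.Monic := fun P hP =>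
    ⟨(mem_all X' hR P hP).2.1, (mem_all X' hR P hP).1⟩
  have hd : h₁ * τ h₁ ∣ (Multiset.replicate e (X - 1) + R).prod := by rw [← hf, hfac]; exact dvd_mul_right _ _
  obtain ⟨e', H, hHm, rfl⟩ := exists_all X' hhm fun P hP hPm hdP => by
    obtain ⟨Q, hQ, hdQ⟩ := hP.prime.exists_mem_multiset_dvd (hdP.trans (dvd_mul_right _ _) |>.trans hd)
    rw [eq_of_monic_of_associated hPm (hS Q hQ).2 (hP.associated_of_dvd (hS Q hQ).1 hdQ)]
    exact (mem_all X' hR Q hQ).2.2
  rw [tw_all X' hHm, ← Multiset.prod_add] at hd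
  have hne : (Multiset.replicate e (X - 1) + R).prod ≠ (0 : F[X]) := (deg_all X' hR).1.ne_zero
  have hS2 : ∀ P ∈ Multiset.replicate e' (X - 1) + H + (Multiset.replicate e' (X - 1) + H.map τ),
      P.Monic ∧ Irreducible P := fun P hP => by
    rcases Multiset.mem_add.1 hP with h' | h'
    · exact ⟨(mem_all X' hHm P h').1, (mem_all X' hHm P h').2.1⟩
    · exact ⟨(mem_all X' (map_mem X' hHm) P h').1, (mem_all X' (map_mem X' hHm) P h').2.1⟩
  have hle := (dvd_iff_normalizedFactors_le_normalizedFactors (fun h0 => hne (zero_dvd_iff.1 (h0 ▸ hd))) hne).1 hd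
  rw [nf_prod _ hS2, nf_prod _ fun P hP => ⟨(hS P hP).2, (hS P hP).1⟩,
    show Multiset.replicate e' (X - 1 : F[X]) + H + (Multiset.replicate e' (X - 1) + H.map τ) =
      Multiset.replicate (2 * e') (X - 1) + (H + H.map τ) by rw [two_mul, Multiset.replicate_add]; abel] at hle
  obtain ⟨h1, h2⟩ := split_le X' hR (fun P hP => (Multiset.mem_add.1 hP).elim (hHm P) (map_mem X' hHm P)) hle
  exact ⟨e', H, h1, h2, by rw [← hhd, (deg_all X' hHm).2]⟩

include hp in
/-- Every shape occurs in the special unitary group, in its worst form. -/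
theorem exists_worst_su (hr : r.Prime) (hrp : r ≠ p) (hco : ¬ r ∣ q + 1) (hn : 0 < n) (ht : 0 < t) {e k : ℕ}
    (hk : 0 < k) (he : e + blockSize sf * b * k = n) :
    ∃ x : Matrix.SpecialLinearGroup (Fin n) F, x ∈ SU n F q ∧ (x : Matrix (Fin n) (Fin n) F) ^ r = 1 ∧
      (∀ z : F, (x : Matrix (Fin n) (Fin n) F) ≠ z • 1) ∧
      (m ≤ n → Nd q m (x : Matrix (Fin n) (Fin n) F) → ∃ e' A, e' ≤ e ∧ A ≤ k ∧ e' + blockSize sf * b * A = m) ∧
      (0 < m → 2 * m ≤ n → Tis q m (x : Matrix (Fin n) (Fin n) F) →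
        ∃ e' A, 2 * e' ≤ e ∧ A ≤ pairCount sf t k ∧ e' + b * A = m) := by
  classical
  obtain ⟨R, hR, hfix, hRc, hworst⟩ := exists_worst_blocks (UFacts.inv X') X'.card ht k
  set f := (Multiset.replicate e (X - 1) + R).prod with hf
  obtain ⟨hfm, hfd⟩ := deg_all X' (e := e) hR
  rw [← hf, hRc, show e + b * (blockSize sf * k) = n by rw [← he]; ring] at hfd
  rw [← hf] at hfm
  have hfac : ∀ P : F[X], Irreducible P → P ∣ f → P ∣ X ^ r - 1 := fun P hP hd => by
    obtain ⟨Q, hQ, hdQ⟩ := hP.prime.exists_mem_multiset_dvd hd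
    exact hdQ.trans ((X'.dvd Q (mem_all X' hR Q hQ).2.1 (mem_all X' hR Q hQ).1).2 (mem_all X' hR Q hQ).2.2)
  have hf0 : f.coeff 0 ≠ 0 := fun h => by
    have hX : X ∣ (X ^ r - 1 : F[X]) := hfac X irreducible_X (X_dvd_iff.2 h)
    rw [X_dvd_iff] at hX
    simp [coeff_X_pow, hr.ne_zero.symm] at hX
  obtain ⟨B, hB, hBo, hBc⟩ := exists_gu (p := p) K f hfm hfd hf0 (by rw [hf, tw_all X' hR, hfix])
  have hBr : (B : Matrix (Fin n) (Fin n) F) ^ r = 1 :=
    CfsgLib.Classical.OrthPrimeReal.pow_eq_one_of_factors (p := p) hr.pos _ hBo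
      (by rw [← Units.val_pow_eq_pow_val, pow_orderOf_eq_one, Units.val_one]) (hBc ▸ hfac)
  have hdet : (B : Matrix (Fin n) (Fin n) F).det = 1 := by
    set d := CfsgLib.ClassicalAut.Unitary.det1 n K ⟨B, hB⟩
    have h1 : d ^ r = 1 := by
      rw [← map_pow, show (⟨B, hB⟩ : ↥(GU n F q)) ^ r = 1 from
        Subtype.ext (Units.ext (by rw [SubmonoidClass.coe_pow, Units.val_pow_eq_pow_val]; exact hBr)), map_one]
    have h3 : orderOf d ∣ q + 1 := CfsgLib.ClassicalAut.Unitary.card_normOne K ▸ orderOf_dvd_natCard _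
    have h2 : d = 1 := orderOf_eq_one_iff.1
      (Nat.eq_one_of_dvd_coprimes (hr.coprime_iff_not_dvd.2 hco) (orderOf_dvd_of_pow_eq_one h1) h3)
    exact congrArg (fun z : CfsgLib.ClassicalAut.Unitary.normOne K => ((z : Fˣ) : F)) h2
  refine ⟨⟨B, hdet⟩, fun u v => hB u v, hBr, fun z hz => ?_, fun hmn h => ?_, fun hm hmn h => ?_⟩
  · -- a scalar has no further factors
    have hz' : (B : Matrix (Fin n) (Fin n) F) = z • 1 := hz
    have hz1 : z = 1 := by
      have hzn := norm_of_pow K hn (r := 1) hB (by rw [pow_one]; exact hz')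
      have hzr : z ^ r = 1 := by
        rw [hz', _root_.smul_pow, one_pow] at hBr
        simpa using congrFun (congrFun hBr ⟨0, hn⟩) ⟨0, hn⟩
      rw [K.bar_apply, ← pow_succ'] at hzn
      have := (pow_gcd_eq_one (a := z) (m := r) (n := q + 1)).2 ⟨hzr, hzn⟩
      rwa [(hr.coprime_iff_not_dvd.2 hco).gcd_eq_one, pow_one] at this
    have hbad := hBc.symm.trans (show (B : Matrix (Fin n) (Fin n) F).charpoly = (Multiset.replicate n (X - 1 : F[X])).prod by
      rw [hz', scalar_charpoly, hz1, map_one, Multiset.prod_replicate])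
    have h2 := eq_of_prod_eq X' (fun P hP => ⟨(mem_all X' hR P hP).1, (mem_all X' hR P hP).2.1⟩)
      (fun P hP => by
        rw [Multiset.eq_of_mem_replicate hP]
        exact ⟨by simpa using monic_X_sub_C (1 : F), by simpa using irreducible_X_sub_C (1 : F)⟩) hbad
    have h3 := congrArg (Multiset.count (X - 1 : F[X])) h2
    rw [Multiset.count_add, Multiset.count_replicate, Multiset.count_replicate, if_pos rfl, if_pos rfl,
      count_one X' hR] at h3
    have h4 : 0 < blockSize sf * b * k :=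
      Nat.mul_pos (Nat.mul_pos (by unfold blockSize; split <;> omega) X'.pos) hk
    omega
  · exact nd_shape_conv X' hB hBo hmn hR hRc hBc h
  · obtain ⟨e', H, h1, h2, h3⟩ := tis_shape_conv X' hB hBo hm hmn hR hBc h
    exact ⟨e', _, h1, hworst H h2, h3⟩

end CfsgLib.Derange.UEl
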