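import Cfsg.Agent.Lib.Derange.UnitaryPairs

/-!
Eigenspaces of the unitary elements stabilising a pair of complementary totally singular subspaces.
-/

set_option autoImplicit false
set_option linter.unusedSectionVars false
set_option linter.style.haveILetI false

namespace CfsgLib.Derange.UPair

open Matrix Cfsg Module
open CfsgLib.Classical.Herm CfsgLib.Classical.HermPair
open CfsgLib.ClassicalAut (Unitary.Conj)

variable {F : Type*} [Field F] [Finite F] {q : ℕ} (K : Unitary.Conj F q) {n m : ℕ}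

local notation "H" => hermForm n F q
local notation "V" => (Fin n → F)

include K in
theorem eig_inf_le {U W : Submodule F V} (P : Pol q m U W) {y : GL (Fin n) F} (hy : y ∈ GU n F q)
    (hU : ∀ u ∈ U, lmap y u ∈ U) (hW : ∀ u ∈ W, lmap y u ∈ W) {μ : F} (hμ : μ * K.bar μ = 1) :
    finrank F (U ⊓ eig y μ : Submodule F V) ≤ finrank F (W ⊓ eig y μ : Submodule F V) := by
  set L : U →ₗ[F] V := (lmap y - μ • LinearMap.id).domRestrict U with hL
  have hker : finrank F (U ⊓ eig y μ : Submodule F V) = finrank F (LinearMap.ker L) := by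
    rw [← Submodule.finrank_map_subtype_eq U (LinearMap.ker L)]
    suffices h : U ⊓ eig y μ = (LinearMap.ker L).map U.subtype by rw [h]
    ext v
    simp only [Submodule.mem_inf, mem_eig, Submodule.mem_map, LinearMap.mem_ker]
    constructor
    · rintro ⟨hv, he⟩
      exact ⟨⟨v, hv⟩, by simp [hL, he], rfl⟩
    · rintro ⟨⟨w, hw⟩, he, rfl⟩
      exact ⟨hw, sub_eq_zero.1 (by simpa [hL] using he)⟩
  let b := finBasis F (LinearMap.range L)
  have hspan : ∀ u : U, L u ∈ Submodule.span F (Set.range fun i => (b i : V)) := fun u => by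
    have := Submodule.mem_map_of_mem (f := (LinearMap.range L).subtype)
      (b.mem_span ⟨L u, LinearMap.mem_range_self L u⟩)
    rwa [Submodule.map_span, ← Set.range_comp] at this
  have hsub : W ⊓ orth K (Submodule.span F (Set.range fun i => (b i : V))) ≤ W ⊓ eig y μ := by
    rintro w ⟨hw, ho⟩
    refine ⟨hw, mem_eig.2 (sub_eq_zero.1 (h_nondeg K fun v => ?_))⟩
    have hd : lmap y w - μ • w ∈ W := W.sub_mem (hW w hw) (W.smul_mem _ hw)
    obtain ⟨v1, hv1, v2, hv2, rfl⟩ := exists_parts P v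
    rw [h_add_right K, P.w0 _ hd v2 hv2, add_zero]
    refine h_eq_zero_symm K ?_
    obtain ⟨u, hu, rfl⟩ : ∃ u ∈ U, lmap y u = v1 := by
      obtain ⟨⟨u, hu⟩, e⟩ := ((lmap y).restrict hU).surjective_of_injective
        (fun a c e => Subtype.ext (lmap_injective y (congrArg Subtype.val e))) ⟨v1, hv1⟩
      exact ⟨u, hu, congrArg Subtype.val e⟩
    have h0 : H (lmap y u - μ • u) w = 0 := by
      have := ho (L ⟨u, hu⟩) (hspan ⟨u, hu⟩)
      simpa [hL] using this
    rw [h_sub_right K, h_smul_right K, lmap_h hy]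
    rw [h_sub_left K, h_smul_left K] at h0
    linear_combination (-(K.bar μ)) * h0 - (H u w) * hμ
  have h1 := L.finrank_range_add_finrank_ker
  rw [P.dimU] at h1
  have h2 := finrank_inf_orth_le K W _ fun i => (b i : V)
  rw [P.dimW] at h2
  have h3 := Submodule.finrank_mono hsub
  omega

include K in
/-- An element fixing both members of a polar pair has even-dimensional eigenspaces for norm one values. -/
theorem even_of_fix {U W : Submodule F V} (P : Pol q m U W) {y : GL (Fin n) F} (hy : y ∈ GU n F q)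
    (hU : ∀ u ∈ U, lmap y u ∈ U) (hW : ∀ u ∈ W, lmap y u ∈ W) {μ : F} (hμ : μ * K.bar μ = 1) :
    Even (finrank F (eig y μ)) := by
  have h1 := eig_inf_le K P hy hU hW hμ
  have h2 := eig_inf_le K P.symm hy hW hU hμ
  have hsup : eig y μ = (U ⊓ eig y μ) ⊔ (W ⊓ eig y μ) := by
    refine le_antisymm (fun v hv => ?_) (sup_le inf_le_right inf_le_right)
    obtain ⟨v1, hv1, v2, hv2, rfl⟩ := exists_parts P v
    have he := mem_eig.1 hv
    rw [map_add, smul_add, ← sub_eq_zero, add_sub_add_comm] at he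
    have hzero : ∀ a ∈ U, ∀ c ∈ W, a + c = 0 → a = 0 := fun a ha c hc h =>
      Submodule.disjoint_def.1 P.compl.disjoint a ha (by
        rw [eq_neg_of_add_eq_zero_left h]; exact W.neg_mem hc)
    have z1 := hzero _ (U.sub_mem (hU v1 hv1) (U.smul_mem μ hv1)) _ (W.sub_mem (hW v2 hv2) (W.smul_mem μ hv2)) he
    rw [z1, zero_add] at he
    exact Submodule.mem_sup.2 ⟨v1, ⟨hv1, mem_eig.2 (sub_eq_zero.1 z1)⟩, v2, ⟨hv2, mem_eig.2 (sub_eq_zero.1 he)⟩, rfl⟩
  have h3 := Submodule.finrank_sup_add_finrank_inf_eq (U ⊓ eig y μ) (W ⊓ eig y μ)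
  have h4 : (U ⊓ eig y μ) ⊓ (W ⊓ eig y μ) = ⊥ :=
    le_bot_iff.1 ((inf_le_inf inf_le_left inf_le_left).trans P.compl.inf_eq_bot.le)
  rw [← hsup, h4, finrank_bot, add_zero] at h3
  exact ⟨_, h3.trans (by rw [le_antisymm h1 h2])⟩

/-- An element exchanging the members of a pair has small eigenspaces. -/
theorem eig_le_of_swap {U W : Submodule F V} (P : Pol q m U W) (hnm : m + m = n) {y : GL (Fin n) F}
    (hU : ∀ u ∈ U, lmap y u ∈ W) {μ : F} (hμ : μ ≠ 0) : finrank F (eig y μ) ≤ m := by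
  have h4 : eig y μ ⊓ U = ⊥ := (Submodule.eq_bot_iff _).2 fun v hv => by
    have h := hU v hv.2
    rw [mem_eig.1 hv.1, Submodule.smul_mem_iff _ hμ] at h
    exact Submodule.disjoint_def.1 P.compl.disjoint v hv.2 h
  have h3 := Submodule.finrank_sup_add_finrank_inf_eq (eig y μ) U
  rw [h4, finrank_bot, add_zero, P.dimU] at h3
  have := Submodule.finrank_le (eig y μ ⊔ U)
  rw [Module.finrank_fin_fun] at this
  omega

theorem eig_conj (g x : GL (Fin n) F) (μ : F) :
    finrank F (eig (g⁻¹ * x * g) μ) = finrank F (eig x μ) := by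
  suffices h : (eig (g⁻¹ * x * g) μ).map (lmap g) = eig x μ by
    rw [← h]
    exact LinearEquiv.finrank_eq (Submodule.equivMapOfInjective _ (lmap_injective g) _)
  ext v
  constructor
  · rintro ⟨w, hw, rfl⟩
    have := congrArg (lmap g) (mem_eig.1 hw)
    rw [lmap_mul, lmap_mul, lmap_inv', map_smul] at this
    exact mem_eig.2 this
  · intro hv
    refine ⟨lmap g⁻¹ v, mem_eig.2 ?_, lmap_inv' g v⟩
    rw [lmap_mul, lmap_mul, lmap_inv', mem_eig.1 hv, map_smul]

include K in
/-- The criterion for an element to have no unitary conjugate stabilising `D`. -/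
theorem not_mem_stab {D : Fin 2 → Submodule F V} (hnm : m + m = n) (hD : Cfsg.Geo.IsMDecomposition m D)
    (hts : ∀ i, Cfsg.Geo.IsTotallySingularFor (H) (D i)) {x g : GL (Fin n) F} (hx : x ∈ GU n F q)
    (hg : g ∈ GU n F q) {μ : F} (hμ : μ * K.bar μ = 1) (hodd : Odd (finrank F (eig x μ)))
    (hsw : m < finrank F (eig x μ) ∨
      ∃ r, Odd r ∧ ∃ z : F, ((x ^ r : GL (Fin n) F) : Matrix (Fin n) (Fin n) F) = z • (1 : Matrix (Fin n) (Fin n) F)) :
    g⁻¹ * x * g ∉ Cfsg.Geo.decompositionStabilizer D := by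
  rintro ⟨σ, hσ⟩
  set y := g⁻¹ * x * g with hy
  have hyG : y ∈ GU n F q := mul_mem (mul_mem (inv_mem hg) hx) hg
  have P := pol_of hD hts
  have hmem : ∀ i, ∀ u ∈ D i, lmap y u ∈ D (σ i) := fun i u hu => by rw [← hσ i]; exact ⟨u, hu, rfl⟩
  rcases ((by decide : ∀ τ : Equiv.Perm (Fin 2), τ = 1 ∨ τ = Equiv.swap 0 1) σ) with rfl | rfl
  · refine Nat.not_even_iff_odd.2 hodd ?_
    rw [← eig_conj g x μ]
    exact even_of_fix K P hyG (hmem 0) (hmem 1) hμ
  rcases hsw with hlt | ⟨r, hr, z, hz⟩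
  · have := eig_le_of_swap P hnm (hmem 0) (bar_mul_self_ne K hμ)
    rw [eig_conj] at this
    omega
  · have hpow : ∀ k, ∀ i, ∀ u ∈ D i, lmap (y ^ k) u ∈ D ((Equiv.swap (0 : Fin 2) 1 ^ k) i) := by
      intro k
      induction k with
      | zero => intro i u hu; simpa [lmap] using hu
      | succ k ih =>
        intro i u hu
        rw [pow_succ' y, lmap_mul, pow_succ' (Equiv.swap (0 : Fin 2) 1), Equiv.Perm.mul_apply]
        exact hmem _ _ (ih i u hu)
    have hyz : ∀ u, lmap (y ^ r) u = z • u := fun u => by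
      rw [hy, show g⁻¹ * x * g = g⁻¹ * x * (g⁻¹)⁻¹ by rw [inv_inv], conj_pow, inv_inv, lmap_mul, lmap_mul]
      simp [lmap, hz]
    have hs : Equiv.swap (0 : Fin 2) 1 ^ r = Equiv.swap 0 1 := by
      obtain ⟨k, rfl⟩ := hr
      rw [pow_succ, pow_mul, sq, Equiv.swap_mul_self, one_pow, one_mul]
    obtain ⟨u, hu, hu0⟩ := Submodule.exists_mem_ne_zero_of_ne_bot (p := D 0) fun h => by
      have := hD.finrank_eq 0
      rw [h, finrank_bot] at this
      exact absurd this hD.pos.ne
    have h := hpow r 0 u hu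
    rw [hs, Equiv.swap_apply_left, hyz] at h
    have hz0 : z ≠ 0 := fun h0 => hu0 (lmap_injective (y ^ r) (by rw [hyz, h0, zero_smul, map_zero]))
    rw [Submodule.smul_mem_iff _ hz0] at h
    exact hu0 (Submodule.disjoint_def.1 P.compl.disjoint u hu h)

end CfsgLib.Derange.UPair
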