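import Cfsg.Agent.Lib.Derange.UnitaryPairs
import Cfsg.Agent.Lib.Classical.GUQuotient
import Cfsg.Agent.Lib.Classical.UnitarySemisimple
import Cfsg.Agent.Lib.Derange.LinearDecomp

/-!
The index of the stabiliser of a polar pair in the special unitary group, and sample elements of prime
order with a prescribed fixed space.
-/

set_option autoImplicit false
set_option linter.unusedSectionVars false
set_option linter.style.haveILetI false

namespace CfsgLib.Derange.UPair

open Matrix Cfsg Module
open CfsgLib.Classical.Herm CfsgLib.Classical.HermPair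
open CfsgLib.ClassicalAut (Unitary.Conj Unitary.det1 Unitary.normOne Unitary.mem_normOne Unitary.card_normOne Unitary.herm_apply)

variable {F : Type*} [Field F] [Fintype F] {q : ℕ} (K : Unitary.Conj F q) {n m : ℕ}

local notation "H" => hermForm n F q
local notation "V" => (Fin n → F)
local notation "SG" => (GU n F q ⊓ Cfsg.Geo.specialLinear (Fin n) F)

theorem gl_prod (Q : ℕ) : ∀ m : ℕ, ∃ a, ∏ i : Fin m, (Q ^ m - Q ^ (i : ℕ)) =
    Q ^ a * ∏ k ∈ Finset.range m, (Q ^ (k + 1) - 1) := by
  intro m
  induction m with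
  | zero => exact ⟨0, by simp⟩
  | succ m ih =>
    obtain ⟨a, ha⟩ := ih
    refine ⟨m + a, ?_⟩
    have e : ∀ i : Fin m, Q ^ (m + 1) - Q ^ ((i.succ : Fin (m + 1)) : ℕ) = Q * (Q ^ m - Q ^ (i : ℕ)) := fun i => by
      rw [Fin.val_succ, pow_succ', pow_succ', Nat.mul_sub]
    rw [Fin.prod_univ_succ, Finset.prod_congr rfl fun i _ => e i, Finset.prod_mul_distrib, ha,
      Finset.prod_const, Finset.card_univ, Fintype.card_fin, Finset.prod_range_succ, Fin.val_zero, pow_zero, pow_add]
    ring

theorem gu_prod (q : ℕ) : ∀ m : ℕ, ∏ i ∈ Finset.range (m + m), (if Even i then q ^ (i + 1) + 1 else q ^ (i + 1) - 1) =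
    (∏ k ∈ Finset.range m, (q ^ (2 * k + 1) + 1)) * ∏ k ∈ Finset.range m, ((q ^ 2) ^ (k + 1) - 1) := by
  intro m
  induction m with
  | zero => simp
  | succ m ih =>
    rw [show m + 1 + (m + 1) = m + m + 1 + 1 by omega, Finset.prod_range_succ, Finset.prod_range_succ, ih,
      Finset.prod_range_succ, Finset.prod_range_succ, if_pos ⟨m, rfl⟩,
      if_neg (Nat.not_even_iff_odd.2 ⟨m, by omega⟩), ← pow_mul, show 2 * (m + 1) = m + m + 1 + 1 by omega,
      show 2 * m + 1 = m + m + 1 by omega]
    ring

include K in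
theorem card_special (hn : 1 ≤ n) : (q + 1) * Nat.card ↥SG = Nat.card (GU n F q) := by
  rw [← card_SU K hn]
  congr 1
  refine (Nat.card_congr (Equiv.ofBijective (fun s => (⟨toGLHom s, (mem_range_iff _).2 ⟨s, rfl⟩⟩ : ↥SG)) ⟨?_, ?_⟩)).symm
  · intro a b hab
    exact Subtype.ext (Subtype.ext (congrArg Units.val (congrArg Subtype.val hab)))
  · rintro ⟨g, hg⟩
    obtain ⟨s, rfl⟩ := (mem_range_iff g).1 hg
    exact ⟨s, rfl⟩

/-- The block matrices of `GL_m`. -/
noncomputable def blocks : GL (Fin m) F →* Matrix (Fin m ⊕ Fin m) (Fin m ⊕ Fin m) F where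
  toFun A := Matrix.fromBlocks (A : Matrix (Fin m) (Fin m) F) 0 0
    ((((A⁻¹ : GL (Fin m) F)) : Matrix (Fin m) (Fin m) F).map K.bar)ᵀ
  map_one' := by simp [Matrix.map_one]
  map_mul' A B := by
    simp [Matrix.fromBlocks_multiply, Matrix.map_mul, Matrix.mul_inv_rev]

include K in
/-- The index of the stabiliser of a polar pair has only prime divisors dividing some `q ^ (2k+1) + 1`. -/
theorem exists_dvd_of_relIndex {D : Fin 2 → Submodule F V} (hnm : m + m = n) (hD : Cfsg.Geo.IsMDecomposition m D)
    (hts : ∀ i, Cfsg.Geo.IsTotallySingularFor (H) (D i)) {r : ℕ} (hr : r.Prime) (hrq : ¬ r ∣ q)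
    (hΩ : r ∣ (Cfsg.Geo.decompositionStabilizer D).relIndex SG) : ∃ k < m, r ∣ q ^ (2 * k + 1) + 1 := by
  classical
  obtain ⟨e, f, E, he, hf⟩ := exists_dual K (pol_of hD hts)
  let b := E.basis K hD.pos hnm
  let T : GL (Fin m) F →* End F V :=
    ((Matrix.toLinAlgEquiv b).toAlgHom.toRingHom.toMonoidHom).comp (blocks K)
  have hT : ∀ A i, T A (b i) = ∑ j, blocks K A j i • b j := fun A i => Matrix.toLinAlgEquiv_self b _ i
  let ψ₀ : GL (Fin m) F →* GL (Fin n) F :=
    ((LinearMap.toMatrixAlgEquiv' (R := F) (n := Fin n)).toAlgHom.toRingHom.toMonoidHom.comp T).toHomUnits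
  have hψ : ∀ A v, lmap (ψ₀ A) v = T A v := fun A v => by
    show Matrix.toLin' (LinearMap.toMatrix' (T A)) v = T A v
    rw [Matrix.toLin'_toMatrix']
  have hTe : ∀ A j, T A (e j) = ∑ i, (A : Matrix (Fin m) (Fin m) F) i j • e i := fun A j => by
    have := hT A (Sum.inl j)
    simpa [b, E.basis_apply, blocks, Fintype.sum_sum_type] using this
  have hTf : ∀ A j, T A (f j) = ∑ i, K.bar (((A⁻¹ : GL (Fin m) F) : Matrix (Fin m) (Fin m) F) j i) • f i := fun A j => by
    have := hT A (Sum.inr j)
    simpa [b, E.basis_apply, blocks, Fintype.sum_sum_type] using this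
  have hmem : ∀ A, ψ₀ A ∈ GU n F q := fun A => by
    have hiso := iso_of_basis K b (T A) fun i j => by
      have h_sum_right : ∀ (u : V) (g : Fin m → V), H u (∑ l, g l) = ∑ l, H u (g l) := fun u g =>
        map_sum (AddMonoidHom.mk' (fun v => H u v) (h_add_right K u)) g Finset.univ
      rcases i with i | i <;> rcases j with j | j <;>
        simp only [b, E.basis_apply, Sum.elim_inl, Sum.elim_inr, hTe, hTf, h_sum_left K, h_sum_right,
          h_smul_left K, h_smul_right K, E.ee, E.ff, E.ef, E.fe K, mul_zero, Finset.sum_const_zero, mul_ite, mul_one,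
          Finset.sum_ite_eq, Finset.mem_univ, if_true, K.bar_bar]
      · have := congrFun (congrFun (A.inv_mul) j) i
        rw [Matrix.mul_apply, Matrix.one_apply] at this
        refine Eq.trans (Finset.sum_congr rfl fun k _ => mul_comm _ _) (this.trans ?_)
        exact if_congr eq_comm rfl rfl
      · have := congrArg K.bar (congrFun (congrFun (A.inv_mul) i) j)
        rw [Matrix.mul_apply, Matrix.one_apply, map_sum] at this
        simp only [map_mul] at this
        refine this.trans ?_
        split <;> simp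
    intro u v
    have := hiso u v
    rw [← hψ, ← hψ] at this
    simpa [lmap, Matrix.toLin'_apply] using this
  let ψ : GL (Fin m) F →* GU n F q := ψ₀.codRestrict _ hmem
  have hinj : Function.Injective ψ := fun A B h => by
    have h2 : blocks K A = blocks K B := (Matrix.toLinAlgEquiv b).injective
      ((LinearMap.toMatrixAlgEquiv' (R := F) (n := Fin n)).injective
        (congrArg Units.val (congrArg Subtype.val h)))
    exact Units.ext (congrArg Matrix.toBlocks₁₁ h2)
  let d : GL (Fin m) F →* Unitary.normOne K := (Unitary.det1 n K).comp ψ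
  have hd : Function.Surjective d := by
    intro c
    have hc : ((c : Fˣ) : F) * K.bar ((c : Fˣ) : F) = 1 := (Unitary.mem_normOne K).1 c.2
    obtain ⟨a, ha0, ha⟩ := exists_ratio K (d := ((c : Fˣ) : F)⁻¹) (by rw [map_inv₀, ← mul_inv, hc, inv_one])
    refine ⟨AutPSL.detGL ⟨0, hD.pos⟩ (Units.mk0 a ha0), Subtype.ext (Units.ext ?_)⟩
    set A := AutPSL.detGL (⟨0, hD.pos⟩ : Fin m) (Units.mk0 a ha0)
    have hA : ((A : GL (Fin m) F) : Matrix (Fin m) (Fin m) F).det = a :=
      congrArg Units.val (AutPSL.det_detGL _ _)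
    show (LinearMap.toMatrix' (T A)).det = _
    rw [← LinearMap.det_toLin', Matrix.toLin'_toMatrix']
    show LinearMap.det (Matrix.toLin b b (blocks K A)) = _
    rw [LinearMap.det_toLin]
    show (Matrix.fromBlocks _ 0 0 _).det = _
    rw [Matrix.det_fromBlocks_zero₂₁, Matrix.det_transpose,
      show (((A⁻¹ : GL (Fin m) F) : Matrix (Fin m) (Fin m) F).map K.bar).det =
        K.bar ((A⁻¹ : GL (Fin m) F) : Matrix (Fin m) (Fin m) F).det from (RingHom.map_det K.bar.toRingHom _).symm,
      Matrix.coe_units_inv, Matrix.det_nonsing_inv, Ring.inverse_eq_inv', hA, map_inv₀]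
    exact (mul_inv_eq_one₀ (c : Fˣ).ne_zero).1 ha
  -- the kernel lies in the stabiliser
  have hker : ∀ A ∈ d.ker, ψ₀ A ∈ SG := fun A hA =>
    ⟨hmem A, MonoidHom.mem_ker.2 (congrArg Subtype.val (MonoidHom.mem_ker.1 hA))⟩
  have hstab : ∀ A, ψ₀ A ∈ Cfsg.Geo.decompositionStabilizer D := fun A => by
    have hli := E.linearIndependent K
    have key : ∀ (U : Submodule F V) (u : Fin m → V), (∀ i, u i ∈ U) → LinearIndependent F u →
        finrank F U = m → (∀ j, lmap (ψ₀ A) (u j) ∈ U) → U.map (lmap (ψ₀ A)) = U := by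
      intro U u hu hl hdU hy
      have hs : Submodule.span F (Set.range u) = U :=
        Submodule.eq_of_le_of_finrank_le (Submodule.span_le.2 (Set.range_subset_iff.2 hu))
          (by rw [finrank_span_eq_card hl, hdU, Fintype.card_fin])
      refine Submodule.eq_of_le_of_finrank_le ?_ (le_of_eq ?_)
      · conv_lhs => rw [← hs, Submodule.map_span]
        refine Submodule.span_le.2 ?_
        rintro _ ⟨_, ⟨i, rfl⟩, rfl⟩
        exact hy i
      · exact LinearEquiv.finrank_eq (Submodule.equivMapOfInjective _ (lmap_injective _) U)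
    refine ⟨1, fun i => ?_⟩
    fin_cases i
    · exact key _ e he (by simpa using hli.comp _ Sum.inl_injective) (hD.finrank_eq 0) fun j => by
        rw [hψ, hTe]; exact Submodule.sum_mem _ fun i _ => Submodule.smul_mem _ _ (he i)
    · exact key _ f hf (by simpa using hli.comp _ Sum.inr_injective) (hD.finrank_eq 1) fun j => by
        rw [hψ, hTf]; exact Submodule.sum_mem _ fun i _ => Submodule.smul_mem _ _ (hf i)
  let φ : d.ker →* (Cfsg.Geo.decompositionStabilizer D).subgroupOf SG :=
    ((ψ₀.comp d.ker.subtype).codRestrict SG fun A => hker A A.2).codRestrict _ fun A => hstab A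
  have hφ : Function.Injective φ := fun A B h => Subtype.ext (hinj (Subtype.ext (congrArg (fun z => z.1.1) h)))
  have hdvd := Subgroup.card_dvd_of_injective φ hφ
  obtain ⟨c, hc⟩ := hdvd
  -- orders
  have hkc : (q + 1) * Nat.card d.ker = Nat.card (GL (Fin m) F) := by
    rw [Subgroup.card_eq_card_quotient_mul_card_subgroup d.ker,
      Nat.card_congr (QuotientGroup.quotientKerEquivOfSurjective d hd).toEquiv, Unitary.card_normOne K]
  have hidx : r * Nat.card ((Cfsg.Geo.decompositionStabilizer D).subgroupOf SG) ∣ Nat.card ↥SG := by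
    obtain ⟨s, hs⟩ := hΩ
    refine ⟨s, ?_⟩
    rw [← Subgroup.card_mul_index ((Cfsg.Geo.decompositionStabilizer D).subgroupOf SG),
      show ((Cfsg.Geo.decompositionStabilizer D).subgroupOf SG).index = r * s from hs]
    ring
  have hmain : r * Nat.card (GL (Fin m) F) ∣ Nat.card (GU n F q) := by
    rw [← card_special K (by have := hD.pos; omega), ← hkc]
    refine dvd_trans ⟨c, ?_⟩ (Nat.mul_dvd_mul_left _ hidx)
    rw [hc]
    ring
  have hFc : Fintype.card F = q ^ 2 := by rw [← Nat.card_eq_fintype_card]; exact K.card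
  rw [Matrix.card_GL_field, hFc, card_GU K, ← hnm, gu_prod] at hmain
  obtain ⟨a, ha⟩ := gl_prod (q ^ 2) m
  rw [ha] at hmain
  set P := ∏ k ∈ Finset.range m, ((q ^ 2) ^ (k + 1) - 1)
  have hq2 := K.two_le
  have hP : 0 < P := Finset.prod_pos fun k _ => Nat.sub_pos_of_lt (Nat.one_lt_pow (by omega) (Nat.one_lt_pow two_ne_zero hq2))
  rw [← mul_assoc, ← mul_assoc] at hmain
  have h1 := Nat.dvd_of_mul_dvd_mul_right hP hmain
  have h2 := dvd_of_mul_right_dvd h1
  rcases hr.dvd_mul.1 h2 with h | h
  · exact absurd (hr.dvd_of_dvd_pow h) hrq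
  · obtain ⟨k, hk, hdiv⟩ := (Prime.dvd_finsetProd_iff hr.prime _).1 h
    exact ⟨k, Finset.mem_range.1 hk, hdiv⟩

/-! ### Sample elements -/

include K in
/-- A transvection. -/
theorem exists_transvection (hn : 2 ≤ n) (p : ℕ) [CharP F p] :
    ∃ x ∈ SG, x ^ p = 1 ∧ finrank F (eig x 1) = n - 1 := by
  obtain ⟨v, -, hv0, hv⟩ := exists_isotropic_ne K (P := (⊤ : Submodule F V)) (by simp; omega)
  obtain ⟨θ, hθ0, hθ⟩ := exists_skew K
  obtain ⟨T, hT⟩ := exists_T K hv hθ
  refine ⟨toGLHom T, (mem_range_iff _).2 ⟨T, rfl⟩, ?_, ?_⟩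
  · have key : ∀ k : ℕ, ∀ x, app (T ^ k) x = x + ((k : F) * θ * H x v) • v := by
      intro k
      induction k with
      | zero => intro x; simp [app_one]
      | succ k ih =>
        intro x
        rw [pow_succ', app_mul, ih, hT.2.2, h_add_left K, h_smul_left K, hv, mul_zero, add_zero, add_assoc,
          ← add_smul, Nat.cast_succ]
        ring_nf
    rw [← map_pow, show T ^ p = 1 from ext_app fun x => by rw [key, app_one, CharP.cast_eq_zero]; simp, map_one]
  · let φ : V →ₗ[F] F := CfsgLib.Classical.IsoProd.hermSesq K n v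
    have hk : eig (toGLHom T) 1 = LinearMap.ker φ := by
      ext x
      rw [mem_eig, one_smul, LinearMap.mem_ker]
      show app T x = x ↔ H x v = 0
      rw [hT.2.2, add_eq_left, smul_eq_zero, mul_eq_zero]
      simp [hθ0, hv0]
    have hsur : LinearMap.range φ = ⊤ := LinearMap.range_eq_top.2 fun c => by
      obtain ⟨u, hu⟩ : ∃ u, H v u ≠ 0 := by
        by_contra hall
        push Not at hall
        exact hv0 (h_nondeg K hall)
      refine ⟨(c / H u v) • u, ?_⟩
      rw [map_smul]
      exact div_mul_cancel₀ c (h_ne_zero_symm K hu)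
    have := φ.finrank_range_add_finrank_ker
    rw [hsur, finrank_top, Module.finrank_self, Module.finrank_fin_fun] at this
    rw [hk]
    omega

include K in
/-- A diagonal element. -/
theorem exists_diag (d : Fin n → F) (hd : ∀ i, d i * K.bar (d i) = 1) (hdet : ∏ i, d i = 1) (r : ℕ) (z : F)
    (hz : ∀ i, d i ^ r = z) (μ : F) :
    ∃ x ∈ SG, ((x ^ r : GL (Fin n) F) : Matrix (Fin n) (Fin n) F) = z • (1 : Matrix (Fin n) (Fin n) F) ∧
      finrank F (eig x μ) + Nat.card {i // d i ≠ μ} = n := by
  classical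
  obtain ⟨g, hg⟩ := CfsgLib.Classical.Herm.diag_mem K (fun i => Units.mk0 (d i) (bar_mul_self_ne K (hd i))) hd
  simp only [Units.val_mk0] at hg
  refine ⟨g, ⟨g.2, MonoidHom.mem_ker.2 (Units.ext ?_)⟩, ?_, ?_⟩
  · rw [GeneralLinearGroup.val_det_apply, hg, det_diagonal, hdet, Units.val_one]
  · rw [Units.val_pow_eq_pow_val, hg, Matrix.diagonal_pow, Matrix.smul_one_eq_diagonal]
    congr 1
    funext i
    exact hz i
  · let π : V →ₗ[F] ({i // d i ≠ μ} → F) := LinearMap.funLeft F F Subtype.val
    have hk : eig (g : GL (Fin n) F) μ = LinearMap.ker π := by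
      ext v
      rw [mem_eig, LinearMap.mem_ker]
      simp only [lmap, Matrix.toLin'_apply, hg, funext_iff, Matrix.mulVec_diagonal, Pi.smul_apply, smul_eq_mul,
        Subtype.forall, π, LinearMap.funLeft_apply, Pi.zero_apply]
      refine forall_congr' fun i => ⟨fun h hne => ?_, fun h => ?_⟩
      · exact (mul_eq_mul_right_iff.1 h).resolve_left hne
      · by_cases he : d i = μ
        · rw [he]
        · rw [h he, mul_zero, mul_zero]
    have := π.finrank_range_add_finrank_ker
    rw [LinearMap.range_eq_top.2 (LinearMap.funLeft_surjective_of_injective F F _ Subtype.val_injective),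
      finrank_top, Module.finrank_fintype_fun_eq_card, Module.finrank_fin_fun] at this
    rw [hk, Nat.card_eq_fintype_card]
    omega

include K in
/-- An element of odd prime order with a prescribed fixed space. -/
theorem exists_block {p : ℕ} [Fact p.Prime] [CharP F p] {r b : ℕ} (hr : r.Prime) (hr2 : r ≠ 2) (hrp : r ≠ p)
    (hb : Odd b) (hb1 : 1 < b) (hbn : b ≤ n) (hdvd : r ∣ q ^ b + 1)
    (hmin : ∀ c, Odd c → c < b → ¬ r ∣ q ^ c + 1) :
    ∃ x ∈ SG, x ^ r = 1 ∧ finrank F (eig x 1) = n - b := by
  classical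
  have hFc : Fintype.card F = q ^ 2 := by rw [← Nat.card_eq_fintype_card]; exact K.card
  haveI := Fact.mk hr
  obtain ⟨s, hs⟩ := hb
  have hdvd' : r ∣ Nat.card (GU b F q) := by
    rw [card_GU K]
    refine dvd_mul_of_dvd_right (dvd_trans ?_ (Finset.dvd_prod_of_mem _ (Finset.mem_range.2 (show 2 * s < b by omega)))) _
    rw [if_pos ⟨s, two_mul s⟩, ← hs]
    exact hdvd
  obtain ⟨A, hA⟩ := exists_prime_orderOf_dvd_card' r hdvd'
  set M : Matrix (Fin b) (Fin b) F := ((A : GL (Fin b) F) : Matrix (Fin b) (Fin b) F)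
  have hA1 : A ^ r = 1 := hA ▸ pow_orderOf_eq_one A
  have hM1 : M ^ r = 1 := by
    have := congrArg (fun z : GU b F q => ((z : GL (Fin b) F) : Matrix (Fin b) (Fin b) F)) hA1
    simpa [M] using this
  -- determinant
  have hdetM : M.det = 1 := by
    have h1 : (Unitary.det1 b K A) ^ r = 1 := by rw [← map_pow, hA1, map_one]
    have hcop : Nat.Coprime r (q + 1) := (hr.coprime_iff_not_dvd).2 fun h =>
      hmin 1 odd_one hb1 (by rwa [pow_one])
    have h2 : Unitary.det1 b K A = 1 := by
      have := orderOf_dvd_of_pow_eq_one h1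
      have h3 : orderOf (Unitary.det1 b K A) ∣ q + 1 := Unitary.card_normOne K ▸ orderOf_dvd_natCard _
      exact orderOf_eq_one_iff.1 (Nat.eq_one_of_dvd_coprimes hcop this h3)
    exact congrArg (fun z : Unitary.normOne K => ((z : Fˣ) : F)) h2
  -- no fixed vectors
  have hfix : finrank F (LinearMap.ker (Matrix.toLin' M - 1)) = 0 := by
    have hord : orderOf ((q ^ 2 : ℕ) : ZMod r) = b := by
      have hq1 : (q : ZMod r) ^ b = -1 := by
        have h := (ZMod.natCast_eq_zero_iff (q ^ b + 1) r).2 hdvd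
        push_cast at h
        exact eq_neg_of_add_eq_zero_left h
      rw [Nat.cast_pow]
      set c := orderOf ((q : ZMod r) ^ 2)
      have hcb : c ∣ b := orderOf_dvd_of_pow_eq_one (by rw [← pow_mul, mul_comm, pow_mul, hq1, neg_one_sq])
      have hc1 : ((q : ZMod r) ^ c) * ((q : ZMod r) ^ c) = 1 := by
        rw [← pow_add, ← two_mul, pow_mul, pow_orderOf_eq_one]
      rcases mul_self_eq_one_iff.1 hc1 with h | h
      · exfalso
        obtain ⟨t, rfl⟩ := hcb
        rw [pow_mul, h, one_pow] at hq1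
        haveI : Fact (2 < r) := ⟨lt_of_le_of_ne hr.two_le (Ne.symm hr2)⟩
        exact ZMod.neg_one_ne_one hq1.symm
      · refine le_antisymm (Nat.le_of_dvd (by omega) hcb) ?_
        by_contra hlt
        refine hmin c (Odd.of_dvd_nat ⟨s, hs⟩ hcb) (not_le.1 hlt) ((ZMod.natCast_eq_zero_iff _ r).1 ?_)
        push_cast
        rw [h]
        ring
    have hT : (Matrix.toLin' M) ^ r = 1 := by
      rw [← Matrix.toLin'_pow, hM1, Matrix.toLin'_one]; rfl
    obtain ⟨l, e, hshape, hle⟩ := CfsgLib.Derange.shape_of_pow_one (p := p) hFc hr hrp (Matrix.toLin' M) hT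
    rw [hord, Module.finrank_fin_fun] at hle
    rw [hord] at hshape
    have hl := CfsgLib.Derange.LinDec.fix_dim (p := p) hFc hr hrp hord.symm hb1 (Matrix.toLin' M) hT hshape
    rcases Nat.eq_zero_or_pos e with rfl | he
    · exfalso
      have hbot : LinearMap.ker (Matrix.toLin' M - 1) = ⊤ :=
        Submodule.eq_top_of_finrank_eq (by rw [hl, Module.finrank_fin_fun]; omega)
      have : M = 1 := Matrix.toLin'.injective (by
        rw [Matrix.toLin'_one]
        exact sub_eq_zero.1 (LinearMap.ker_eq_top.1 hbot))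
      have hA' : A = 1 := Subtype.ext (Units.ext this)
      rw [hA', orderOf_one] at hA
      exact hr.ne_one hA.symm
    · have : b ≤ e * b := Nat.le_mul_of_pos_left b he
      omega
  have hfix' : ∀ u, M *ᵥ u = u → u = 0 := fun u hu => by
    have : u ∈ LinearMap.ker (Matrix.toLin' M - 1) := by simp [hu]
    rwa [Submodule.finrank_eq_zero.1 hfix, Submodule.mem_bot] at this
  -- embed
  have hbm : b + (n - b) = n := by omega
  let E := (finSumFinEquiv (m := b) (n := n - b)).trans (finCongr hbm)
  let B : Matrix (Fin n) (Fin n) F := CfsgLib.Classical.UnitarySemisimple.blockPair b (n - b) hbm (M, 1)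
  have hB : ∀ v i, (B *ᵥ v) (E i) = Sum.elim (M *ᵥ fun a => v (E (Sum.inl a))) (fun c => v (E (Sum.inr c))) i := by
    intro v i
    show (((Matrix.fromBlocks M 0 0 1).reindex E E) *ᵥ v) (E i) = _
    rw [Matrix.reindex_apply, Matrix.submatrix_mulVec_equiv, Equiv.symm_symm]
    simp [Matrix.fromBlocks_mulVec, Function.comp_def]
  have hBr : B ^ r = 1 := by
    show (CfsgLib.Classical.UnitarySemisimple.blockPair b (n - b) hbm (M, 1)) ^ r = 1
    rw [← map_pow, Prod.pow_mk, hM1, one_pow]
    exact map_one _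
  have hBdet : B.det = 1 := by
    show (CfsgLib.Classical.UnitarySemisimple.blockPair b (n - b) hbm (M, 1)).det = 1
    rw [CfsgLib.Classical.UnitarySemisimple.blockPair_det, hdetM, det_one, one_mul]
  let x : GL (Fin n) F := Matrix.GeneralLinearGroup.mkOfDetNeZero B (by rw [hBdet]; exact one_ne_zero)
  refine ⟨x, ⟨fun u v => ?_, MonoidHom.mem_ker.2 (Units.ext hBdet)⟩, Units.ext hBr, ?_⟩
  · show H (B *ᵥ u) (B *ᵥ v) = H u v
    rw [Unitary.herm_apply K, Unitary.herm_apply K, ← E.sum_comp, ← E.sum_comp, Fintype.sum_sum_type,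
      Fintype.sum_sum_type]
    simp only [hB, Sum.elim_inl, Sum.elim_inr]
    congr 1
    have := A.2 (fun a => u (E (Sum.inl a))) (fun a => v (E (Sum.inl a)))
    rw [Unitary.herm_apply K, Unitary.herm_apply K] at this
    exact this
  · let π : V →ₗ[F] (Fin b → F) := LinearMap.funLeft F F (fun a => E (Sum.inl a))
    have hk : eig x 1 = LinearMap.ker π := by
      ext v
      rw [mem_eig, one_smul, LinearMap.mem_ker]
      show B *ᵥ v = v ↔ (fun a => v (E (Sum.inl a))) = 0
      constructor
      · intro h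
        refine hfix' _ (funext fun a => ?_)
        have := hB v (Sum.inl a)
        rw [h] at this
        exact this.symm
      · intro h
        funext j
        obtain ⟨i, rfl⟩ := E.surjective j
        rw [hB]
        rcases i with a | c
        · rw [Sum.elim_inl, h, mulVec_zero]
          exact (congrFun h a).symm
        · rfl
    have hsur : LinearMap.range π = ⊤ := LinearMap.range_eq_top.2
      (LinearMap.funLeft_surjective_of_injective F F _ (E.injective.comp Sum.inl_injective))
    have := π.finrank_range_add_finrank_ker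
    rw [hsur, finrank_top, Module.finrank_fin_fun, Module.finrank_fin_fun] at this
    rw [hk]
    omega

end CfsgLib.Derange.UPair
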